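import Mathlib

/-! Feit's large primitive prime divisors. -/

set_option autoImplicit false

open Polynomial Finset

namespace H60.LargePPD

/-- `|Φ_n(q)|`. -/
noncomputable def cyclVal (n q : ℕ) : ℕ := ((cyclotomic n ℤ).eval (q : ℤ)).natAbs

theorem cyclVal_mul {p m : ℕ} (hp : p.Prime) (hpm : ¬ p ∣ m) (x : ℕ) :
    cyclVal (m * p) x * cyclVal m x = cyclVal m (x ^ p) := by
  have h := congrArg (eval (x : ℤ)) (cyclotomic_expand_eq_cyclotomic_mul hp hpm ℤ)
  rw [expand_eval, eval_mul] at h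
  rw [cyclVal, cyclVal, cyclVal, ← Int.natAbs_mul, ← h, Nat.cast_pow]

theorem cyclVal_expand {p n : ℕ} (hp : p.Prime) (hpn : p ∣ n) (x : ℕ) :
    cyclVal (n * p) x = cyclVal n (x ^ p) := by
  have h := congrArg (eval (x : ℤ)) (cyclotomic_expand_eq_cyclotomic hp hpn ℤ)
  rw [expand_eval] at h
  rw [cyclVal, cyclVal, ← h, Nat.cast_pow]

theorem cyclVal_pow_expand {p n : ℕ} (hp : p.Prime) (hpn : p ∣ n) (j : ℕ) :
    ∀ x : ℕ, cyclVal (n * p ^ j) x = cyclVal n (x ^ p ^ j) := by
  induction j with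
  | zero => simp
  | succ j ih =>
    intro x
    rw [pow_succ, ← mul_assoc, cyclVal_expand hp (dvd_mul_of_dvd_left hpn _), ih, ← pow_mul, mul_comm p]

theorem cyclVal_one {x : ℕ} (hx : 1 ≤ x) : cyclVal 1 x = x - 1 := by
  rw [cyclVal, cyclotomic_one]
  simp only [eval_sub, eval_X, eval_one]
  omega

theorem cyclVal_two (x : ℕ) : cyclVal 2 x = x + 1 := by
  rw [cyclVal, cyclotomic_two]
  simp only [eval_add, eval_X, eval_one]
  omega

theorem cyclVal_three (x : ℕ) : cyclVal 3 x = x ^ 2 + x + 1 := by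
  rw [cyclVal, cyclotomic_three]
  simp only [eval_add, eval_X, eval_one, eval_pow]
  rw [show ((x : ℤ) ^ 2 + x + 1) = ((x ^ 2 + x + 1 : ℕ) : ℤ) by push_cast; ring, Int.natAbs_natCast]

theorem cyclVal_four (x : ℕ) : cyclVal 4 x = x ^ 2 + 1 := by
  rw [show (4 : ℕ) = 2 * 2 from rfl, cyclVal_expand Nat.prime_two dvd_rfl, cyclVal_two]

theorem cyclVal_six (x : ℕ) : cyclVal 6 x * (x + 1) = x ^ 3 + 1 := by
  have h := cyclVal_mul Nat.prime_three (m := 2) (by norm_num) x
  rwa [cyclVal_two, cyclVal_two] at h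

theorem cyclVal_lt {m x : ℕ} (hm : 3 ≤ m) (hx : 2 ≤ x) : cyclVal m x < (x + 1) ^ m.totient := by
  have hx1 : (1 : ℝ) < (x : ℝ) := by exact_mod_cast hx
  have h := cyclotomic_eval_lt_add_one_pow_totient hm hx1
  have hpos := cyclotomic_pos (R := ℤ) (n := m) (by omega) (x : ℤ)
  have hv : (((cyclotomic m ℤ).eval (x : ℤ) : ℤ) : ℝ) = (cyclotomic m ℝ).eval (x : ℝ) := by
    rw [← map_cyclotomic_int m ℝ, ← Int.cast_natCast (R := ℝ) x, eval_intCast_map, eq_intCast]
    norm_cast
  have h2 : (cyclotomic m ℤ).eval (x : ℤ) < (((x + 1) ^ m.totient : ℕ) : ℤ) := by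
    have h3 : (((cyclotomic m ℤ).eval (x : ℤ) : ℤ) : ℝ) < ((((x + 1) ^ m.totient : ℕ) : ℤ) : ℝ) := by
      rw [hv]; push_cast; exact h
    exact_mod_cast h3
  rw [cyclVal]
  omega

theorem lt_cyclVal {m x : ℕ} (hm : 1 < m) (hx : 2 ≤ x) : (x - 1) ^ m.totient < cyclVal m x :=
  sub_one_pow_totient_lt_natAbs_cyclotomic_eval hm (by omega)

theorem le_two_mul_totient_sq (m : ℕ) :
    (m ≤ 2 * m.totient ^ 2) ∧ (¬ 2 ∣ m → m ≤ m.totient ^ 2) := by
  induction m using Nat.recOnPosPrimePosCoprime with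
  | prime_pow p n hp hn =>
    rw [Nat.totient_prime_pow hp hn]
    obtain ⟨k, rfl⟩ : ∃ k, n = k + 1 := ⟨n - 1, by omega⟩
    rw [Nat.add_sub_cancel]
    obtain ⟨c, rfl⟩ : ∃ c, p = c + 2 := ⟨p - 2, by have := hp.two_le; omega⟩
    rw [show c + 2 - 1 = c + 1 by omega]
    set P := (c + 2) ^ k with hP
    have hP1 : 1 ≤ P := Nat.one_le_pow _ _ (by omega)
    have hPP : P ≤ P * P := Nat.le_mul_of_pos_left _ (by omega)
    rw [pow_succ, ← hP]
    refine ⟨?_, fun h2 => ?_⟩
    · calc P * (c + 2) ≤ (P * P) * (2 * ((c + 1) * (c + 1))) := Nat.mul_le_mul hPP (by nlinarith)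
        _ = 2 * (P * (c + 1)) ^ 2 := by ring
    · have hc : 1 ≤ c := by
        by_contra hc
        exact h2 (dvd_mul_of_dvd_right (by rw [show c = 0 by omega]) _)
      calc P * (c + 2) ≤ (P * P) * ((c + 1) * (c + 1)) := Nat.mul_le_mul hPP (by nlinarith)
        _ = (P * (c + 1)) ^ 2 := by ring
  | zero => simp
  | one => simp
  | coprime a b _ _ hab iha ihb =>
    rw [Nat.totient_mul hab, mul_pow]
    refine ⟨?_, fun h2 => ?_⟩
    · rcases Classical.em (2 ∣ a) with ha | ha
      · have hb : ¬ 2 ∣ b := fun hb => by simpa using Nat.dvd_gcd ha hb |>.trans (hab.dvd)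
        calc a * b ≤ (2 * a.totient ^ 2) * b.totient ^ 2 := Nat.mul_le_mul iha.1 (ihb.2 hb)
          _ = 2 * (a.totient ^ 2 * b.totient ^ 2) := by ring
      · calc a * b ≤ a.totient ^ 2 * (2 * b.totient ^ 2) := Nat.mul_le_mul (iha.2 ha) ihb.1
          _ = 2 * (a.totient ^ 2 * b.totient ^ 2) := by ring
    · exact Nat.mul_le_mul (iha.2 fun h => h2 (dvd_mul_of_dvd_left h _)) (ihb.2 fun h => h2 (dvd_mul_of_dvd_right h _))

theorem not_sq_dvd_sum {p : ℕ} (hp : p.Prime) (hp2 : p ≠ 2) {x : ℕ} (hx : p ∣ x - 1)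
    (hx1 : 1 ≤ x) : ¬ p ^ 2 ∣ ∑ i ∈ range p, x ^ i := by
  intro h
  obtain ⟨t, ht⟩ := hx
  have hxt : x = 1 + p * t := by omega
  haveI : NeZero (p ^ 2) := ⟨pow_ne_zero _ hp.ne_zero⟩
  have hz : ((∑ i ∈ range p, x ^ i : ℕ) : ZMod (p ^ 2)) = 0 := (ZMod.natCast_eq_zero_iff _ _).2 h
  have hsq : ((p : ZMod (p ^ 2)) * t) ^ 2 = 0 := by
    rw [mul_pow, ← Nat.cast_pow, ZMod.natCast_self, zero_mul]
  have hpow : ∀ i : ℕ, (((p : ZMod (p ^ 2)) * t + 1) ^ i) = 1 + i * ((p : ZMod (p ^ 2)) * t) := by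
    intro i
    induction i with
    | zero => simp
    | succ i ih =>
      rw [pow_succ (((p : ZMod (p ^ 2)) * t + 1)) i, ih]
      push_cast
      linear_combination (i : ZMod (p ^ 2)) * hsq
  rw [hxt] at hz
  push_cast at hz
  simp only [add_comm (1 : ZMod (p ^ 2)) ((p : ZMod (p ^ 2)) * t), hpow, sum_add_distrib, sum_const,
    card_range, nsmul_one, ← sum_mul] at hz
  obtain ⟨k, hk⟩ := hp.odd_of_ne_two hp2
  have hsum : (∑ i ∈ range p, i) = p * k := by
    have := Finset.sum_range_id_mul_two p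
    rw [show p - 1 = k * 2 by omega, ← mul_assoc] at this
    omega
  have hcast : (∑ i ∈ range p, (i : ZMod (p ^ 2))) = (p : ZMod (p ^ 2)) * k := by
    rw [← Nat.cast_sum, hsum, Nat.cast_mul]
  rw [hcast] at hz
  have hp0 : ((p : ℕ) : ZMod (p ^ 2)) = 0 := by
    have hsq' : (p : ZMod (p ^ 2)) * p = 0 := by rw [← Nat.cast_mul, ← sq, ZMod.natCast_self]
    linear_combination hz - (k : ZMod (p ^ 2)) * (t : ZMod (p ^ 2)) * hsq'
  rw [ZMod.natCast_eq_zero_iff] at hp0
  have := Nat.le_of_dvd hp.pos hp0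
  nlinarith [hp.two_le]

theorem root_of_dvd {n q r : ℕ} [Fact r.Prime] (h : r ∣ cyclVal n q) :
    (cyclotomic n (ZMod r)).IsRoot (q : ZMod r) := by
  rw [IsRoot, ← map_cyclotomic_int, eval_map, ← Int.cast_natCast, ← eq_intCast (Int.castRingHom (ZMod r)),
    eval₂_at_apply, eq_intCast, ZMod.intCast_zmod_eq_zero_iff_dvd]
  exact Int.natCast_dvd.2 h

theorem cyclVal_dvd {n q : ℕ} (hq : 1 ≤ q) : cyclVal n q ∣ q ^ n - 1 := by
  have h1 : (cyclotomic n ℤ).eval (q : ℤ) ∣ (q : ℤ) ^ n - 1 := by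
    have := eval_dvd (cyclotomic.dvd_X_pow_sub_one n ℤ) (x := (q : ℤ))
    simpa using this
  have h2 := Int.natAbs_dvd_natAbs.2 h1
  rwa [show ((q : ℤ) ^ n - 1) = ((q ^ n - 1 : ℕ) : ℤ) by
    rw [Nat.cast_sub (Nat.one_le_pow _ _ hq)]; push_cast; ring, Int.natAbs_natCast] at h2

/-- A prime divisor of `n` dividing `Φ_n(q)` is the largest prime of `n` and occurs once. -/
theorem of_dvd_index {n q r : ℕ} (hq : 2 ≤ q) (hn : 3 ≤ n) (hr : r.Prime) (hrΦ : r ∣ cyclVal n q)
    (hrn : r ∣ n) : (∀ l : ℕ, l.Prime → l ∣ n → l ≤ r) ∧ ¬ r ^ 2 ∣ cyclVal n q := by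
  haveI : Fact r.Prime := ⟨hr⟩
  obtain ⟨k, m, hm, hnkm⟩ := Nat.exists_eq_pow_mul_and_not_dvd (show n ≠ 0 by omega) r hr.ne_one
  haveI : NeZero (m : ZMod r) := ⟨by rwa [Ne, ZMod.natCast_eq_zero_iff]⟩
  have hroot := root_of_dvd hrΦ
  have hk : 0 < k := by
    rcases Nat.eq_zero_or_pos k with h | h
    · subst h; simp at hnkm; subst hnkm; exact absurd hrn hm
    · exact h
  rw [hnkm] at hroot
  have hprim : IsPrimitiveRoot (q : ZMod r) m :=
    (isRoot_cyclotomic_prime_pow_mul_iff_of_charP (R := ZMod r) (p := r)).1 hroot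
  have hm0 : m ≠ 0 := fun h => hm (h ▸ dvd_zero r)
  have hq0 : (q : ZMod r) ≠ 0 := by
    intro h0
    have h1 := hprim.pow_eq_one
    rw [h0, zero_pow hm0] at h1
    exact zero_ne_one h1
  have hmp : m ∣ r - 1 := hprim.dvd_of_pow_eq_one _ (ZMod.pow_card_sub_one_eq_one hq0)
  have hr2 := hr.two_le
  have hmlt : m < r := by
    have := Nat.le_of_dvd (by omega) hmp
    omega
  refine ⟨fun l hl hln => ?_, ?_⟩
  · rw [hnkm] at hln
    rcases hl.dvd_mul.1 hln with h | h
    · exact le_of_eq ((Nat.prime_dvd_prime_iff_eq hl hr).1 (hl.dvd_of_dvd_pow h))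
    · have := Nat.le_of_dvd (Nat.pos_of_ne_zero hm0) h
      omega
  obtain ⟨j, rfl⟩ : ∃ j, k = j + 1 := ⟨k - 1, by omega⟩
  intro hsq
  set d := r ^ j * m with hd
  have hnd : n = d * r := by rw [hnkm, hd, pow_succ]; ring
  have hd0 : d ≠ 0 := Nat.mul_ne_zero (pow_ne_zero _ hr.ne_zero) hm0
  have hdn : d ∈ n.properDivisors := by
    rw [Nat.mem_properDivisors]
    exact ⟨⟨r, hnd⟩, by rw [hnd]; exact lt_mul_of_one_lt_right (Nat.pos_of_ne_zero hd0) hr.one_lt⟩
  have hS : cyclVal n q ∣ ∑ i ∈ range r, (q ^ d) ^ i := by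
    have h1 := eval_dvd (X_pow_sub_one_mul_cyclotomic_dvd_X_pow_sub_one_of_dvd ℤ hdn) (x := (q : ℤ))
    simp only [eval_mul, eval_sub, eval_pow, eval_X, eval_one] at h1
    have h2 : ((q : ℤ) ^ n - 1) = ((q : ℤ) ^ d - 1) * ((∑ i ∈ range r, (q ^ d) ^ i : ℕ) : ℤ) := by
      push_cast
      rw [mul_geom_sum, ← pow_mul, hnd]
    rw [h2] at h1
    have hd1 : ((q : ℤ) ^ d - 1) ≠ 0 := by
      have : (1 : ℕ) < q ^ d := Nat.one_lt_pow hd0 (by omega)
      have : (1 : ℤ) < (q : ℤ) ^ d := by exact_mod_cast this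
      omega
    have h3 := Int.natAbs_dvd_natAbs.2 ((mul_dvd_mul_iff_left hd1).1 h1)
    rwa [Int.natAbs_natCast] at h3
  have hdiv := hsq.trans hS
  rcases eq_or_ne r 2 with h2 | h2
  · subst h2
    have hm1 : m = 1 := by omega
    subst hm1
    obtain ⟨i, rfl⟩ : ∃ i, j = i + 1 := by
      rcases Nat.eq_zero_or_pos j with h | h
      · subst h; simp at hnkm; omega
      · exact ⟨j - 1, by omega⟩
    rw [Finset.sum_range_succ, Finset.sum_range_one, pow_zero, pow_one, hd, mul_one,
      show (2 : ℕ) ^ (i + 1) = 2 ^ i * 2 from pow_succ 2 i, pow_mul] at hdiv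
    obtain ⟨w, hw⟩ := hdiv
    rcases Nat.even_or_odd (q ^ 2 ^ i) with ⟨c, hc⟩ | ⟨c, hc⟩ <;> rw [hc] at hw <;> ring_nf at hw <;> omega
  · refine not_sq_dvd_sum hr h2 ?_ (Nat.one_le_pow _ _ (by omega)) hdiv
    have hqd : ((q : ZMod r)) ^ d = 1 := by
      rw [hd, mul_comm, pow_mul, hprim.pow_eq_one, one_pow]
    rw [← ZMod.natCast_eq_zero_iff, Nat.cast_sub (Nat.one_le_pow _ _ (by omega))]
    simp [hqd]

theorem mul_le_pow {A B j q : ℕ} (hq : 2 ≤ q) (hA : 1 ≤ A) (hj : 1 ≤ j) (hB : B ≤ q ^ A) :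
    B * j ≤ q ^ (A * j) := by
  induction j, hj using Nat.le_induction with
  | base => simpa using hB
  | succ j hj ih =>
    have h2 : 2 ≤ q ^ A := le_trans hq (Nat.le_self_pow (by omega) q)
    rw [mul_add_one, mul_add_one, pow_add]
    nlinarith [Nat.le_mul_of_pos_right B hj]

theorem grow4 : ∀ E : ℕ, 4 ≤ E → 4 * E ≤ 2 ^ E := fun E h => by
  induction E, h using Nat.le_induction with
  | base => norm_num
  | succ i hi ih => rw [pow_succ]; omega

theorem grow4' : ∀ E : ℕ, 5 ≤ E → 4 * E + 3 ≤ 2 ^ E := fun E h => by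
  induction E, h using Nat.le_induction with
  | base => norm_num
  | succ i hi ih => rw [pow_succ]; omega

theorem grow3 : ∀ E : ℕ, 3 ≤ E → E + 3 ≤ 2 ^ E := fun E h => by
  induction E, h using Nat.le_induction with
  | base => norm_num
  | succ i hi ih => rw [pow_succ]; omega

theorem grow75 : ∀ E : ℕ, 5 ≤ E → 75 * E ≤ 8 ^ E := fun E h => by
  induction E, h using Nat.le_induction with
  | base => norm_num
  | succ i hi ih => rw [pow_succ]; omega

theorem grow147 : ∀ E : ℕ, 7 ≤ E → 147 * E ≤ 32 ^ E := fun E h => by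
  induction E, h using Nat.le_induction with
  | base => norm_num
  | succ i hi ih => rw [pow_succ]; omega

theorem grow300 : ∀ E : ℕ, 5 ≤ E → 300 * E ≤ 64 ^ E := fun E h => by
  induction E, h using Nat.le_induction with
  | base => norm_num
  | succ i hi ih => rw [pow_succ]; omega

theorem grow_sq : ∀ s : ℕ, 9 ≤ s → 3 * (s + 2) ^ 2 ≤ 2 ^ s := fun s h => by
  induction s, h using Nat.le_induction with
  | base => norm_num
  | succ i hi ih => rw [pow_succ 2 i]; nlinarith

theorem grow_sq' : ∀ s : ℕ, 5 ≤ s → 12 * (s + 2) ^ 2 ≤ 2 ^ (s * 2) := fun s h => by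
  induction s, h using Nat.le_induction with
  | base => norm_num
  | succ i hi ih => rw [add_mul, pow_add]; norm_num; nlinarith

theorem grow75' : ∀ f : ℕ, 4 ≤ f → 75 * f ^ 2 ≤ 2 ^ (3 * f) := fun f h => by
  induction f, h using Nat.le_induction with
  | base => norm_num
  | succ i hi ih => rw [mul_add_one, pow_add]; nlinarith

theorem grow_two : ∀ s f : ℕ, 5 ≤ s → 2 ≤ f → 3 * f ^ 2 * (s + 2) ^ 2 ≤ 2 ^ (s * f) := fun s f hs hf => by
  induction f, hf using Nat.le_induction with
  | base =>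
    have := grow_sq' s hs
    linarith
  | succ i hi ih =>
    rw [mul_add_one, pow_add]
    have h32 : 32 ≤ 2 ^ s := le_trans (by norm_num) (Nat.pow_le_pow_right two_pos hs)
    have : (i + 1) ^ 2 ≤ 32 * i ^ 2 := by nlinarith
    calc 3 * (i + 1) ^ 2 * (s + 2) ^ 2 ≤ 3 * (32 * i ^ 2) * (s + 2) ^ 2 := by gcongr
      _ = 3 * i ^ 2 * (s + 2) ^ 2 * 32 := by ring
      _ ≤ 2 ^ (s * i) * 2 ^ s := Nat.mul_le_mul ih h32

/-- Feit: outside the exceptions there is a large primitive prime divisor. -/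
theorem exists_large {q n : ℕ} (hq : 2 ≤ q) (hn : 3 ≤ n)
    (h2 : ¬ (q = 2 ∧ (n = 4 ∨ n = 6 ∨ n = 10 ∨ n = 12 ∨ n = 18)))
    (h3 : ¬ (q = 3 ∧ (n = 4 ∨ n = 6))) (h4 : ¬ (q = 5 ∧ n = 6)) :
    ∃ p : ℕ, p.Prime ∧ p ∣ q ^ n - 1 ∧ (∀ i : ℕ, 1 ≤ i → i < n → ¬ p ∣ q ^ i - 1) ∧
      (n + 1 < p ∨ p ^ 2 ∣ q ^ n - 1) := by
  classical
  by_contra hcon
  push Not at hcon
  set Φ := cyclVal n q with hΦ
  -- primes not dividing `n` equal `n + 1` and occur once
  have hout : ∀ r : ℕ, r.Prime → r ∣ Φ → ¬ r ∣ n → r = n + 1 ∧ ¬ r ^ 2 ∣ Φ := by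
    intro r hr hrΦ hrn
    haveI : Fact r.Prime := ⟨hr⟩
    haveI : NeZero (n : ZMod r) := ⟨by rwa [Ne, ZMod.natCast_eq_zero_iff]⟩
    have hprim := isRoot_cyclotomic_iff.1 (root_of_dvd hrΦ)
    have hdv : r ∣ q ^ n - 1 := hrΦ.trans (cyclVal_dvd (by omega))
    have hlow : ∀ i : ℕ, 1 ≤ i → i < n → ¬ r ∣ q ^ i - 1 := by
      intro i hi1 hi2 hdi
      rw [← ZMod.natCast_eq_zero_iff, Nat.cast_sub (Nat.one_le_pow _ _ (by omega)), sub_eq_zero] at hdi
      push_cast at hdi
      have := Nat.le_of_dvd (by omega) (hprim.dvd_of_pow_eq_one i hdi)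
      omega
    obtain ⟨hle, hsq⟩ := hcon r hr hdv hlow
    have hq0 : (q : ZMod r) ≠ 0 := by
      intro h0
      have h1 := hprim.pow_eq_one
      rw [h0, zero_pow (by omega)] at h1
      exact zero_ne_one h1
    have hnr : n ∣ r - 1 := hprim.dvd_of_pow_eq_one _ (ZMod.pow_card_sub_one_eq_one hq0)
    have := Nat.le_of_dvd (by have := hr.two_le; omega) hnr
    have := hr.two_le
    exact ⟨by omega, fun h => hsq (h.trans (cyclVal_dvd (by omega)))⟩
  obtain ⟨P, hP, hPn, hPmax⟩ : ∃ P, P.Prime ∧ P ∣ n ∧ ∀ l : ℕ, l.Prime → l ∣ n → l ≤ P := by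
    have hne : n.primeFactors.Nonempty := by
      obtain ⟨l, hl, hld⟩ := Nat.exists_prime_and_dvd (show n ≠ 1 by omega)
      exact ⟨l, Nat.mem_primeFactors.mpr ⟨hl, hld, by omega⟩⟩
    refine ⟨n.primeFactors.max' hne, ?_, ?_, fun l hl hld => ?_⟩
    · exact (Nat.mem_primeFactors.mp (Finset.max'_mem _ hne)).1
    · exact (Nat.mem_primeFactors.mp (Finset.max'_mem _ hne)).2.1
    · exact Finset.le_max' _ _ (Nat.mem_primeFactors.mpr ⟨hl, hld, by omega⟩)
  have hcases : ∀ r : ℕ, r.Prime → r ∣ Φ → (r = n + 1 ∨ r = P) ∧ ¬ r ^ 2 ∣ Φ := by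
    intro r hr hrΦ
    by_cases hrn : r ∣ n
    · obtain ⟨hmax, hsq⟩ := of_dvd_index hq hn hr hrΦ hrn
      exact ⟨Or.inr (le_antisymm (hPmax r hr hrn) (hmax P hP hPn)), hsq⟩
    · exact ⟨Or.inl (hout r hr hrΦ hrn).1, (hout r hr hrΦ hrn).2⟩
  have hdvd : Φ ∣ P * (n + 1) := by
    rw [Nat.dvd_iff_prime_pow_dvd_dvd]
    intro r k hr hrk
    match k, hrk with
    | 0, _ => simp
    | 1, h =>
      rw [pow_one] at h ⊢
      rcases (hcases r hr h).1 with e | e
      · rw [e]; exact dvd_mul_left _ _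
      · rw [e]; exact dvd_mul_right _ _
    | k + 2, h =>
      exact absurd ((pow_dvd_pow r (by omega : 2 ≤ k + 2)).trans h)
        (hcases r hr ((dvd_pow_self r (by omega)).trans h)).2
  have hle : Φ ≤ P * (n + 1) := Nat.le_of_dvd (Nat.mul_pos hP.pos (by omega)) hdvd
  obtain ⟨k, m, hm, hnkm⟩ := Nat.exists_eq_pow_mul_and_not_dvd (show n ≠ 0 by omega) P hP.ne_one
  obtain ⟨k, rfl⟩ : ∃ j, k = j + 1 := by
    rcases Nat.eq_zero_or_pos k with h | h
    · subst h; simp at hnkm; exact absurd (hnkm ▸ hPn) hm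
    · exact ⟨k - 1, by omega⟩
  set j := P ^ k with hj
  have hj1 : 1 ≤ j := Nat.one_le_pow _ _ hP.pos
  have hnj : n = m * P * j := by rw [hnkm, pow_succ, hj]; ring
  have hform : Φ * cyclVal m (q ^ j) = cyclVal m ((q ^ j) ^ P) := by
    rw [hΦ, hnj, hj, cyclVal_pow_expand hP (dvd_mul_left _ _), cyclVal_mul hP hm]
  have hQ : 2 ≤ q ^ j := le_trans hq (Nat.le_self_pow (by omega) q)
  have hm0 : m ≠ 0 := fun h => hm (h ▸ dvd_zero P)
  rcases Nat.lt_or_ge P 3 with hP3 | hP3
  · -- `n` a power of 2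
    obtain rfl : P = 2 := by have := hP.two_le; omega
    have hm1 : m = 1 := by
      by_contra hne
      obtain ⟨l, hl, hlm⟩ := Nat.exists_prime_and_dvd hne
      have := hPmax l hl (hnj ▸ dvd_mul_of_dvd_left (dvd_mul_of_dvd_left hlm _) _)
      obtain rfl : l = 2 := by have := hl.two_le; omega
      exact hm hlm
    subst hm1
    have hval : Φ = q ^ j + 1 := by
      rw [hΦ, hnj, one_mul, hj, cyclVal_pow_expand Nat.prime_two dvd_rfl, cyclVal_two]
    rw [hval] at hdvd hle
    have hj2 : 2 ≤ j := by omega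
    rcases Nat.lt_or_ge j 5 with hj5 | hj5
    · have hk : j = 2 ∨ j = 4 := by
        rcases k with _ | _ | _ | k
        · simp [hj] at hj2
        · simp [hj]
        · simp [hj]
        · rw [hj, pow_succ, pow_succ, pow_succ] at hj5
          have : 1 ≤ 2 ^ k := Nat.one_le_two_pow
          omega
      rcases hk with e | e <;> rw [e] at hdvd hle hnj
      · subst hnj
        have : q ≤ 3 := by nlinarith
        interval_cases q <;> first | omega | (norm_num at hdvd)
      · subst hnj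
        have : q ≤ 2 := by
          by_contra hc
          have : 3 ^ 4 ≤ q ^ 4 := Nat.pow_le_pow_left (by omega) 4
          omega
        interval_cases q
        norm_num at hdvd
    · have h1 : 4 * j + 3 ≤ 2 ^ j := grow4' j hj5
      have h2 : 2 ^ j ≤ q ^ j := Nat.pow_le_pow_left hq j
      omega
  rcases Nat.lt_or_ge P 5 with hP5 | hP5
  · -- largest prime 3
    obtain rfl : P = 3 := by
      rcases (show P = 3 ∨ P = 4 by omega) with h | h
      · exact h
      · subst h; norm_num at hP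
    have hm2 : ∃ a, m = 2 ^ a := by
      refine ⟨_, Nat.eq_prime_pow_of_unique_prime_dvd hm0 fun {l} hl hlm => ?_⟩
      have := hPmax l hl (hnj ▸ dvd_mul_of_dvd_left (dvd_mul_of_dvd_left hlm _) _)
      rcases (show l = 2 ∨ l = 3 by have := hl.two_le; omega) with e | e
      · exact e
      · exact absurd (e ▸ hlm) hm
    obtain ⟨a, rfl⟩ := hm2
    rcases a with _ | a
    · -- `n` a power of 3: `n + 1` is not prime
      have h9 : ∀ r : ℕ, r.Prime → r ∣ Φ → r = 3 := by
        intro r hr hrΦ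
        rcases (hcases r hr hrΦ).1 with e | e
        · exfalso
          have hodd : Odd n := by rw [hnj]; simpa [hj] using ((by decide : Odd 3).mul ((by decide : Odd 3).pow))
          obtain ⟨c, hc⟩ := hodd
          have : 2 ∣ r := ⟨c + 1, by omega⟩
          have := (Nat.prime_dvd_prime_iff_eq Nat.prime_two hr).1 this
          omega
        · exact e
      have hΦ3 : Φ ∣ 3 := by
        rw [Nat.dvd_iff_prime_pow_dvd_dvd]
        intro r i hr hi
        match i, hi with
        | 0, _ => simp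
        | 1, h => rw [pow_one] at h ⊢; rw [h9 r hr h]
        | i + 2, h =>
          exact absurd ((pow_dvd_pow r (by omega : 2 ≤ i + 2)).trans h)
            (hcases r hr ((dvd_pow_self r (by omega)).trans h)).2
      have := Nat.le_of_dvd (by norm_num) hΦ3
      have hval : Φ = (q ^ j) ^ 2 + q ^ j + 1 := by
        rw [hΦ, hnj, pow_zero, one_mul, hj, cyclVal_pow_expand Nat.prime_three dvd_rfl, cyclVal_three]
      nlinarith
    · set E := 2 ^ a * j with hE
      have hnE : n = 6 * E := by rw [hnj, hE, pow_succ]; ring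
      have hval : Φ * (q ^ E + 1) = (q ^ E) ^ 3 + 1 := by
        have h6 : cyclVal n q = cyclVal 6 (q ^ E) := by
          rw [hnE, hE, ← mul_assoc, hj, cyclVal_pow_expand Nat.prime_three (dvd_mul_of_dvd_left (by norm_num) _),
            cyclVal_pow_expand Nat.prime_two (by norm_num), ← pow_mul, mul_comm]
        rw [hΦ, h6]
        exact cyclVal_six _
      have hE1 : 1 ≤ E := Nat.mul_pos (pow_pos two_pos a) hj1
      set X := q ^ E with hX
      have hX2 : 2 ≤ X := le_trans hq (Nat.le_self_pow (by omega) q)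
      have hval2 : Φ + X = X * X + 1 := by
        refine Nat.eq_of_mul_eq_mul_right (show 0 < X + 1 by omega) ?_
        rw [add_mul, hval]; ring
      rw [hnE] at hdvd hle h2 h3 h4
      rcases Nat.lt_or_ge E 4 with hE4 | hE4
      · clear_value E
        interval_cases E
        · have hXq : X = q := by rw [hX, pow_one]
          rw [hXq] at hval2
          have : q ≤ 6 := by nlinarith
          interval_cases q
          · exact h2 ⟨rfl, by norm_num⟩
          · exact h3 ⟨rfl, by norm_num⟩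
          · have : Φ = 13 := by omega
            rw [this] at hdvd; norm_num at hdvd
          · exact h4 ⟨rfl, by norm_num⟩
          · omega
        · have : q ≤ 2 := by
            by_contra hc
            have : 3 ^ 2 ≤ X := by rw [hX]; exact Nat.pow_le_pow_left (by omega) 2
            nlinarith
          interval_cases q
          exact h2 ⟨rfl, by norm_num⟩
        · have : q ≤ 2 := by
            by_contra hc
            have : 3 ^ 3 ≤ X := by rw [hX]; exact Nat.pow_le_pow_left (by omega) 3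
            nlinarith
          interval_cases q
          exact h2 ⟨rfl, by norm_num⟩
      · have h1 : 4 * E ≤ 2 ^ E := grow4 E hE4
        have h5 : 2 ^ E ≤ X := Nat.pow_le_pow_left hq E
        nlinarith
  -- now `P ≥ 5`
  have hjA : ∀ {A B : ℕ}, 1 ≤ A → B ≤ q ^ A → B * j ≤ q ^ (A * j) := fun hA hB => mul_le_pow hq hA hj1 hB
  obtain ⟨s, rfl⟩ : ∃ s, P = s + 2 := ⟨P - 2, by omega⟩
  set Q := q ^ j with hQdef
  have hQp : Q ^ s * (Q + 1) ≤ Q ^ (s + 2) - 1 := by
    have h1 : 1 ≤ Q ^ s := Nat.one_le_pow _ _ (by omega)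
    have h2' : 2 * Q ^ (s + 1) ≤ Q ^ (s + 2) := by
      rw [pow_succ Q (s + 1), mul_comm 2]; exact Nat.mul_le_mul_left _ hQ
    have h3' : Q ^ s + 1 ≤ Q ^ (s + 1) := by rw [pow_succ]; nlinarith
    rw [mul_add, mul_one, ← pow_succ]
    omega
  rcases Nat.lt_or_ge m 3 with hm3 | hm3
  · interval_cases m
    · simp at hm0
    · -- `m = 1`
      have hodd : Odd n := by
        rw [hnj, one_mul]
        have hoP : Odd (s + 2) := hP.odd_of_ne_two (by omega)
        rw [hj]
        exact hoP.mul hoP.pow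
      have hΦP : Φ ∣ s + 2 := by
        rw [Nat.dvd_iff_prime_pow_dvd_dvd]
        intro r i hr hi
        match i, hi with
        | 0, _ => simp
        | 1, h =>
          rw [pow_one] at h ⊢
          rcases (hcases r hr h).1 with e | e
          · obtain ⟨c, hc⟩ := hodd
            have h' : 2 ∣ r := ⟨c + 1, by omega⟩
            have := (Nat.prime_dvd_prime_iff_eq Nat.prime_two hr).1 h'
            omega
          · rw [e]
        | i + 2, h =>
          exact absurd ((pow_dvd_pow r (by omega : 2 ≤ i + 2)).trans h)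
            (hcases r hr ((dvd_pow_self r (by omega)).trans h)).2
      have h1 := Nat.le_of_dvd (by omega) hΦP
      rw [cyclVal_one (by omega), cyclVal_one (Nat.one_le_pow _ _ (by omega))] at hform
      have h2' : Q ^ s * (Q + 1) ≤ (s + 2) * (Q - 1) := by
        calc Q ^ s * (Q + 1) ≤ Q ^ (s + 2) - 1 := hQp
          _ = Φ * (Q - 1) := hform.symm
          _ ≤ (s + 2) * (Q - 1) := Nat.mul_le_mul_right _ h1
      have h3' : s + 3 ≤ 2 ^ s := grow3 s (by omega)
      have h4' : 2 ^ s ≤ Q ^ s := Nat.pow_le_pow_left hQ s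
      have h5' : Q - 1 ≤ Q + 1 := by omega
      nlinarith
    · -- `m = 2`
      rw [cyclVal_two, cyclVal_two] at hform
      have h1 : Q ^ s < Φ := by
        refine Nat.lt_of_mul_lt_mul_right (a := Q + 1) ?_
        rw [hform]
        omega
      have hbound : Φ ≤ 3 * (s + 2) ^ 2 * j := by
        refine hle.trans ?_
        rw [hnj]
        have : 1 ≤ (s + 2) * j := Nat.mul_pos (by omega) hj1
        nlinarith
      have hlt : Q ^ s < 3 * (s + 2) ^ 2 * j := lt_of_lt_of_le h1 hbound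
      rw [hQdef, ← pow_mul, mul_comm j s] at hlt
      rcases Nat.lt_or_ge s 9 with hs9 | hs9
      · have hs : s = 3 ∨ s = 5 := by
          interval_cases s <;> first | omega | (exfalso; revert hP; norm_num)
        rcases hs with rfl | rfl
        · -- `P = 5`
          rcases Nat.eq_zero_or_pos k with hk | hk
          · subst hk
            simp only [hj, pow_zero, mul_one] at hnj hlt
            subst hnj
            have hq4 : q ≤ 4 := by
              by_contra hc
              have : 5 ^ 3 ≤ q ^ 3 := Nat.pow_le_pow_left (by omega) 3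
              omega
            have hQq : Q = q := by rw [hQdef, hj, pow_zero, pow_one]
            rw [hQq] at hform
            interval_cases q <;> first | omega | (norm_num at hform hle; omega)
          · have hj5 : 5 ≤ j := le_trans (le_of_eq (by norm_num)) (Nat.pow_le_pow_right (by norm_num) hk)
            have h8 : 75 * j ≤ 8 ^ j := grow75 j hj5
            have h9 : 8 ^ j ≤ q ^ (3 * j) := by
              rw [pow_mul]
              exact Nat.pow_le_pow_left (le_trans (by norm_num) (Nat.pow_le_pow_left hq 3)) j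
            omega
        · -- `P = 7`
          rcases Nat.lt_or_ge q 3 with hq3 | hq3
          · obtain rfl : q = 2 := by omega
            rcases Nat.eq_zero_or_pos k with hk | hk
            · subst hk
              simp only [hj, pow_zero, mul_one] at hnj
              subst hnj
              have hQq : Q = 2 := by rw [hQdef, hj, pow_zero, pow_one]
              rw [hQq] at hform
              norm_num at hform
              have : Φ = 43 := by omega
              rw [this] at hdvd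
              norm_num at hdvd
            · have hj7 : 7 ≤ j := le_trans (le_of_eq (by norm_num)) (Nat.pow_le_pow_right (by norm_num) hk)
              have h8 : 147 * j ≤ 32 ^ j := grow147 j hj7
              rw [pow_mul] at hlt
              norm_num at hlt
              omega
          · have := hjA (A := 5) (B := 147) (by norm_num) (le_trans (by norm_num) (Nat.pow_le_pow_left hq3 5))
            omega
      · have h3' : 3 * (s + 2) ^ 2 ≤ 2 ^ s := grow_sq s hs9
        have := hjA (A := s) (B := 3 * (s + 2) ^ 2) (by omega) (h3'.trans (Nat.pow_le_pow_left hq s))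
        omega
  -- `m ≥ 3`, `P ≥ 5`
  set f := m.totient with hf
  have hf2 : 2 ≤ f ∧ f % 2 = 0 := by
    have h1 := Nat.totient_even (n := m) (by omega)
    have h2' : 0 < f := Nat.totient_pos.2 (by omega)
    rw [← hf, Nat.even_iff] at h1
    omega
  have h1 : (Q ^ s) ^ f < Φ := by
    have hu := cyclVal_lt hm3 hQ
    have hl := lt_cyclVal (m := m) (x := Q ^ (s + 2)) (by omega) (le_trans hQ (Nat.le_self_pow (by omega) Q))
    rw [← hform] at hl
    by_contra hc
    have : Φ * cyclVal m Q ≤ (Q ^ (s + 2) - 1) ^ f := by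
      calc Φ * cyclVal m Q ≤ (Q ^ s) ^ f * (Q + 1) ^ f := Nat.mul_le_mul (by omega) hu.le
        _ = (Q ^ s * (Q + 1)) ^ f := (mul_pow _ _ _).symm
        _ ≤ _ := Nat.pow_le_pow_left hQp f
    rw [← hf] at hl
    omega
  have hbound : Φ ≤ 3 * f ^ 2 * (s + 2) ^ 2 * j := by
    refine hle.trans ?_
    rw [hnj]
    have hmf := (le_two_mul_totient_sq m).1
    rw [← hf] at hmf
    have h1' : 1 ≤ f ^ 2 * ((s + 2) * j) := Nat.mul_pos (pow_pos (by omega) 2) (Nat.mul_pos (by omega) hj1)
    have h2' : m * ((s + 2) * j) ≤ 2 * f ^ 2 * ((s + 2) * j) := Nat.mul_le_mul_right _ hmf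
    calc (s + 2) * (m * (s + 2) * j + 1) ≤ (s + 2) * (2 * f ^ 2 * ((s + 2) * j) + f ^ 2 * ((s + 2) * j)) :=
          Nat.mul_le_mul_left _ (by rw [mul_assoc]; omega)
      _ = 3 * f ^ 2 * (s + 2) ^ 2 * j := by ring
  have hlt : (Q ^ s) ^ f < 3 * f ^ 2 * (s + 2) ^ 2 * j := lt_of_lt_of_le h1 hbound
  have hQe : (Q ^ s) ^ f = q ^ (s * f * j) := by rw [hQdef, ← pow_mul, ← pow_mul]; congr 1; ring
  rw [hQe] at hlt
  rcases Nat.lt_or_ge s 5 with hs | hs
  · obtain rfl : s = 3 := by
      rcases (show s = 3 ∨ s = 4 by omega) with h | h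
      · exact h
      · subst h; norm_num at hP
    rcases Nat.lt_or_ge f 4 with hf4 | hf4
    · obtain hf' : f = 2 := by omega
      rw [hf'] at hlt hf
      norm_num at hlt
      rcases Nat.lt_or_ge q 3 with hq3 | hq3
      · obtain rfl : q = 2 := by omega
        rcases Nat.eq_zero_or_pos k with hk | hk
        · subst hk
          simp only [hj, pow_zero, mul_one] at hnj
          have hQq : Q = 2 := by rw [hQdef, hj, pow_zero, pow_one]
          rw [hQq] at hform
          have hm8 : m ≤ 8 := by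
            have := (le_two_mul_totient_sq m).1
            rw [← hf] at this
            omega
          have hmc : m = 3 ∨ m = 4 ∨ m = 6 := by
            interval_cases m <;> first | omega | (revert hf; decide)
          rcases hmc with rfl | rfl | rfl
          · rw [cyclVal_three, cyclVal_three] at hform
            norm_num at hform hnj
            subst hnj
            omega
          · rw [cyclVal_four, cyclVal_four] at hform
            norm_num at hform hnj
            subst hnj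
            omega
          · have e1 := cyclVal_six 2
            have e2 := cyclVal_six (2 ^ (3 + 2))
            norm_num at e1 e2 hform hnj
            have h6a : cyclVal 6 2 = 3 := by omega
            have h6b : cyclVal 6 32 = 993 := by omega
            rw [h6a, h6b] at hform
            subst hnj
            omega
        · have hj5 : 5 ≤ j := le_trans (le_of_eq (by norm_num)) (Nat.pow_le_pow_right (by norm_num) hk)
          have h8 : 300 * j ≤ 64 ^ j := grow300 j hj5
          rw [pow_mul] at hlt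
          norm_num at hlt
          omega
      · have := hjA (A := 6) (B := 300) (by norm_num) (le_trans (by norm_num) (Nat.pow_le_pow_left hq3 6))
        omega
    · have h8 : 75 * f ^ 2 ≤ 2 ^ (3 * f) := grow75' f hf4
      have := hjA (A := 3 * f) (B := 75 * f ^ 2) (by omega) (h8.trans (Nat.pow_le_pow_left hq _))
      nlinarith
  · have h8 : 3 * f ^ 2 * (s + 2) ^ 2 ≤ 2 ^ (s * f) := grow_two s f hs hf2.1
    have := hjA (A := s * f) (B := 3 * f ^ 2 * (s + 2) ^ 2) (Nat.mul_pos (by omega) (by omega))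
      (h8.trans (Nat.pow_le_pow_left hq _))
    omega

end H60.LargePPD
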