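import Cfsg.Agent.H61.AltStemBig

/-!
In a perfect double cover of an alternating group the lifts of two commuting double transpositions on the same four
points anticommute.
-/

set_option autoImplicit false

namespace H60.AltCover

open Equiv
open scoped commutatorElement

theorem dt_conj {α : Type*} [Fintype α] [DecidableEq α] {p q r s p' q' r' s' : α} (h : [p, q, r, s].Nodup)
    (h' : [p', q', r', s'].Nodup) :
    ∃ σ : Perm α, Perm.sign σ = 1 ∧ σ * (swap p q * swap r s) * σ⁻¹ = swap p' q' * swap r' s' := by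
  classical
  simp only [List.nodup_cons, List.mem_cons, List.not_mem_nil, or_false, not_or] at h h'
  obtain ⟨⟨hpq, hpr, hps⟩, ⟨hqr, hqs⟩, hrs, -⟩ := h
  obtain ⟨⟨kpq, kpr, kps⟩, ⟨kqr, kqs⟩, krs, -⟩ := h'
  let s1 := swap p p'
  let s2 := swap (s1 q) q' * s1
  let s3 := swap (s2 r) r' * s2
  let s4 := swap (s3 s) s' * s3
  have a1 : s1 p = p' := swap_apply_left p p'
  have a2q : s2 q = q' := swap_apply_left (s1 q) q'
  have a2p : s2 p = p' := by
    show swap (s1 q) q' (s1 p) = p'
    rw [a1, swap_apply_of_ne_of_ne (fun e => hpq (s1.injective (a1.trans e))) kpq]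
  have a3r : s3 r = r' := swap_apply_left (s2 r) r'
  have a3p : s3 p = p' := by
    show swap (s2 r) r' (s2 p) = p'
    rw [a2p, swap_apply_of_ne_of_ne (fun e => hpr (s2.injective (a2p.trans e))) kpr]
  have a3q : s3 q = q' := by
    show swap (s2 r) r' (s2 q) = q'
    rw [a2q, swap_apply_of_ne_of_ne (fun e => hqr (s2.injective (a2q.trans e))) kqr]
  have a4s : s4 s = s' := swap_apply_left (s3 s) s'
  have a4p : s4 p = p' := by
    show swap (s3 s) s' (s3 p) = p'
    rw [a3p, swap_apply_of_ne_of_ne (fun e => hps (s3.injective (a3p.trans e))) kps]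
  have a4q : s4 q = q' := by
    show swap (s3 s) s' (s3 q) = q'
    rw [a3q, swap_apply_of_ne_of_ne (fun e => hqs (s3.injective (a3q.trans e))) kqs]
  have a4r : s4 r = r' := by
    show swap (s3 s) s' (s3 r) = r'
    rw [a3r, swap_apply_of_ne_of_ne (fun e => hrs (s3.injective (a3r.trans e))) krs]
  have hc : ∀ τ : Perm α, τ * (swap p q * swap r s) * τ⁻¹ = swap (τ p) (τ q) * swap (τ r) (τ s) := fun τ => by
    rw [swap_apply_apply, swap_apply_apply]; group
  rcases Int.units_eq_one_or (Perm.sign s4) with hs | hs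
  · exact ⟨s4, hs, by rw [hc, a4p, a4q, a4r, a4s]⟩
  · refine ⟨s4 * swap p q, by rw [map_mul, hs, Perm.sign_swap hpq]; decide, ?_⟩
    rw [hc]
    simp only [Perm.mul_apply, swap_apply_left, swap_apply_right, swap_apply_of_ne_of_ne (Ne.symm hpr) (Ne.symm hqr),
      swap_apply_of_ne_of_ne (Ne.symm hps) (Ne.symm hqs), a4p, a4q, a4r, a4s]
    rw [swap_comm q' p']

variable {Γ : Type*} [Group Γ] [Finite Γ] {n : ℕ}

/-- Data of a perfect double cover. -/
structure Data (φ : Γ →* Perm (Fin n)) (z : Γ) : Prop where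
  perfect : commutator Γ = ⊤
  range_eq : φ.range = alternatingGroup (Fin n)
  central : ∀ g, g * z = z * g
  ne_one : z ≠ 1
  sq : z * z = 1
  ker : ∀ g, φ g = 1 → g = 1 ∨ g = z
  zmem : φ z = 1
  deg : 5 ≤ n

variable {φ : Γ →* Perm (Fin n)} {z : Γ}

theorem Data.lift (d : Data φ z) {σ : Perm (Fin n)} (h : Perm.sign σ = 1) : ∃ g, φ g = σ := by
  have : σ ∈ alternatingGroup (Fin n) := Perm.mem_alternatingGroup.mpr h
  rw [← d.range_eq] at this
  exact this

theorem Data.eq_or (d : Data φ z) {g h : Γ} (e : φ g = φ h) : g = h ∨ g = h * z := by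
  rcases d.ker (h⁻¹ * g) (by rw [map_mul, map_inv, e, inv_mul_cancel]) with k | k
  · exact Or.inl (inv_mul_eq_one.mp k).symm
  · exact Or.inr (inv_mul_eq_iff_eq_mul.mp k)

theorem Data.sq_lift (d : Data φ z) {g h : Γ} (e : φ g = φ h) : g * g = h * h := by
  rcases d.eq_or e with k | k
  · rw [k]
  · rw [k]
    calc h * z * (h * z) = h * (z * h) * z := by simp only [mul_assoc]
      _ = h * (h * z) * z := by rw [← d.central h]
      _ = h * h * (z * z) := by simp only [mul_assoc]
      _ = h * h := by rw [d.sq, mul_one]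

/-- A double transposition lifts to an element of order four. -/
theorem Data.dt_sq (d : Data φ z) {p q r s : Fin n} (hnd : [p, q, r, s].Nodup) {g : Γ}
    (hg : φ g = swap p q * swap r s) : g * g = z := by
  have hcomm : ∀ {p q r s : Fin n}, [p, q, r, s].Nodup → swap p q * swap r s * (swap p q * swap r s) = 1 := by
    intro p q r s h
    simp only [List.nodup_cons, List.mem_cons, List.not_mem_nil, or_false, not_or] at h
    refine Equiv.ext fun x => ?_
    simp only [Perm.mul_apply, swap_apply_def, Perm.one_apply]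
    grind
  rcases d.ker (g * g) (by rw [map_mul, hg, hcomm hnd]) with h1 | h1
  swap
  · exact h1
  exfalso
  -- all lifts of double transpositions are involutions
  have hall : ∀ {p' q' r' s' : Fin n}, [p', q', r', s'].Nodup → ∀ h, φ h = swap p' q' * swap r' s' → h * h = 1 := by
    intro p' q' r' s' hnd' h hh
    obtain ⟨σ, hσ, hσc⟩ := dt_conj hnd hnd'
    obtain ⟨t, ht⟩ := d.lift hσ
    rw [d.sq_lift (g := h) (h := t * g * t⁻¹) (by rw [hh, map_mul, map_mul, map_inv, ht, hg, hσc])]
    calc t * g * t⁻¹ * (t * g * t⁻¹) = t * (g * g) * t⁻¹ := by group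
      _ = 1 := by rw [h1, mul_one, mul_inv_cancel]
  obtain ⟨m, rfl⟩ : ∃ m, n = m + 2 := ⟨n - 2, by have := d.deg; omega⟩
  have h5 := d.deg
  let pnt : ℕ → Fin (m + 2) := fun i => ⟨(i + 2) % (m + 2), Nat.mod_lt _ (by omega)⟩
  have hpnt : ∀ i, i < m → (pnt i).val = i + 2 := fun i hi => Nat.mod_eq_of_lt (by omega)
  let o : Fin (m + 2) := 0
  let o' : Fin (m + 2) := ⟨1, by omega⟩
  have hoo : o ≠ o' := by simp [o, o', Fin.ext_iff]
  have hp0 : ∀ i, i < m → pnt i ≠ o := fun i hi e => by
    have := congrArg Fin.val e; rw [hpnt i hi] at this; simp [o] at this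
  have hp1 : ∀ i, i < m → pnt i ≠ o' := fun i hi e => by
    have := congrArg Fin.val e; rw [hpnt i hi] at this; simp [o'] at this
  have hpp : ∀ i j, i < m → j < m → i ≠ j → pnt i ≠ pnt j := fun i j hi hj hij e => by
    have := congrArg Fin.val e; rw [hpnt i hi, hpnt j hj] at this; omega
  have hcube : ∀ i, ∃ Z : Γ, i < m → Z ^ 3 = 1 ∧ φ Z = swap o o' * swap o' (pnt i) := by
    intro i
    by_cases hi : i < m
    · have hs : Perm.sign (swap o o' * swap o' (pnt i)) = 1 := by
        rw [map_mul, Perm.sign_swap hoo, Perm.sign_swap (hp1 i hi).symm]; decide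
      obtain ⟨h, hh⟩ := d.lift hs
      have h3 : φ (h ^ 3) = 1 := by
        rw [map_pow, hh]
        exact Cfsg.Agent.S3335.cube_eq hoo (hp0 i hi).symm (hp1 i hi).symm
      rcases d.ker _ h3 with k | k
      · exact ⟨h, fun _ => ⟨k, hh⟩⟩
      · refine ⟨h * z, fun _ => ⟨?_, by rw [map_mul, hh, d.zmem, mul_one]⟩⟩
        have hc : Commute h z := d.central h
        rw [hc.mul_pow, k, pow_three' z, d.sq, one_mul, d.sq]
    · exact ⟨1, fun h => absurd h hi⟩
  choose Z hZ using hcube
  have hC := H61.AltStem.carm_of Z m (fun i hi => (hZ i hi).1) (fun i j hi hj hij => by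
    rw [pow_two]
    refine hall (p' := o) (q' := pnt i) (r' := o') (s' := pnt j) ?_ _ ?_
    · simp only [List.nodup_cons, List.mem_cons, List.not_mem_nil, or_false, not_or, not_false_eq_true,
        List.nodup_nil, and_true]
      exact ⟨⟨(hp0 i hi).symm, hoo, (hp0 j hj).symm⟩, ⟨hp1 i hi, hpp i j hi hj hij⟩, (hp1 j hj).symm⟩
    · rw [map_mul, (hZ i hi).2, (hZ j hj).2]
      have e1 := hp0 i hi; have e2 := hp1 i hi; have e3 := hp0 j hj; have e4 := hp1 j hj
      have e5 := hpp i j hi hj hij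
      generalize pnt i = a at e1 e2 e5 ⊢
      generalize pnt j = b at e3 e4 e5 ⊢
      refine Equiv.ext fun x => ?_
      simp only [Perm.mul_apply, swap_apply_def]
      grind)
  obtain ⟨hfin, hcard⟩ := H59.card_le_carmichael m Γ _ hC
  set x : ℕ → Γ := fun i => if i = 0 then Z 0 else H61.AltStem.tp (Z (i - 1)) (Z i) with hxdef
  set L := Subgroup.closure (x '' Set.Iio m) with hL
  have hLmap : alternatingGroup (Fin (m + 2)) ≤ L.map φ := by
    rw [← Cfsg.Agent.S3335.im_closure (m := m) (by omega), Subgroup.closure_le]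
    rintro _ ⟨i, rfl⟩
    refine ⟨x i.val, Subgroup.subset_closure ⟨i.val, i.2, rfl⟩, ?_⟩
    simp only [hxdef, Cfsg.Agent.S3335.im]
    by_cases h : i.val = 0
    · rw [if_pos h, if_pos h, (hZ 0 (by omega)).2]
      congr 2
      exact Fin.ext (by rw [hpnt 0 (by omega)])
    · have h1' : i.val - 1 < m := by omega
      rw [if_neg h, if_neg h, H61.AltStem.tp, map_mul, map_mul, map_inv, (hZ _ h1').2, (hZ _ i.2).2,
        ← H61.AltStem.tp, H61.AltStem.swap_tp hoo (hp0 _ h1') (hp1 _ h1') (hp0 _ i.2) (hp1 _ i.2)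
          (hpp _ _ h1' i.2 (by omega))]
      congr 2
      · exact Fin.ext (by rw [hpnt _ h1']; simp; omega)
      · exact Fin.ext (by rw [hpnt _ i.2])
  have hrange : L.map φ = alternatingGroup (Fin (m + 2)) :=
    le_antisymm (fun y ⟨l, _, hl⟩ => by rw [← d.range_eq]; exact ⟨l, hl⟩) hLmap
  have h2A := two_mul_nat_card_alternatingGroup (α := Fin (m + 2))
  rw [Nat.card_perm, Nat.card_fin] at h2A
  have hinj : ∀ l ∈ L, φ l = 1 → l = 1 := by
    intro l hl hl1
    have hsurj : Function.Surjective (φ.subgroupMap L) := φ.subgroupMap_surjective L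
    have hle : Nat.card (L.map φ) ≤ Nat.card L := Nat.card_le_card_of_surjective _ hsurj
    have heq : Nat.card L = Nat.card (L.map φ) := by rw [hrange] at hle ⊢; omega
    have hb : Function.Bijective (φ.subgroupMap L) :=
      (Nat.bijective_iff_surjective_and_card _).mpr ⟨hsurj, heq⟩
    have : φ.subgroupMap L ⟨l, hl⟩ = φ.subgroupMap L 1 := by
      rw [map_one]; exact Subtype.ext hl1
    exact congrArg Subtype.val (hb.1 this)
  have hsplit : ∀ g, g ∈ L ∨ g * z ∈ L := by
    intro g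
    have hgA : φ g ∈ alternatingGroup (Fin (m + 2)) := by rw [← d.range_eq]; exact ⟨g, rfl⟩
    obtain ⟨l, hl, e⟩ := hLmap hgA
    rcases d.eq_or e with k | k
    · refine Or.inl ?_; rw [← k]; exact hl
    · refine Or.inr ?_; rw [← k]; exact hl
  have hzc : ∀ u, Commute z u := fun u => (d.central u).symm
  have hzi : z⁻¹ = z := inv_eq_of_mul_eq_one_right d.sq
  have cz : ∀ a b : Γ, ⁅a * z, b⁆ = ⁅a, b⁆ ∧ ⁅a, b * z⁆ = ⁅a, b⁆ := fun a b => by
    simp only [commutatorElement_def, mul_inv_rev, hzi]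
    constructor
    · calc a * z * b * (z * a⁻¹) * b⁻¹ = a * (z * b) * z * a⁻¹ * b⁻¹ := by simp only [mul_assoc]
        _ = a * b * (z * z) * a⁻¹ * b⁻¹ := by rw [(hzc b).eq]; simp only [mul_assoc]
        _ = a * b * a⁻¹ * b⁻¹ := by rw [d.sq, mul_one]
    · calc a * (b * z) * a⁻¹ * (z * b⁻¹) = a * b * (z * a⁻¹) * z * b⁻¹ := by simp only [mul_assoc]
        _ = a * b * a⁻¹ * (z * z) * b⁻¹ := by rw [(hzc a⁻¹).eq]; simp only [mul_assoc]
        _ = a * b * a⁻¹ * b⁻¹ := by rw [d.sq, mul_one]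
  have htop : commutator Γ ≤ L := by
    rw [commutator_def, Subgroup.commutator_le]
    intro a _ b _
    have hmem : ∀ u v, u ∈ L → v ∈ L → ⁅u, v⁆ ∈ L := fun u v hu hv => by
      rw [commutatorElement_def]
      exact L.mul_mem (L.mul_mem (L.mul_mem hu hv) (L.inv_mem hu)) (L.inv_mem hv)
    rcases hsplit a with ha | ha <;> rcases hsplit b with hb | hb
    · exact hmem _ _ ha hb
    · rw [← (cz a b).2]; exact hmem _ _ ha hb
    · rw [← (cz a b).1]; exact hmem _ _ ha hb
    · rw [← (cz a b).1, ← (cz (a * z) b).2]; exact hmem _ _ ha hb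
  exact d.ne_one (hinj z (htop (d.perfect ▸ Subgroup.mem_top z)) d.zmem)

/-- Lifts of permutations commuting with a three-cycle: lift commutes when their images do. -/
theorem Data.commute_three (d : Data φ z) {a t : Γ} (h : Commute (φ a) (φ t)) (ht : φ t ^ 3 = 1) :
    Commute a t := by
  have hk : φ (a * t * a⁻¹) = φ t := by rw [map_mul, map_mul, map_inv, h.eq, mul_inv_cancel_right]
  rcases d.eq_or hk with k | k
  · exact mul_inv_eq_iff_eq_mul.mp k
  · exfalso
    have h3 := d.ker (t ^ 3) (by rw [map_pow, ht])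
    have hct : Commute t z := d.central t
    have e : (a * t * a⁻¹) ^ 3 = t ^ 3 := by
      rw [conj_pow]
      rcases h3 with e | e <;> rw [e]
      · rw [mul_one, mul_inv_cancel]
      · rw [d.central a, mul_inv_cancel_right]
    rw [k, hct.mul_pow, pow_three' z, d.sq, one_mul] at e
    exact d.ne_one (mul_eq_left.mp e)

/-- Lifts of an element interchanging `p, q` and `r, s`, and of `(p r)(q s)`, do not commute. -/
theorem Data.anti (d : Data φ z) {p q r s : Fin n} (hnd : [p, q, r, s].Nodup) {a c : Γ}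
    (hp : φ a p = q) (hq : φ a q = p) (hr : φ a r = s) (hs : φ a s = r) (ha : Perm.sign (φ a) = 1)
    (hc : φ c = swap p r * swap q s) : ⁅a, c⁆ = z := by
  have hnd0 := hnd
  simp only [List.nodup_cons, List.mem_cons, List.not_mem_nil, or_false, not_or] at hnd
  obtain ⟨⟨hpq, hpr, hps⟩, ⟨hqr, hqs⟩, hrs, -⟩ := hnd
  have hsd : Perm.sign (swap p q * swap r s) = 1 := by
    rw [map_mul, Perm.sign_swap hpq, Perm.sign_swap hrs]; decide
  obtain ⟨u, hu⟩ := d.lift hsd
  set t := u⁻¹ * a with htdef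
  have hfix : φ t p = p ∧ φ t q = q ∧ φ t r = r ∧ φ t s = s := by
    simp only [htdef, map_mul, map_inv, hu, mul_inv_rev, swap_inv, Perm.mul_apply, hp, hq, hr, hs]
    simp [swap_apply_of_ne_of_ne, (Ne.symm hpr), (Ne.symm hqr), (Ne.symm hps), (Ne.symm hqs), hpq, hpr, hps, hqr, hqs, hrs, (Ne.symm hpq),
      (Ne.symm hrs)]
  have hsw : ∀ {x y : Fin n}, φ t x = x → φ t y = y → Commute (φ t) (swap x y) := fun {x y} hx hy => by
    show φ t * swap x y = swap x y * φ t
    rw [Equiv.mul_swap_eq_swap_mul, hx, hy]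
  -- `(p r)(q s)` as a product of two three-cycles
  have hs1 : Perm.sign (swap p r * swap r q) = 1 := by
    rw [map_mul, Perm.sign_swap hpr, Perm.sign_swap (Ne.symm hqr)]; decide
  have hs2 : Perm.sign (swap r q * swap q s) = 1 := by
    rw [map_mul, Perm.sign_swap (Ne.symm hqr), Perm.sign_swap hqs]; decide
  obtain ⟨c1, hc1⟩ := d.lift hs1
  obtain ⟨c2, hc2⟩ := d.lift hs2
  have hc12 : φ (c1 * c2) = φ c := by
    rw [map_mul, hc1, hc2, hc, mul_assoc, ← mul_assoc (swap r q), swap_mul_self, one_mul]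
  have k1 : Commute t c1 := d.commute_three (by rw [hc1]; exact (hsw hfix.1 hfix.2.2.1).mul_right (hsw hfix.2.2.1 hfix.2.1))
    (by rw [hc1]; exact Cfsg.Agent.S3335.cube_eq hpr hpq (Ne.symm hqr))
  have k2 : Commute t c2 := d.commute_three (by rw [hc2]; exact (hsw hfix.2.2.1 hfix.2.1).mul_right (hsw hfix.2.1 hfix.2.2.2))
    (by rw [hc2]; exact Cfsg.Agent.S3335.cube_eq (Ne.symm hqr) hrs hqs)
  have ktc : Commute t c := by
    rcases d.eq_or hc12.symm with k | k
    · rw [k]; exact k1.mul_right k2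
    · rw [k]; exact (k1.mul_right k2).mul_right (d.central t)
  have huu : u * u = z := d.dt_sq hnd0 hu
  have hcc : c * c = z := d.dt_sq (by
    simp only [List.nodup_cons, List.mem_cons, List.not_mem_nil, or_false, not_or, not_false_eq_true,
      List.nodup_nil, and_true]
    exact ⟨⟨hpr, hpq, hps⟩, ⟨(Ne.symm hqr), hrs⟩, hqs⟩) hc
  have hw : (u * c) * (u * c) = z := d.dt_sq (p := p) (q := s) (r := q) (s := r) (by
    simp only [List.nodup_cons, List.mem_cons, List.not_mem_nil, or_false, not_or, not_false_eq_true,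
      List.nodup_nil, and_true]
    exact ⟨⟨hps, hpq, hpr⟩, ⟨(Ne.symm hqs), (Ne.symm hrs)⟩, hqr⟩) (by
    rw [map_mul, hu, hc]
    refine Equiv.ext fun x => ?_
    simp only [Perm.mul_apply, swap_apply_def]
    grind)
  have hzi : z⁻¹ = z := inv_eq_of_mul_eq_one_right d.sq
  have huc : u * c * u⁻¹ * c⁻¹ = z := by
    have i1 : u⁻¹ = u * z := inv_eq_of_mul_eq_one_right (by rw [← mul_assoc, huu, d.sq])
    have i2 : c⁻¹ = c * z := inv_eq_of_mul_eq_one_right (by rw [← mul_assoc, hcc, d.sq])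
    calc u * c * u⁻¹ * c⁻¹ = u * c * (u * (z * c) * z) := by rw [i1, i2]; simp only [mul_assoc]
      _ = u * c * (u * c) * (z * z) := by rw [← d.central c]; simp only [mul_assoc]
      _ = z := by rw [d.sq, mul_one, hw]
  rw [show a = u * t by rw [htdef, mul_inv_cancel_left], commutatorElement_def, mul_inv_rev]
  calc u * t * c * (t⁻¹ * u⁻¹) * c⁻¹ = u * (t * c * t⁻¹) * u⁻¹ * c⁻¹ := by simp only [mul_assoc]
    _ = u * c * u⁻¹ * c⁻¹ := by rw [ktc.eq, mul_inv_cancel_right]
    _ = z := huc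

end H60.AltCover
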