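import Mathlib

/-!
The largest prime divisor `r` of `C(m,k)` satisfies `m % r < k % r` (`2k ≤ m`), by a weak
Sylvester-Schur bound: some prime divisor exceeds `min(k, √m)`.
-/

set_option autoImplicit false

namespace H60.ChoosePrime

open Nat

theorem primeCounting_add_two_le {k : ℕ} (hk : 2 ≤ k) :
    primeCounting (k + 2) ≤ primeCounting k + 1 := by
  unfold primeCounting primeCounting'
  rw [show k + 2 + 1 = k + 1 + 1 + 1 by rfl, Nat.count_succ, Nat.count_succ]
  by_cases h1 : (k + 1).Prime
  · have h2 : ¬ (k + 1 + 1).Prime := by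
      intro h2
      have o1 := h1.odd_of_ne_two (by omega)
      have o2 := h2.odd_of_ne_two (by omega)
      rw [Nat.odd_iff] at o1 o2
      omega
    simp [h1, h2]
  · simp [h1]; split <;> omega

theorem two_mul_primeCounting_lt : ∀ k : ℕ, 9 ≤ k → 2 * primeCounting k < k
  | 9, _ => by decide +kernel
  | 10, _ => by decide +kernel
  | k + 11, _ => by
    have h1 := two_mul_primeCounting_lt (k + 9) (by omega)
    have h2 : primeCounting (k + 11) ≤ primeCounting (k + 9) + 1 :=
      primeCounting_add_two_le (k := k + 9) (by omega)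
    omega

theorem choose_le_pow_primeCounting {m k q : ℕ} (hm : 0 < m) (hk : k ≤ m)
    (h : ∀ p : ℕ, p.Prime → p ∣ m.choose k → p ≤ q) : m.choose k ≤ m ^ primeCounting q := by
  have hpos : m.choose k ≠ 0 := (Nat.choose_pos hk).ne'
  conv_lhs => rw [← Nat.prod_factorization_pow_eq_self hpos]
  refine (Finset.prod_le_pow_card _ _ _ fun p _ => Nat.pow_factorization_choose_le hm).trans
    (Nat.pow_le_pow_right hm ?_)
  rw [show primeCounting q = ((Finset.range (q + 1)).filter Nat.Prime).card from
    Nat.count_eq_card_filter_range _ _]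
  refine Finset.card_le_card fun p hp => ?_
  rw [Nat.support_factorization] at hp
  have hp' := Nat.mem_primeFactors.mp hp
  exact Finset.mem_filter.mpr ⟨Finset.mem_range.mpr (Nat.lt_succ_of_le (h p hp'.1 hp'.2.1)), hp'.1⟩

theorem pow_le_pow_mul_choose {m k : ℕ} (hk : k ≤ m) : m ^ k ≤ k ^ k * m.choose k := by
  have key : ∀ j, j ≤ k → m ^ j * k.descFactorial j ≤ k ^ j * m.descFactorial j := by
    intro j
    induction j with
    | zero => simp
    | succ j ih =>
      intro hj
      rw [Nat.descFactorial_succ, Nat.descFactorial_succ, pow_succ, pow_succ]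
      have h1 : m * (k - j) ≤ k * (m - j) := by
        rw [Nat.mul_sub, Nat.mul_sub, Nat.mul_comm m k]
        have := Nat.mul_le_mul_right j hk
        omega
      calc m ^ j * m * ((k - j) * k.descFactorial j)
          = (m ^ j * k.descFactorial j) * (m * (k - j)) := by ring
        _ ≤ (k ^ j * m.descFactorial j) * (k * (m - j)) := Nat.mul_le_mul (ih (by omega)) h1
        _ = k ^ j * k * ((m - j) * m.descFactorial j) := by ring
  have h := key k le_rfl
  rw [Nat.descFactorial_self, Nat.descFactorial_eq_factorial_mul_choose] at h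
  refine Nat.le_of_mul_le_mul_left ?_ (Nat.factorial_pos k)
  calc k.factorial * m ^ k = m ^ k * k.factorial := by ring
    _ ≤ k ^ k * (k.factorial * m.choose k) := h
    _ = k.factorial * (k ^ k * m.choose k) := by ring

theorem pow_primeCounting_lt_choose {m q : ℕ} (hm : 81 ≤ m) (hq : 1 ≤ q) (hqm : q * q ≤ m) :
    m ^ primeCounting q < m.choose q := by
  have hqm' : q ≤ m := le_trans (Nat.le_mul_self q) hqm
  by_contra hcon
  push Not at hcon
  by_cases h9 : 9 ≤ q
  · have h1 := (pow_le_pow_mul_choose hqm').trans (Nat.mul_le_mul_left _ hcon)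
    have h2 : m ^ (2 * q) ≤ m ^ (q + 2 * primeCounting q) := by
      calc m ^ (2 * q) = (m ^ q) ^ 2 := by rw [← pow_mul, Nat.mul_comm]
        _ ≤ (q ^ q * m ^ primeCounting q) ^ 2 := Nat.pow_le_pow_left h1 2
        _ = (q * q) ^ q * m ^ (2 * primeCounting q) := by ring
        _ ≤ m ^ q * m ^ (2 * primeCounting q) :=
          Nat.mul_le_mul_right _ (Nat.pow_le_pow_left hqm q)
        _ = _ := (pow_add _ _ _).symm
    have h3 := (Nat.pow_le_pow_iff_right (by omega : 1 < m)).mp h2
    have := two_mul_primeCounting_lt q h9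
    omega
  · have h1 : (m + 1 - q) ^ q ≤ q.factorial * m ^ primeCounting q := by
      refine (Nat.pow_sub_le_descFactorial m q).trans ?_
      rw [Nat.descFactorial_eq_factorial_mul_choose]
      exact Nat.mul_le_mul_left _ hcon
    have h2 : (9 * m) ^ q ≤ 10 ^ q * (q.factorial * m ^ primeCounting q) := by
      refine (Nat.pow_le_pow_left (show 9 * m ≤ 10 * (m + 1 - q) by omega) q).trans ?_
      rw [mul_pow]
      exact Nat.mul_le_mul_left _ h1
    have hpi : primeCounting q ≤ q := by
      interval_cases q <;> decide +kernel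
    have h3 : 9 ^ q * m ^ (q - primeCounting q) ≤ 10 ^ q * q.factorial := by
      refine Nat.le_of_mul_le_mul_right ?_ (pow_pos (show 0 < m by omega) (primeCounting q))
      calc 9 ^ q * m ^ (q - primeCounting q) * m ^ primeCounting q
          = 9 ^ q * m ^ q := by rw [mul_assoc, ← pow_add, Nat.sub_add_cancel hpi]
        _ = (9 * m) ^ q := (mul_pow _ _ _).symm
        _ ≤ _ := h2
        _ = _ := by ring
    have h4 : 9 ^ q * 81 ^ (q - primeCounting q) ≤ 10 ^ q * q.factorial :=
      (Nat.mul_le_mul_left _ (Nat.pow_le_pow_left hm _)).trans h3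
    interval_cases q <;> revert h4 <;> decide +kernel

/-- The primes below `81`. -/
def smallList : List ℕ :=
  [2, 3, 5, 7, 11, 13, 17, 19, 23, 29, 31, 37, 41, 43, 47, 53, 59, 61, 67, 71, 73, 79]

theorem small_primes : ∀ p ∈ smallList, Nat.Prime p := by decide +kernel

theorem small_check : ((List.range 81).all fun m => (List.range (m / 2)).all fun j =>
    smallList.any fun p =>
      decide (m % p < (j + 1) % p ∧ (j + 1 < p ∨ m < p * p))) = true := by decide +kernel

theorem small_cases {m k : ℕ} (hm : m < 81) (hk : 1 ≤ k) (hkm : 2 * k ≤ m) :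
    ∃ p ∈ smallList, m % p < k % p ∧ (k < p ∨ m < p * p) := by
  have h := small_check
  rw [List.all_eq_true] at h
  have h1 := List.all_eq_true.mp (h m (List.mem_range.mpr hm)) (k - 1)
    (List.mem_range.mpr (by omega))
  obtain ⟨p, hp, hp'⟩ := List.any_eq_true.mp h1
  rw [show k - 1 + 1 = k by omega, decide_eq_true_eq] at hp'
  exact ⟨p, hp, hp'⟩

theorem dvd_choose_of_mod_lt {p m k : ℕ} (hp : p.Prime) (h : m % p < k % p) : p ∣ m.choose k := by
  haveI : Fact p.Prime := ⟨hp⟩
  have hl := Choose.choose_modEq_choose_mod_mul_choose_div_nat (n := m) (k := k) (p := p)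
  rw [Nat.choose_eq_zero_of_lt h, zero_mul] at hl
  exact Nat.modEq_zero_iff_dvd.mp hl

theorem not_dvd_choose_small {r a b : ℕ} (hr : r.Prime) (ha : a < r) (hb : b ≤ a) :
    ¬ r ∣ a.choose b := fun h =>
  absurd (hr.dvd_factorial.mp
    (Nat.choose_mul_factorial_mul_factorial hb ▸ (h.mul_right _).mul_right _)) (Nat.not_le.mpr ha)

theorem mod_lt_of_dvd_choose {r m k : ℕ} (hr : r.Prime) (hd : r ∣ m.choose k) (hkm : k ≤ m)
    (hbig : k < r ∨ m < r * r) : m % r < k % r := by
  haveI : Fact r.Prime := ⟨hr⟩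
  by_contra hle
  push Not at hle
  have hl := Choose.choose_modEq_choose_mod_mul_choose_div_nat (n := m) (k := k) (p := r)
  have h2 : r ∣ (m % r).choose (k % r) * (m / r).choose (k / r) :=
    Nat.modEq_zero_iff_dvd.mp (hl.symm.trans (Nat.modEq_zero_iff_dvd.mpr hd))
  rcases hr.dvd_mul.mp h2 with h | h
  · exact not_dvd_choose_small hr (Nat.mod_lt _ hr.pos) hle h
  · rcases hbig with hk | hm
    · rw [Nat.div_eq_of_lt hk, Nat.choose_zero_right] at h
      exact hr.not_dvd_one h
    · exact not_dvd_choose_small hr ((Nat.div_lt_iff_lt_mul hr.pos).mpr hm)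
        (Nat.div_le_div_right hkm) h

theorem exists_large_prime {m k : ℕ} (hk : 1 ≤ k) (hkm : 2 * k ≤ m) :
    ∃ p : ℕ, p.Prime ∧ p ∣ m.choose k ∧ (k < p ∨ m < p * p) := by
  by_cases hm : m < 81
  · obtain ⟨p, hp, h1, h2⟩ := small_cases hm hk hkm
    exact ⟨p, small_primes p hp, dvd_choose_of_mod_lt (small_primes p hp) h1, h2⟩
  · by_contra hcon
    push Not at hcon
    set q := min k (Nat.sqrt m)
    have hq1 : 1 ≤ q := le_min hk (Nat.le_sqrt.mpr (by omega))
    have hqm : q * q ≤ m :=
      (Nat.mul_le_mul (min_le_right _ _) (min_le_right _ _)).trans (Nat.sqrt_le m)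
    have hC : m.choose k ≤ m ^ primeCounting q :=
      choose_le_pow_primeCounting (by omega) (by omega) fun p hp hd =>
        le_min (hcon p hp hd).1 (Nat.le_sqrt.mpr (hcon p hp hd).2)
    have hmono : ∀ j, q ≤ j → j ≤ k → m.choose q ≤ m.choose j := by
      intro j hj
      induction j, hj using Nat.le_induction with
      | base => exact fun _ => le_rfl
      | succ j hj ih =>
        intro hjk
        exact (ih (by omega)).trans (Nat.choose_le_succ_of_lt_half_left (by omega))
    exact absurd ((hmono k (min_le_left _ _) le_rfl).trans hC)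
      (Nat.not_le.mpr (pow_primeCounting_lt_choose (by omega) hq1 hqm))

/-- For the largest prime divisor `r` of `C(m,k)`, `2k ≤ m`, the last digit of `k` exceeds that
of `m`. -/
theorem mod_lt_mod_of_largest {m k r : ℕ} (hk : 1 ≤ k) (hkm : 2 * k ≤ m) (hr : r.Prime)
    (hd : r ∣ m.choose k) (hmax : ∀ p : ℕ, p.Prime → p ∣ m.choose k → p ≤ r) :
    (k < r ∨ m < r * r) ∧ m % r < k % r := by
  obtain ⟨p, hp, hpd, hpb⟩ := exists_large_prime hk hkm
  have hpr := hmax p hp hpd
  have hbig : k < r ∨ m < r * r := hpb.imp (fun h => lt_of_lt_of_le h hpr)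
    fun h => lt_of_lt_of_le h (Nat.mul_le_mul hpr hpr)
  exact ⟨hbig, mod_lt_of_dvd_choose hr hd (by omega) hbig⟩

end H60.ChoosePrime
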