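import Mathlib

set_option autoImplicit false

namespace H60

open Equiv Equiv.Perm

variable {α : Type*} [Fintype α] [DecidableEq α]

/-- Cycle type of a permutation of prime order `r`. -/
theorem cycleType_of_orderOf_eq_prime {σ : Perm α} {r : ℕ} (hr : r.Prime) (hσ : orderOf σ = r) :
    ∃ j : ℕ, 1 ≤ j ∧ j * r ≤ Fintype.card α ∧ σ.cycleType = Multiset.replicate j r ∧
      σ.support.card = j * r := by
  obtain ⟨j, hj⟩ := cycleType_prime_order (hσ ▸ hr : (orderOf σ).Prime)
  rw [hσ] at hj
  have hs : σ.support.card = (j + 1) * r := by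
    rw [← sum_cycleType, hj, Multiset.sum_replicate, smul_eq_mul]
  exact ⟨j + 1, Nat.le_add_left _ _, hs ▸ Finset.card_le_univ _, hj, hs⟩

/-- Existence of a permutation with `j` cycles of prime length `r`. -/
theorem exists_perm_replicate {r j : ℕ} (hr : r.Prime) (hj : 1 ≤ j) (h : j * r ≤ Fintype.card α) :
    ∃ σ : Perm α, orderOf σ = r ∧ σ.cycleType = Multiset.replicate j r ∧
      σ.support.card = j * r := by
  obtain ⟨σ, hσ⟩ := (exists_with_cycleType_iff α (m := Multiset.replicate j r)).mpr
    ⟨by rw [Multiset.sum_replicate, smul_eq_mul]; exact h,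
      fun a ha => Multiset.eq_of_mem_replicate ha ▸ hr.two_le⟩
  refine ⟨σ, ?_, hσ, by rw [← sum_cycleType, hσ, Multiset.sum_replicate, smul_eq_mul]⟩
  rw [← lcm_cycleType, hσ]
  refine Nat.dvd_antisymm (Multiset.lcm_dvd.mpr fun b hb => (Multiset.eq_of_mem_replicate hb).dvd)
    (Multiset.dvd_lcm (Multiset.mem_replicate.mpr ⟨by omega, rfl⟩))

/-- An invariant set under a permutation of prime order `r` contains a number of fixed points
congruent to its size. -/
theorem mod_le_card_fixed {σ : Perm α} {r : ℕ} (hr : r.Prime) (hσ : orderOf σ = r) (s : Finset α)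
    (hs : s.image σ = s) : s.card % r ≤ (s.filter fun x => σ x = x).card := by
  classical
  have hiff : ∀ x, σ x ∈ s ↔ x ∈ s := fun x => by
    conv_lhs => rw [← hs]
    simp
  let τ : Perm {x // x ∈ s} := σ.subtypePerm hiff
  have hτ : τ ^ r = 1 := by
    ext x
    simp [τ, Equiv.Perm.subtypePerm_pow, ← hσ, pow_orderOf_eq_one]
  have hdvd : r ∣ τ.support.card := by
    rw [← sum_cycleType]
    refine Multiset.dvd_sum fun a ha => ?_
    rcases hr.eq_one_or_self_of_dvd a ((dvd_of_mem_cycleType ha).trans
      (orderOf_dvd_of_pow_eq_one hτ)) with h | h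
    · exact absurd h (one_lt_of_mem_cycleType ha).ne'
    · exact h ▸ dvd_rfl
  have hsupp : τ.support.card + (s.filter fun x => σ x = x).card = s.card := by
    have h1 : τ.support.card = (s.filter fun x => ¬ σ x = x).card := by
      rw [← Finset.card_map (Function.Embedding.subtype _)]
      congr 1
      ext x
      simp [τ, Subtype.ext_iff, and_comm]
    rw [h1, add_comm, Finset.card_filter_add_card_filter_not]
  obtain ⟨c, hc⟩ := hdvd
  rw [← hsupp, hc, Nat.mul_add_mod]
  exact Nat.mod_le _ _

/-- A union of cycles and fixed points. -/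
theorem exists_invariant_set {σ : Perm α} {r j : ℕ} (hσ : σ.cycleType = Multiset.replicate j r)
    (i f : ℕ) (hi : i ≤ j) (hf : f + j * r ≤ Fintype.card α) :
    ∃ s : Finset α, s.card = i * r + f ∧ s.image σ = s := by
  classical
  have hcard : σ.cycleFactorsFinset.card = j := by
    rw [← Multiset.card_replicate j r, ← hσ, cycleType_def, Multiset.card_map]; rfl
  obtain ⟨C, hC, hCc⟩ := Finset.exists_subset_card_eq (hcard ▸ hi : i ≤ σ.cycleFactorsFinset.card)
  have hsupp : σ.support.card = j * r := by
    rw [← sum_cycleType, hσ, Multiset.sum_replicate, smul_eq_mul]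
  obtain ⟨F, hF, hFc⟩ := Finset.exists_subset_card_eq
    (show f ≤ σ.supportᶜ.card by rw [Finset.card_compl, hsupp]; omega)
  set U := C.biUnion Equiv.Perm.support
  have hU : U.card = i * r := by
    rw [Finset.card_biUnion, Finset.sum_const_nat, hCc]
    · intro c hc
      have : (Finset.card ∘ Equiv.Perm.support) c ∈ σ.cycleType := by
        rw [cycleType_def]; exact Multiset.mem_map_of_mem _ (hC hc)
      exact Multiset.eq_of_mem_replicate (hσ ▸ this)
    · intro a ha b hb hab
      exact disjoint_iff_disjoint_support.mp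
        (cycleFactorsFinset_pairwise_disjoint σ (hC ha) (hC hb) hab)
  have hUs : U ⊆ σ.support := Finset.biUnion_subset.mpr fun c hc =>
    mem_cycleFactorsFinset_support_le (hC hc)
  have hdisj : Disjoint U F := Finset.disjoint_left.mpr fun x hx hxF =>
    Finset.mem_compl.mp (hF hxF) (hUs hx)
  refine ⟨U ∪ F, by rw [Finset.card_union_of_disjoint hdisj, hU, hFc],
    Finset.eq_of_subset_of_card_le (fun y hy => ?_)
      (by rw [Finset.card_image_of_injective _ σ.injective])⟩
  obtain ⟨x, hx, rfl⟩ := Finset.mem_image.mp hy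
  rcases Finset.mem_union.mp hx with h | h
  · obtain ⟨c, hc, hxc⟩ := Finset.mem_biUnion.mp h
    refine Finset.mem_union_left _ (Finset.mem_biUnion.mpr ⟨c, hc, ?_⟩)
    rw [← (mem_cycleFactorsFinset_iff.mp (hC hc)).2 x hxc]
    exact apply_mem_support.mpr hxc
  · rw [notMem_support.mp (Finset.mem_compl.mp (hF h))]
    exact Finset.mem_union_right _ h

/-- If the last digit of `k` is at most that of `n` and `k < r` then `r ∤ C(n,k)`. -/
theorem not_dvd_choose_of_lt {r n k : ℕ} (hr : r.Prime) (hk : k < r) (h : k ≤ n % r) :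
    ¬ r ∣ n.choose k := by
  haveI : Fact r.Prime := ⟨hr⟩
  have hl := Choose.choose_modEq_choose_mod_mul_choose_div_nat (n := n) (k := k) (p := r)
  rw [Nat.div_eq_of_lt hk, Nat.choose_zero_right, mul_one, Nat.mod_eq_of_lt hk] at hl
  intro hd
  have h2 : r ∣ (n % r).choose k := Nat.modEq_zero_iff_dvd.mp
    (hl.symm.trans (Nat.modEq_zero_iff_dvd.mpr hd))
  have h3 : r ∣ (n % r).factorial :=
    Nat.choose_mul_factorial_mul_factorial h ▸ (h2.mul_right _).mul_right _
  exact absurd (hr.dvd_factorial.mp h3) (Nat.not_le.mpr (Nat.mod_lt _ hr.pos))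

end H60
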