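import Mathlib
import Cfsg.Agent.H60.Perm
import Cfsg.Agent.H60.ChoosePrime
import Cfsg.Agent.H58.JordanCriterion

/-!
Primitive actions of `A_m` and `S_m`: a derangement of order the largest prime divisor of the degree.
-/

set_option autoImplicit false
set_option linter.style.haveILetI false

namespace H60.AltSocle

open Equiv Equiv.Perm MulAction
open scoped Pointwise

theorem sq_not_dvd_factorial {r : ℕ} (hr : r.Prime) : ∀ m, m < 2 * r → ¬ r * r ∣ m.factorial
  | 0, _ => fun h => absurd (Nat.le_of_dvd one_pos h) (by have := Nat.mul_le_mul hr.two_le hr.two_le; omega)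
  | m + 1, hm => fun h => by
    rw [Nat.factorial_succ] at h
    by_cases hd : r ∣ m + 1
    · obtain ⟨c, hc⟩ := hd
      have hc1 : c = 1 := by
        rcases Nat.lt_or_ge c 2 with hlt | hge
        · rcases Nat.eq_zero_or_pos c with rfl | hpos
          · simp at hc
          · omega
        · have := Nat.mul_le_mul_left r hge
          omega
      rw [hc, hc1, mul_one] at h
      have h2 := Nat.dvd_of_mul_dvd_mul_left hr.pos h
      have h3 := (hr.dvd_factorial).mp h2
      rw [hc1, mul_one] at hc
      omega
    · exact sq_not_dvd_factorial hr m (by omega)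
        ((Nat.Coprime.mul_left ((hr.coprime_iff_not_dvd).mpr hd)
          ((hr.coprime_iff_not_dvd).mpr hd)).dvd_of_dvd_mul_left h)

/-- A point in an invariant set with fewer than `p` elements is fixed by an element of order `p`. -/
theorem fixed_of_small {K X : Type*} [Group K] [MulAction K X] {g : K} {p : ℕ} (hp : p.Prime)
    (hg : orderOf g = p) (x : X) (S : Set X) (hS : S.Finite) (hcard : S.ncard < p)
    (hx : ∀ i : ℤ, g ^ i • x ∈ S) : g • x = x := by
  haveI : Finite (Subgroup.zpowers g) :=
    Nat.finite_of_card_ne_zero (by rw [Nat.card_zpowers, hg]; exact hp.ne_zero)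
  have hsub : orbit (Subgroup.zpowers g) x ⊆ S := by
    rintro _ ⟨⟨_, i, rfl⟩, rfl⟩
    exact hx i
  have hdvd : (orbit (Subgroup.zpowers g) x).ncard ∣ p := by
    rw [← index_stabilizer, ← hg, ← Nat.card_zpowers]
    exact Subgroup.index_dvd_card _
  have hlt : (orbit (Subgroup.zpowers g) x).ncard < p :=
    lt_of_le_of_lt (Set.ncard_le_ncard hsub hS) hcard
  have hone : (orbit (Subgroup.zpowers g) x).ncard = 1 :=
    (hp.eq_one_or_self_of_dvd _ hdvd).resolve_right hlt.ne
  obtain ⟨y, hy⟩ := Set.ncard_eq_one.mp hone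
  have h1 : x ∈ orbit (Subgroup.zpowers g) x := mem_orbit_self x
  have h2 : g • x ∈ orbit (Subgroup.zpowers g) x :=
    mem_orbit x (⟨g, Subgroup.mem_zpowers g⟩ : Subgroup.zpowers g)
  rw [hy, Set.mem_singleton_iff] at h1 h2
  rw [h2, h1]

variable {m : ℕ}

/-- Large primes do not divide the order of an imprimitive group. -/
theorem not_dvd_of_imprimitive (H : Subgroup (Perm (Fin m))) (htr : IsPretransitive H (Fin m))
    (hnp : ¬ IsPreprimitive H (Fin m)) {p : ℕ} (hp : p.Prime) (hbig : m < 2 * p) :
    ¬ p ∣ Nat.card H := by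
  intro hd
  obtain ⟨B, hB, hBt⟩ : ∃ B : Set (Fin m), IsBlock H B ∧ ¬ IsTrivialBlock B := by
    by_contra hcon
    push Not at hcon
    exact hnp ⟨fun {B} hB => hcon B hB⟩
  have hB2 : 2 ≤ B.ncard := by
    by_contra hlt
    exact hBt (Or.inl (Set.ncard_le_one_iff_subsingleton.mp (by omega)))
  have hne : B.Nonempty := Set.nonempty_of_ncard_ne_zero (by omega)
  have hmul := hB.ncard_block_mul_ncard_orbit_eq hne
  rw [Nat.card_fin] at hmul
  have hblk : B.ncard * 2 ≤ m := by
    by_contra hlt
    exact hBt (Or.inr (hB.eq_univ_of_card_lt (by rw [Nat.card_fin]; omega)))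
  have horb : (orbit H B).ncard < p := by
    have := Nat.mul_le_mul_right (orbit H B).ncard hB2
    omega
  haveI : Fact p.Prime := ⟨hp⟩
  obtain ⟨g, hg⟩ := exists_prime_orderOf_dvd_card' p hd
  have hg1 : g = 1 := by
    apply Subtype.ext
    ext x
    obtain ⟨b, hb⟩ := hne
    obtain ⟨h, hhx⟩ := htr.exists_smul_eq b x
    have hxB : x ∈ h • B := ⟨b, hb, hhx⟩
    have hfixB : g • (h • B) = h • B :=
      fixed_of_small hp hg (h • B) (orbit H B) (Set.toFinite _) horb fun i => by
        rw [smul_smul]; exact mem_orbit B _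
    have hst : ∀ i : ℤ, g ^ i ∈ stabilizer H (h • B) := fun i =>
      zpow_mem (mem_stabilizer_iff.mpr hfixB) i
    have hfx : g • x = x :=
      fixed_of_small hp hg x (h • B) (Set.toFinite _)
        (by rw [Set.ncard_smul_set]; omega)
        fun i => by
          have h1 : g ^ i • x ∈ (g ^ i) • (h • B) := Set.smul_mem_smul_set hxB
          rwa [mem_stabilizer_iff.mp (hst i)] at h1
    have hfx' : (g : Perm (Fin m)) x = x := hfx
    simpa using congrArg Fin.val hfx'
  rw [hg1, orderOf_one] at hg
  exact hp.one_lt.ne hg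

theorem exists_even_map (s u : Finset (Fin m)) (hm : 5 ≤ m) (h : s.card = u.card) :
    ∃ σ ∈ alternatingGroup (Fin m), s.image σ = u := by
  obtain ⟨e, he⟩ : ∃ e : Perm (Fin m), s.image e = u := by
    have hs : Fintype.card {x // x ∈ s} = Fintype.card {x // x ∈ u} := by simpa using h
    let f := Fintype.equivOfCardEq hs
    refine ⟨f.extendSubtype, Finset.eq_of_subset_of_card_le (fun y hy => ?_)
      (by rw [Finset.card_image_of_injective _ (Equiv.injective _), h])⟩
    obtain ⟨x, hx, rfl⟩ := Finset.mem_image.mp hy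
    exact Equiv.extendSubtype_mem f x hx
  rcases Int.units_eq_one_or (sign e) with hs | hs
  · exact ⟨e, mem_alternatingGroup.mpr hs, he⟩
  · obtain ⟨a, b, hab, habu⟩ : ∃ a b : Fin m, a ≠ b ∧ (a ∈ u ↔ b ∈ u) := by
      by_cases h2 : 1 < u.card
      · obtain ⟨a, ha, b, hb, hab⟩ := Finset.one_lt_card.mp h2
        exact ⟨a, b, hab, by simp [ha, hb]⟩
      · obtain ⟨a, ha, b, hb, hab⟩ := Finset.one_lt_card.mp
          (show 1 < uᶜ.card by rw [Finset.card_compl, Fintype.card_fin]; omega)
        exact ⟨a, b, hab, by simp [Finset.mem_compl.mp ha, Finset.mem_compl.mp hb]⟩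
    refine ⟨swap a b * e, mem_alternatingGroup.mpr (by rw [map_mul, sign_swap hab, hs]; rfl), ?_⟩
    rw [show s.image ⇑(swap a b * e) = (s.image e).image (swap a b) by
      rw [Finset.image_image]; rfl, he]
    ext y
    simp only [Finset.mem_image]
    constructor
    · rintro ⟨x, hx, rfl⟩
      rw [swap_apply_def]; split_ifs with h1 h2
      · subst h1; exact habu.mp hx
      · subst h2; exact habu.mpr hx
      · exact hx
    · intro hy
      refine ⟨swap a b y, ?_, swap_apply_self a b y⟩
      rw [swap_apply_def]; split_ifs with h1 h2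
      · subst h1; exact habu.mp hy
      · subst h2; exact habu.mpr hy
      · exact hy

theorem isCycle_conj_of_replicate {σ τ : Perm (Fin m)} {r : ℕ}
    (h : σ.cycleType = Multiset.replicate 1 r) :
    (τ * σ * τ⁻¹).IsCycle ∧ (τ * σ * τ⁻¹).support.card = r := by
  have hc : (τ * σ * τ⁻¹).cycleType = Multiset.replicate 1 r := by rw [cycleType_conj, h]
  refine ⟨card_cycleType_eq_one.mp (by rw [hc, Multiset.card_replicate]), ?_⟩
  rw [← sum_cycleType, hc, Multiset.sum_replicate, one_smul]

variable {G Ω : Type*} [Group G] [Finite G] [MulAction G Ω] [Finite Ω]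

/-- `A_m` or `S_m` acting primitively, `A_m` not in a point stabiliser. -/
theorem exists_derangement (hm : 5 ≤ m) (φ : G →* Perm (Fin m)) (hφ : Function.Injective φ)
    (hA : alternatingGroup (Fin m) ≤ φ.range) (hprim : IsPreprimitive G Ω) (hΩ : 2 ≤ Nat.card Ω)
    (a : Ω) (hnA : ¬ alternatingGroup (Fin m) ≤ (stabilizer G a).map φ) (r : ℕ) (hr : r.Prime)
    (hrd : r ∣ Nat.card Ω) (hmax : ∀ s : ℕ, s.Prime → s ∣ Nat.card Ω → s ≤ r) :
    ∃ g : G, orderOf g = r ∧ ∀ ω : Ω, g • ω ≠ ω := by
  classical
  haveI := hprim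
  haveI : Nontrivial Ω := Finite.one_lt_card_iff_nontrivial.mp (by omega)
  haveI : Fact r.Prime := ⟨hr⟩
  set H := stabilizer G a with hH
  set H' := H.map φ with hH'
  have hindex : H.index = Nat.card Ω := index_stabilizer_of_transitive G a
  have hGm : Nat.card G ∣ m.factorial := by
    have h := Subgroup.card_dvd_of_injective φ hφ
    rwa [Nat.card_perm, Nat.card_fin] at h
  have hcardH' : Nat.card H' = Nat.card H :=
    (Nat.card_congr (H.equivMapOfInjective φ hφ).toEquiv).symm
  have hnH : Nat.card H * Nat.card Ω = Nat.card G := by rw [← hindex, Subgroup.card_mul_index]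
  have hrG : r ∣ Nat.card G := hrd.trans (hnH ▸ dvd_mul_left _ _)
  have hrm : r ≤ m := hr.dvd_factorial.mp (hrG.trans hGm)
  -- reduction to conjugates
  have finish : ∀ σ ∈ φ.range, orderOf σ = r → (∀ τ : Perm (Fin m), τ * σ * τ⁻¹ ∉ H') →
      ∃ g : G, orderOf g = r ∧ ∀ ω : Ω, g • ω ≠ ω := by
    rintro σ ⟨g, rfl⟩ hσ hno
    refine ⟨g, by rwa [orderOf_injective φ hφ] at hσ, fun ω hω => ?_⟩
    obtain ⟨x, hx⟩ := exists_smul_eq G ω a
    refine hno (φ x) ⟨x * g * x⁻¹, ?_, by simp⟩
    show (x * g * x⁻¹) • a = a
    rw [mul_smul, mul_smul, ← hx, inv_smul_smul, hω]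
  have finish' : ¬ r ∣ Nat.card H → ∃ g : G, orderOf g = r ∧ ∀ ω : Ω, g • ω ≠ ω := by
    intro hnd
    obtain ⟨g, hg⟩ := exists_prime_orderOf_dvd_card' r hrG
    refine finish (φ g) ⟨g, rfl⟩ (by rwa [orderOf_injective φ hφ]) fun τ hmem => hnd ?_
    rw [← hcardH']
    have h1 : orderOf (τ * φ g * τ⁻¹) = r := by
      rw [← MulAut.conj_apply, MulEquiv.orderOf_eq, orderOf_injective φ hφ, hg]
    exact h1 ▸ Subgroup.orderOf_dvd_natCard _ hmem
  by_cases htr : IsPretransitive H' (Fin m)
  · by_cases hprimH : IsPreprimitive H' (Fin m)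
    · -- primitive
      by_cases hr2 : r = 2
      · exfalso
        have h3 : ¬ 3 ∣ Nat.card Ω := fun h => by
          have := hmax 3 Nat.prime_three h; omega
        haveI : Fact (Nat.Prime 3) := ⟨Nat.prime_three⟩
        obtain ⟨σ, hσ, hct, hsup⟩ := exists_perm_replicate (α := Fin m) Nat.prime_three le_rfl
          (by rw [Fintype.card_fin]; omega)
        have hσA : σ ∈ alternatingGroup (Fin m) :=
          (card_support_eq_three_iff.mp (by rw [hsup])).mem_alternatingGroup
        obtain ⟨g, hg⟩ := hA hσA
        have hg3 : orderOf g = 3 := by rw [← orderOf_injective φ hφ, hg, hσ]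
        have hP : IsPGroup 3 (Subgroup.zpowers g) :=
          IsPGroup.of_card (n := 1) (by rw [Nat.card_zpowers, hg3, pow_one])
        obtain ⟨ω, hω⟩ := hP.nonempty_fixed_point_of_prime_not_dvd_card Ω h3
        have hgω : g • ω = ω := hω ⟨g, Subgroup.mem_zpowers g⟩
        obtain ⟨x, hx⟩ := exists_smul_eq G ω a
        have hmem : φ x * σ * (φ x)⁻¹ ∈ H' := ⟨x * g * x⁻¹, by
          show (x * g * x⁻¹) • a = a
          rw [mul_smul, mul_smul, ← hx, inv_smul_smul, hgω], by simp [hg]⟩
        exact hnA (alternatingGroup_le_of_isPreprimitive_of_isThreeCycle_mem hprimH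
          (card_support_eq_three_iff.mp (isCycle_conj_of_replicate hct).2) hmem)
      · obtain ⟨σ, hσ, hct, hsup⟩ := exists_perm_replicate (α := Fin m) hr le_rfl
          (by rw [Fintype.card_fin]; omega)
        have hσA : σ ∈ alternatingGroup (Fin m) := by
          rw [mem_alternatingGroup, sign_of_cycleType_eq_replicate hr.pos
            (by rw [hct, Multiset.card_replicate]), if_pos (hr.odd_of_ne_two hr2)]
        by_cases hall : ∀ τ : Perm (Fin m), τ * σ * τ⁻¹ ∉ H'
        · exact finish σ (hA hσA) hσ hall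
        · push Not at hall
          obtain ⟨τ, hτ⟩ := hall
          by_cases h3 : r + 3 ≤ m
          · exact absurd (H58.alternating_le_of_prime_cycle H' hprimH hr
              (by rwa [Fintype.card_fin]) (isCycle_conj_of_replicate hct).1
              (isCycle_conj_of_replicate hct).2 hτ) hnA
          · refine finish' fun hd => sq_not_dvd_factorial hr m ?_
              ((Nat.mul_dvd_mul hd hrd).trans (hnH ▸ hGm))
            have : 3 ≤ r := by have := hr.two_le; omega
            omega
    · -- imprimitive
      obtain ⟨p, hp, hp1, hp2⟩ := Nat.exists_prime_lt_and_le_two_mul (m / 2) (by omega)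
      have hbig : m < 2 * p := by omega
      have hpm : p ≤ m := by omega
      haveI : Fact p.Prime := ⟨hp⟩
      obtain ⟨σ, hσ, hct, hsup⟩ := exists_perm_replicate (α := Fin m) hp le_rfl
        (by rw [Fintype.card_fin]; omega)
      have hσA : σ ∈ alternatingGroup (Fin m) := by
        rw [mem_alternatingGroup, sign_of_cycleType_eq_replicate hp.pos
          (by rw [hct, Multiset.card_replicate]), if_pos (hp.odd_of_ne_two (by omega))]
      obtain ⟨g, hg⟩ := hA hσA
      have hpG : p ∣ Nat.card G := by
        rw [← hσ, ← hg, orderOf_injective φ hφ]; exact orderOf_dvd_natCard g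
      have hpH : ¬ p ∣ Nat.card H := hcardH' ▸ not_dvd_of_imprimitive H' htr hprimH hp hbig
      rw [← hnH] at hpG
      have hpr : p ≤ r := hmax p hp ((hp.dvd_mul.mp hpG).resolve_left hpH)
      exact finish' (hcardH' ▸ not_dvd_of_imprimitive H' htr hprimH hr (by omega))
  · -- intransitive
    have hm0 : 0 < m := by omega
    set z : Fin m := ⟨0, hm0⟩
    obtain ⟨s₀, hs₀, hs₀1, hs₀2⟩ : ∃ s : Finset (Fin m),
        (∀ h ∈ H', s.image ⇑h = s) ∧ 1 ≤ s.card ∧ 2 * s.card ≤ m := by
      set O := Finset.univ.filter fun x => x ∈ orbit H' z with hO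
      have hinv : ∀ h ∈ H', O.image ⇑h = O := by
        intro h hh
        refine Finset.eq_of_subset_of_card_le (fun y hy => ?_)
          (by rw [Finset.card_image_of_injective _ h.injective])
        obtain ⟨x, hx, rfl⟩ := Finset.mem_image.mp hy
        simp only [hO, Finset.mem_filter, Finset.mem_univ, true_and] at hx ⊢
        obtain ⟨k, rfl⟩ := hx
        exact ⟨⟨h, hh⟩ * k, mul_smul _ _ _⟩
      have hne : 1 ≤ O.card := Finset.card_pos.mpr ⟨z, by simp [hO]⟩
      have hlt : O.card < m := by
        by_contra hge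
        have hu : O = Finset.univ := Finset.eq_univ_of_card _ (by
          have := Finset.card_le_univ O
          rw [Fintype.card_fin] at this ⊢
          omega)
        apply htr
        rw [isPretransitive_iff_base z]
        intro x
        have hx : x ∈ O := by rw [hu]; exact Finset.mem_univ x
        simp only [hO, Finset.mem_filter, Finset.mem_univ, true_and] at hx
        exact hx
      by_cases h2 : 2 * O.card ≤ m
      · exact ⟨O, hinv, hne, h2⟩
      · refine ⟨Oᶜ, fun h hh => ?_, ?_, ?_⟩
        · refine Finset.eq_of_subset_of_card_le (fun y hy => ?_)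
            (by rw [Finset.card_image_of_injective _ h.injective])
          obtain ⟨x, hx, rfl⟩ := Finset.mem_image.mp hy
          refine Finset.mem_compl.mpr fun hmem => Finset.mem_compl.mp hx ?_
          rw [← hinv h hh] at hmem
          obtain ⟨x', hx', he⟩ := Finset.mem_image.mp hmem
          exact h.injective he ▸ hx'
        · rw [Finset.card_compl, Fintype.card_fin]; omega
        · rw [Finset.card_compl, Fintype.card_fin]; omega
    set k := s₀.card with hk
    let K : Subgroup G :=
      { carrier := {g | s₀.image (φ g) = s₀}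
        one_mem' := by simp
        mul_mem' := fun {x y} hx hy => by
          simp only [Set.mem_ofPred_eq] at hx hy ⊢
          rw [map_mul, Perm.coe_mul, ← Finset.image_image, hy, hx]
        inv_mem' := fun {x} hx => by
          simp only [Set.mem_ofPred_eq] at hx ⊢
          conv_lhs => rw [← hx]
          rw [Finset.image_image, map_inv]
          simp }
    have hHK : H ≤ K := fun h hh => hs₀ (φ h) ⟨h, hh, rfl⟩
    have hKtop : K ≠ ⊤ := by
      intro htop
      obtain ⟨x, hx⟩ := Finset.card_pos.mp hs₀1
      obtain ⟨y, hy⟩ := Finset.card_pos.mp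
        (show 0 < s₀ᶜ.card by rw [Finset.card_compl, Fintype.card_fin]; omega)
      obtain ⟨σ, hσ, hσs⟩ := exists_even_map {x} {y} hm (by simp)
      obtain ⟨g, rfl⟩ := hA hσ
      have hg : g ∈ K := htop ▸ Subgroup.mem_top g
      have hg' : s₀.image (φ g) = s₀ := hg
      have h1 : φ g x = y := by simpa using hσs
      exact Finset.mem_compl.mp hy (hg' ▸ h1 ▸ Finset.mem_image_of_mem (φ g) hx)
    have hK : K = H := by
      by_contra hne
      exact hKtop ((IsPreprimitive.isCoatom_stabilizer_of_isPreprimitive G a).2 K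
        (lt_of_le_of_ne hHK (Ne.symm hne)))
    -- the points are the k-sets
    have hrep : ∀ ω : Ω, ∃ g : G, g • a = ω := fun ω => exists_smul_eq G a ω
    choose rep hrep using hrep
    let f : Ω → {u : Finset (Fin m) // u ∈ Finset.powersetCard k Finset.univ} := fun ω =>
      ⟨s₀.image (φ (rep ω)), Finset.mem_powersetCard.mpr ⟨Finset.subset_univ _,
        by rw [Finset.card_image_of_injective _ (φ (rep ω)).injective]⟩⟩
    have hfeq : ∀ x y : G, s₀.image (φ x) = s₀.image (φ y) ↔ x • a = y • a := by
      intro x y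
      have h1 : y⁻¹ * x ∈ K ↔ s₀.image (φ x) = s₀.image (φ y) := by
        show s₀.image (φ (y⁻¹ * x)) = s₀ ↔ _
        rw [map_mul, Perm.coe_mul, ← Finset.image_image]
        constructor
        · intro h
          have := congrArg (Finset.image (φ y)) h
          rw [Finset.image_image, map_inv] at this
          simpa using this
        · intro h
          rw [h, Finset.image_image, map_inv]
          simp
      rw [← h1, hK, hH, mem_stabilizer_iff, mul_smul, inv_smul_eq_iff]
    have hfb : Function.Bijective f := by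
      constructor
      · intro x y hxy
        rw [← hrep x, ← hrep y]
        exact (hfeq _ _).mp (congrArg Subtype.val hxy)
      · rintro ⟨u, hu⟩
        obtain ⟨σ, hσ, hσu⟩ := exists_even_map s₀ u hm (Finset.mem_powersetCard.mp hu).2.symm
        obtain ⟨g, rfl⟩ := hA hσ
        refine ⟨g • a, Subtype.ext ?_⟩
        show s₀.image (φ (rep (g • a))) = u
        rw [(hfeq _ g).mpr (hrep _), hσu]
    have hn : Nat.card Ω = m.choose k := by
      rw [Nat.card_congr (Equiv.ofBijective f hfb), Nat.card_eq_fintype_card, Fintype.card_coe,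
        Finset.card_powersetCard, Finset.card_univ, Fintype.card_fin]
    rw [hn] at hrd hmax
    obtain ⟨hbig, hmod⟩ := ChoosePrime.mod_lt_mod_of_largest hs₀1 hs₀2 hr hrd hmax
    obtain ⟨σ, hσ, hct, hsup⟩ := exists_perm_replicate (α := Fin m) hr
      (Nat.div_pos hrm hr.pos) (by rw [Fintype.card_fin]; exact Nat.div_mul_le_self m r)
    have hσA : σ ∈ alternatingGroup (Fin m) := by
      rcases eq_or_ne r 2 with rfl | hr2
      · have h4 : 4 ∣ m := by
          have hk1 : k = 1 := by omega
          rw [hk1, Nat.choose_one_right] at hrd hmax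
          obtain ⟨c, rfl⟩ := hrd
          rcases Nat.even_or_odd c with ⟨d, rfl⟩ | hc
          · exact ⟨d, by ring⟩
          · exfalso
            obtain ⟨q, hq, hqd⟩ := Nat.exists_prime_and_dvd (show c ≠ 1 by omega)
            have hq2 : q = 2 := le_antisymm (hmax q hq (hqd.trans (dvd_mul_left _ _))) hq.two_le
            subst hq2
            exact Nat.not_even_iff_odd.mpr hc (even_iff_two_dvd.mpr hqd)
        rw [mem_alternatingGroup, sign_of_cycleType, hct, Multiset.sum_replicate,
          Multiset.card_replicate, smul_eq_mul]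
        obtain ⟨c, rfl⟩ := h4
        exact Even.neg_one_pow (by rw [Nat.even_iff]; omega)
      · rw [mem_alternatingGroup, sign_of_cycleType_eq_replicate hr.pos
          (by rw [hct, Multiset.card_replicate]), if_pos (hr.odd_of_ne_two hr2)]
    refine finish σ (hA hσA) hσ fun τ hmem => ?_
    have himg := hs₀ _ hmem
    have hord : orderOf (τ * σ * τ⁻¹) = r := by
      rw [← MulAut.conj_apply, MulEquiv.orderOf_eq, hσ]
    have h1 := mod_le_card_fixed hr hord s₀ himg
    have hle : (s₀.filter fun x => (τ * σ * τ⁻¹) x = x) ⊆ (τ * σ * τ⁻¹).supportᶜ := fun x hx => by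
      simp only [Finset.mem_filter] at hx
      rw [Finset.mem_compl, Equiv.Perm.notMem_support]
      exact hx.2
    have h2 := Finset.card_le_card hle
    rw [Finset.card_compl, Fintype.card_fin, ← sum_cycleType, cycleType_conj, hct,
      Multiset.sum_replicate, smul_eq_mul] at h2
    have := Nat.div_add_mod' m r
    rw [← hk] at h1
    omega

end H60.AltSocle
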