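import Mathlib.GroupTheory.GroupAction.Primitive
import Mathlib.GroupTheory.GroupAction.MultipleTransitivity
import Mathlib.GroupTheory.SpecificGroups.Cyclic
import Mathlib.Algebra.CharP.Lemmas
import Mathlib.Algebra.MonoidAlgebra.Basic
import Mathlib.GroupTheory.Perm.Cycle.Type
import Mathlib.Algebra.CharP.Algebra
import Mathlib.Data.ZMod.Basic

/-! Schur's method: orbits of a point stabiliser read inside a regular subgroup. -/

set_option autoImplicit false

namespace H60.SRing

open MulAction

variable {G Ω : Type*} [Group G] [MulAction G Ω] {R : Subgroup G} {a : Ω}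

/-- A set of a regular subgroup invariant under the point stabiliser. -/
def StabInvariant (R : Subgroup G) (a : Ω) (T : Set R) : Prop :=
  ∀ g ∈ stabilizer G a, ∀ x y : R, g • x • a = y • a → x ∈ T → y ∈ T

variable (hb : Function.Bijective fun c : R => c • a)

/-- The permutation of `R` induced by `g`. -/
noncomputable def tr (g : G) (x : R) : R :=
  (Equiv.ofBijective _ hb).symm (g • x • a)

theorem tr_spec (g : G) (x : R) : tr hb g x • a = g • x • a :=
  (Equiv.ofBijective _ hb).apply_symm_apply (g • x • a)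

theorem tr_eq_of (g : G) (x y : R) (h : g • x • a = y • a) : tr hb g x = y :=
  hb.1 ((tr_spec hb g x).trans h)

theorem tr_bijective [Finite R] (g : G) : Function.Bijective (tr hb g) := by
  refine Finite.injective_iff_bijective.mp fun x y h => hb.1 ?_
  have := congrArg (fun z : R => z • a) h
  simp only [tr_spec] at this
  exact smul_left_cancel g this

theorem tr_one_of_mem {g : G} (hg : g ∈ stabilizer G a) : tr hb g 1 = 1 :=
  tr_eq_of hb g 1 1 (by simp only [one_smul]; exact hg)

/-- Invariant sets give invariant binary relations. -/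
theorem tr_rel {T : Set R} (hT : StabInvariant R a T) (g : G) (x y : R) (h : x⁻¹ * y ∈ T) :
    (tr hb g x)⁻¹ * tr hb g y ∈ T := by
  refine hT (((tr hb g x : R) : G)⁻¹ * g * (x : G)) ?_ (x⁻¹ * y) _ ?_ h
  · rw [mem_stabilizer_iff, mul_smul, mul_smul, inv_smul_eq_iff]
    exact (tr_spec hb g x).symm
  · rw [mul_smul ((tr hb g x)⁻¹) _ a, tr_spec hb g y]
    simp only [Subgroup.smul_def, Subgroup.coe_inv, Subgroup.coe_mul, mul_smul, smul_inv_smul]

include hb

/-- An invariant subgroup of a regular subgroup of a primitive group is trivial. -/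
theorem eq_bot_or_top [IsPreprimitive G Ω] [Nontrivial Ω] (L : Subgroup R)
    (hL : StabInvariant R a (L : Set R)) : L = ⊥ ∨ L = ⊤ := by
  classical
  by_cases h : L = ⊥
  · exact Or.inl h
  right
  obtain ⟨⟨c, hc⟩, hc1⟩ := (Subgroup.ne_bot_iff_exists_ne_one).mp h
  let U : Subgroup G :=
    { carrier := {g | ∀ x : Ω, g • x ∈ (fun l : R => l • a) '' (L : Set R) ↔ x ∈ (fun l : R => l • a) '' (L : Set R)}
      one_mem' := fun x => by rw [one_smul]
      mul_mem' := fun {g h} hg hh x => by rw [mul_smul]; exact (hg _).trans (hh x)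
      inv_mem' := fun {g} hg x => by
        have := hg (g⁻¹ • x)
        rw [smul_inv_smul] at this
        exact this.symm }
  have hfwd : ∀ g ∈ stabilizer G a, ∀ x ∈ (fun l : R => l • a) '' (L : Set R),
      g • x ∈ (fun l : R => l • a) '' (L : Set R) := by
    rintro g hg _ ⟨l, hl, rfl⟩
    exact ⟨tr hb g l, hL g hg l _ (tr_spec hb g l).symm hl, tr_spec hb g l⟩
  have hle : stabilizer G a ≤ U := fun g hg x => ⟨fun hx => by
    have := hfwd g⁻¹ (inv_mem hg) _ hx
    rwa [inv_smul_smul] at this, hfwd g hg x⟩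
  have hfwd2 : ∀ d ∈ L, ∀ x ∈ (fun l : R => l • a) '' (L : Set R),
      (d : G) • x ∈ (fun l : R => l • a) '' (L : Set R) := by
    rintro d hd _ ⟨l, hl, rfl⟩
    exact ⟨d * l, L.mul_mem hd hl, mul_smul d l a⟩
  have hcU : (c : G) ∈ U := fun x => ⟨fun hx => by
    have := hfwd2 c⁻¹ (L.inv_mem hc) _ hx
    rwa [Subgroup.coe_inv, inv_smul_smul] at this, hfwd2 c hc x⟩
  have htop : U = ⊤ := by
    refine (IsPreprimitive.isCoatom_stabilizer_of_isPreprimitive G a).2 U (lt_of_le_of_ne hle fun he => ?_)
    have hca : (c : G) • a = a := mem_stabilizer_iff.mp (he.ge hcU)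
    exact hc1 (Subtype.ext (hb.1 (show (c : R) • a = (1 : R) • a by rw [one_smul]; exact hca)))
  rw [eq_top_iff]
  intro d _
  have hmem : (d : G) ∈ U := by rw [htop]; trivial
  obtain ⟨l, hl, hla⟩ := (hmem a).mpr ⟨1, L.one_mem, one_smul _ a⟩
  exact hb.1 hla ▸ hl

/-- An invariant set generates an invariant subgroup. -/
theorem invariant_closure {U : Set R} (hU : StabInvariant R a U) :
    StabInvariant R a (Subgroup.closure U : Set R) := by
  intro g hg x y hxy hx
  rw [← tr_eq_of hb g x y hxy]
  clear hxy y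
  induction hx using Subgroup.closure_induction_right with
  | one => rw [tr_one_of_mem hb hg]; exact one_mem _
  | mul_right x hx u hu ih =>
    have h := tr_rel hb hU g x (x * u) (by rwa [inv_mul_cancel_left])
    have h2 := Subgroup.mul_mem _ ih (Subgroup.subset_closure h)
    rwa [mul_inv_cancel_left] at h2
  | mul_inv_cancel x hx u hu ih =>
    have h := tr_rel hb hU g (x * u⁻¹) x (by rwa [mul_inv_rev, inv_inv, mul_assoc, inv_mul_cancel, mul_one])
    have h2 := Subgroup.mul_mem _ ih (Subgroup.inv_mem _ (Subgroup.subset_closure h))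
    rwa [mul_inv_rev, inv_inv, mul_inv_cancel_left] at h2

/-- An invariant set not containing `1`, other than `∅` and `R∖1`, is moved by every nontrivial translation. -/
theorem translate_trivial [IsPreprimitive G Ω] [Nontrivial Ω] [Finite R] {T : Set R} (hT : StabInvariant R a T)
    (h1 : (1 : R) ∉ T) (hne : T.Nonempty) (c : R) (hc : ∀ t, c * t ∈ T ↔ t ∈ T) : c = 1 := by
  let L : Subgroup R :=
    { carrier := {d | ∀ t, d * t ∈ T ↔ t ∈ T}
      one_mem' := fun t => by rw [one_mul]
      mul_mem' := fun {d e} hd he t => by rw [mul_assoc]; exact (hd _).trans (he t)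
      inv_mem' := fun {d} hd t => by
        have := hd (d⁻¹ * t)
        rw [mul_inv_cancel_left] at this
        exact this.symm }
  have hL : StabInvariant R a (L : Set R) := by
    intro g hg d d' hdd hd t
    -- compare the rows of `1` and `d`
    have hrow : ∀ z, d⁻¹ * z ∈ T ↔ z ∈ T := fun z => by
      have h := hd (d⁻¹ * z)
      rw [mul_inv_cancel_left] at h
      exact h.symm
    obtain ⟨z, hz⟩ := (tr_bijective hb g).2 (d' * t)
    have hd' : tr hb g d = d' := tr_eq_of hb g d d' hdd
    have hback : ∀ u v : R, (tr hb g u)⁻¹ * tr hb g v ∈ T → u⁻¹ * v ∈ T := fun u v h => by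
      have := tr_rel hb hT g⁻¹ _ _ h
      rwa [tr_eq_of hb g⁻¹ (tr hb g u) u (by rw [tr_spec, inv_smul_smul]),
        tr_eq_of hb g⁻¹ (tr hb g v) v (by rw [tr_spec, inv_smul_smul])] at this
    constructor
    · intro h
      have h2 := hback 1 z (by rwa [tr_one_of_mem hb hg, inv_one, one_mul, hz])
      rw [inv_one, one_mul] at h2
      have h3 := tr_rel hb hT g d z ((hrow z).mpr h2)
      rwa [hd', hz, inv_mul_cancel_left] at h3
    · intro h
      have h2 := hback d z (by rwa [hd', hz, inv_mul_cancel_left])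
      have h3 := tr_rel hb hT g 1 z (by rw [inv_one, one_mul]; exact (hrow z).mp h2)
      rwa [tr_one_of_mem hb hg, hz, inv_one, one_mul] at h3
  rcases eq_bot_or_top hb L hL with h | h
  · exact Subgroup.mem_bot.mp (h ▸ (hc : c ∈ L))
  · obtain ⟨t, ht⟩ := hne
    have hmem : t⁻¹ ∈ L := by rw [h]; trivial
    exact absurd (by simpa using (hmem t).mpr ht) h1

omit hb in
/-- The orbits of the stabiliser are invariant. -/
theorem invariant_orbit (t : R) :
    StabInvariant R a {x : R | x • a ∈ orbit (stabilizer G a) (t • a)} := by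
  rintro g hg x y hxy ⟨⟨h, hh⟩, hx⟩
  exact ⟨⟨g * h, mul_mem hg hh⟩, by
    show (g * h) • t • a = y • a
    rw [mul_smul, ← hxy]
    exact congrArg (g • ·) hx⟩

/-- Schur: the `p`-th powers with multiplicity prime to `p` form an invariant set. -/
theorem invariant_pow [Fintype R] (hab : ∀ x y : R, x * y = y * x) (p : ℕ) [hp : Fact p.Prime]
    {T : Set R} (hT : StabInvariant R a T) :
    StabInvariant R a {y : R | ¬ p ∣ Nat.card {t : R // t ∈ T ∧ t ^ p = y}} := by
  classical
  letI : CommGroup R := { (inferInstance : Group R) with mul_comm := hab }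
  let X : MonoidAlgebra (ZMod p) R := ∑ t ∈ Finset.univ.filter (· ∈ T), MonoidAlgebra.single t 1
  have hstep : ∀ (k : ℕ) (y : R), (X ^ (k + 1)).coeff y =
      ∑ t ∈ Finset.univ.filter (· ∈ T), (X ^ k).coeff (y * t⁻¹) := by
    intro k y
    rw [pow_succ, Finset.mul_sum]
    simp [MonoidAlgebra.coeff_sum, MonoidAlgebra.coeff_mul_single_apply]
  have hinv : ∀ (k : ℕ), ∀ g ∈ stabilizer G a, ∀ y, (X ^ k).coeff (tr hb g y) = (X ^ k).coeff y := by
    intro k
    induction k with
    | zero =>
      intro g hg y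
      rw [pow_zero, MonoidAlgebra.one_def, MonoidAlgebra.coeff_single, Finsupp.single_apply, Finsupp.single_apply]
      refine if_congr ?_ rfl rfl
      constructor
      · intro h
        exact (tr_bijective hb g).1 ((tr_one_of_mem hb hg).trans h)
      · rintro rfl
        exact (tr_one_of_mem hb hg).symm
    | succ k ih =>
      intro g hg y
      rw [hstep, hstep]
      refine (Finset.sum_nbij (fun t => (tr hb g (y * t⁻¹))⁻¹ * tr hb g y) ?_ ?_ ?_ ?_).symm
      · intro t ht
        simp only [Finset.mem_filter, Finset.mem_univ, true_and] at ht ⊢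
        exact tr_rel hb hT g _ _ (by rwa [mul_inv_rev, inv_inv, mul_assoc, inv_mul_cancel, mul_one])
      · intro t _ t' _ h
        exact inv_injective (mul_left_cancel ((tr_bijective hb g).1 (inv_injective (mul_right_cancel h))))
      · intro s hs
        simp only [Finset.coe_filter, Finset.mem_univ, true_and, Set.mem_ofPred_eq] at hs
        obtain ⟨z, hz⟩ := (tr_bijective hb g).2 (tr hb g y * s⁻¹)
        refine ⟨z⁻¹ * y, ?_, ?_⟩
        · simp only [Finset.coe_filter, Finset.mem_univ, true_and, Set.mem_ofPred_eq]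
          have := tr_rel hb hT g⁻¹ (tr hb g z) (tr hb g y) (by rwa [hz, mul_inv_rev, inv_inv, mul_assoc, inv_mul_cancel, mul_one])
          rwa [tr_eq_of hb g⁻¹ (tr hb g z) z (by rw [tr_spec, inv_smul_smul]),
            tr_eq_of hb g⁻¹ (tr hb g y) y (by rw [tr_spec, inv_smul_smul])] at this
        · show (tr hb g (y * (z⁻¹ * y)⁻¹))⁻¹ * tr hb g y = s
          rw [mul_inv_rev, inv_inv, mul_inv_cancel_left, hz, mul_inv_rev, inv_inv, mul_assoc, inv_mul_cancel, mul_one]
      · intro t _
        rw [mul_inv_rev, inv_inv, mul_inv_cancel_left, ih g hg]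
  haveI : CharP (MonoidAlgebra (ZMod p) R) p :=
    charP_of_injective_ringHom (f := MonoidAlgebra.singleOneRingHom) (fun x y h => by
      simpa using congrArg (fun z : MonoidAlgebra (ZMod p) R => z.coeff 1) h) p
  have hcoef : ∀ y : R, (X ^ p).coeff y = (Nat.card {t : R // t ∈ T ∧ t ^ p = y} : ZMod p) := by
    intro y
    rw [sum_pow_char, Nat.card_eq_fintype_card, Fintype.card_subtype, Finset.card_filter, Nat.cast_sum]
    simp only [MonoidAlgebra.single_pow, one_pow, MonoidAlgebra.coeff_sum, MonoidAlgebra.coeff_single,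
      Finsupp.coe_finsetSum, Finset.sum_apply, Finsupp.single_apply, Finset.sum_filter]
    refine Finset.sum_congr rfl fun t _ => ?_
    by_cases h1 : t ∈ T <;> simp [h1, Finsupp.single_apply]
  intro g hg x y hxy hx
  simp only [Set.mem_ofPred_eq] at hx ⊢
  rw [← ZMod.natCast_eq_zero_iff _ p, ← hcoef] at hx ⊢
  rw [← tr_eq_of hb g x y hxy, hinv p g hg]
  exact hx

end H60.SRing
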