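import Cfsg.Agent.H60.PrincipalPrimeDeg
import Cfsg.Agent.H12.Glauberman
import Cfsg.Agent.H12.CoprimeCount
import Cfsg.Agent.H14.GallagherExt
import Cfsg.Agent.H13.Correspondence
import Cfsg.Agent.H27.ConjUnion

/-!
Degrees in the principal blocks for two primes and commuting Sylow subgroups.
-/

set_option autoImplicit false
set_option linter.unusedSectionVars false
set_option linter.style.haveILetI false

open Cfsg

namespace H60.BlockComm

universe u

variable {G : Type u} [Group G] [Finite G] {p q : ℕ} [Fact p.Prime] [Fact q.Prime]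

/-- `¬ q ∣ χ(1)` whenever `¬ p ∣ χ(1)`. -/
def DegHyp (p q : ℕ) (G : Type u) [Group G] : Prop :=
  ∀ χ : IrrCharacter G, ¬ p ∣ charDegree (χ : G → ℂ) → ¬ q ∣ charDegree (χ : G → ℂ)

theorem charDegree_inflate {N : Subgroup G} [N.Normal] (χ : IrrCharacter (G ⧸ N)) :
    charDegree (H21.inflate N χ : G → ℂ) = charDegree (χ : G ⧸ N → ℂ) := by
  have h1 := H22.irr_one_eq_charDegree (H21.inflate N χ)
  rw [H21.inflate_apply, QuotientGroup.mk_one, H22.irr_one_eq_charDegree] at h1
  exact_mod_cast h1.symm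

theorem DegHyp.quotient (h : DegHyp p q G) (N : Subgroup G) [N.Normal] :
    DegHyp p q (G ⧸ N) := fun χ hχ => by
  rw [← charDegree_inflate χ] at hχ ⊢
  exact h _ hχ

/-- A character of degree prime to `p` over a given one. -/
theorem exists_over {U B : Subgroup G} (hBU : B ≤ U) (σ : IrrCharacter U) (θ : IrrCharacter B)
    (hσd : ¬ p ∣ charDegree (σ : U → ℂ)) (hidx : ¬ p ∣ U.index) [Fintype B]
    (hres : ∀ b : B, (σ : U → ℂ) ⟨(b : G), hBU b.2⟩ = (θ : B → ℂ) b) :
    ∃ χ : IrrCharacter G, ¬ p ∣ charDegree (χ : G → ℂ) ∧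
      classInner (fun b : B => (χ : G → ℂ) b) (θ : B → ℂ) ≠ 0 := by
  classical
  haveI := Fintype.ofFinite G
  haveI := Fintype.ofFinite U
  obtain ⟨c, hc⟩ := H12.IsCharacter.exists_mult (H12.IsCharacter.indFun (H := U)
    (H12.isCharacter_irr σ))
  have hdeg : ∑ χ : IrrCharacter G, c χ * charDegree (χ : G → ℂ) =
      U.index * charDegree (σ : U → ℂ) := by
    have h1 := congrFun hc 1
    rw [H12.indFun_one, H22.irr_one_eq_charDegree, Finset.sum_apply] at h1
    simp only [Pi.smul_apply, smul_eq_mul, H22.irr_one_eq_charDegree] at h1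
    exact_mod_cast h1.symm
  obtain ⟨χ, hcχ, hχd⟩ : ∃ χ : IrrCharacter G, c χ ≠ 0 ∧ ¬ p ∣ charDegree (χ : G → ℂ) := by
    by_contra! hall
    have hd : p ∣ U.index * charDegree (σ : U → ℂ) := by
      rw [← hdeg]
      refine Finset.dvd_sum fun χ _ => ?_
      by_cases h : c χ = 0
      · simp [h]
      · exact dvd_mul_of_dvd_right (hall χ h) _
    exact ((Fact.out : p.Prime).dvd_mul.1 hd).elim hidx hσd
  refine ⟨χ, hχd, ?_⟩
  have hinner : classInner (σ : U → ℂ) (fun h : U => (χ : G → ℂ) h) = (c χ : ℂ) := by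
    rw [← H12.classInner_indFun U (σ : U → ℂ) (H12.irr_isClassFunction χ), hc,
      H12.classInner_sum_smul_irr]
  have hmult : H12.Glauberman.mult U χ σ = c χ := by
    refine H12.Glauberman.mult_eq_of_classInner U ?_
    rw [← H12.conj_classInner, hinner, Complex.conj_natCast]
  set emb : B →* U := Subgroup.inclusion hBU with hemb
  have hdecomp : (fun b : B => (χ : G → ℂ) b) =
      ∑ γ : IrrCharacter U, (H12.Glauberman.mult U χ γ : ℂ) • fun b : B => (γ : U → ℂ) (emb b) := by
    funext b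
    rw [Finset.sum_apply]
    simpa [hemb] using H12.Glauberman.res_apply_eq_sum U χ (emb b)
  rw [hdecomp, H12.classInner_sum_left]
  simp only [H12.classInner_smul_left]
  have hnat : ∀ γ : IrrCharacter U, ∃ n : ℕ,
      classInner (fun b : B => (γ : U → ℂ) (emb b)) (θ : B → ℂ) = n := by
    intro γ
    obtain ⟨n, ρ, hρ, hργ⟩ := γ.2
    exact H12.IsCharacter.classInner_nat ⟨n, ρ.comp emb, funext fun b => congrFun hργ (emb b)⟩
      (H12.isCharacter_irr θ)
  choose m hm using hnat
  simp only [hm, ← Nat.cast_mul, ← Nat.cast_sum, Ne, Nat.cast_eq_zero]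
  have hσ : m σ = 1 := by
    have h1 := hm σ
    rw [show (fun b : B => (σ : U → ℂ) (emb b)) = (θ : B → ℂ) from funext hres,
      H12.classInner_irr_self] at h1
    exact_mod_cast h1.symm
  intro h0
  have := (Finset.sum_eq_zero_iff.1 h0) σ (Finset.mem_univ _)
  rw [hmult, hσ, mul_one] at this
  exact hcχ this

/-- The inertia group has index prime to `q`. -/
theorem not_dvd_inertia {B : Subgroup G} [B.Normal] [Fintype B] (h : DegHyp p q G)
    (θ : IrrCharacter B)
    (hex : ∃ χ : IrrCharacter G, ¬ p ∣ charDegree (χ : G → ℂ) ∧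
      classInner (fun b : B => (χ : G → ℂ) b) (θ : B → ℂ) ≠ 0) :
    ¬ q ∣ (H13.inertia B (θ : B → ℂ)).index := by
  haveI := Fintype.ofFinite G
  obtain ⟨χ, hd, hne⟩ := hex
  have hdeg := H13.clifford_degree B χ.2 θ.2 hne
  obtain ⟨m, hm⟩ := H12.IsCharacter.classInner_nat
    (H12.IsCharacter.res (H12.isCharacter_irr χ) B) (H12.isCharacter_irr θ)
  rw [hm, H22.irr_one_eq_charDegree, H22.irr_one_eq_charDegree θ] at hdeg
  have hdeg' : charDegree (χ : G → ℂ) =
      m * (H13.inertia B (θ : B → ℂ)).index * charDegree (θ : B → ℂ) := by exact_mod_cast hdeg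
  intro hq
  exact h χ hd (hdeg' ▸ dvd_mul_of_dvd_left (dvd_mul_of_dvd_right hq _) _)

theorem card_irr_degree_dvd {H : Type u} [Group H] [Finite H] (θ : IrrCharacter H) :
    charDegree (θ : H → ℂ) ∣ Nat.card H :=
  H22.charDegree_dvd_card θ

/-- An invariant character of a normal `p'`-subgroup extends over a `p`-subgroup. -/
theorem exists_extension_sup (B : Subgroup G) [B.Normal] (hB : ¬ p ∣ Nat.card B) (P : Subgroup G)
    (hP : IsPGroup p P) (θ : IrrCharacter B) (hfix : P ≤ H13.inertia B (θ : B → ℂ)) :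
    ∃ σ : IrrCharacter (B ⊔ P : Subgroup G), ¬ p ∣ charDegree (σ : (B ⊔ P : Subgroup G) → ℂ) ∧
      ∀ b : B, (σ : (B ⊔ P : Subgroup G) → ℂ) ⟨(b : G), Subgroup.mem_sup_left b.2⟩ =
        (θ : B → ℂ) b := by
  classical
  set U : Subgroup G := B ⊔ P with hU
  set B' := B.subgroupOf U with hB'
  let e : B' ≃* B := Subgroup.subgroupOfEquivOfLe (le_sup_left : B ≤ U)
  let θ' : IrrCharacter B' := H12.irrCongr e θ
  have hle : U ≤ H13.inertia B (θ : B → ℂ) :=
    sup_le (H13.le_inertia B (H12.irr_isClassFunction θ)) hfix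
  have hidx : ∃ k, B'.index = p ^ k := by
    obtain ⟨k, hk⟩ := hP.index ((B ⊓ P).subgroupOf P)
    rw [← Subgroup.relIndex, Subgroup.inf_relIndex_right] at hk
    refine ⟨k, ?_⟩
    show B.relIndex (B ⊔ P) = _
    rw [sup_comm, Subgroup.relIndex_sup_right, hk]
  obtain ⟨k, hk⟩ := hidx
  have hcardB : Nat.card B' = Nat.card B := Nat.card_congr e.toEquiv
  have hdd : ¬ p ∣ charDegree (θ' : B' → ℂ) := fun hd =>
    hB (hcardB ▸ hd.trans (card_irr_degree_dvd θ'))
  have hdo : ¬ p ∣ detOrder (θ' : B' → ℂ) := fun hd =>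
    hB (hcardB ▸ hd.trans (H12.CoprimeCount.detOrder_dvd_card θ'.2))
  obtain ⟨σ, ⟨hσ, hres, -⟩, -⟩ := H14.exists_canonical_extension B' (θ' : B' → ℂ) θ'.2
    (fun g n => by
      have h1 := congrFun ((H13.mem_inertia B).1 (hle g.2)) (e n)
      rw [H13.twist_apply] at h1
      show (θ : B → ℂ) _ = (θ : B → ℂ) _
      exact (congrArg (θ : B → ℂ) (Subtype.ext rfl)).trans h1)
    (charDegree (θ' : B' → ℂ)) (H22.irr_one_eq_charDegree θ')
    (by
      rw [hk]
      exact Nat.Coprime.pow_left k (((Fact.out : p.Prime).coprime_iff_not_dvd).2 fun h =>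
        ((Fact.out : p.Prime).dvd_mul.1 h).elim hdo hdd))
  refine ⟨⟨σ, hσ⟩, ?_, fun b => ?_⟩
  · have h1 : (charDegree σ : ℂ) = (charDegree (θ' : B' → ℂ) : ℂ) := by
      rw [← H22.irr_one_eq_charDegree θ', ← H22.irr_one_eq_charDegree ⟨σ, hσ⟩, ← hres 1]
      rfl
    show ¬ p ∣ charDegree σ
    rwa [Nat.cast_inj.1 h1]
  · have h1 := hres (e.symm b)
    show σ _ = _
    rw [show (θ : B → ℂ) b = (θ' : B' → ℂ) (e.symm b) by
      show _ = (θ : B → ℂ) (e (e.symm b)); rw [MulEquiv.apply_symm_apply], ← h1]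
    exact congrArg σ (Subtype.ext rfl)

/-- Conjugation in a product with a subgroup of coprime order. -/
theorem exists_conj_of_le_sup (Q B S : Subgroup G) (hQ : IsPGroup q Q) (hS : IsPGroup q S)
    (hcard : Nat.card S = Nat.card Q) (hQB : Q ≤ Subgroup.normalizer (B : Set G))
    (hB : ¬ q ∣ Nat.card B) (hSU : S ≤ Q ⊔ B) :
    ∃ b ∈ B, ∀ x ∈ Q, b * x * b⁻¹ ∈ S := by
  classical
  set U : Subgroup G := Q ⊔ B with hU
  have hdec : ∀ u ∈ U, ∃ y ∈ Q, ∃ b ∈ B, u = y * b := by
    intro u hu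
    rw [← SetLike.mem_coe, hU, Subgroup.coe_mul_of_left_le_normalizer_right Q B hQB] at hu
    obtain ⟨y, hy, b, hb, rfl⟩ := hu
    exact ⟨y, hy, b, hb, rfl⟩
  have hidx : ¬ q ∣ (Q.subgroupOf U).index := by
    haveI : (B.subgroupOf U).Normal :=
      Subgroup.normal_subgroupOf_of_le_normalizer (sup_le hQB Subgroup.le_normalizer)
    have htop : B.subgroupOf U ⊔ Q.subgroupOf U = ⊤ := by
      rw [← Subgroup.subgroupOf_sup le_sup_right le_sup_left, sup_comm, Subgroup.subgroupOf_self]
    have h1 : (B.subgroupOf U).relIndex (Q.subgroupOf U) = (B.subgroupOf U).index := by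
      rw [← Subgroup.relIndex_top_right, ← htop, sup_comm, Subgroup.relIndex_sup_right]
    have h2 := (B.subgroupOf U).card_mul_index
    have h3 := (Q.subgroupOf U).card_mul_index
    have hdvd : (B.subgroupOf U).index ∣ Nat.card (Q.subgroupOf U) := by
      rw [← h1]
      exact Subgroup.relIndex_dvd_card _ _
    have h4 : (Q.subgroupOf U).index ∣ Nat.card (B.subgroupOf U) := by
      obtain ⟨k, hk⟩ := hdvd
      refine ⟨k, Nat.eq_of_mul_eq_mul_left (Subgroup.index_ne_zero_of_finite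
        (H := B.subgroupOf U)).bot_lt ?_⟩
      calc (B.subgroupOf U).index * Nat.card (B.subgroupOf U)
          = Nat.card (Q.subgroupOf U) * (Q.subgroupOf U).index := by rw [h3, mul_comm, h2]
        _ = _ := by rw [hk]; ring
    rw [Nat.card_congr (Subgroup.subgroupOfEquivOfLe (le_sup_right : B ≤ U)).toEquiv] at h4
    exact fun h => hB (h.trans h4)
  set Q' : Sylow q U := (hQ.comap_subtype (K := U)).toSylow hidx with hQ'
  obtain ⟨S1, hS1⟩ := (hS.comap_subtype (K := U)).exists_le_sylow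
  obtain ⟨u, hu⟩ := MulAction.exists_smul_eq U Q' S1
  have hcard1 : Nat.card (S.comap U.subtype) = Nat.card S1 := by
    rw [show S.comap U.subtype = S.subgroupOf U from rfl,
      Nat.card_congr (Subgroup.subgroupOfEquivOfLe hSU).toEquiv, hcard,
      ← Nat.card_congr (Subgroup.subgroupOfEquivOfLe (le_sup_left : Q ≤ U)).toEquiv]
    exact (Sylow.card_eq_multiplicity Q').trans (Sylow.card_eq_multiplicity S1).symm
  have heq : S.comap U.subtype = (S1 : Subgroup U) :=
    Subgroup.eq_of_le_of_card_ge hS1 hcard1.ge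
  have hconj : ∀ x ∈ Q, (u : G) * x * (u : G)⁻¹ ∈ S := by
    intro x hx
    have hmem : u * ⟨x, Subgroup.mem_sup_left hx⟩ * u⁻¹ ∈ (S1 : Subgroup U) := by
      rw [← hu]
      exact Subgroup.smul_mem_pointwise_smul _ (MulAut.conj u) (Q' : Subgroup U)
        (show (⟨x, Subgroup.mem_sup_left hx⟩ : U) ∈ Q.subgroupOf U from hx)
    rw [← heq] at hmem
    exact hmem
  obtain ⟨y, hy, b, hb, hub⟩ := hdec _ u.2
  refine ⟨y * b * y⁻¹, (Subgroup.mem_normalizer_iff.1 (hQB hy) b).1 hb, fun x hx => ?_⟩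
  have := hconj (y⁻¹ * (y⁻¹ * x * y) * y) (by
    exact mul_mem (mul_mem (inv_mem hy) (mul_mem (mul_mem (inv_mem hy) hx) hy)) hy)
  have e1 : (u : G) * (y⁻¹ * (y⁻¹ * x * y) * y) * (u : G)⁻¹ =
      (y * b) * (y⁻¹ * (y⁻¹ * x * y) * y) * (y * b)⁻¹ := by rw [hub]
  have h2 := hconj (y⁻¹ * x * y) (mul_mem (mul_mem (inv_mem hy) hx) hy)
  have e2 : (u : G) * (y⁻¹ * x * y) * (u : G)⁻¹ = y * b * y⁻¹ * x * (y * b * y⁻¹)⁻¹ := by
    rw [hub]; group
  rwa [e2] at h2

/-- A fixed conjugate of `Q` inside an invariant subgroup of index prime to `q`. -/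
theorem exists_fixed_conj_le (A : Subgroup G) [A.Normal] (hA : ¬ p ∣ Nat.card A) (P : Subgroup G)
    (hP : IsPGroup p P) (Q : Subgroup G) (hQ : IsPGroup q Q) (hQA : Q ≤ A)
    (hQidx : ¬ q ∣ Q.relIndex A) (hPQ : ∀ x ∈ P, ∀ y ∈ Q, x * y = y * x) (T : Subgroup G)
    (hPT : P ≤ T) (hT : ¬ q ∣ T.relIndex A) :
    ∃ k ∈ A, (∀ x ∈ P, x * k = k * x) ∧ ∀ y ∈ Q, k * y * k⁻¹ ∈ T := by
  classical
  set T' : Subgroup G := T ⊓ A with hT'
  have hnorm : ∀ s ∈ P, ∀ g ∈ T', s * g * s⁻¹ ∈ T' := fun s hs g hg =>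
    Subgroup.mem_inf.2 ⟨T.mul_mem (T.mul_mem (hPT hs) (Subgroup.mem_inf.1 hg).1) (T.inv_mem (hPT hs)),
      Subgroup.Normal.conj_mem inferInstance g (Subgroup.mem_inf.1 hg).2 s⟩
  let φ := H12.Glauberman.conjHom T' P hnorm
  letI : MulDistribMulAction P T' := MulDistribMulAction.compHom T' φ
  have hnd : ¬ p ∣ Nat.card (Sylow q T') := fun hd => by
    obtain ⟨S⟩ : Nonempty (Sylow q T') := inferInstance
    exact hA ((hd.trans (S.card_dvd_index.trans (Subgroup.index_dvd_card _))).trans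
      (Subgroup.card_dvd_of_le inf_le_right))
  obtain ⟨S, hS⟩ := hP.nonempty_fixed_point_of_prime_not_dvd_card (Sylow q T') hnd
  set S' : Subgroup G := (S : Subgroup T').map T'.subtype with hS'
  have hS'T : S' ≤ T := (Subgroup.map_subtype_le _).trans inf_le_left
  have hS'A : S' ≤ A := (Subgroup.map_subtype_le _).trans inf_le_right
  have hS'P : ∀ s ∈ P, ∀ g ∈ S', s * g * s⁻¹ ∈ S' := by
    rintro s hs g ⟨g', hg', rfl⟩
    have h1 : (⟨s, hs⟩ : P) • S = S := hS ⟨s, hs⟩
    refine ⟨φ ⟨s, hs⟩ g', ?_, rfl⟩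
    conv_lhs => rw [← h1]
    exact Subgroup.smul_mem_pointwise_smul g' (⟨s, hs⟩ : P) (S : Subgroup T') hg'
  have hS'idx : ¬ q ∣ S'.relIndex A := by
    rw [← Subgroup.relIndex_mul_relIndex S' T' A (Subgroup.map_subtype_le _) inf_le_right]
    intro hd
    rcases (Fact.out : q.Prime).dvd_mul.1 hd with h | h
    · rw [hS', Subgroup.relIndex, Subgroup.subgroupOf, Subgroup.comap_map_eq_self_of_injective T'.subtype_injective] at h
      exact S.not_dvd_index h
    · exact hT (by rwa [hT', Subgroup.inf_relIndex_right] at h)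
  let QA : Sylow q A := (hQ.comap_subtype (K := A)).toSylow hQidx
  let SA : Sylow q A := ((S.isPGroup'.map T'.subtype).comap_subtype (K := A)).toSylow hS'idx
  obtain ⟨a, ha⟩ := MulAction.exists_smul_eq A QA SA
  let Ω := {x : A // x • QA = SA}
  have hΩne : Nonempty Ω := ⟨⟨a, ha⟩⟩
  have hΩ : ¬ p ∣ Nat.card Ω := by
    have e : Ω ≃ MulAction.stabilizer A QA :=
      { toFun := fun x => ⟨a⁻¹ * x.1, by
          rw [MulAction.mem_stabilizer_iff, mul_smul, x.2, ← ha, inv_smul_smul]⟩
        invFun := fun x => ⟨a * x.1, by rw [mul_smul, x.2, ha]⟩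
        left_inv := fun x => Subtype.ext (mul_inv_cancel_left a x.1)
        right_inv := fun x => Subtype.ext (inv_mul_cancel_left a x.1) }
    rw [Nat.card_congr e]
    exact fun hd => hA (hd.trans (Subgroup.card_subgroup_dvd_card _))
  have key : ∀ (x : A), x • QA = SA ↔ ∀ g : G, g ∈ Q → (x : G) * g * (x : G)⁻¹ ∈ S' := by
    intro x
    constructor
    · intro hx g hg
      have h1 : x * ⟨g, hQA hg⟩ * x⁻¹ ∈ (SA : Subgroup A) := by
        rw [← hx]
        exact Subgroup.smul_mem_pointwise_smul _ (MulAut.conj x) (QA : Subgroup A)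
          (show (⟨g, hQA hg⟩ : A) ∈ Q.subgroupOf A from hg)
      exact h1
    · intro hx
      apply Sylow.ext
      refine Subgroup.eq_of_le_of_card_ge ?_ (by
        rw [Sylow.card_eq_multiplicity, Sylow.card_eq_multiplicity])
      intro y hy
      obtain ⟨z, hz, rfl⟩ := (Subgroup.mem_smul_pointwise_iff_exists _ _ _).1 hy
      exact hx _ hz
  letI : MulAction P Ω :=
    { smul := fun s x => ⟨⟨(s : G) * (x.1 : G) * (s : G)⁻¹,
          Subgroup.Normal.conj_mem inferInstance _ x.1.2 _⟩, (key _).2 fun g hg => by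
        have h1 := hS'P s s.2 _ ((key x.1).1 x.2 g hg)
        have h2 : (s : G)⁻¹ * g * (s : G) = g := by
          rw [mul_assoc, ← hPQ s s.2 g hg, inv_mul_cancel_left]
        show (s : G) * (x.1 : G) * (s : G)⁻¹ * g * ((s : G) * (x.1 : G) * (s : G)⁻¹)⁻¹ ∈ S'
        rw [show (s : G) * (x.1 : G) * (s : G)⁻¹ * g * ((s : G) * (x.1 : G) * (s : G)⁻¹)⁻¹ =
          (s : G) * ((x.1 : G) * ((s : G)⁻¹ * g * (s : G)) * (x.1 : G)⁻¹) * (s : G)⁻¹ by group, h2]
        exact h1⟩
      one_smul := fun x => Subtype.ext (Subtype.ext (by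
        show ((1 : P) : G) * (x.1 : G) * ((1 : P) : G)⁻¹ = _; simp))
      mul_smul := fun s t x => Subtype.ext (Subtype.ext (by
        show ((s * t : P) : G) * (x.1 : G) * ((s * t : P) : G)⁻¹ =
          (s : G) * ((t : G) * (x.1 : G) * (t : G)⁻¹) * (s : G)⁻¹
        simp [mul_assoc])) }
  obtain ⟨k, hk⟩ := hP.nonempty_fixed_point_of_prime_not_dvd_card Ω hΩ
  refine ⟨(k.1 : G), k.1.2, fun x hx => ?_, fun y hy => hS'T ((key k.1).1 k.2 y hy)⟩
  have h1 : (⟨x, hx⟩ : P) • k = k := hk ⟨x, hx⟩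
  have h2 : x * (k.1 : G) * x⁻¹ = (k.1 : G) := congrArg (fun z : Ω => (z.1 : G)) h1
  exact mul_inv_eq_iff_eq_mul.1 h2

/-- A `q`-group fixing all characters of a `q'`-group centralizes it. -/
theorem commute_of_fixes_irr (C Q : Subgroup G) (hQ : IsPGroup q Q) (hC : ¬ q ∣ Nat.card C)
    (hnorm : ∀ y ∈ Q, ∀ c ∈ C, y * c * y⁻¹ ∈ C)
    (h : ∀ (β : IrrCharacter C) (y : G) (hy : y ∈ Q) (c : C),
      (β : C → ℂ) ⟨y * c * y⁻¹, hnorm y hy c c.2⟩ = (β : C → ℂ) c) :
    ∀ y ∈ Q, ∀ c ∈ C, y * c = c * y := by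
  classical
  haveI := Fintype.ofFinite C
  let φ := H12.Glauberman.conjHom C Q hnorm
  let F : Subgroup C :=
    { carrier := {c | ∀ s, φ s c = c}
      one_mem' := fun s => map_one _
      mul_mem' := fun {a b} ha hb s => by rw [map_mul, ha s, hb s]
      inv_mem' := fun {a} ha s => by rw [map_inv, ha s] }
  have hF : F = ⊤ := by
    refine H27.eq_top_of_forall_conj_mem F fun c => ?_
    have hfix : H12.Glauberman.FixCl φ (ConjClasses.mk c) := by
      intro s g hg
      rw [ConjClasses.mk_eq_mk_iff_isConj] at hg ⊢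
      refine IsConj.trans ?_ hg
      rw [H12.isConj_iff_irr]
      intro β
      exact h β s s.2 g
    obtain ⟨d, hd⟩ := H12.Glauberman.exists_fixed_in_class hQ hC
      (C := F) (fun g => Iff.rfl) hfix
    rw [ConjClasses.mk_eq_mk_iff_isConj, isConj_iff] at hd
    obtain ⟨x, hx⟩ := hd
    refine ⟨x, ?_⟩
    rw [← hx, show x⁻¹ * (x * (d : C) * x⁻¹) * x = (d : C) by group]
    exact d.2
  intro y hy c hc
  have h1 : φ ⟨y, hy⟩ ⟨c, hc⟩ = ⟨c, hc⟩ := (hF ▸ Subgroup.mem_top (⟨c, hc⟩ : C) : _ ∈ F) ⟨y, hy⟩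
  exact mul_inv_eq_iff_eq_mul.1 (congrArg Subtype.val h1)

/-- Orders in a product with a normal subgroup. -/
theorem relIndex_dvd_index (A T : Subgroup G) [A.Normal] : T.relIndex A ∣ T.index := by
  have h1 : T.relIndex A * Nat.card (T ⊓ A : Subgroup G) = Nat.card A := by
    rw [← Subgroup.inf_relIndex_right, mul_comm]
    exact H60.PrinDeg.card_mul_rel inf_le_right
  have h2 : A.relIndex T * Nat.card (T ⊓ A : Subgroup G) = Nat.card T := by
    rw [← Subgroup.inf_relIndex_right, mul_comm, inf_comm A T]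
    exact H60.PrinDeg.card_mul_rel inf_le_left
  have h3 : Nat.card A * A.relIndex T = Nat.card (T ⊔ A : Subgroup G) := by
    rw [← H60.PrinDeg.card_mul_rel (le_sup_right : A ≤ T ⊔ A), Subgroup.relIndex_sup_right]
  have h4 : Nat.card T * T.relIndex (T ⊔ A) = Nat.card (T ⊔ A : Subgroup G) :=
    H60.PrinDeg.card_mul_rel le_sup_left
  have h5 : T.relIndex A = T.relIndex (T ⊔ A) := by
    refine Nat.eq_of_mul_eq_mul_left (Nat.card_pos (α := T)) ?_
    rw [h4, ← h3, ← h1, ← h2]; ring
  rw [h5, ← Subgroup.relIndex_mul_index (le_sup_left : T ≤ T ⊔ A)]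
  exact dvd_mul_right _ _

/-- Invariant characters force uniqueness of the invariant Sylow subgroup. -/
theorem normalizes : ∀ (n : ℕ) (G : Type u) [Group G] [Finite G], Nat.card G = n →
    IsPSolvable q G → DegHyp p q G → ∀ (P : Sylow p G) (A : Subgroup G), A.Normal →
    ¬ p ∣ Nat.card A → ∀ Q : Subgroup G, IsPGroup q Q → Q ≤ A → ¬ q ∣ Q.relIndex A →
    (∀ x ∈ (P : Subgroup G), ∀ y ∈ Q, x * y = y * x) → ∀ k ∈ A,
    (∀ x ∈ (P : Subgroup G), x * k = k * x) → ∀ y ∈ Q, k * y * k⁻¹ ∈ Q := by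
  intro n
  induction n using Nat.strong_induction_on with
  | _ n ih =>
    intro G _ _ hn hqs hyp P A hAn hA Q hQ hQA hQidx hPQ k hk hkP y hy
    classical
    haveI := hAn
    rcases eq_or_ne A ⊥ with rfl | hAne
    · rw [Subgroup.mem_bot] at hk
      subst hk
      simpa using hy
    -- a normal subgroup which is a `q`-group or a `q'`-group
    obtain ⟨B, hBn, hBA, hBne, hBq⟩ : ∃ B : Subgroup G, B.Normal ∧ B ≤ A ∧ B ≠ ⊥ ∧
        (IsPGroup q B ∨ ¬ q ∣ Nat.card B) := by
      obtain ⟨m, H, h0, hlast, hmono, hnormal, hstep⟩ := hqs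
      by_contra! hall
      have key : ∀ i, H i ⊓ A = ⊥ := by
        intro i
        induction i using Fin.induction with
        | zero => rw [h0, bot_inf_eq]
        | succ i hi =>
          haveI := hnormal i.castSucc
          haveI := hnormal i.succ
          by_contra hne
          obtain ⟨hq1, hq2⟩ := hall (H i.succ ⊓ A) (Subgroup.normal_inf_normal _ _) inf_le_right hne
          have hd : Nat.card (H i.succ ⊓ A : Subgroup G) ∣ (H i.castSucc).relIndex (H i.succ) := by
            refine dvd_trans (dvd_of_eq ?_)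
              (H10.relIndex_dvd_relIndex_of_le_right (H i.castSucc)
                (inf_le_left : H i.succ ⊓ A ≤ H i.succ))
            rw [← Subgroup.relIndex_bot_left, ← Subgroup.inf_relIndex_right (H i.castSucc),
              show H i.castSucc ⊓ (H i.succ ⊓ A) = ⊥ from le_bot_iff.1
                (hi ▸ inf_le_inf_left _ inf_le_right)]
          rcases H10.IsPorP'.of_dvd (hstep i) hd with ⟨j, hj⟩ | hj
          · exact hq1 (IsPGroup.of_card hj)
          · exact (Fact.out : q.Prime).not_dvd_one (hj ▸ Nat.dvd_gcd hq2 dvd_rfl)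
      have := key (Fin.last m)
      rw [hlast, top_inf_eq] at this
      exact hAne this
    haveI := hBn
    -- pass to the quotient
    have hquot : ∀ a ∈ A, (∀ x ∈ (P : Subgroup G), x * a = a * x) → ∀ z ∈ Q,
        a * z * a⁻¹ ∈ Q ⊔ B := by
      intro a ha haP z hz
      set f := QuotientGroup.mk' B with hf
      haveI : (A.map f).Normal := hAn.map f (QuotientGroup.mk'_surjective B)
      have hlt : Nat.card (G ⧸ B) < n := by
        rw [← hn, Subgroup.card_eq_card_quotient_mul_card_subgroup B]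
        have : 1 < Nat.card B := (Subgroup.one_lt_card_iff_ne_bot B).2 hBne
        exact lt_mul_of_one_lt_right Nat.card_pos this
      have h := ih _ hlt (G ⧸ B) rfl (H10.isPSolvable_quotient hqs B) (hyp.quotient B)
        (P.mapSurjective (f := f) (QuotientGroup.mk'_surjective B)) (A.map f) inferInstance
        (fun hd => hA (hd.trans (Subgroup.card_map_dvd A f))) (Q.map f) (hQ.map f)
        (Subgroup.map_mono hQA)
        (by
          rw [← Subgroup.relIndex_comap, Subgroup.comap_map_eq, hf, QuotientGroup.ker_mk']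
          exact fun hd => hQidx (hd.trans (Subgroup.relIndex_dvd_of_le_left A le_sup_left)))
        (by
          rw [Sylow.coe_mapSurjective]
          rintro _ ⟨x, hx, rfl⟩ _ ⟨w, hw, rfl⟩
          rw [← map_mul, ← map_mul, hPQ x hx w hw])
        (f a) (Subgroup.mem_map_of_mem f ha)
        (by
          rw [Sylow.coe_mapSurjective]
          rintro _ ⟨x, hx, rfl⟩
          rw [← map_mul, ← map_mul, haP x hx])
        (f z) (Subgroup.mem_map_of_mem f hz)
      rw [← map_inv, ← map_mul, ← map_mul, ← Subgroup.mem_comap, Subgroup.comap_map_eq, hf,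
        QuotientGroup.ker_mk'] at h
      exact h
    rcases hBq with hBp | hBnq
    · -- `B` is a `q`-group, so it lies in `Q`
      have hle : Q ⊔ B ≤ A := sup_le hQA hBA
      have hQB : IsPGroup q (Q ⊔ B : Subgroup G) := hQ.to_sup_of_normal_right hBp
      have h1 : Q.relIndex (Q ⊔ B) = 1 := by
        obtain ⟨j, hj⟩ := hQB.index (Q.subgroupOf (Q ⊔ B))
        rw [← Subgroup.relIndex] at hj
        rcases Nat.eq_zero_or_pos j with rfl | hjpos
        · simpa using hj
        · refine absurd ?_ hQidx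
          refine dvd_trans ?_ (Dvd.intro _ (Subgroup.relIndex_mul_relIndex Q (Q ⊔ B) A le_sup_left hle))
          rw [hj]
          exact dvd_pow_self q hjpos.ne'
      exact Subgroup.relIndex_eq_one.1 h1 (hquot k hk hkP y hy)
    -- `B` is a `q'`-group: `Q` centralizes the fixed points of `P` in `B`
    set C : Subgroup G := B ⊓ Subgroup.centralizer ((P : Subgroup G) : Set G) with hCdef
    have hmemC : ∀ g, g ∈ C ↔ g ∈ B ∧ ∀ x ∈ (P : Subgroup G), x * g = g * x := fun g =>
      and_congr Iff.rfl Subgroup.mem_centralizer_iff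
    have hdecomp : ∀ a ∈ A, (∀ x ∈ (P : Subgroup G), x * a = a * x) → ∀ z ∈ Q,
        a * z * a⁻¹ ∈ Q ⊔ C := by
      intro a ha haP z hz
      obtain ⟨y', hy', b, hb, hyb⟩ := Subgroup.mem_sup_of_normal_right.1 (hquot a ha haP z hz)
      have hbC : b ∈ C := by
        refine (hmemC b).2 ⟨hb, fun x hx => ?_⟩
        have hbe : b = y'⁻¹ * (a * z * a⁻¹) := by rw [← hyb]; group
        rw [hbe]
        have c1 : Commute x y'⁻¹ := (show Commute x y' from hPQ x hx y' hy').inv_right
        have c2 : Commute x a := haP x hx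
        have c3 : Commute x z := hPQ x hx z hz
        exact (c1.mul_right ((c2.mul_right c3).mul_right c2.inv_right)).eq
      rw [← hyb]
      exact mul_mem (Subgroup.mem_sup_left hy') (Subgroup.mem_sup_right hbC)
    have hQC : ∀ z ∈ Q, ∀ c ∈ C, z * c * z⁻¹ ∈ C := fun z hz c hc => by
      refine (hmemC _).2 ⟨Subgroup.Normal.conj_mem inferInstance c hc.1 z, fun x hx => ?_⟩
      have c1 : Commute x z := hPQ x hx z hz
      have c2 : Commute x c := ((hmemC c).1 hc).2 x hx
      exact ((c1.mul_right c2).mul_right c1.inv_right).eq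
    have hQnC : Q ≤ Subgroup.normalizer (C : Set G) := fun z hz => by
      rw [Subgroup.mem_normalizer_iff]
      refine fun c => ⟨fun hc => hQC z hz c hc, fun hc => ?_⟩
      have := hQC z⁻¹ (inv_mem hz) _ hc
      simpa [mul_assoc] using this
    have hCq : ¬ q ∣ Nat.card C := fun hd => hBnq (hd.trans (Subgroup.card_dvd_of_le inf_le_left))
    have hcomm : ∀ z ∈ Q, ∀ c ∈ C, z * c = c * z := by
      refine commute_of_fixes_irr C Q hQ hCq hQC fun β z hz c => ?_
      -- lift `β` to an invariant character of `B`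
      haveI := Fintype.ofFinite G
      haveI := Fintype.ofFinite B
      have hnB : ∀ s ∈ (P : Subgroup G), ∀ g ∈ B, s * g * s⁻¹ ∈ B := fun s _ g hg =>
        Subgroup.Normal.conj_mem inferInstance g hg s
      let φ := H12.Glauberman.conjHom B (P : Subgroup G) hnB
      set C' : Subgroup B := C.subgroupOf B with hC'
      haveI := Fintype.ofFinite C'
      have hC'mem : ∀ g : B, g ∈ C' ↔ ∀ s, φ s g = g := by
        intro g
        constructor
        · intro hg s
          apply Subtype.ext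
          show (s : G) * g * (s : G)⁻¹ = g
          exact mul_inv_eq_iff_eq_mul.2 (((hmemC _).1 hg).2 s s.2)
        · intro hg
          exact (hmemC _).2 ⟨g.2, fun x hx =>
            mul_inv_eq_iff_eq_mul.1 (congrArg Subtype.val (hg ⟨x, hx⟩))⟩
      have hBp : ¬ p ∣ Nat.card B := fun hd => hA (hd.trans (Subgroup.card_dvd_of_le hBA))
      let e : C' ≃* C := Subgroup.subgroupOfEquivOfLe (inf_le_left : C ≤ B)
      let β' : IrrCharacter C' := H12.irrCongr e β
      obtain ⟨θ, hθinv, hθm⟩ := H12.Glauberman.mult_surjective P.isPGroup' hBp hC'mem β'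
      have hPT : (P : Subgroup G) ≤ H13.inertia B (θ : B → ℂ) := by
        intro s hs
        rw [H13.mem_inertia]
        funext b
        exact hθinv ⟨s, hs⟩ b
      obtain ⟨σ, hσd, hσres⟩ := exists_extension_sup B hBp (P : Subgroup G) P.isPGroup' θ hPT
      have hidx : ¬ p ∣ (B ⊔ (P : Subgroup G)).index := fun hd =>
        P.not_dvd_index (hd.trans (Subgroup.index_dvd_of_le le_sup_right))
      have hTidx := not_dvd_inertia hyp θ (exists_over le_sup_left σ θ hσd hidx hσres)
      set T := H13.inertia B (θ : B → ℂ) with hT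
      obtain ⟨a, ha, haP, haT⟩ := exists_fixed_conj_le A hA (P : Subgroup G) P.isPGroup' Q hQ hQA
        hQidx hPQ T hPT (fun hd => hTidx (hd.trans (relIndex_dvd_index A T)))
      set S : Subgroup G := Q.map (MulAut.conj a).toMonoidHom with hS
      have hSle : S ≤ Q ⊔ C := by
        rintro _ ⟨w, hw, rfl⟩
        exact hdecomp a ha haP w hw
      obtain ⟨b, hb, hbQ⟩ := exists_conj_of_le_sup Q C S hQ (hQ.map _)
        (Subgroup.card_map_of_injective (MulAut.conj a).injective) hQnC hCq hSle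
      -- equivariance
      set u := b * z * b⁻¹ with hu
      have huT : u ∈ T := by
        obtain ⟨w, hw, hwu⟩ := hbQ z hz
        have := haT w hw
        rw [show (MulAut.conj a).toMonoidHom w = a * w * a⁻¹ from rfl] at hwu
        rw [hwu] at this
        exact this
      have huC : ∀ g ∈ C, u * g * u⁻¹ ∈ C := fun g hg => by
        have h1 : b⁻¹ * g * b ∈ C := mul_mem (mul_mem (inv_mem hb) hg) hb
        have h2 := mul_mem (mul_mem hb (hQC z hz _ h1)) (inv_mem hb)
        rw [hu, show b * z * b⁻¹ * g * (b * z * b⁻¹)⁻¹ = b * (z * (b⁻¹ * g * b) * z⁻¹) * b⁻¹ by group]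
        exact h2
      let au : B ≃* B := MulAut.conjNormal u
      have hau : ∀ g : B, (au g : G) = u * g * u⁻¹ := fun g => MulAut.conjNormal_apply u g
      have hmap : ∀ g : B, g ∈ C' → au g ∈ C' := fun g hg => by
        show ((au g : B) : G) ∈ C
        rw [hau]; exact huC _ hg
      have hmapeq : C'.map au.toMonoidHom = C' := by
        refine Subgroup.eq_of_le_of_card_ge ?_ ?_
        · rintro _ ⟨g, hg, rfl⟩; exact hmap g hg
        · exact (Subgroup.card_map_of_injective (f := au.toMonoidHom) au.injective).ge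
      let au' : C' ≃* C' :=
        (au.subgroupMap C').trans (MulEquiv.subgroupCongr hmapeq)
      have hau' : ∀ g : C', ((au' g : C') : B) = au g := fun g => rfl
      have hfix : H12.irrCongr au θ = θ := by
        apply Subtype.ext
        funext g
        rw [H12.irrCongr_apply]
        have h1 := congrFun ((H13.mem_inertia B).1 huT) g
        rw [H13.twist_apply] at h1
        rw [← h1]
        exact congrArg (θ : B → ℂ) (Subtype.ext (hau g))
      have hm := H12.Glauberman.mult_comp C' au au' hau' θ β'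
      rw [hfix] at hm
      have heq : H12.irrCongr au' β' = β' :=
        (H12.Glauberman.existsUnique_mult P.isPGroup' hBp hC'mem hθinv).unique
          (by rw [hm]; exact hθm) hθm
      have hval : ∀ g : C, (β : C → ℂ) ⟨u * g * u⁻¹, huC g g.2⟩ = (β : C → ℂ) g := by
        intro g
        have h1 := congrFun (congrArg Subtype.val heq) (e.symm g)
        rw [H12.irrCongr_apply] at h1
        simp only [β', H12.irrCongr_apply, MulEquiv.apply_symm_apply] at h1
        rw [← h1]
        refine congrArg (β : C → ℂ) (Subtype.ext ?_)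
        show u * (g : G) * u⁻¹ = ((au' (e.symm g) : C') : B)
        rw [hau', hau]
        rfl
      -- remove the inner automorphism
      have hcf := H12.irr_isClassFunction β
      have h1 := hval (⟨b, hb⟩ * c * ⟨b, hb⟩⁻¹)
      rw [hcf c ⟨b, hb⟩] at h1
      rw [← h1, ← hcf ⟨z * c * z⁻¹, hQC z hz c c.2⟩ ⟨b, hb⟩]
      refine congrArg (β : C → ℂ) (Subtype.ext ?_)
      show b * (z * (c : G) * z⁻¹) * b⁻¹ = u * (b * (c : G) * b⁻¹) * u⁻¹
      rw [hu]; group
    obtain ⟨y', hy', c, hc, hyc⟩ : ∃ y' ∈ Q, ∃ c ∈ C, k * y * k⁻¹ = y' * c := by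
      have h1 := hdecomp k hk hkP y hy
      rw [← SetLike.mem_coe, Subgroup.coe_mul_of_left_le_normalizer_right Q C hQnC] at h1
      obtain ⟨y', hy', c, hc, h⟩ := h1
      exact ⟨y', hy', c, hc, h.symm⟩
    have hc1 : c = 1 := by
      obtain ⟨i, hi⟩ := IsPGroup.iff_orderOf.1 hQ ⟨y, hy⟩
      obtain ⟨j, hj⟩ := IsPGroup.iff_orderOf.1 hQ ⟨y', hy'⟩
      rw [← Subgroup.orderOf_coe] at hi hj
      have hce : c = y'⁻¹ * (k * y * k⁻¹) := by rw [hyc]; group
      have hcm : Commute y'⁻¹ (k * y * k⁻¹) := by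
        rw [hyc]
        exact ((Commute.refl y').mul_right (hcomm y' hy' c hc)).inv_left
      have hdvd : orderOf c ∣ q ^ i * q ^ j := by
        rw [hce]
        refine (hcm.orderOf_mul_dvd_lcm.trans (Nat.lcm_dvd_mul _ _)).trans ?_
        rw [orderOf_inv, show k * y * k⁻¹ = MulAut.conj k y from rfl, MulEquiv.orderOf_eq]
        rw [mul_comm]
        exact mul_dvd_mul hi.dvd hj.dvd
      rw [← pow_add] at hdvd
      obtain ⟨l, -, hl⟩ := (Nat.dvd_prime_pow Fact.out).1 hdvd
      rcases Nat.eq_zero_or_pos l with rfl | hlpos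
      · rw [pow_zero] at hl; exact orderOf_eq_one_iff.1 hl
      · exfalso
        refine hCq (dvd_trans ?_ (Subgroup.orderOf_dvd_natCard C hc))
        rw [hl]
        exact dvd_pow_self q hlpos.ne'
    rw [hyc, hc1, mul_one]
    exact hy'

/-- Burnside: a normal subgroup centralizing its Sylow `p`-subgroup, in the absence of a
`p'`-core. -/
theorem eq_of_central (hcore : pPrimeCore p G = ⊥) (U V : Subgroup G) [U.Normal] [V.Normal]
    (hVU : V ≤ U) (hV : IsPGroup p V) (hcop : (V.relIndex U).Coprime p)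
    (hc : ∀ u ∈ U, ∀ v ∈ V, u * v = v * u) : U = V := by
  classical
  have hp : p.Prime := Fact.out
  obtain ⟨Q⟩ : Nonempty (Sylow p U) := inferInstance
  have hQV : (Q : Subgroup U).map U.subtype ≤ V :=
    H60.PrinDeg.le_of_coprime_relIndex (Q.isPGroup'.map _) (Subgroup.map_subtype_le _) hcop
  have hQc : ∀ x ∈ (Q : Subgroup U), ∀ c : U, c * x = x * c := fun x hx c =>
    Subtype.ext (hc c c.2 _ (hQV ⟨x, hx, rfl⟩))
  have hNQ : Subgroup.normalizer ((Q : Subgroup U) : Set U) ≤ Subgroup.centralizer (Q : Set U) :=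
    fun c _ => Subgroup.mem_centralizer_iff.2 fun x hx => (hQc x hx c).symm
  have hcompl := MonoidHom.ker_transferSylow_isComplement' Q hNQ
  set K := (MonoidHom.transferSylow Q hNQ).ker with hK
  have hKcop : (Nat.card K).Coprime p := by
    refine (hp.coprime_iff_not_dvd.2 fun hd => ?_).symm
    apply Q.not_dvd_index
    rw [Subgroup.IsComplement'.index_eq_card hcompl]
    exact hd
  have hmem : ∀ c : U, (orderOf c).Coprime p → c ∈ K := by
    intro c hc'
    rw [hK, MonoidHom.mem_ker]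
    refine orderOf_eq_one_iff.1 (Nat.eq_one_of_dvd_coprimes ?_ (orderOf_map_dvd _ c) (dvd_refl _))
    obtain ⟨k, hk⟩ := IsPGroup.iff_orderOf.1 Q.isPGroup' ((MonoidHom.transferSylow Q hNQ) c)
    rw [hk]
    exact hc'.pow_right k
  haveI hKn : (K.map U.subtype).Normal := ⟨fun x hx g => by
    obtain ⟨k, hk, rfl⟩ := hx
    have hgk : g * (k : G) * g⁻¹ ∈ U := Subgroup.Normal.conj_mem inferInstance _ k.2 g
    refine ⟨⟨_, hgk⟩, hmem _ ?_, rfl⟩
    rw [← Subgroup.orderOf_coe]
    show (orderOf (MulAut.conj g (k : G))).Coprime p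
    rw [MulEquiv.orderOf_eq, Subgroup.orderOf_coe]
    exact Nat.Coprime.coprime_dvd_left (Subgroup.orderOf_dvd_natCard K hk) hKcop⟩
  have hKbot : K.map U.subtype = ⊥ := le_bot_iff.1 (hcore ▸ le_sSup ⟨hKn, by
    rw [Subgroup.card_map_of_injective U.subtype_injective]; exact hKcop⟩)
  have hK1 : K = ⊥ := (Subgroup.map_eq_bot_iff_of_injective _ U.subtype_injective).1 hKbot
  have hcard := hcompl.card_mul
  rw [hK1, Subgroup.card_bot, one_mul] at hcard
  refine (Subgroup.eq_of_le_of_card_ge hVU ?_).symm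
  rw [← hcard, Nat.card_congr ((Q : Subgroup U).equivMapOfInjective U.subtype U.subtype_injective).toEquiv]
  exact Subgroup.card_le_of_le hQV

/-- The main step: an abelian normal `p`-subgroup. -/
theorem not_dvd_of_step (hpq : p ≠ q) (hcore : pPrimeCore p G = ⊥) (hqs : IsPSolvable q G)
    (hyp : DegHyp p q G) (N : Subgroup G) [N.Normal] (hN : IsPGroup p N)
    (hab : ∀ a ∈ N, ∀ b ∈ N, a * b = b * a) (P : Sylow p G) (Q : Sylow q G)
    (hcomm : ∀ x ∈ (P : Subgroup G), ∀ y ∈ (Q : Subgroup G),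
      (x : G ⧸ N) * (y : G ⧸ N) = (y : G ⧸ N) * (x : G ⧸ N))
    (hQcore : (Q : Subgroup G).map (QuotientGroup.mk' N) ≤ pPrimeCore p (G ⧸ N)) :
    ¬ q ∣ Nat.card G := by
  classical
  intro hq
  haveI := Fintype.ofFinite G
  haveI := Fintype.ofFinite N
  set f := QuotientGroup.mk' N with hf
  haveI hA : (pPrimeCore p (G ⧸ N)).Normal := H1.pPrimeCore_normal' p (G ⧸ N)
  set A := pPrimeCore p (G ⧸ N) with hAdef
  set W := A.comap f with hWdef
  haveI : W.Normal := hA.comap f
  have hNW : N ≤ W := fun x hx => by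
    rw [hWdef, Subgroup.mem_comap, show f x = 1 from (QuotientGroup.eq_one_iff x).2 hx]
    exact one_mem _
  have hNWcop : (N.relIndex W).Coprime p := by
    have h1 : N.relIndex W = (⊥ : Subgroup (G ⧸ N)).relIndex A := by
      rw [hWdef, ← Subgroup.map_comap_eq_self_of_surjective (QuotientGroup.mk'_surjective N) A]
      rw [← Subgroup.relIndex_comap, Subgroup.map_comap_eq_self_of_surjective
        (QuotientGroup.mk'_surjective N), MonoidHom.comap_bot, QuotientGroup.ker_mk']
    rw [h1, Subgroup.relIndex_bot_left]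
    exact H1.card_pPrimeCore_coprime p _
  have hQne : (Q : Subgroup G) ≠ ⊥ := Q.ne_bot_of_dvd_card hq
  have hQW : (Q : Subgroup G) ≤ W := Subgroup.map_le_iff_le_comap.1 hQcore
  have hNP : N ≤ (P : Subgroup G) := hN.le_sylow_of_normal P
  have hdisj : Disjoint (N : Subgroup G) (Q : Subgroup G) :=
    IsPGroup.disjoint_of_ne p q hpq _ _ hN Q.isPGroup'
  have hNq : ¬ q ∣ Nat.card N := by
    intro hd
    obtain ⟨j, hj⟩ := IsPGroup.iff_card.1 hN
    rw [hj] at hd
    exact hpq ((Nat.prime_dvd_prime_iff_eq Fact.out Fact.out).1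
      ((Fact.out : q.Prime).dvd_of_dvd_pow hd)).symm
  set P0 : Subgroup G := (P : Subgroup G) ⊓ Subgroup.normalizer ((Q : Subgroup G) : Set G) with hP0
  have hcomm' : ∀ x ∈ (P : Subgroup G), ∀ y ∈ (Q : Subgroup G), x * y * x⁻¹ * y⁻¹ ∈ N := by
    intro x hx y hy
    rw [← QuotientGroup.eq_one_iff, QuotientGroup.mk_mul, QuotientGroup.mk_mul,
      QuotientGroup.mk_mul, QuotientGroup.mk_inv, QuotientGroup.mk_inv, hcomm x hx y hy,
      mul_inv_cancel_right, mul_inv_cancel]
  have hP0Q : ∀ x ∈ P0, ∀ y ∈ (Q : Subgroup G), x * y = y * x := by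
    intro x hx y hy
    have h1 : x * y * x⁻¹ * y⁻¹ ∈ (Q : Subgroup G) :=
      mul_mem ((Subgroup.mem_normalizer_iff.1 hx.2 y).1 hy) (inv_mem hy)
    have h2 := Subgroup.disjoint_def.1 hdisj (hcomm' x hx.1 y hy) h1
    rw [mul_inv_eq_one, mul_inv_eq_iff_eq_mul] at h2
    exact h2
  have hdec : ∀ x ∈ (P : Subgroup G), ∃ n ∈ N, n⁻¹ * x ∈ P0 := by
    intro x hx
    set S : Subgroup G := (Q : Subgroup G).map (MulAut.conj x).toMonoidHom with hS
    have hSle : S ≤ (Q : Subgroup G) ⊔ N := by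
      rintro _ ⟨y, hy, rfl⟩
      show x * y * x⁻¹ ∈ _
      rw [show x * y * x⁻¹ = (x * y * x⁻¹ * y⁻¹) * y by group]
      exact mul_mem (Subgroup.mem_sup_right (hcomm' x hx y hy)) (Subgroup.mem_sup_left hy)
    obtain ⟨n, hn, hnQ⟩ := exists_conj_of_le_sup (Q : Subgroup G) N S Q.isPGroup'
      (Q.isPGroup'.map _) (Subgroup.card_map_of_injective (MulAut.conj x).injective)
      (Subgroup.normalizer_eq_top (H := N) ▸ le_top) hNq hSle
    refine ⟨n, hn, Subgroup.mem_inf.2 ⟨Subgroup.mul_mem _ (Subgroup.inv_mem _ (hNP hn)) hx, ?_⟩⟩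
    rw [← inv_inv (n⁻¹ * x)]
    refine Subgroup.inv_mem _ (Subgroup.mem_normalizer_fintype fun y hy => ?_)
    obtain ⟨w, hw, hwy⟩ := hnQ y hy
    have : (n⁻¹ * x)⁻¹ * y * ((n⁻¹ * x)⁻¹)⁻¹ = w := by
      have hwy' : x * w * x⁻¹ = n * y * n⁻¹ := hwy
      rw [show (n⁻¹ * x)⁻¹ * y * ((n⁻¹ * x)⁻¹)⁻¹ = x⁻¹ * (n * y * n⁻¹) * x by group, ← hwy']
      group
    rw [this]
    exact hw
  set D : Subgroup G := N ⊓ Subgroup.centralizer ((Q : Subgroup G) : Set G) with hD
  have hP0D : N ⊓ P0 ≤ D := fun x hx => ⟨hx.1, Subgroup.mem_centralizer_iff.2 fun y hy =>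
    (hP0Q x hx.2 y hy).symm⟩
  by_cases hDN : N ≤ D
  · -- `Q` centralizes `N`
    haveI : (W ⊓ Subgroup.centralizer (N : Set G)).Normal := Subgroup.normal_inf_normal _ _
    have hle : N ≤ W ⊓ Subgroup.centralizer (N : Set G) :=
      le_inf hNW fun a ha => Subgroup.mem_centralizer_iff.2 fun b hb => hab b hb a ha
    have heq := eq_of_central hcore (W ⊓ Subgroup.centralizer (N : Set G)) N hle hN
      (Nat.Coprime.coprime_dvd_left
        (H10.relIndex_dvd_relIndex_of_le_right N inf_le_left) hNWcop)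
      (fun u hu v hv => (Subgroup.mem_centralizer_iff.1 hu.2 v hv).symm)
    have hQN : (Q : Subgroup G) ≤ N := heq ▸ le_inf hQW (fun y hy =>
      Subgroup.mem_centralizer_iff.2 fun n hn =>
        ((Subgroup.mem_centralizer_iff.1 (hDN hn).2 y hy)).symm)
    exact hQne (hdisj.eq_bot_of_ge hQN)
  · -- an invariant linear character trivial on `D`
    obtain ⟨n0, hn0, hn0D⟩ : ∃ n, n ∈ N ∧ n ∉ D := by
      by_contra! hall
      exact hDN hall
    letI : CommGroup N :=
      { (inferInstance : Group N) with mul_comm := fun a b => Subtype.ext (hab a a.2 b b.2) }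
    set D' : Subgroup N := D.subgroupOf N with hD'
    let L : Subgroup (N →* ℂˣ) :=
      { carrier := {g | D' ≤ g.ker}
        one_mem' := fun x _ => rfl
        mul_mem' := fun {a b} ha hb x hx => by
          rw [MonoidHom.mem_ker, MonoidHom.mul_apply, MonoidHom.mem_ker.1 (ha hx),
            MonoidHom.mem_ker.1 (hb hx), one_mul]
        inv_mem' := fun {a} ha x hx => by
          rw [MonoidHom.mem_ker, MonoidHom.inv_apply, MonoidHom.mem_ker.1 (ha hx), inv_one] }
    haveI : Finite (N →* ℂˣ) := Finite.of_injective _ (H12.linIrr_injective (G := N))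
    have hne : L ≠ ⊥ := by
      have hx : (QuotientGroup.mk' D' ⟨n0, hn0⟩) ≠ 1 := fun h =>
        hn0D ((QuotientGroup.eq_one_iff (N := D') _).1 h)
      obtain ⟨g, hg⟩ := CommGroup.exists_apply_ne_one_of_hasEnoughRootsOfUnity (N ⧸ D') ℂ hx
      intro hbot
      have hmem : g.comp (QuotientGroup.mk' D') ∈ L := fun x hx' => by
        rw [MonoidHom.mem_ker, MonoidHom.comp_apply, QuotientGroup.mk'_apply,
          (QuotientGroup.eq_one_iff x).2 hx', map_one]
      rw [hbot, Subgroup.mem_bot] at hmem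
      exact hg (by simpa using DFunLike.congr_fun hmem ⟨n0, hn0⟩)
    have hLp : p ∣ Nat.card L := by
      have h1 : Nat.card (N →* ℂˣ) = Nat.card N :=
        CommGroup.card_monoidHom_of_hasEnoughRootsOfUnity N ℂ
      obtain ⟨j, hj⟩ := IsPGroup.iff_card.1 hN
      have h2 : Nat.card L ∣ p ^ j := hj ▸ h1 ▸ Subgroup.card_subgroup_dvd_card L
      obtain ⟨i, -, hi⟩ := (Nat.dvd_prime_pow Fact.out).1 h2
      rcases Nat.eq_zero_or_pos i with rfl | hipos
      · exact absurd ((Subgroup.card_eq_one).1 (by rw [hi, pow_zero])) hne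
      · rw [hi]; exact dvd_pow_self p hipos.ne'
    -- the action of `P`
    have hconjD : ∀ x ∈ (P : Subgroup G), ∀ d ∈ D, x * d * x⁻¹ ∈ D := by
      intro x hx d hd
      obtain ⟨n, hn, hx0⟩ := hdec x hx
      set x0 := n⁻¹ * x with hx0def
      have h1 : x0 * d * x0⁻¹ ∈ D := by
        refine ⟨Subgroup.Normal.conj_mem inferInstance d hd.1 x0,
          Subgroup.mem_centralizer_iff.2 fun y hy => ?_⟩
        have c1 : Commute y x0 := (hP0Q x0 hx0 y hy).symm
        have c2 : Commute y d := Subgroup.mem_centralizer_iff.1 hd.2 y hy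
        exact ((c1.mul_right c2).mul_right c1.inv_right).eq
      have h2 : x * d * x⁻¹ = n * (x0 * d * x0⁻¹) * n⁻¹ := by rw [hx0def]; group
      rw [h2, hab n hn _ h1.1, mul_inv_cancel_right]
      exact h1
    letI : MulAction (P : Subgroup G) L :=
      { smul := fun s g => ⟨(g : N →* ℂˣ).comp (MulAut.conjNormal (s : G)⁻¹).toMonoidHom,
          fun d hd => by
            rw [MonoidHom.mem_ker, MonoidHom.comp_apply]
            refine MonoidHom.mem_ker.1 (g.2 ?_)
            show ((MulAut.conjNormal (s : G)⁻¹ d : N) : G) ∈ D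
            rw [MulAut.conjNormal_apply]
            exact hconjD _ (inv_mem s.2) _ hd⟩
        one_smul := fun g => Subtype.ext (MonoidHom.ext fun d => by
          show (g : N →* ℂˣ) (MulAut.conjNormal ((1 : (P : Subgroup G)) : G)⁻¹ d) = _
          simp)
        mul_smul := fun s t g => Subtype.ext (MonoidHom.ext fun d => by
          show (g : N →* ℂˣ) (MulAut.conjNormal ((s * t : (P : Subgroup G)) : G)⁻¹ d) =
            (g : N →* ℂˣ) (MulAut.conjNormal (t : G)⁻¹ (MulAut.conjNormal (s : G)⁻¹ d))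
          simp [mul_inv_rev]) }
    have hfix1 : (1 : L) ∈ MulAction.fixedPoints (P : Subgroup G) L := fun s =>
      Subtype.ext (MonoidHom.ext fun d => rfl)
    obtain ⟨g, hgfix, hg1⟩ := P.isPGroup'.exists_fixed_point_of_prime_dvd_card_of_fixed_point
      L hLp hfix1
    set lam : N →* ℂˣ := (g : N →* ℂˣ) with hlam
    have hlamD : ∀ d : N, (d : G) ∈ D → lam d = 1 := fun d hd => MonoidHom.mem_ker.1 (g.2 hd)
    have hlamP : ∀ x ∈ (P : Subgroup G), ∀ d : N, lam (MulAut.conjNormal x d) = lam d := by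
      intro x hx d
      have h1 := DFunLike.congr_fun (congrArg Subtype.val (hgfix ⟨x⁻¹, inv_mem hx⟩)) d
      show lam (MulAut.conjNormal x d) = lam d
      rw [← h1]
      show lam _ = lam (MulAut.conjNormal (x⁻¹)⁻¹ d)
      rw [inv_inv]
    -- extension to `P`
    choose dn hdn hdn0 using hdec
    have hwell : ∀ (x : G) (hx : x ∈ (P : Subgroup G)) (n : G) (hn : n ∈ N), n⁻¹ * x ∈ P0 →
        lam ⟨dn x hx, hdn x hx⟩ = lam ⟨n, hn⟩ := by
      intro x hx n hn hn'
      have h1 : n⁻¹ * dn x hx ∈ D := hP0D (Subgroup.mem_inf.2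
        ⟨mul_mem (inv_mem hn) (hdn x hx), by
          rw [show n⁻¹ * dn x hx = (n⁻¹ * x) * ((dn x hx)⁻¹ * x)⁻¹ by group]
          exact mul_mem hn' (inv_mem (hdn0 x hx))⟩)
      have h2 : (⟨dn x hx, hdn x hx⟩ : N) =
          ⟨n, hn⟩ * ⟨n⁻¹ * dn x hx, mul_mem (inv_mem hn) (hdn x hx)⟩ :=
        Subtype.ext (by simp)
      rw [h2, map_mul, hlamD ⟨n⁻¹ * dn x hx, mul_mem (inv_mem hn) (hdn x hx)⟩ h1, mul_one]
    let extP : (P : Subgroup G) →* ℂˣ := MonoidHom.mk' (fun x => lam ⟨dn x x.2, hdn x x.2⟩) (by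
      intro x y
      set a := dn (x : G) x.2 with ha
      set b := dn (y : G) y.2 with hb
      set x0 := a⁻¹ * (x : G) with hx0
      have hb' : x0 * b * x0⁻¹ ∈ N := Subgroup.Normal.conj_mem inferInstance b (hdn _ _) x0
      show lam ⟨dn ((x * y : (P : Subgroup G)) : G) (x * y).2, _⟩ = lam ⟨a, _⟩ * lam ⟨b, _⟩
      rw [hwell _ _ (a * (x0 * b * x0⁻¹)) (mul_mem (hdn _ _) hb') (by
        rw [show (a * (x0 * b * x0⁻¹))⁻¹ * ((x * y : (P : Subgroup G)) : G) =
          (a⁻¹ * (x : G)) * (b⁻¹ * (y : G)) by rw [hx0, Subgroup.coe_mul]; group]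
        exact mul_mem (hdn0 _ _) (hdn0 _ _))]
      rw [← hlamP x0 (hdn0 _ x.2).1 ⟨b, hdn _ _⟩, ← map_mul]
      exact congrArg lam (Subtype.ext (by simp [MulAut.conjNormal_apply])))
    have hextN : ∀ d : N, extP ⟨d, hNP d.2⟩ = lam d := fun d =>
      hwell (d : G) (hNP d.2) d d.2 (by rw [inv_mul_cancel]; exact one_mem _)
    set θ : IrrCharacter N := H12.linIrr lam with hθ
    have hexd : ¬ p ∣ charDegree (H12.linIrr extP : ↥(P : Subgroup G) → ℂ) := by
      have h2 := H22.irr_one_eq_charDegree (H12.linIrr extP)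
      rw [H12.linIrr_apply, map_one, Units.val_one] at h2
      rw [show charDegree (H12.linIrr extP : ↥(P : Subgroup G) → ℂ) = 1 from by exact_mod_cast h2.symm]
      exact (Fact.out : p.Prime).not_dvd_one
    have hTidx := not_dvd_inertia hyp θ (exists_over (p := p) hNP (H12.linIrr extP) θ hexd
      P.not_dvd_index (fun b => by
        rw [H12.linIrr_apply, hθ, H12.linIrr_apply, hextN]))
    set T := H13.inertia N (θ : N → ℂ) with hT
    have hPT : (P : Subgroup G) ≤ T := by
      intro x hx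
      rw [hT, H13.mem_inertia]
      funext d
      rw [H13.twist_apply, hθ, H12.linIrr_apply, H12.linIrr_apply]
      congr 1
      rw [← hlamP x hx d]
      exact congrArg lam (Subtype.ext (by simp [MulAut.conjNormal_apply]))
    have hNT : N ≤ T := hNP.trans hPT
    -- `Q` fixes the character
    have hQT : (Q : Subgroup G) ≤ T := by
      set Qb := (Q : Subgroup G).map f with hQb
      set Pb : Sylow p (G ⧸ N) := P.mapSurjective (f := f) (QuotientGroup.mk'_surjective N) with hPb
      have hPQb : ∀ x ∈ (Pb : Subgroup (G ⧸ N)), ∀ y ∈ Qb, x * y = y * x := by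
        rw [hPb, Sylow.coe_mapSurjective]
        rintro _ ⟨x, hx, rfl⟩ _ ⟨y, hy, rfl⟩
        exact hcomm x hx y hy
      have hAp : ¬ p ∣ Nat.card A :=
        (Fact.out : p.Prime).coprime_iff_not_dvd.1 (H1.card_pPrimeCore_coprime p _).symm
      have hQidx : ¬ q ∣ Qb.relIndex A := by
        intro hd
        have h1 : Qb.relIndex A ∣ Qb.index := relIndex_dvd_index A Qb
        exact (Q.mapSurjective (f := f) (QuotientGroup.mk'_surjective N)).not_dvd_index
          (by rw [Sylow.coe_mapSurjective]; exact hd.trans h1)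
      have hTb : ¬ q ∣ (T.map f).relIndex A := fun hd => hTidx (hd.trans
        ((relIndex_dvd_index A (T.map f)).trans
          (Subgroup.index_map_dvd T (QuotientGroup.mk'_surjective N))))
      obtain ⟨k, hk, hkP, hkQ⟩ := exists_fixed_conj_le A hAp (Pb : Subgroup (G ⧸ N)) Pb.isPGroup'
        Qb (Q.isPGroup'.map f) hQcore hQidx hPQb (T.map f)
        (by rw [hPb, Sylow.coe_mapSurjective]; exact Subgroup.map_mono hPT) hTb
      have hnorm := normalizes (p := p) (q := q) _ (G ⧸ N) rfl (H10.isPSolvable_quotient hqs N)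
        (hyp.quotient N) Pb A inferInstance hAp Qb (Q.isPGroup'.map f) hQcore hQidx hPQb k⁻¹
        (inv_mem hk) (fun x hx => ((show Commute x k from hkP x hx).inv_right).eq)
      intro y hy
      have h1 := hnorm (f y) (Subgroup.mem_map_of_mem f hy)
      have h2 := hkQ _ h1
      rw [inv_inv, show k * (k⁻¹ * f y * k) * k⁻¹ = f y by group, ← Subgroup.mem_comap,
        Subgroup.comap_map_eq, hf, QuotientGroup.ker_mk', sup_eq_left.2 hNT] at h2
      exact h2
    -- averaging
    refine hg1 (Subtype.ext ?_)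
    show (1 : N →* ℂˣ) = lam
    symm
    apply MonoidHom.ext
    intro d
    haveI := Fintype.ofFinite (Q : Subgroup G)
    set z : N := ∏ y : (Q : Subgroup G), MulAut.conjNormal (y : G) d with hz
    have hzD : (z : G) ∈ D := by
      refine ⟨z.2, Subgroup.mem_centralizer_iff.2 fun y hy => ?_⟩
      have h1 : MulAut.conjNormal y z = z := by
        rw [hz, map_prod]
        refine Fintype.prod_equiv (Equiv.mulLeft (⟨y, hy⟩ : (Q : Subgroup G))) _ _ fun w => ?_
        rw [Equiv.coe_mulLeft, Subgroup.coe_mul, map_mul, MulAut.mul_apply]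
      have h2 : y * (z : G) * y⁻¹ = z := by
        rw [← MulAut.conjNormal_apply, h1]
      exact mul_inv_eq_iff_eq_mul.1 h2
    have h1 : lam z = lam d ^ Nat.card (Q : Subgroup G) := by
      rw [hz, map_prod]
      rw [Finset.prod_eq_pow_card (b := lam d), Finset.card_univ, Nat.card_eq_fintype_card]
      intro w _
      have h3 := congrFun ((H13.mem_inertia N).1 (hQT w.2)) d
      rw [H13.twist_apply, hθ, H12.linIrr_apply, H12.linIrr_apply, Units.val_inj] at h3
      rw [← h3]
      exact congrArg lam (Subtype.ext (by simp [MulAut.conjNormal_apply]))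
    rw [hlamD z hzD] at h1
    obtain ⟨i, hi⟩ := IsPGroup.iff_orderOf.1 hN d
    have h2 : orderOf (lam d) ∣ p ^ i := hi ▸ orderOf_map_dvd lam d
    obtain ⟨j, hj⟩ := IsPGroup.iff_card.1 Q.isPGroup'
    have h3 : orderOf (lam d) ∣ q ^ j := hj ▸ orderOf_dvd_iff_pow_eq_one.2 h1.symm
    exact orderOf_eq_one_iff.1 (Nat.eq_one_of_dvd_coprimes
      (((Nat.coprime_primes Fact.out Fact.out).2 hpq).pow i j) h2 h3)

end H60.BlockComm
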