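import Cfsg.Agent.H60.BlockCommute

/-!
Commuting Sylow subgroups and the degrees of the principal blocks.
-/

set_option autoImplicit false
set_option linter.unusedSectionVars false
set_option linter.style.haveILetI false

open Cfsg

namespace H60.BlockComm

universe u

variable {p q : ℕ} [Fact p.Prime] [Fact q.Prime] {Mp Mq : Ideal AlgInt}

/-- Degree condition on the principal block. -/
def BlockHyp (M : Ideal AlgInt) (p q : ℕ) (G : Type u) [Group G] : Prop :=
  ∀ χ : IrrCharacter G, χ ∈ principalBlock M G → ¬ p ∣ charDegree (χ : G → ℂ) →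
    ¬ q ∣ charDegree (χ : G → ℂ)

theorem mem_principal_of_ker {G : Type u} [Group G] [Finite G] (hM : IsPModular p Mp)
    (hps : IsPSolvable p G) (χ : IrrCharacter G)
    (hker : ∀ n ∈ pPrimeCore p G, (χ : G → ℂ) n = (χ : G → ℂ) 1) :
    χ ∈ principalBlock Mp G := by
  haveI := Fintype.ofFinite G
  haveI := H20.isPrime_of_modular hM
  haveI := H1.pPrimeCore_normal' p G
  haveI := Fintype.ofFinite (G ⧸ pPrimeCore p G)
  obtain ⟨χ', hχ'⟩ := H21.exists_deflate (pPrimeCore p G) χ hker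
  rw [← hχ']
  exact (H24.inflate_mem_principalBlock_iff (pPrimeCore p G) hM
    (H24.not_dvd_card_pPrimeCore hM.1) χ').2
    (H20.single_block hM (H10.isPSolvable_quotient hps _)
      (H1.pPrimeCore_quotient_pPrimeCore p) (H12.oneIrr (G ⧸ pPrimeCore p G)) χ')

theorem BlockHyp.quotient {G : Type u} [Group G] [Finite G] (hM : IsPModular p Mp)
    (hps : IsPSolvable p G) (h : BlockHyp Mp p q G) (N : Subgroup G) [N.Normal] :
    BlockHyp Mp p q (G ⧸ N) := by
  haveI := Fintype.ofFinite (G ⧸ N)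
  haveI := H20.isPrime_of_modular hM
  intro χ hχ hd
  have hmem : H21.inflate N χ ∈ principalBlock Mp G := by
    refine mem_principal_of_ker hM hps _ fun n hn => ?_
    rw [H21.inflate_apply, H21.inflate_apply, QuotientGroup.mk_one]
    exact H20.principal_pPrimeCore_ker hM hχ
      (H1.map_pPrimeCore_le_of_surjective p _ (QuotientGroup.mk'_surjective N) ⟨n, hn, rfl⟩)
  rw [← charDegree_inflate χ] at hd ⊢
  exact h _ hmem hd

/-- Commuting Sylow subgroups force the index of `O_{p'}` prime to `q`. -/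
theorem not_dvd_index_of_commute {G : Type u} [Group G] [Finite G] (hpq : p ≠ q)
    (hps : IsPSolvable p G) (P : Sylow p G) (Q : Sylow q G)
    (hc : ∀ x ∈ (P : Subgroup G), ∀ y ∈ (Q : Subgroup G), x * y = y * x) :
    ¬ q ∣ (pPrimeCore p G).index := by
  haveI := H1.pPrimeCore_normal' p G
  set f := QuotientGroup.mk' (pPrimeCore p G) with hf
  set Pb := P.mapSurjective (f := f) (QuotientGroup.mk'_surjective _) with hPb
  set Qb := Q.mapSurjective (f := f) (QuotientGroup.mk'_surjective _) with hQb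
  intro hd
  rw [Subgroup.index_eq_card] at hd
  have hcore := H10.centralizer_pCore_le (H10.isPSolvable_quotient hps (pPrimeCore p G))
    (H1.pPrimeCore_quotient_pPrimeCore p)
  have hle : (Qb : Subgroup (G ⧸ pPrimeCore p G)) ≤ pCore p (G ⧸ pPrimeCore p G) := by
    refine le_trans (fun y hy => Subgroup.mem_centralizer_iff.2 fun x hx => ?_) hcore
    have hxP : x ∈ (Pb : Subgroup (G ⧸ pPrimeCore p G)) := H1.pCore_le_sylow Pb hx
    rw [hQb, Sylow.coe_mapSurjective] at hy
    rw [hPb, Sylow.coe_mapSurjective] at hxP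
    obtain ⟨x0, hx0, rfl⟩ := hxP
    obtain ⟨y0, hy0, rfl⟩ := hy
    rw [← map_mul, ← map_mul, hc x0 hx0 y0 hy0]
  have hdis := IsPGroup.disjoint_of_ne q p hpq.symm _ _ Qb.isPGroup'
    (H1.isPGroup_pCore p (G ⧸ pPrimeCore p G))
  exact Qb.ne_bot_of_dvd_card hd (hdis.eq_bot_of_le hle)

theorem sylow_le_core {G : Type u} [Group G] [Finite G] (Q : Sylow q G)
    (h : ¬ q ∣ (pPrimeCore p G).index) : (Q : Subgroup G) ≤ pPrimeCore p G := by
  haveI := H1.pPrimeCore_normal' p G
  refine H60.PrinDeg.le_of_coprime_relIndex Q.isPGroup' le_top ?_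
  rw [Subgroup.relIndex_top_right]
  exact ((Fact.out : q.Prime).coprime_iff_not_dvd.2 h).symm

/-- The converse: commuting Sylow subgroups. -/
theorem exists_commute {G : Type u} [Group G] [Finite G] (h1 : ¬ q ∣ (pPrimeCore p G).index)
    (h2 : ¬ p ∣ (pPrimeCore q G).index) (P : Sylow p G) :
    ∃ Q : Sylow q G, ∀ x ∈ (P : Subgroup G), ∀ y ∈ (Q : Subgroup G), x * y = y * x := by
  have hp : p.Prime := Fact.out
  haveI := H1.pPrimeCore_normal' p G
  haveI := H1.pPrimeCore_normal' q G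
  obtain ⟨Q⟩ : Nonempty (Sylow q G) := inferInstance
  set O := pPrimeCore p G with hO
  set N := Subgroup.normalizer ((Q : Subgroup G) : Set G) with hN
  have hsup : N ⊔ O = ⊤ := Sylow.normalizer_sup_eq_top' Q (sylow_le_core Q h1)
  have hidx : ¬ p ∣ N.index := by
    have e1 : O.relIndex N = O.index := by
      rw [← Subgroup.relIndex_top_right, ← hsup, Subgroup.relIndex_sup_right]
    have e2 : Nat.card (N ⊓ O : Subgroup G) * O.index = Nat.card N := by
      rw [← e1, ← Subgroup.inf_relIndex_right, inf_comm O N]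
      exact H60.PrinDeg.card_mul_rel inf_le_left
    have e3 : Nat.card O = Nat.card (N ⊓ O : Subgroup G) * N.index := by
      refine Nat.eq_of_mul_eq_mul_right (Subgroup.index_ne_zero_of_finite (H := O)).bot_lt ?_
      rw [mul_right_comm, e2, Subgroup.card_mul_index, Subgroup.card_mul_index]
    intro hd
    exact hp.coprime_iff_not_dvd.1 (H1.card_pPrimeCore_coprime p G).symm
      (e3 ▸ dvd_mul_of_dvd_right hd _)
  obtain ⟨P2⟩ : Nonempty (Sylow p N) := inferInstance
  have hP1idx : ¬ p ∣ ((P2 : Subgroup N).map N.subtype).index := by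
    rw [Subgroup.index_map_subtype]
    exact fun hd => (hp.dvd_mul.1 hd).elim P2.not_dvd_index hidx
  set P1 : Sylow p G := (P2.isPGroup'.map N.subtype).toSylow hP1idx with hP1
  have hP1N : ∀ x ∈ (P1 : Subgroup G), x ∈ N := fun x hx =>
    Subgroup.map_subtype_le _ (show x ∈ (P2 : Subgroup N).map N.subtype from hx)
  have hc1 : ∀ x ∈ (P1 : Subgroup G), ∀ y ∈ (Q : Subgroup G), x * y = y * x := by
    intro x hx y hy
    have hq1 : x * y * x⁻¹ * y⁻¹ ∈ (Q : Subgroup G) :=
      mul_mem ((Subgroup.mem_normalizer_iff.1 (hP1N x hx) y).1 hy) (inv_mem hy)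
    have hxM : x ∈ pPrimeCore q G := sylow_le_core P1 h2 hx
    have hq2 : x * y * x⁻¹ * y⁻¹ ∈ pPrimeCore q G := by
      rw [show x * y * x⁻¹ * y⁻¹ = x * (y * x⁻¹ * y⁻¹) by group]
      exact mul_mem hxM (Subgroup.Normal.conj_mem inferInstance _ (inv_mem hxM) y)
    obtain ⟨k, hk⟩ := IsPGroup.iff_orderOf.1 Q.isPGroup' ⟨_, hq1⟩
    rw [← Subgroup.orderOf_coe] at hk
    have h3 : orderOf (x * y * x⁻¹ * y⁻¹) = 1 := by
      refine Nat.eq_one_of_dvd_coprimes
        (Nat.Coprime.pow_right k (H1.card_pPrimeCore_coprime q G))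
        (Subgroup.orderOf_dvd_natCard _ hq2) (dvd_of_eq hk)
    rw [orderOf_eq_one_iff, mul_inv_eq_one, mul_inv_eq_iff_eq_mul] at h3
    exact h3
  obtain ⟨g, hg⟩ := MulAction.exists_smul_eq G P1 P
  refine ⟨g • Q, fun x hx y hy => ?_⟩
  rw [← hg] at hx
  obtain ⟨x0, hx0, rfl⟩ := hx
  obtain ⟨y0, hy0, rfl⟩ := hy
  show (MulAut.conj g).toMonoidHom x0 * (MulAut.conj g).toMonoidHom y0 =
    (MulAut.conj g).toMonoidHom y0 * (MulAut.conj g).toMonoidHom x0
  rw [← map_mul, ← map_mul, hc1 x0 hx0 y0 hy0]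

/-- One half of the inductive step. -/
theorem half_step {G : Type u} [Group G] [Finite G] (hpq : p ≠ q) (hMp : IsPModular p Mp)
    (hps : IsPSolvable p G) (hqs : IsPSolvable q G) (hyp : BlockHyp Mp p q G)
    (ih : ∀ (N : Subgroup G) [N.Normal], N ≠ ⊥ → ¬ q ∣ (pPrimeCore p (G ⧸ N)).index ∧
      ¬ p ∣ (pPrimeCore q (G ⧸ N)).index) :
    ¬ q ∣ (pPrimeCore p G).index := by
  classical
  haveI hOn := H1.pPrimeCore_normal' p G
  by_cases hcore : pPrimeCore p G = ⊥
  swap
  · have h := (ih (pPrimeCore p G) hcore).1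
    rw [H1.pPrimeCore_quotient_pPrimeCore, Subgroup.index_bot] at h
    rwa [Subgroup.index_eq_card]
  rw [hcore, Subgroup.index_bot]
  rcases subsingleton_or_nontrivial G with hs | hnt
  · rw [Nat.card_unique]
    exact (Fact.out : q.Prime).not_dvd_one
  have hR : pCore p G ≠ ⊥ := (H10.pCore_or_pPrimeCore_ne_bot hps).resolve_right (fun h => h hcore)
  set R := pCore p G with hRdef
  haveI : R.Normal := H1.pCore_normal' p G
  haveI : Nontrivial R := (Subgroup.nontrivial_iff_ne_bot R).2 hR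
  have hRp : IsPGroup p R := H1.isPGroup_pCore p G
  set N : Subgroup G := (Subgroup.center R).map R.subtype with hN
  haveI : N.Normal := H1.map_subtype_normal_of_characteristic R (Subgroup.center R)
  have hNne : N ≠ ⊥ := by
    rw [hN, Ne, Subgroup.map_eq_bot_iff_of_injective _ R.subtype_injective]
    haveI := hRp.center_nontrivial
    exact (Subgroup.nontrivial_iff_ne_bot _).1 inferInstance
  have hNab : ∀ a ∈ N, ∀ b ∈ N, a * b = b * a := by
    rintro _ ⟨a, ha, rfl⟩ _ ⟨b, -, rfl⟩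
    rw [← map_mul, ← map_mul]
    exact congrArg R.subtype ((Subgroup.mem_center_iff.1 ha b).symm)
  obtain ⟨hi1, hi2⟩ := ih N hNne
  set f := QuotientGroup.mk' N with hf
  obtain ⟨P⟩ : Nonempty (Sylow p G) := inferInstance
  obtain ⟨Qb, hQb⟩ := exists_commute hi1 hi2
    (P.mapSurjective (f := f) (QuotientGroup.mk'_surjective N))
  obtain ⟨Q0⟩ : Nonempty (Sylow q G) := inferInstance
  obtain ⟨gb, hgb⟩ := MulAction.exists_smul_eq (G ⧸ N)
    (Q0.mapSurjective (f := f) (QuotientGroup.mk'_surjective N)) Qb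
  obtain ⟨g, rfl⟩ := QuotientGroup.mk'_surjective N gb
  have hQmem : ∀ y ∈ ((g • Q0 : Sylow q G) : Subgroup G), f y ∈ (Qb : Subgroup (G ⧸ N)) := by
    rintro _ ⟨y0, hy0, rfl⟩
    rw [← hgb]
    refine ⟨f y0, ?_, ?_⟩
    · rw [Sylow.coe_mapSurjective]
      exact Subgroup.mem_map_of_mem f hy0
    · show f g * f y0 * (f g)⁻¹ = f (g * y0 * g⁻¹)
      rw [map_mul, map_mul, map_inv]
  refine not_dvd_of_step hpq hcore hqs
    (fun χ => hyp χ (mem_principal_of_ker hMp hps χ fun n hn => by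
      rw [hcore, Subgroup.mem_bot] at hn
      rw [hn]))
    N (hRp.to_le (Subgroup.map_subtype_le _)) hNab P (g • Q0) (fun x hx y hy => ?_) ?_
  · exact hQb (f x) (by rw [Sylow.coe_mapSurjective]; exact Subgroup.mem_map_of_mem f hx) (f y)
      (hQmem y hy)
  · refine le_trans ?_ (sylow_le_core Qb hi1)
    rintro _ ⟨y, hy, rfl⟩
    exact hQmem y hy

/-- The degree conditions imply both conclusions. -/
theorem both_core : ∀ (n : ℕ) (G : Type u) [Group G] [Finite G], Nat.card G = n → p ≠ q →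
    IsPModular p Mp → IsPModular q Mq → IsPSolvable p G → IsPSolvable q G →
    BlockHyp Mp p q G → BlockHyp Mq q p G →
    ¬ q ∣ (pPrimeCore p G).index ∧ ¬ p ∣ (pPrimeCore q G).index := by
  intro n
  induction n using Nat.strong_induction_on with
  | _ n ih =>
    intro G _ _ hn hpq hMp hMq hps hqs h1 h2
    have key : ∀ (N : Subgroup G) [N.Normal], N ≠ ⊥ →
        ¬ q ∣ (pPrimeCore p (G ⧸ N)).index ∧ ¬ p ∣ (pPrimeCore q (G ⧸ N)).index := by
      intro N _ hN
      refine ih (Nat.card (G ⧸ N)) ?_ (G ⧸ N) rfl hpq hMp hMq (H10.isPSolvable_quotient hps N)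
        (H10.isPSolvable_quotient hqs N) (h1.quotient hMp hps N) (h2.quotient hMq hqs N)
      rw [← hn, Subgroup.card_eq_card_quotient_mul_card_subgroup N]
      exact lt_mul_of_one_lt_right Nat.card_pos ((Subgroup.one_lt_card_iff_ne_bot N).2 hN)
    exact ⟨half_step hpq hMp hps hqs h1 key,
      half_step (p := q) (q := p) hpq.symm hMq hqs hps h2 fun N _ hN => (key N hN).symm⟩

/-- The easy direction. -/
theorem blockHyp_of_commute {G : Type u} [Group G] [Finite G] (hpq : p ≠ q)
    (hMp : IsPModular p Mp) (hps : IsPSolvable p G) (P : Sylow p G) (Q : Sylow q G)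
    (hc : ∀ x ∈ (P : Subgroup G), ∀ y ∈ (Q : Subgroup G), x * y = y * x) :
    BlockHyp Mp p q G := by
  haveI := Fintype.ofFinite G
  haveI := H20.isPrime_of_modular hMp
  haveI := H1.pPrimeCore_normal' p G
  intro χ hχ _ hd
  have hidx := not_dvd_index_of_commute hpq hps P Q hc
  rw [Subgroup.index_eq_card] at hidx
  obtain ⟨χ', hχ'⟩ := H21.exists_deflate (pPrimeCore p G) χ
    (fun n hn => H20.principal_pPrimeCore_ker hMp hχ hn)
  rw [← hχ', charDegree_inflate] at hd
  exact hidx (hd.trans (H22.charDegree_dvd_card χ'))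

theorem blockHyp_iff_commute {G : Type u} [Group G] [Finite G] (hpq : p ≠ q)
    (hMp : IsPModular p Mp) (hMq : IsPModular q Mq) (hps : IsPSolvable p G)
    (hqs : IsPSolvable q G) :
    (BlockHyp Mp p q G ∧ BlockHyp Mq q p G) ↔
      ∃ (P : Sylow p G) (Q : Sylow q G),
        ∀ x ∈ (P : Subgroup G), ∀ y ∈ (Q : Subgroup G), x * y = y * x := by
  constructor
  · rintro ⟨h1, h2⟩
    obtain ⟨a, b⟩ := both_core _ G rfl hpq hMp hMq hps hqs h1 h2
    obtain ⟨P⟩ : Nonempty (Sylow p G) := inferInstance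
    exact ⟨P, exists_commute a b P⟩
  · rintro ⟨P, Q, hc⟩
    exact ⟨blockHyp_of_commute hpq hMp hps P Q hc,
      blockHyp_of_commute hpq.symm hMq hqs Q P fun y hy x hx => (hc x hx y hy).symm⟩

end H60.BlockComm
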