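import Cfsg.Agent.H60.Derangement

set_option autoImplicit false

namespace H60

open MulAction

variable {G Ω : Type*} [Group G] [Finite G] [MulAction G Ω] [Finite Ω] [IsPretransitive G Ω]

/-- `G = D · G_a` for a transitive subgroup `D`, so `[G_a : D_a] = [G : D]`. -/
theorem index_eq_relIndex_stabilizer (D : Subgroup G) (hDtr : IsPretransitive D Ω) (a : Ω) :
    (D ⊓ stabilizer G a).relIndex (stabilizer G a) = D.index := by
  have e1 := Subgroup.relIndex_mul_index (inf_le_left : D ⊓ stabilizer G a ≤ D)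
  have e2 := Subgroup.relIndex_mul_index (inf_le_right : D ⊓ stabilizer G a ≤ stabilizer G a)
  rw [Subgroup.inf_relIndex_left] at e1
  have e3 : (stabilizer G a).relIndex D = Nat.card Ω := by
    have h : (stabilizer G a).subgroupOf D = stabilizer D a := by
      ext x; rfl
    rw [Subgroup.relIndex, h]
    exact index_stabilizer_of_transitive D a
  rw [e3] at e1
  rw [index_stabilizer_of_transitive G a, ← e1, mul_comm (Nat.card Ω)] at e2
  haveI : Nonempty Ω := ⟨a⟩
  exact Nat.eq_of_mul_eq_mul_right Nat.card_pos e2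

/-- If every element outside `D` fixes a point, `[G : D]` divides the length of each suborbit. -/
theorem index_dvd_suborbit (D : Subgroup G) (hD : ∀ g, g ∉ D → ∃ ω : Ω, g • ω = ω) {a x : Ω}
    (hx : x ≠ a) : D.index ∣ Nat.card (orbit (stabilizer G a) x) := by
  obtain ⟨htr, hone⟩ := transitive_and_fix_one D hD
  rw [← index_eq_relIndex_stabilizer D htr a, Nat.card_congr (orbitEquivQuotientStabilizer (stabilizer G a) x)]
  show (D ⊓ stabilizer G a).relIndex (stabilizer G a) ∣ (stabilizer (stabilizer G a) x).index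
  rw [Subgroup.relIndex]
  apply Subgroup.index_dvd_of_le
  intro h hh
  rw [Subgroup.mem_subgroupOf]
  refine ⟨?_, h.2⟩
  by_contra hnD
  have h1 := hone _ hnD
  haveI : Subsingleton (fixedBy Ω (h : G)) := (Nat.card_eq_one_iff_unique.mp h1).1
  exact hx (congrArg Subtype.val (Subsingleton.elim
    (⟨x, hh⟩ : fixedBy Ω (h : G)) ⟨a, h.2⟩))

/-- If every element outside `D` fixes a point, `[G : D]` divides `n - 1`. -/
theorem index_dvd_card_sub_one (D : Subgroup G) (hD : ∀ g, g ∉ D → ∃ ω : Ω, g • ω = ω) (a : Ω) :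
    D.index ∣ Nat.card Ω - 1 := by
  classical
  haveI := Fintype.ofFinite Ω
  haveI : Fintype (orbitRel.Quotient (stabilizer G a) Ω) := Fintype.ofFinite _
  let q0 : orbitRel.Quotient (stabilizer G a) Ω := Quotient.mk'' a
  have hsum : Nat.card Ω = ∑ q : orbitRel.Quotient (stabilizer G a) Ω, Nat.card q.orbit := by
    rw [← Nat.card_sigma]
    exact Nat.card_congr (selfEquivSigmaOrbits' (stabilizer G a) Ω)
  rw [hsum, ← Finset.add_sum_erase _ _ (Finset.mem_univ q0)]
  have h1 : Nat.card q0.orbit = 1 := by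
    rw [orbitRel.Quotient.orbit_mk, Nat.card_eq_one_iff_unique]
    refine ⟨⟨fun x y => Subtype.ext ?_⟩, ⟨⟨a, mem_orbit_self a⟩⟩⟩
    obtain ⟨⟨g, hg⟩, hgx⟩ := x.2
    obtain ⟨⟨g', hg'⟩, hgy⟩ := y.2
    rw [← hgx, ← hgy]
    exact hg.trans hg'.symm
  rw [h1, Nat.add_sub_cancel_left]
  refine Finset.dvd_sum fun q hq => ?_
  induction q using Quotient.inductionOn' with
  | h x =>
    rw [orbitRel.Quotient.orbit_mk]
    refine index_dvd_suborbit D hD ?_
    rintro rfl
    exact (Finset.mem_erase.mp hq).1 rfl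

end H60
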