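import Cfsg.Agent.H60.Basic

set_option autoImplicit false

namespace H60

open MulAction

open Finset in
/-- Burnside's lemma with `Nat.card`. -/
theorem sum_fix_eq {G : Type*} [Group G] [Fintype G] (X : Type*) [MulAction G X] [Finite X] :
    ∑ g : G, Nat.card (fixedBy X g) = Nat.card (orbitRel.Quotient G X) * Nat.card G := by
  classical
  haveI := Fintype.ofFinite X
  haveI : Fintype (orbitRel.Quotient G X) := Fintype.ofFinite _
  simp only [Nat.card_eq_fintype_card]
  exact sum_card_fixedBy_eq_card_orbits_mul_card_group G X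

theorem card_orbits_eq_one {G : Type*} [Group G] (X : Type*) [MulAction G X] [IsPretransitive G X]
    [Nonempty X] : Nat.card (orbitRel.Quotient G X) = 1 := by
  haveI : Subsingleton (orbitRel.Quotient G X) :=
    pretransitive_iff_subsingleton_quotient G X |>.mp inferInstance
  haveI : Nonempty (orbitRel.Quotient G X) := Nonempty.map Quotient.mk'' ‹_›
  exact Nat.card_unique

theorem isPretransitive_of_card_orbits_le_one {G : Type*} [Group G] (X : Type*) [MulAction G X]
    [Finite X] (h : Nat.card (orbitRel.Quotient G X) ≤ 1) : IsPretransitive G X :=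
  (pretransitive_iff_subsingleton_quotient G X).mpr
    (Finite.card_le_one_iff_subsingleton.mp h)

theorem sum_fix_eq_card {G : Type*} [Group G] [Fintype G] (X : Type*) [MulAction G X] [Finite X]
    [IsPretransitive G X] [Nonempty X] : ∑ g : G, Nat.card (fixedBy X g) = Nat.card G := by
  rw [sum_fix_eq, card_orbits_eq_one, one_mul]

theorem card_fixedBy_prod {G : Type*} [Group G] (X : Type*) [MulAction G X] (g : G) :
    Nat.card (fixedBy (X × X) g) = Nat.card (fixedBy X g) ^ 2 := by
  have e : fixedBy (X × X) g ≃ fixedBy X g × fixedBy X g :=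
    { toFun := fun x => (⟨x.1.1, congrArg Prod.fst x.2⟩, ⟨x.1.2, congrArg Prod.snd x.2⟩)
      invFun := fun y => ⟨(y.1.1, y.2.1), Prod.ext y.1.2 y.2.2⟩
      left_inv := fun _ => rfl
      right_inv := fun _ => rfl }
  rw [Nat.card_congr e, Nat.card_prod, sq]

/-- Splitting a sum over a group along a subgroup. -/
theorem sum_split {G : Type*} [Group G] [Fintype G] (D : Subgroup G) [Fintype D]
    [DecidablePred (· ∈ D)] (f : G → ℕ) :
    ∑ g : G, f g = (∑ d : D, f d) + ∑ g ∈ Finset.univ.filter (fun g => g ∉ D), f g := by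
  rw [← Finset.sum_filter_add_sum_filter_not Finset.univ (fun g : G => g ∈ D) f]
  congr 1
  exact Finset.sum_subtype _ (fun g => by simp) f

theorem card_filter_not_mem {G : Type*} [Group G] [Fintype G] (D : Subgroup G)
    [DecidablePred (· ∈ D)] :
    (Finset.univ.filter (fun g => g ∉ D)).card + Nat.card D = Nat.card G := by
  have h := Finset.card_filter_add_card_filter_not (s := (Finset.univ : Finset G))
    (fun g : G => g ∈ D)
  have h2 : (Finset.univ.filter (fun g : G => g ∈ D)).card = Nat.card D := by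
    rw [Nat.card_eq_fintype_card, Fintype.card_subtype]
  rw [h2, Finset.card_univ, ← Nat.card_eq_fintype_card] at h
  omega

/-- If every element outside `D` fixes a point of a transitive action, then `D` is transitive and
every element outside `D` fixes exactly one point. -/
theorem transitive_and_fix_one {G Ω : Type*} [Group G] [Finite G] [MulAction G Ω] [Finite Ω]
    [IsPretransitive G Ω] (D : Subgroup G) (hD : ∀ g, g ∉ D → ∃ ω : Ω, g • ω = ω) :
    IsPretransitive D Ω ∧ ∀ g, g ∉ D → Nat.card (fixedBy Ω g) = 1 := by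
  classical
  rcases isEmpty_or_nonempty Ω with hΩ | hΩ
  · exact ⟨⟨fun a => isEmptyElim a⟩, fun g hg => isEmptyElim (hD g hg).choose⟩
  haveI := Fintype.ofFinite G
  have hpos : ∀ g, g ∉ D → 1 ≤ Nat.card (fixedBy Ω g) := fun g hg => by
    obtain ⟨ω, hω⟩ := hD g hg
    haveI : Nonempty (fixedBy Ω g) := ⟨⟨ω, hω⟩⟩
    exact Nat.card_pos
  have h := sum_fix_eq_card (G := G) Ω
  rw [sum_split D] at h
  have hd : ∑ d : D, Nat.card (fixedBy Ω (d : G)) = Nat.card (orbitRel.Quotient D Ω) * Nat.card D :=
    sum_fix_eq (G := D) Ω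
  rw [hd] at h
  have hge : (Finset.univ.filter (fun g => g ∉ D)).card ≤
      ∑ g ∈ Finset.univ.filter (fun g => g ∉ D), Nat.card (fixedBy Ω g) := by
    rw [Finset.card_eq_sum_ones]
    exact Finset.sum_le_sum fun g hg => hpos g (by simpa using hg)
  have hc := card_filter_not_mem D
  haveI : Nonempty (orbitRel.Quotient D Ω) := Nonempty.map Quotient.mk'' hΩ
  have h1 : 1 ≤ Nat.card (orbitRel.Quotient D Ω) := Nat.card_pos
  have hDpos : 0 < Nat.card D := Nat.card_pos
  have h2 : Nat.card (orbitRel.Quotient D Ω) ≤ 1 := by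
    by_contra hlt
    have : 2 * Nat.card D ≤ Nat.card (orbitRel.Quotient D Ω) * Nat.card D :=
      Nat.mul_le_mul_right _ (by omega)
    omega
  refine ⟨isPretransitive_of_card_orbits_le_one Ω h2, fun g hg => ?_⟩
  have heq : Nat.card (orbitRel.Quotient D Ω) = 1 := le_antisymm h2 h1
  rw [heq, one_mul] at h
  have hsum : ∑ g ∈ Finset.univ.filter (fun g => g ∉ D), 1 =
      ∑ g ∈ Finset.univ.filter (fun g => g ∉ D), Nat.card (fixedBy Ω g) := by
    rw [← Finset.card_eq_sum_ones]; omega
  exact ((Finset.sum_eq_sum_iff_of_le fun g hg => hpos g (by simpa using hg)).mp hsum g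
    (by simpa using hg)).symm

/-- The derangement subgroup misses only elements with a fixed point. -/
theorem exists_fixed_of_notMem_closure {G Ω : Type*} [Group G] [MulAction G Ω] (g : G)
    (hg : g ∉ Subgroup.closure {g : G | ∀ ω : Ω, g • ω ≠ ω}) : ∃ ω : Ω, g • ω = ω := by
  by_contra h
  exact hg (Subgroup.subset_closure fun ω hω => h ⟨ω, hω⟩)

/-- Rank formula: `(r_D - 1) = (r_G - 1) [G : D]`. -/
theorem rank_formula {G Ω : Type*} [Group G] [Finite G] [MulAction G Ω] [Finite Ω]
    [IsPretransitive G Ω] (D : Subgroup G) (hD : ∀ g, g ∉ D → ∃ ω : Ω, g • ω = ω) :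
    Nat.card (orbitRel.Quotient D (Ω × Ω)) - 1 =
      (Nat.card (orbitRel.Quotient G (Ω × Ω)) - 1) * D.index := by
  classical
  rcases isEmpty_or_nonempty Ω with hΩ | hΩ
  · simp [Nat.card_eq_zero.mpr (Or.inl (inferInstance : IsEmpty (orbitRel.Quotient D (Ω × Ω)))),
      Nat.card_eq_zero.mpr (Or.inl (inferInstance : IsEmpty (orbitRel.Quotient G (Ω × Ω))))]
  haveI := Fintype.ofFinite G
  have h := sum_fix_eq (G := G) (Ω × Ω)
  rw [sum_split D] at h
  have hd : ∑ d : D, Nat.card (fixedBy (Ω × Ω) (d : G)) =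
      Nat.card (orbitRel.Quotient D (Ω × Ω)) * Nat.card D := sum_fix_eq (G := D) (Ω × Ω)
  have hout : ∑ g ∈ Finset.univ.filter (fun g => g ∉ D), Nat.card (fixedBy (Ω × Ω) g) =
      (Finset.univ.filter (fun g => g ∉ D)).card := by
    rw [Finset.card_eq_sum_ones]
    refine Finset.sum_congr rfl fun g hg => ?_
    rw [card_fixedBy_prod, (transitive_and_fix_one D hD).2 g (by simpa using hg), one_pow]
  rw [hd, hout] at h
  have hc := card_filter_not_mem D
  haveI : Nonempty (orbitRel.Quotient G (Ω × Ω)) := Nonempty.map Quotient.mk'' inferInstance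
  haveI : Nonempty (orbitRel.Quotient D (Ω × Ω)) := Nonempty.map Quotient.mk'' inferInstance
  obtain ⟨a, ha⟩ := Nat.exists_eq_succ_of_ne_zero
    (Nat.card_pos (α := orbitRel.Quotient G (Ω × Ω))).ne'
  obtain ⟨b, hb⟩ := Nat.exists_eq_succ_of_ne_zero
    (Nat.card_pos (α := orbitRel.Quotient D (Ω × Ω))).ne'
  rw [ha, hb] at h ⊢
  have hi : Nat.card D * D.index = Nat.card G := D.card_mul_index
  have hDpos : 0 < Nat.card D := Nat.card_pos
  simp only [Nat.succ_eq_add_one, Nat.add_sub_cancel, add_mul, one_mul] at h ⊢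
  have hk : b * Nat.card D = a * D.index * Nat.card D := by
    rw [mul_assoc, mul_comm D.index, hi]; omega
  exact Nat.eq_of_mul_eq_mul_right hDpos hk

end H60
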