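import Mathlib
import Cfsg.Prelude.Def_FusionSystem
import Cfsg.Agent.H85.Essential
import Cfsg.Agent.H85.Saturation
import Cfsg.Agent.H87.Essential

/-!
The data a saturated fusion system with an abelian essential subgroup `E` puts on the group `S`
itself: maps between its subgroups, extension, the Sylow property, and the strongly `p`-embedded
subgroup of the automizer of `E`.
-/

set_option autoImplicit false
set_option linter.unusedSectionVars false

open Cfsg Cfsg.FusionSystem

namespace H60

universe u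

variable {G : Type u} [Group G]

/-- Maps on the subgroups of `G` around a distinguished abelian subgroup `E`. -/
structure EWorld (G : Type u) [Group G] (p : ℕ) (E : Subgroup G) where
  Hom : ∀ H : Subgroup G, (H →* G) → Prop
  inj : ∀ {H : Subgroup G} {f : H →* G}, Hom H f → Function.Injective f
  conj : ∀ (H : Subgroup G) (g : G), Hom H ((MulAut.conj g).toMonoidHom.comp H.subtype)
  comp : ∀ {H K : Subgroup G} {f : H →* G} {f' : K →* G}, Hom H f → Hom K f' →
    ∀ h : ∀ x, f x ∈ K, Hom H (f'.comp (f.codRestrict K h))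
  restr : ∀ {H K : Subgroup G} {f : K →* G}, Hom K f → ∀ h : H ≤ K, Hom H (f.comp (Subgroup.inclusion h))
  small : ∀ {H : Subgroup G} {f : H →* G}, Hom H f → f.range = E →
    Nat.card (Subgroup.normalizer (H : Set G)) ≤ Nat.card (Subgroup.normalizer (E : Set G)) ∧
      ∀ g : G, (∀ x ∈ H, g * x = x * g) → g ∈ H
  ext : ∀ {H R : Subgroup G} {f : H →* G}, Hom H f → f.range = R → (R.Normal ∨ R = E) →
    ∀ K : Subgroup G, ∀ hHK : H ≤ K,
      (∀ k ∈ K, k ∈ Subgroup.normalizer (H : Set G) ∧
        ∃ h : G, ∀ (x : H) (hx : k * (x : G) * k⁻¹ ∈ H), f ⟨k * (x : G) * k⁻¹, hx⟩ = h * f x * h⁻¹) →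
      ∃ f' : K →* G, Hom K f' ∧ ∀ x : H, f' (Subgroup.inclusion hHK x) = f x
  sylow : ∀ (H : Subgroup G), (H.Normal ∨ H = E) → ∀ K : Subgroup (MulAut H), IsPGroup p K →
    (∀ α ∈ K, Hom H (H.subtype.comp (α : MulAut H).toMonoidHom)) →
    (∀ g : Subgroup.normalizer (H : Set G), H.normalizerMonoidHom g ∈ K) →
    ∀ α ∈ K, ∃ g : G, ∀ x : H, ((α x : H) : G) = g * (x : G) * g⁻¹
  emb : ∃ (Q : Type u) (_ : Group Q) (_ : Finite Q) (f : Q →* MulAut E) (Y : Subgroup Q),
    Function.Injective f ∧ IsStronglyPEmbedded p Y ∧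
      (∀ g : Subgroup.normalizer (E : Set G), E.normalizerMonoidHom g ∈ f.range) ∧
      ∀ q : Q, Hom E (E.subtype.comp (f q).toMonoidHom)

namespace EWorld

variable {p : ℕ} {E : Subgroup G}

/-- The automorphisms of `H` that are maps. -/
def Aut (w : EWorld G p E) (H : Subgroup G) (α : MulAut H) : Prop :=
  w.Hom H (H.subtype.comp α.toMonoidHom)

theorem aut_one (w : EWorld G p E) (H : Subgroup G) : w.Aut H 1 := by
  have : H.subtype.comp (1 : MulAut H).toMonoidHom = (MulAut.conj (1 : G)).toMonoidHom.comp H.subtype := by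
    ext x; simp
  rw [Aut, this]
  exact w.conj H 1

theorem aut_mul (w : EWorld G p E) {H : Subgroup G} {α β : MulAut H} (hα : w.Aut H α) (hβ : w.Aut H β) :
    w.Aut H (α * β) := by
  have := w.comp hβ hα (fun x => (β x).2)
  exact this

end EWorld

variable {Ω : Type u} [Group Ω] {S : Subgroup Ω}

/-- The subgroup of `Ω` carried by a subgroup of `S`. -/
abbrev up (H : Subgroup S) : Subgroup Ω := H.map S.subtype

/-- The identification of a subgroup of `S` with its copy in `Ω`. -/
noncomputable def upEquiv (H : Subgroup S) : H ≃* up H :=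
  H.equivMapOfInjective S.subtype S.subtype_injective

theorem upEquiv_coe (H : Subgroup S) (x : H) : ((upEquiv H x : up H) : Ω) = ((x : S) : Ω) :=
  Subgroup.coe_equivMapOfInjective_apply H S.subtype S.subtype_injective x

theorem up_le (H : Subgroup S) : up H ≤ S := Subgroup.map_subtype_le H

theorem mem_up {H : Subgroup S} {g : S} : (g : Ω) ∈ up H ↔ g ∈ H :=
  Subgroup.mem_map_iff_mem S.subtype_injective

theorem mem_normalizer_up {H : Subgroup S} {g : S} [Finite S] :
    (g : Ω) ∈ Subgroup.normalizer (up H : Set Ω) ↔ g ∈ Subgroup.normalizer (H : Set S) := by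
  haveI := H85.finite_of_le (up_le H)
  constructor
  · intro h
    refine H85.mem_normalizer_of_conj fun x hx => ?_
    have := H85.conj_mem_of_mem_normalizer h (mem_up.2 hx)
    rw [← Subgroup.coe_inv, ← Subgroup.coe_mul, ← Subgroup.coe_mul] at this
    exact mem_up.1 this
  · intro h
    refine H85.mem_normalizer_of_conj fun x hx => ?_
    obtain ⟨y, hy, rfl⟩ := hx
    have := (mem_up (Ω := Ω)).2 (H85.conj_mem_of_mem_normalizer h hy)
    simpa using this

theorem card_normalizerIn_up [Finite S] (H : Subgroup S) :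
    Nat.card (normalizerIn S (up H)) = Nat.card (Subgroup.normalizer (H : Set S)) := by
  have : normalizerIn S (up H) = up (Subgroup.normalizer (H : Set S)) := by
    ext g
    constructor
    · intro hg
      exact ⟨⟨g, hg.1⟩, mem_normalizer_up.1 hg.2, rfl⟩
    · rintro ⟨y, hy, rfl⟩
      exact ⟨y.2, mem_normalizer_up.2 hy⟩
  rw [this]
  exact (Nat.card_congr (upEquiv _).toEquiv).symm

/-- A fusion system with an abelian essential subgroup gives a world on `S`. -/
theorem exists_eworld [Finite S] {p : ℕ} [Fact p.Prime] (hS : IsPGroup p S) {F : FusionSystem S}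
    (hF : F.IsSaturated p) {E : Subgroup Ω} (hE : F.IsEssential p E) (hab : IsMulCommutative E) :
    Nonempty (EWorld S p (E.subgroupOf S)) := by
  classical
  set E0 := E.subgroupOf S
  have hupE : up E0 = E := Subgroup.map_subgroupOf_eq_of_le hE.1.1
  have hFN : ∀ R : Subgroup S, (R.Normal ∨ R = E0) → F.IsFullyNormalized (up R) := by
    intro R hR
    rcases hR with hR | rfl
    · refine ⟨up_le R, fun Q hQ => ?_⟩
      rw [card_normalizerIn_up, Subgroup.normalizer_eq_top_iff.2 hR, Subgroup.card_top]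
      exact Subgroup.card_le_of_le (H85.normalizerIn_le Q)
    · rw [hupE]; exact hE.2.1
  let Hom : ∀ H : Subgroup S, (H →* S) → Prop := fun H f =>
    (S.subtype.comp f).comp (upEquiv H).symm.toMonoidHom ∈ F.Hom (up H)
  have happ : ∀ {H : Subgroup S} (f : H →* S) (x : H),
      (S.subtype.comp f).comp (upEquiv H).symm.toMonoidHom (upEquiv H x) = (f x : Ω) := fun f x => by
    simp
  have hrange : ∀ {H R : Subgroup S} (f : H →* S), f.range = R →
      ((S.subtype.comp f).comp (upEquiv H).symm.toMonoidHom).range = up R := by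
    intro H R f hf
    rw [MonoidHom.range_comp, MonoidHom.range_eq_top.2 (upEquiv H).symm.surjective,
      ← MonoidHom.range_eq_map, MonoidHom.range_comp, hf]
  refine ⟨⟨Hom, fun {H f} hf => ?_, fun H g => ?_, fun {H K f f'} hf hf' h => ?_,
    fun {H K f} hf h => ?_, fun {H f} hf hr => ?_, fun {H R f} hf hr hR K hHK hk => ?_,
    fun H hH K hK hKF hKc α hα => ?_, ?_⟩⟩
  · intro a b hab
    have := F.injective_of_mem hf (a₁ := upEquiv H a) (a₂ := upEquiv H b)
      (by rw [happ, happ, hab])
    exact (upEquiv H).injective this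
  · refine H85.hom_congr (F.conj_mem (up_le H) g.2) fun x => ?_
    obtain ⟨x, rfl⟩ := (upEquiv H).surjective x
    rw [happ]
    show (g : Ω) * ((upEquiv H x : up H) : Ω) * (g : Ω)⁻¹ = _
    rw [upEquiv_coe]
    rfl
  · refine H85.hom_congr (F.comp_mem hf hf' fun x => mem_up.2 (h _)) fun x => ?_
    obtain ⟨x, rfl⟩ := (upEquiv H).surjective x
    rw [happ, MonoidHom.comp_apply]
    have : ((S.subtype.comp f).comp (upEquiv H).symm.toMonoidHom).codRestrict (up K)
        (fun x => mem_up.2 (h _)) (upEquiv H x) = upEquiv K (f.codRestrict K h x) := by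
      apply Subtype.ext
      rw [upEquiv_coe]
      exact happ f x
    rw [this, happ]
    rfl
  · refine H85.of_extend hf (Subgroup.map_mono h) fun x => ?_
    obtain ⟨x, rfl⟩ := (upEquiv H).surjective x
    rw [happ, show Subgroup.inclusion (Subgroup.map_mono h) (upEquiv H x) =
      upEquiv K (Subgroup.inclusion h x) from Subtype.ext (by
        rw [Subgroup.coe_inclusion, upEquiv_coe, upEquiv_coe]; rfl), happ]
    rfl
  · have hr' := hrange f hr
    rw [hupE] at hr'
    have hconj : F.IsConj E (up H) := H85.isConj_symm ⟨_, hf, hr'⟩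
    refine ⟨?_, fun g hg => ?_⟩
    · rw [← card_normalizerIn_up, ← card_normalizerIn_up, hupE]
      exact hE.2.1.2 _ hconj
    · refine mem_up.1 (H85.centric_self (H85.centric_of_isConj hE.1 hconj)
        (H85.mem_centralizerIn.2 ⟨g.2, ?_⟩))
      rintro _ ⟨y, hy, rfl⟩
      exact congrArg Subtype.val (hg y hy).symm
  · obtain ⟨ψ, hψ, hψx⟩ := (H85.receptive_of_fullyNormalized hS hF (hFN R hR)).2 (up H) _ hf
      (hrange f hr)
    have hle : up K ≤ extender S (up H) ((S.subtype.comp f).comp (upEquiv H).symm.toMonoidHom) := by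
      rintro _ ⟨k, hk', rfl⟩
      obtain ⟨hkn, c, hc⟩ := hk k hk'
      refine H85.mem_extender.2 ⟨k.2, mem_normalizer_up.2 hkn, c, c.2, fun x hx => ?_⟩
      obtain ⟨x, rfl⟩ := (upEquiv H).surjective x
      have hmem : k * (x : S) * k⁻¹ ∈ H := H85.conj_mem_of_mem_normalizer hkn x.2
      rw [show (⟨(S.subtype k) * ((upEquiv H x : up H) : Ω) * (S.subtype k)⁻¹, hx⟩ : up H) =
        upEquiv H ⟨k * (x : S) * k⁻¹, hmem⟩ from Subtype.ext (by
          show (k : Ω) * ((upEquiv H x : up H) : Ω) * (k : Ω)⁻¹ = _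
          rw [upEquiv_coe, upEquiv_coe]; rfl), happ, happ, hc x hmem]
      rfl
    let f' : K →* S := ((ψ.comp (Subgroup.inclusion hle)).comp (upEquiv K).toMonoidHom).codRestrict S
      fun x => H85.map_mem hψ _
    refine ⟨f', ?_, fun x => Subtype.ext ?_⟩
    · refine H85.of_extend hψ hle fun x => ?_
      obtain ⟨x, rfl⟩ := (upEquiv K).surjective x
      rw [happ]
      rfl
    · have e := hψx ((x : S) : Ω) (mem_up.2 x.2) (hle (mem_up.2 (hHK x.2)))
      refine Eq.trans ?_ (e.trans ((congrArg _ (Subtype.ext ?_)).trans (happ f x)))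
      · show ψ ⟨((upEquiv K (Subgroup.inclusion hHK x) : up K) : Ω), _⟩ = _
        exact congrArg ψ (Subtype.ext (upEquiv_coe K _))
      · exact (upEquiv_coe H x).symm
  · have hfa := (H85.isFullyAutomized_iff hS).1
      (H85.fullyAutomized_of_fullyNormalized hS hF (hFN H hH))
    set c := MulAut.congr (upEquiv H)
    have hmem : ∀ β ∈ K, c β ∈ F.autGroup (up H) := fun β hβ =>
      (H85.mem_autGroup (up_le H)).2 (H85.hom_congr (hKF β hβ) fun x => by
        obtain ⟨x, rfl⟩ := (upEquiv H).surjective x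
        rw [happ]
        show _ = ((c β (upEquiv H x) : up H) : Ω)
        simp [c, upEquiv_coe])
    have hge : autInducedBy S (up H) ≤ K.map c.toMonoidHom := by
      intro β hβ
      obtain ⟨g, hg, hgx⟩ := H85.mem_autInducedBy.1 hβ
      have hn : (⟨g, hg⟩ : S) ∈ Subgroup.normalizer (H : Set S) :=
        mem_normalizer_up.1 (H85.mem_normalizer_of_induced hgx)
      refine ⟨_, hKc ⟨_, hn⟩, MulEquiv.ext fun x => Subtype.ext ?_⟩
      obtain ⟨x, rfl⟩ := (upEquiv H).surjective x
      rw [hgx, upEquiv_coe]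
      simp [c, upEquiv_coe]
    have heq := hfa.2 (K.map c.toMonoidHom) (by rintro _ ⟨β, hβ, rfl⟩; exact hmem β hβ) (hK.map _) hge
    have hα' : c α ∈ autInducedBy S (up H) := heq ▸ Subgroup.mem_map_of_mem _ hα
    obtain ⟨g, hg, hgx⟩ := H85.mem_autInducedBy.1 hα'
    refine ⟨⟨g, hg⟩, fun x => Subtype.ext ?_⟩
    have := hgx (upEquiv H x)
    simpa [c, upEquiv_coe] using this
  · obtain ⟨hn, Y, hY⟩ := hE.2.2
    haveI := hn
    haveI := H85.finite_of_le hE.1.1
    set A := F.autGroup E
    have hN : (Inn E).subgroupOf A = ⊥ := by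
      rw [eq_bot_iff]
      intro a ha
      exact Subgroup.mem_bot.2 (Subtype.ext (H87.inn_eq_one_of_comm hab (Subgroup.mem_subgroupOf.1 ha)))
    set r : E0 ≃* E := Subgroup.subgroupOfEquivOfLe hE.1.1
    let f : A ⧸ (Inn E).subgroupOf A →* MulAut E0 :=
      (MulAut.congr r.symm).toMonoidHom.comp
        (QuotientGroup.lift _ A.subtype (by rw [hN]; exact bot_le))
    refine ⟨_, inferInstance, inferInstance, f, Y, ?_, hY, fun g => ?_, fun q => ?_⟩
    · intro a b hab'
      obtain ⟨a, rfl⟩ := QuotientGroup.mk'_surjective _ a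
      obtain ⟨b, rfl⟩ := QuotientGroup.mk'_surjective _ b
      have : (a : MulAut E) = b := (MulAut.congr r.symm).injective hab'
      rw [Subtype.ext this]
    · have hgN : ((g : S) : Ω) ∈ normalizerIn S E :=
        ⟨g.1.2, by have := mem_normalizer_up.2 g.2; rwa [hupE] at this⟩
      have hβ : H85.conjAut S E ⟨_, hgN⟩ ∈ A :=
        H85.autInducedBy_le_autGroup F hE.1.1 (H85.conjAut_range S E ▸ ⟨_, rfl⟩)
      refine ⟨QuotientGroup.mk ⟨_, hβ⟩, MulEquiv.ext fun x => Subtype.ext (Subtype.ext ?_)⟩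
      rfl
    · obtain ⟨a, rfl⟩ := QuotientGroup.mk'_surjective _ q
      show _ ∈ F.Hom (up E0)
      have ha := (H85.mem_autGroup hE.1.1).1 a.2
      have hx : ∀ x : up E0, ((up E0).subtype x) ∈ E := fun x => hupE ▸ x.2
      refine H85.hom_congr (F.comp_mem (H85.id_mem F (up_le E0)) ha hx) fun x => ?_
      obtain ⟨x, rfl⟩ := (upEquiv E0).surjective x
      rw [happ]
      show (((a : MulAut E) ⟨((upEquiv E0 x : up E0) : Ω), hx (upEquiv E0 x)⟩ : E) : Ω) = _
      rw [show (⟨((upEquiv E0 x : up E0) : Ω), hx (upEquiv E0 x)⟩ : E) = r x from Subtype.ext (upEquiv_coe _ x)]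
      rfl

end H60
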