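import Cfsg.Agent.H60.Basic

set_option autoImplicit false

namespace H60

open MulAction

variable {G Ω : Type*} [Group G] [MulAction G Ω]

/-- Length of the suborbit of `x` at `a`. -/
noncomputable def suborbitLen (G : Type*) {Ω : Type*} [Group G] [MulAction G Ω] (a x : Ω) : ℕ :=
  Nat.card (orbit (stabilizer G a) x)

theorem suborbitLen_smul (g : G) (a x : Ω) :
    suborbitLen G (g • a) (g • x) = suborbitLen G a x := by
  have h : orbit (stabilizer G (g • a)) (g • x) = (fun y => g • y) '' orbit (stabilizer G a) x := by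
    ext y
    constructor
    · rintro ⟨⟨h, hh⟩, rfl⟩
      refine ⟨g⁻¹ • h • g • x, ⟨⟨g⁻¹ * h * g, ?_⟩, ?_⟩, smul_inv_smul g _⟩
      · rw [mem_stabilizer_iff, mul_smul, mul_smul, mem_stabilizer_iff.mp hh, inv_smul_smul]
      · show (g⁻¹ * h * g) • x = _
        rw [mul_smul, mul_smul]
    · rintro ⟨z, ⟨⟨h, hh⟩, rfl⟩, rfl⟩
      refine ⟨⟨g * h * g⁻¹, ?_⟩, ?_⟩
      · rw [mem_stabilizer_iff, mul_smul, mul_smul, inv_smul_smul, mem_stabilizer_iff.mp hh]
      · show (g * h * g⁻¹) • g • x = g • (⟨h, hh⟩ : stabilizer G a) • x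
        rw [mul_smul, mul_smul, inv_smul_smul]; rfl
  rw [suborbitLen, suborbitLen, h]
  exact Nat.card_image_of_injective (MulAction.injective g) _

theorem card_stabilizer_eq [IsPretransitive G Ω] (a b : Ω) :
    Nat.card (stabilizer G a) = Nat.card (stabilizer G b) := by
  obtain ⟨g, rfl⟩ := exists_smul_eq G a b
  exact Nat.card_congr (stabilizerEquivStabilizer (g := g) rfl).toEquiv

theorem suborbitLen_mul (a x : Ω) :
    suborbitLen G a x * Nat.card (stabilizer G a ⊓ stabilizer G x : Subgroup G) =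
      Nat.card (stabilizer G a) := by
  rw [suborbitLen, Nat.card_congr (orbitEquivQuotientStabilizer (stabilizer G a) x)]
  have h : stabilizer (stabilizer G a) x = (stabilizer G a ⊓ stabilizer G x).subgroupOf (stabilizer G a) := by
    ext y
    constructor
    · intro hy; exact ⟨y.2, hy⟩
    · intro hy; exact hy.2
  rw [h, ← Nat.card_congr (Subgroup.subgroupOfEquivOfLe (inf_le_left : stabilizer G a ⊓ stabilizer G x ≤ _)).toEquiv]
  exact (Subgroup.card_eq_card_quotient_mul_card_subgroup _).symm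

theorem suborbitLen_comm [Finite G] [IsPretransitive G Ω] (a x : Ω) :
    suborbitLen G a x = suborbitLen G x a := by
  have h1 := suborbitLen_mul (G := G) a x
  have h2 := suborbitLen_mul (G := G) x a
  rw [inf_comm, card_stabilizer_eq x a, ← h1] at h2
  exact (Nat.eq_of_mul_eq_mul_right Nat.card_pos h2).symm

/-- Distinct points of a primitive group with nontrivial stabilisers have distinct stabilisers,
and two of them generate. -/
theorem stabilizer_sup_eq_top [FaithfulSMul G Ω] [IsPreprimitive G Ω]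
    (hH : ∀ a : Ω, stabilizer G a ≠ ⊥) {a b : Ω} (hab : a ≠ b) :
    stabilizer G a ⊔ stabilizer G b = ⊤ := by
  haveI : Nontrivial Ω := ⟨⟨a, b, hab⟩⟩
  have hca := IsPreprimitive.isCoatom_stabilizer_of_isPreprimitive G a
  have hcb := IsPreprimitive.isCoatom_stabilizer_of_isPreprimitive G b
  refine hca.2 _ (lt_of_le_of_ne le_sup_left fun h => ?_)
  have hle : stabilizer G b ≤ stabilizer G a := h ▸ le_sup_right
  have heq : stabilizer G b = stabilizer G a := by
    by_contra hne
    exact hca.1 (hcb.2 _ (lt_of_le_of_ne hle hne))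
  -- then the stabiliser is normal
  obtain ⟨g, hg⟩ := exists_smul_eq G a b
  have hgn : g ∈ Subgroup.normalizer (stabilizer G a : Set G) := by
    rw [Subgroup.mem_normalizer_iff]
    intro y
    constructor
    · intro hy
      rw [← heq, mem_stabilizer_iff, ← hg, mul_smul, mul_smul, inv_smul_smul,
        mem_stabilizer_iff.mp hy]
    · intro hy
      rw [← heq, mem_stabilizer_iff, ← hg, mul_smul, mul_smul, inv_smul_smul,
        smul_left_cancel_iff] at hy
      exact hy
  by_cases htop : Subgroup.normalizer (stabilizer G a : Set G) = ⊤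
  · have hn : (stabilizer G a).Normal := Subgroup.normalizer_eq_top_iff.mp htop
    exact hH a (eq_bot_iff.mpr fun n hn' => Subgroup.mem_bot.mpr
      (eq_one_of_forall_smul_eq (normal_fixes_all hn (a := a) (fun m hm => hm) n hn')))
  · have : Subgroup.normalizer (stabilizer G a : Set G) = stabilizer G a := by
      by_contra hne
      exact htop (hca.2 _ (lt_of_le_of_ne Subgroup.le_normalizer (Ne.symm hne)))
    rw [this, mem_stabilizer_iff, hg] at hgn
    exact hab hgn.symm

/-- A set invariant under two distinct point stabilisers is empty or everything. -/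
theorem eq_univ_of_invariant [FaithfulSMul G Ω] [IsPreprimitive G Ω]
    (hH : ∀ a : Ω, stabilizer G a ≠ ⊥) {a b : Ω} (hab : a ≠ b) {S : Set Ω}
    (hne : S.Nonempty) (ha : ∀ g ∈ stabilizer G a, ∀ x ∈ S, g • x ∈ S)
    (hb : ∀ g ∈ stabilizer G b, ∀ x ∈ S, g • x ∈ S) : S = Set.univ := by
  have hall : ∀ g : G, (∀ x ∈ S, g • x ∈ S) ∧ (∀ x ∈ S, g⁻¹ • x ∈ S) := by
    intro g
    have hg : g ∈ Subgroup.closure ((stabilizer G a : Set G) ∪ stabilizer G b) := by
      rw [Subgroup.closure_union, Subgroup.closure_eq, Subgroup.closure_eq,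
        stabilizer_sup_eq_top hH hab]
      exact Subgroup.mem_top g
    induction hg using Subgroup.closure_induction with
    | mem y hy =>
      rcases hy with hy | hy
      · exact ⟨ha y hy, ha _ (inv_mem hy)⟩
      · exact ⟨hb y hy, hb _ (inv_mem hy)⟩
    | one => simp
    | mul y z _ _ hy hz =>
      refine ⟨fun x hx => ?_, fun x hx => ?_⟩
      · rw [mul_smul]; exact hy.1 _ (hz.1 x hx)
      · rw [mul_inv_rev, mul_smul]; exact hz.2 _ (hy.2 x hx)
    | inv y _ hy => exact ⟨hy.2, by simpa using hy.1⟩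
  obtain ⟨x, hx⟩ := hne
  refine Set.eq_univ_of_forall fun y => ?_
  obtain ⟨g, rfl⟩ := exists_smul_eq G x y
  exact (hall g).1 x hx

/-- In an extremely primitive action, a normal subgroup of `G_a` moving `c` is transitive on
the orbit of `c`. -/
theorem transitive_of_moves
    (hep : ∀ (α : Ω) (ω : Ω), IsPreprimitive (stabilizer G α) (orbit (stabilizer G α) ω))
    {a c : Ω} {K : Subgroup G} (hK : K ≤ stabilizer G a)
    (hKn : ∀ g ∈ stabilizer G a, ∀ k ∈ K, g * k * g⁻¹ ∈ K) (hmove : ∃ k ∈ K, k • c ≠ c) :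
    ∀ y ∈ orbit (stabilizer G a) c, ∃ k ∈ K, k • c = y := by
  intro y hy
  haveI := hep a c
  let M : Subgroup (stabilizer G a) := K.subgroupOf (stabilizer G a)
  haveI : M.Normal := ⟨fun m hm g => hKn g g.2 m hm⟩
  have hne : fixedPoints M (orbit (stabilizer G a) c) ≠ Set.univ := by
    intro hall
    obtain ⟨k, hk, hkc⟩ := hmove
    have : (⟨c, mem_orbit_self c⟩ : orbit (stabilizer G a) c) ∈
        fixedPoints M (orbit (stabilizer G a) c) := hall ▸ Set.mem_univ _
    exact hkc (congrArg Subtype.val (this ⟨⟨k, hK hk⟩, hk⟩))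
  haveI : IsPretransitive M (orbit (stabilizer G a) c) :=
    IsQuasiPreprimitive.isPretransitive_of_normal (G := stabilizer G a) hne
  obtain ⟨m, hm⟩ := exists_smul_eq M
    (⟨c, mem_orbit_self c⟩ : orbit (stabilizer G a) c) ⟨y, hy⟩
  exact ⟨((m : stabilizer G a) : G), m.2, congrArg Subtype.val hm⟩

variable [Finite G] [Fintype Ω] [FaithfulSMul G Ω] [IsPreprimitive G Ω]

/-- A kernel on any suborbit fixes every suborbit of maximal length. -/
theorem kernel_fixes_max (hH : ∀ a : Ω, stabilizer G a ≠ ⊥)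
    (hep : ∀ (α : Ω) (ω : Ω), IsPreprimitive (stabilizer G α) (orbit (stabilizer G α) ω))
    (M : ℕ) (hM : ∀ a x : Ω, x ≠ a → suborbitLen G a x ≤ M) {a b c : Ω} (hba : b ≠ a) (hca : c ≠ a)
    (hc : suborbitLen G a c = M) (h : G) (hh : h ∈ stabilizer G a)
    (hfix : ∀ x ∈ orbit (stabilizer G a) b, h • x = x) : h • c = c := by
  by_contra hmove
  let K : Subgroup G :=
    { carrier := {k | k ∈ stabilizer G a ∧ ∀ x ∈ orbit (stabilizer G a) b, k • x = x}
      one_mem' := ⟨one_mem _, fun x _ => one_smul G x⟩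
      mul_mem' := fun {p q} hp hq => ⟨mul_mem hp.1 hq.1, fun x hx => by rw [mul_smul, hq.2 x hx, hp.2 x hx]⟩
      inv_mem' := fun {p} hp => ⟨inv_mem hp.1, fun x hx => by rw [inv_smul_eq_iff, hp.2 x hx]⟩ }
  have hKn : ∀ g ∈ stabilizer G a, ∀ k ∈ K, g * k * g⁻¹ ∈ K := by
    intro g hg k hk
    refine ⟨mul_mem (mul_mem hg hk.1) (inv_mem hg), fun x hx => ?_⟩
    have hx' : g⁻¹ • x ∈ orbit (stabilizer G a) b := by
      obtain ⟨s, rfl⟩ := hx
      exact ⟨⟨g⁻¹, inv_mem hg⟩ * s, mul_smul _ _ b⟩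
    rw [mul_smul, mul_smul, hk.2 _ hx', smul_inv_smul]
  have htr := transitive_of_moves hep (fun k (hk : k ∈ K) => hk.1) hKn ⟨h, ⟨hh, hfix⟩, hmove⟩
  set O := orbit (stabilizer G a) c
  have hsub : O ⊆ orbit (stabilizer G b) c := by
    intro y hy
    obtain ⟨k, hk, rfl⟩ := htr y hy
    exact ⟨⟨k, hk.2 b (mem_orbit_self b)⟩, rfl⟩
  have hcb : c ≠ b := by
    rintro rfl
    exact hmove (hfix c (mem_orbit_self c))
  have heq : O = orbit (stabilizer G b) c :=
    Set.eq_of_subset_of_ncard_le hsub (by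
      rw [← Nat.card_coe_set_eq, ← Nat.card_coe_set_eq]
      exact (hM b c hcb).trans hc.ge)
  have huniv : O = Set.univ := eq_univ_of_invariant hH (Ne.symm hba) ⟨c, mem_orbit_self c⟩
    (fun g hg x hx => by
      obtain ⟨s, rfl⟩ := hx
      exact ⟨⟨g, hg⟩ * s, mul_smul _ _ c⟩)
    (fun g hg x hx => by
      rw [heq] at hx ⊢
      obtain ⟨s, rfl⟩ := hx
      exact ⟨⟨g, hg⟩ * s, mul_smul _ _ c⟩)
  obtain ⟨⟨s, hs⟩, hsa⟩ : a ∈ O := huniv ▸ Set.mem_univ a
  change s • c = a at hsa
  exact hca (smul_left_cancel s (hsa.trans hs.symm))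

/-- Manning: in an extremely primitive group a point stabiliser is faithful on each of its
nontrivial orbits. -/
theorem extreme_faithful (hH : ∀ a : Ω, stabilizer G a ≠ ⊥)
    (hep : ∀ (α : Ω) (ω : Ω), IsPreprimitive (stabilizer G α) (orbit (stabilizer G α) ω))
    {a w : Ω} (hw : w ≠ a) (h : G) (hh : h ∈ stabilizer G a)
    (hfix : ∀ x ∈ orbit (stabilizer G a) w, h • x = x) : h = 1 := by
  classical
  obtain ⟨⟨b0, a0⟩, hmem, hmax⟩ := Finset.exists_max_image
    ((Finset.univ : Finset (Ω × Ω)).filter fun q => q.1 ≠ q.2) (fun q => suborbitLen G q.2 q.1)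
    ⟨(w, a), by simp [hw]⟩
  set M := suborbitLen G a0 b0
  have hM : ∀ a x : Ω, x ≠ a → suborbitLen G a x ≤ M := fun a x hx => hmax (x, a) (by simp [hx])
  have hb0 : b0 ≠ a0 := by simpa using hmem
  obtain ⟨g0, hg0⟩ := exists_smul_eq G a0 a
  set b := g0 • b0
  have hba : b ≠ a := fun e => hb0 (smul_left_cancel g0 (e.trans hg0.symm))
  have hbM : suborbitLen G a b = M := by rw [← hg0, suborbitLen_smul]
  -- elements fixing `a` and all maximal suborbits at `a`
  let J : Ω → Subgroup G := fun y =>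
    { carrier := {k | k • y = y ∧ ∀ x, x ≠ y → suborbitLen G y x = M → k • x = x}
      one_mem' := ⟨one_smul G y, fun x _ _ => one_smul G x⟩
      mul_mem' := fun {p q} hp hq => ⟨by rw [mul_smul, hq.1, hp.1],
        fun x h1 h2 => by rw [mul_smul, hq.2 x h1 h2, hp.2 x h1 h2]⟩
      inv_mem' := fun {p} hp => ⟨by rw [inv_smul_eq_iff, hp.1],
        fun x h1 h2 => by rw [inv_smul_eq_iff, hp.2 x h1 h2]⟩ }
  have hJmap : ∀ (g : G) (y : Ω), ∀ k ∈ J y, g * k * g⁻¹ ∈ J (g • y) := by
    intro g y k hk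
    refine ⟨by rw [mul_smul, mul_smul, inv_smul_smul, hk.1], fun x h1 h2 => ?_⟩
    rw [mul_smul, mul_smul, hk.2 (g⁻¹ • x) (fun e => h1 (by rw [← e, smul_inv_smul]))
      (by rw [← suborbitLen_smul g, smul_inv_smul, h2]), smul_inv_smul]
  -- `J` is constant along maximal suborbits
  have hJle : J a ≤ J b := by
    intro k hk
    refine ⟨hk.2 b hba hbM, fun c hcb hcM => ?_⟩
    by_contra hmove
    have hca : c ≠ a := fun e => hmove (by rw [e, hk.1])
    have hJn : ∀ g ∈ stabilizer G a, ∀ k ∈ J a, g * k * g⁻¹ ∈ J a := by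
      intro g hg k hk
      have := hJmap g a k hk
      rwa [mem_stabilizer_iff.mp hg] at this
    have htr := transitive_of_moves hep (fun k (hk : k ∈ J a) => hk.1) hJn ⟨k, hk, hmove⟩
    set Γ := orbit (stabilizer G a) b
    have hΓfix : ∀ j ∈ J a, ∀ x ∈ Γ, j • x = x := by
      rintro j hj x ⟨⟨s, hs⟩, rfl⟩
      refine hj.2 _ (fun e => hba (smul_left_cancel s (e.trans hs.symm))) ?_
      show suborbitLen G a (s • b) = M
      conv_lhs => rw [← mem_stabilizer_iff.mp hs]
      rw [suborbitLen_smul, hbM]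
    have hsub : Γ ⊆ orbit (stabilizer G c) b := by
      rintro x ⟨⟨s, hs⟩, rfl⟩
      obtain ⟨j, hj, hjc⟩ := htr (s • c) ⟨⟨s, hs⟩, rfl⟩
      refine ⟨⟨j⁻¹ * s, ?_⟩, ?_⟩
      · rw [mem_stabilizer_iff, mul_smul, ← hjc, inv_smul_smul]
      · show (j⁻¹ * s) • b = s • b
        rw [mul_smul]
        exact hΓfix _ (inv_mem hj) _ ⟨⟨s, hs⟩, rfl⟩
    have heq : Γ = orbit (stabilizer G c) b :=
      Set.eq_of_subset_of_ncard_le hsub (by
        rw [← Nat.card_coe_set_eq, ← Nat.card_coe_set_eq]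
        exact (hM c b (Ne.symm hcb)).trans hbM.ge)
    have huniv : Γ = Set.univ := eq_univ_of_invariant hH (Ne.symm hca) ⟨b, mem_orbit_self b⟩
      (fun g hg x hx => by
        obtain ⟨s, rfl⟩ := hx
        exact ⟨⟨g, hg⟩ * s, mul_smul _ _ b⟩)
      (fun g hg x hx => by
        rw [heq] at hx ⊢
        obtain ⟨s, rfl⟩ := hx
        exact ⟨⟨g, hg⟩ * s, mul_smul _ _ b⟩)
    obtain ⟨⟨s, hs⟩, hsa⟩ : a ∈ Γ := huniv ▸ Set.mem_univ a
    change s • b = a at hsa
    exact hba (smul_left_cancel s (hsa.trans hs.symm))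
  -- so `J a` is normal, hence trivial
  obtain ⟨g, hg⟩ := exists_smul_eq G a b
  have hcardJ : Nat.card (J b) ≤ Nat.card (J a) := by
    refine Nat.card_le_card_of_injective (fun k : J b => (⟨g⁻¹ * k * g, ?_⟩ : J a)) ?_
    · have := hJmap g⁻¹ b k k.2
      rw [show g⁻¹ • b = a by rw [← hg, inv_smul_smul], inv_inv] at this
      exact this
    · intro p q hpq
      exact Subtype.ext (mul_left_cancel (mul_right_cancel (congrArg Subtype.val hpq)))
  have hJeq : J a = J b := Subgroup.eq_of_le_of_card_ge hJle hcardJ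
  have hsub : stabilizer G a ⊔ stabilizer G b ≤ Subgroup.normalizer (J a : Set G) := by
    refine sup_le (fun s hs => ?_) (fun s hs => ?_)
    all_goals
      rw [Subgroup.mem_normalizer_iff]
      intro k
      refine ⟨fun hk => ?_, fun hk => ?_⟩
    · have := hJmap s a k hk; rwa [mem_stabilizer_iff.mp hs] at this
    · have := hJmap s⁻¹ a _ hk
      rw [mem_stabilizer_iff.mp (inv_mem hs)] at this
      simpa [mul_assoc] using this
    · rw [hJeq] at hk ⊢
      have := hJmap s b k hk; rwa [mem_stabilizer_iff.mp hs] at this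
    · rw [hJeq] at hk ⊢
      have := hJmap s⁻¹ b _ hk
      rw [mem_stabilizer_iff.mp (inv_mem hs)] at this
      simpa [mul_assoc] using this
  rw [stabilizer_sup_eq_top hH (Ne.symm hba)] at hsub
  have hn : (J a).Normal := Subgroup.normalizer_eq_top_iff.mp (top_le_iff.mp hsub)
  have hhJ : h ∈ J a := ⟨hh, fun c hca hcM => kernel_fixes_max hH hep M hM hw hca hcM h hh hfix⟩
  exact eq_one_of_forall_smul_eq (normal_fixes_all hn (fun m hm => hm.1) h hhJ)

end H60
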