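import Cfsg.Agent.H60.Fi22RepCheck
import Cfsg.Agent.H93.Fi22Order
import Cfsg.Prelude.Def_Spor_Fi22

/-!
The Fischer group Fi₂₂ has a faithful representation of degree 78 over the field with thirteen
elements.
-/

set_option autoImplicit false
set_option maxRecDepth 100000

namespace H60.Fi22Rep

open H60.PackMat Cfsg.Spor

attribute [local irreducible] step idP can

/-- The matrix of a generator. -/
def fm (g : ℕ) : Mat := toM (tb g)

theorem ev_rep : ∀ w : List ℕ, (∀ g ∈ w, g < 9) → Rep (ev w) (w.map fm).prod := by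
  intro w
  induction w with
  | nil => intro _; exact idP_rep
  | cons g w ih =>
    intro h
    rw [List.map_cons, List.prod_cons]
    exact step_rep (List.all_eq_true.1 rows_ok g (List.mem_range.2 (h g List.mem_cons_self)))
      (ih fun q hq => h q (List.mem_cons_of_mem _ hq))

theorem prod_eq_one {w : List ℕ} (hw : ∀ g ∈ w, g < 9) (h : isId w = true) :
    (w.map fm).prod = 1 :=
  eq_one_of_can (ev_rep w hw) (Nat.eq_of_beq_eq_true h)

theorem wpow_mem {w : List ℕ} (hw : ∀ g ∈ w, g < 9) : ∀ n, ∀ g ∈ wpow w n, g < 9 := by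
  intro n
  induction n with
  | zero => simp [wpow]
  | succ n ih =>
    intro g hg
    rcases List.mem_append.1 hg with h | h
    exacts [hw g h, ih g h]

theorem wpow_prod (w : List ℕ) : ∀ n, ((wpow w n).map fm).prod = (w.map fm).prod ^ n := by
  intro n
  induction n with
  | zero => simp [wpow]
  | succ n ih =>
    show ((w ++ wpow w n).map fm).prod = _
    rw [List.map_append, List.prod_append, ih, pow_succ']

theorem pow_eq_one {w : List ℕ} (hw : ∀ g ∈ w, g < 9) {n : ℕ} (h : isId (wpow w n) = true) :
    (w.map fm).prod ^ n = 1 := by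
  rw [← wpow_prod]
  exact prod_eq_one (wpow_mem hw n) h

/-- The index of a generator. -/
def ix : Fi22.Gen → ℕ
  | .a => 0
  | .b => 1
  | .c => 2
  | .d => 3
  | .e => 4
  | .f => 5
  | .g => 6
  | .h => 7
  | .i => 8

theorem ix_lt (x : Fi22.Gen) : ix x < 9 := by cases x <;> decide

theorem lbl_eq (x y : Fi22.Gen) : coxLabel Fi22.edges x y = lbl (ix x) (ix y) := by
  cases x <;> cases y <;> decide

theorem pair_pow (x y : Fi22.Gen) : (fm (ix x) * fm (ix y)) ^ lbl (ix x) (ix y) = 1 := by
  have h := List.all_eq_true.1 (List.all_eq_true.1 cox_ok _ (List.mem_range.2 (ix_lt x))) _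
    (List.mem_range.2 (ix_lt y))
  have := pow_eq_one (w := [ix x, ix y]) (by simp [ix_lt]) h
  simpa using this

theorem fm_sq (x : Fi22.Gen) : fm (ix x) * fm (ix x) = 1 := by
  have := pair_pow x x
  rwa [lbl, if_pos rfl, pow_one] at this

/-- The invertible matrix of a generator. -/
def fu (x : Fi22.Gen) : GL (Fin 78) (ZMod 13) := ⟨fm (ix x), fm (ix x), fm_sq x, fm_sq x⟩

theorem rels_one : ∀ r ∈ coxRelators Fi22.edges ∪ {r | r ∈ Fi22.extra},
    FreeGroup.lift fu r = 1 := by
  rintro r (⟨x, -, y, -, rfl⟩ | hr)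
  · rw [map_pow, map_mul, FreeGroup.lift_apply_of, FreeGroup.lift_apply_of]
    apply Units.ext
    rw [Units.val_pow_eq_pow_val, Units.val_mul, lbl_eq]
    exact pair_pow x y
  · simp only [Set.mem_ofPred_eq, Fi22.extra, List.mem_cons, List.not_mem_nil, or_false] at hr
    apply Units.ext
    rcases hr with rfl | rfl | rfl
    · have := pow_eq_one (by decide) spider_ok
      simpa [fu, ix, mul_assoc] using this
    · have := pow_eq_one (by decide) e7a_ok
      simpa [fu, ix, mul_assoc] using this
    · have := pow_eq_one (by decide) e7b_ok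
      simpa [fu, ix, mul_assoc] using this

theorem exists_embedding : ∃ f : Cfsg.Spor.Fi22 →* GL (Fin 78) (ZMod 13), Function.Injective f := by
  refine ⟨PresentedGroup.toGroup rels_one, ?_⟩
  rw [← MonoidHom.ker_eq_bot_iff]
  haveI : IsSimpleGroup Cfsg.Spor.Fi22 := H93.Fi22Order.isFi22.1
  refine ((MonoidHom.normal_ker (PresentedGroup.toGroup rels_one)).eq_bot_or_eq_top).resolve_right
    fun h => ?_
  have ha : PresentedGroup.of Fi22.Gen.a ∈ (PresentedGroup.toGroup rels_one).ker := by
    rw [h]; exact Subgroup.mem_top _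
  rw [MonoidHom.mem_ker, PresentedGroup.toGroup.of] at ha
  have h1 : ([0].map fm).prod = 1 := by
    rw [List.map_cons, List.map_nil, List.prod_cons, List.prod_nil, mul_one]
    exact congrArg Units.val ha
  exact key h1
where
  key : ([0].map fm).prod ≠ 1 := by
    intro h1
    have e : toM (tb 0) = 1 := by simpa [fm] using h1
    have := entry
    rw [e] at this
    exact absurd this (by decide)
  entry : ∃ i : Fin 78, toM (tb 0) i i = 12 := by
    decide +kernel

end H60.Fi22Rep
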