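/-!
Matrices over the field with thirteen elements of the nine generators of the Fischer group Fi₂₂ in
its representation of degree 78, by the non-zero entries of each row.
-/

set_option autoImplicit false
set_option maxRecDepth 100000

namespace H60.Fi22Rep

/-- A generator. -/
def fi22A : List (List (Nat × Nat)) :=
  [[(0,1)],
   [(1,12)],
   [(2,12)],
   [(3,1)],
   [(4,12)],
   [(5,12)],
   [(6,12)],
   [(7,12)],
   [(8,12)],
   [(9,1)],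
   [(10,12)],
   [(11,1)],
   [(12,12)],
   [(13,12)],
   [(14,1)],
   [(15,12)],
   [(16,12)],
   [(17,12)],
   [(18,1)],
   [(19,12)],
   [(20,1)],
   [(21,12)],
   [(22,1)],
   [(23,12)],
   [(24,12)],
   [(25,1)],
   [(26,12)],
   [(27,12)],
   [(28,12)],
   [(29,12)],
   [(30,12)],
   [(31,12)],
   [(32,1)],
   [(33,1)],
   [(34,12)],
   [(35,12)],
   [(36,12)],
   [(37,12)],
   [(38,1)],
   [(39,12)],
   [(40,12)],
   [(41,1)],
   [(42,1)],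
   [(43,12)],
   [(44,12)],
   [(45,12)],
   [(46,12)],
   [(47,1)],
   [(48,12)],
   [(49,12)],
   [(50,12)],
   [(51,12)],
   [(52,1)],
   [(53,12)],
   [(54,12)],
   [(55,12)],
   [(56,1)],
   [(57,12)],
   [(58,1)],
   [(59,1)],
   [(60,12)],
   [(61,12)],
   [(62,12)],
   [(63,12)],
   [(64,12)],
   [(65,12)],
   [(66,12)],
   [(67,12)],
   [(68,12)],
   [(69,12)],
   [(70,1)],
   [(71,12)],
   [(72,12)],
   [(73,12)],
   [(74,12)],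
   [(75,1)],
   [(76,12)],
   [(77,1)]]

/-- A generator. -/
def fi22B : List (List (Nat × Nat)) :=
  [[(0,6),(2,7),(35,7),(61,7)],
   [(1,6),(5,6),(18,6),(68,7)],
   [(0,7),(2,6),(35,7),(61,7)],
   [(3,6),(6,7),(34,7),(62,7)],
   [(4,6),(7,6),(33,6),(63,7)],
   [(1,6),(5,6),(18,7),(68,6)],
   [(3,7),(6,6),(34,7),(62,7)],
   [(4,6),(7,6),(33,7),(63,6)],
   [(8,3),(9,3),(11,3),(14,10),(15,10),(17,10),(29,3),(31,3),(32,3),(36,10),(56,3),(57,3),(60,3),(64,10),(69,3),(70,10)],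
   [(8,3),(9,3),(11,10),(14,10),(15,10),(17,3),(29,10),(31,3),(32,3),(36,3),(56,3),(57,3),(60,10),(64,3),(69,10),(70,3)],
   [(10,6),(13,6),(28,7),(59,6)],
   [(8,3),(9,10),(11,3),(14,10),(15,3),(17,10),(29,3),(31,10),(32,3),(36,3),(56,3),(57,10),(60,3),(64,3),(69,10),(70,3)],
   [(12,6),(16,6),(30,7),(58,6)],
   [(10,6),(13,6),(28,6),(59,7)],
   [(8,10),(9,10),(11,10),(14,3),(15,3),(17,3),(29,3),(31,3),(32,3),(36,10),(56,3),(57,3),(60,3),(64,10),(69,10),(70,3)],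
   [(8,10),(9,10),(11,3),(14,3),(15,3),(17,10),(29,10),(31,3),(32,3),(36,3),(56,3),(57,3),(60,10),(64,3),(69,3),(70,10)],
   [(12,6),(16,6),(30,6),(58,7)],
   [(8,10),(9,3),(11,10),(14,3),(15,10),(17,3),(29,3),(31,10),(32,3),(36,3),(56,3),(57,10),(60,3),(64,3),(69,3),(70,10)],
   [(1,6),(5,7),(18,6),(68,6)],
   [(19,6),(22,7),(39,7),(67,7)],
   [(20,6),(21,7),(27,6),(71,6)],
   [(20,7),(21,6),(27,6),(71,6)],
   [(19,7),(22,6),(39,7),(67,7)],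
   [(23,6),(26,6),(38,6),(66,7)],
   [(24,6),(25,7),(37,7),(65,7)],
   [(24,7),(25,6),(37,7),(65,7)],
   [(23,6),(26,6),(38,7),(66,6)],
   [(20,6),(21,6),(27,6),(71,7)],
   [(10,7),(13,6),(28,6),(59,6)],
   [(8,3),(9,10),(11,3),(14,3),(15,10),(17,3),(29,3),(31,10),(32,3),(36,10),(56,10),(57,3),(60,10),(64,3),(69,3),(70,3)],
   [(12,7),(16,6),(30,6),(58,6)],
   [(8,3),(9,3),(11,10),(14,3),(15,3),(17,10),(29,10),(31,3),(32,3),(36,10),(56,10),(57,10),(60,3),(64,3),(69,3),(70,3)],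
   [(8,3),(9,3),(11,3),(14,3),(15,3),(17,3),(29,3),(31,3),(32,3),(36,3),(56,10),(57,10),(60,10),(64,10),(69,10),(70,10)],
   [(4,6),(7,7),(33,6),(63,6)],
   [(3,7),(6,7),(34,6),(62,7)],
   [(0,7),(2,7),(35,6),(61,7)],
   [(8,10),(9,3),(11,3),(14,10),(15,3),(17,3),(29,10),(31,10),(32,3),(36,3),(56,10),(57,3),(60,3),(64,10),(69,3),(70,3)],
   [(24,7),(25,7),(37,6),(65,7)],
   [(23,6),(26,7),(38,6),(66,6)],
   [(19,7),(22,7),(39,6),(67,7)],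
   [(40,6),(42,7),(54,7),(74,7)],
   [(41,6),(43,7),(48,6),(76,6)],
   [(40,7),(42,6),(54,7),(74,7)],
   [(41,7),(43,6),(48,6),(76,6)],
   [(44,6),(46,6),(52,6),(73,7)],
   [(45,6),(47,7),(53,7),(72,7)],
   [(44,6),(46,6),(52,7),(73,6)],
   [(45,7),(47,6),(53,7),(72,7)],
   [(41,6),(43,6),(48,6),(76,7)],
   [(49,6),(51,6),(55,6),(75,7)],
   [(50,7),(77,11)],
   [(49,6),(51,6),(55,7),(75,6)],
   [(44,6),(46,7),(52,6),(73,6)],
   [(45,7),(47,7),(53,6),(72,7)],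
   [(40,7),(42,7),(54,6),(74,7)],
   [(49,6),(51,7),(55,6),(75,6)],
   [(8,3),(9,3),(11,3),(14,3),(15,3),(17,3),(29,10),(31,10),(32,10),(36,10),(56,3),(57,3),(60,3),(64,3),(69,10),(70,10)],
   [(8,3),(9,3),(11,10),(14,3),(15,3),(17,10),(29,3),(31,10),(32,10),(36,3),(56,3),(57,3),(60,10),(64,10),(69,3),(70,3)],
   [(12,6),(16,7),(30,6),(58,6)],
   [(10,6),(13,7),(28,6),(59,6)],
   [(8,3),(9,10),(11,3),(14,3),(15,10),(17,3),(29,10),(31,3),(32,10),(36,3),(56,3),(57,10),(60,3),(64,10),(69,3),(70,3)],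
   [(0,7),(2,7),(35,7),(61,6)],
   [(3,7),(6,7),(34,7),(62,6)],
   [(4,7),(7,6),(33,6),(63,6)],
   [(8,10),(9,3),(11,3),(14,10),(15,3),(17,3),(29,3),(31,3),(32,10),(36,10),(56,3),(57,10),(60,10),(64,3),(69,3),(70,3)],
   [(24,7),(25,7),(37,7),(65,6)],
   [(23,7),(26,6),(38,6),(66,6)],
   [(19,7),(22,7),(39,7),(67,6)],
   [(1,7),(5,6),(18,6),(68,6)],
   [(8,3),(9,10),(11,10),(14,10),(15,3),(17,3),(29,3),(31,3),(32,10),(36,3),(56,10),(57,3),(60,3),(64,3),(69,3),(70,10)],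
   [(8,10),(9,3),(11,3),(14,3),(15,10),(17,10),(29,3),(31,3),(32,10),(36,3),(56,10),(57,3),(60,3),(64,3),(69,10),(70,3)],
   [(20,6),(21,6),(27,7),(71,6)],
   [(45,7),(47,7),(53,7),(72,6)],
   [(44,7),(46,6),(52,6),(73,6)],
   [(40,7),(42,7),(54,7),(74,6)],
   [(49,7),(51,6),(55,6),(75,6)],
   [(41,6),(43,6),(48,7),(76,6)],
   [(50,11),(77,6)]]

/-- A generator. -/
def fi22C : List (List (Nat × Nat)) :=
  [[(0,12)],
   [(1,1)],
   [(2,12)],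
   [(3,12)],
   [(4,1)],
   [(5,12)],
   [(6,1)],
   [(7,12)],
   [(8,12)],
   [(9,12)],
   [(10,1)],
   [(11,1)],
   [(12,12)],
   [(13,12)],
   [(14,1)],
   [(15,1)],
   [(16,12)],
   [(17,12)],
   [(18,12)],
   [(19,1)],
   [(20,12)],
   [(21,12)],
   [(22,12)],
   [(23,12)],
   [(24,12)],
   [(25,12)],
   [(26,12)],
   [(27,1)],
   [(28,12)],
   [(29,1)],
   [(30,12)],
   [(31,12)],
   [(32,12)],
   [(33,12)],
   [(34,12)],
   [(35,1)],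
   [(36,12)],
   [(37,12)],
   [(38,1)],
   [(39,12)],
   [(40,12)],
   [(41,1)],
   [(42,12)],
   [(43,12)],
   [(44,1)],
   [(45,12)],
   [(46,12)],
   [(47,12)],
   [(48,12)],
   [(49,12)],
   [(50,12)],
   [(51,1)],
   [(52,12)],
   [(53,1)],
   [(54,12)],
   [(55,12)],
   [(56,12)],
   [(57,12)],
   [(58,1)],
   [(59,12)],
   [(60,1)],
   [(61,12)],
   [(62,12)],
   [(63,12)],
   [(64,12)],
   [(65,1)],
   [(66,12)],
   [(67,12)],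
   [(68,12)],
   [(69,1)],
   [(70,12)],
   [(71,12)],
   [(72,12)],
   [(73,12)],
   [(74,1)],
   [(75,12)],
   [(76,12)],
   [(77,1)]]

/-- A generator. -/
def fi22D : List (List (Nat × Nat)) :=
  [[(0,6),(9,7),(38,6),(56,7)],
   [(1,3),(2,10),(8,10),(10,3),(19,3),(23,10),(28,10),(29,3),(37,10),(39,10),(57,3),(61,3),(65,10),(66,3),(68,3),(69,10)],
   [(1,10),(2,3),(8,3),(10,10),(19,3),(23,10),(28,3),(29,10),(37,10),(39,10),(57,3),(61,3),(65,3),(66,10),(68,3),(69,10)],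
   [(3,6),(20,7),(33,6),(58,7)],
   [(4,6),(21,7),(30,6),(62,7)],
   [(5,6),(24,6),(31,7),(60,7)],
   [(6,6),(7,6),(12,6),(71,6)],
   [(6,6),(7,6),(12,7),(71,7)],
   [(1,10),(2,3),(8,3),(10,10),(19,10),(23,3),(28,10),(29,3),(37,10),(39,10),(57,3),(61,3),(65,10),(66,3),(68,10),(69,3)],
   [(0,7),(9,6),(38,6),(56,7)],
   [(1,3),(2,10),(8,10),(10,3),(19,10),(23,3),(28,3),(29,10),(37,10),(39,10),(57,3),(61,3),(65,3),(66,10),(68,10),(69,3)],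
   [(11,6),(22,6),(32,7),(59,7)],
   [(6,6),(7,7),(12,6),(71,7)],
   [(13,6),(15,6),(36,6),(67,6)],
   [(14,6),(18,6),(25,7),(70,7)],
   [(13,6),(15,6),(36,7),(67,7)],
   [(16,6),(27,6),(34,7),(63,7)],
   [(17,6),(26,7),(35,6),(64,7)],
   [(14,6),(18,6),(25,6),(70,6)],
   [(1,3),(2,3),(8,10),(10,10),(19,3),(23,10),(28,10),(29,10),(37,10),(39,3),(57,3),(61,10),(65,3),(66,3),(68,10),(69,3)],
   [(3,7),(20,6),(33,6),(58,7)],
   [(4,7),(21,6),(30,6),(62,7)],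
   [(11,6),(22,6),(32,6),(59,6)],
   [(1,10),(2,10),(8,3),(10,3),(19,10),(23,3),(28,10),(29,10),(37,10),(39,3),(57,3),(61,10),(65,3),(66,3),(68,3),(69,10)],
   [(5,6),(24,6),(31,6),(60,6)],
   [(14,7),(18,6),(25,6),(70,7)],
   [(17,7),(26,6),(35,6),(64,7)],
   [(16,6),(27,6),(34,6),(63,6)],
   [(1,10),(2,3),(8,10),(10,3),(19,10),(23,10),(28,3),(29,10),(37,3),(39,10),(57,3),(61,10),(65,10),(66,3),(68,3),(69,3)],
   [(1,3),(2,10),(8,3),(10,10),(19,10),(23,10),(28,10),(29,3),(37,3),(39,10),(57,3),(61,10),(65,3),(66,10),(68,3),(69,3)],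
   [(4,6),(21,6),(30,6),(62,6)],
   [(5,7),(24,6),(31,6),(60,7)],
   [(11,7),(22,6),(32,6),(59,7)],
   [(3,6),(20,6),(33,6),(58,6)],
   [(16,7),(27,6),(34,6),(63,7)],
   [(17,6),(26,6),(35,6),(64,6)],
   [(13,6),(15,7),(36,6),(67,7)],
   [(1,10),(2,10),(8,10),(10,10),(19,10),(23,10),(28,3),(29,3),(37,3),(39,3),(57,3),(61,3),(65,3),(66,3),(68,10),(69,10)],
   [(0,6),(9,6),(38,6),(56,6)],
   [(1,10),(2,10),(8,10),(10,10),(19,3),(23,3),(28,10),(29,10),(37,3),(39,3),(57,3),(61,3),(65,10),(66,10),(68,3),(69,3)],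
   [(40,6),(44,6),(49,7),(76,7)],
   [(41,6),(42,6),(52,6),(75,6)],
   [(41,6),(42,6),(52,7),(75,7)],
   [(43,6),(51,7),(54,6),(73,7)],
   [(40,6),(44,6),(49,6),(76,6)],
   [(45,6),(50,6),(53,7),(72,7)],
   [(46,6),(48,7),(55,6),(74,7)],
   [(47,7),(77,2)],
   [(46,7),(48,6),(55,6),(74,7)],
   [(40,7),(44,6),(49,6),(76,7)],
   [(45,6),(50,6),(53,6),(72,6)],
   [(43,7),(51,6),(54,6),(73,7)],
   [(41,6),(42,7),(52,6),(75,7)],
   [(45,7),(50,6),(53,6),(72,7)],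
   [(43,6),(51,6),(54,6),(73,6)],
   [(46,6),(48,6),(55,6),(74,6)],
   [(0,7),(9,7),(38,6),(56,6)],
   [(1,3),(2,3),(8,3),(10,3),(19,3),(23,3),(28,3),(29,3),(37,3),(39,3),(57,3),(61,3),(65,3),(66,3),(68,3),(69,3)],
   [(3,7),(20,7),(33,6),(58,6)],
   [(11,7),(22,6),(32,7),(59,6)],
   [(5,7),(24,6),(31,7),(60,6)],
   [(1,3),(2,3),(8,3),(10,3),(19,10),(23,10),(28,10),(29,10),(37,3),(39,3),(57,3),(61,3),(65,10),(66,10),(68,10),(69,10)],
   [(4,7),(21,7),(30,6),(62,6)],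
   [(16,7),(27,6),(34,7),(63,6)],
   [(17,7),(26,7),(35,6),(64,6)],
   [(1,10),(2,3),(8,10),(10,3),(19,3),(23,3),(28,10),(29,3),(37,3),(39,10),(57,3),(61,10),(65,3),(66,10),(68,10),(69,10)],
   [(1,3),(2,10),(8,3),(10,10),(19,3),(23,3),(28,3),(29,10),(37,3),(39,10),(57,3),(61,10),(65,10),(66,3),(68,10),(69,10)],
   [(13,6),(15,7),(36,7),(67,6)],
   [(1,3),(2,3),(8,10),(10,10),(19,10),(23,3),(28,3),(29,3),(37,10),(39,3),(57,3),(61,10),(65,10),(66,10),(68,3),(69,10)],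
   [(1,10),(2,10),(8,3),(10,3),(19,3),(23,10),(28,3),(29,3),(37,10),(39,3),(57,3),(61,10),(65,10),(66,10),(68,10),(69,3)],
   [(14,7),(18,6),(25,7),(70,6)],
   [(6,6),(7,7),(12,7),(71,6)],
   [(45,7),(50,6),(53,7),(72,6)],
   [(43,7),(51,7),(54,6),(73,6)],
   [(46,7),(48,7),(55,6),(74,6)],
   [(41,6),(42,7),(52,7),(75,6)],
   [(40,7),(44,6),(49,7),(76,6)],
   [(47,2),(77,6)]]

/-- A generator. -/
def fi22E : List (List (Nat × Nat)) :=
  [[(0,1)],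
   [(1,1)],
   [(2,1)],
   [(3,12)],
   [(4,12)],
   [(5,1)],
   [(6,12)],
   [(7,12)],
   [(8,12)],
   [(9,12)],
   [(10,12)],
   [(11,12)],
   [(12,1)],
   [(13,12)],
   [(14,12)],
   [(15,12)],
   [(16,1)],
   [(17,12)],
   [(18,1)],
   [(19,1)],
   [(20,12)],
   [(21,12)],
   [(22,1)],
   [(23,12)],
   [(24,12)],
   [(25,12)],
   [(26,12)],
   [(27,12)],
   [(28,12)],
   [(29,12)],
   [(30,1)],
   [(31,12)],
   [(32,12)],
   [(33,12)],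
   [(34,12)],
   [(35,1)],
   [(36,12)],
   [(37,12)],
   [(38,12)],
   [(39,1)],
   [(40,12)],
   [(41,12)],
   [(42,12)],
   [(43,12)],
   [(44,1)],
   [(45,12)],
   [(46,1)],
   [(47,12)],
   [(48,12)],
   [(49,12)],
   [(50,1)],
   [(51,12)],
   [(52,1)],
   [(53,12)],
   [(54,12)],
   [(55,12)],
   [(56,12)],
   [(57,12)],
   [(58,1)],
   [(59,12)],
   [(60,12)],
   [(61,1)],
   [(62,12)],
   [(63,12)],
   [(64,12)],
   [(65,12)],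
   [(66,12)],
   [(67,1)],
   [(68,1)],
   [(69,12)],
   [(70,12)],
   [(71,12)],
   [(72,12)],
   [(73,1)],
   [(74,12)],
   [(75,12)],
   [(76,12)],
   [(77,1)]]

/-- A generator. -/
def fi22F : List (List (Nat × Nat)) :=
  [[(0,6),(9,7),(47,6),(56,7)],
   [(1,6),(6,6),(10,7),(74,7)],
   [(2,3),(7,10),(8,3),(12,10),(16,10),(17,3),(43,10),(45,3),(46,10),(48,10),(57,3),(61,3),(63,10),(64,3),(72,3),(73,10)],
   [(3,6),(18,7),(42,6),(59,7)],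
   [(4,6),(15,6),(44,7),(60,7)],
   [(5,6),(13,7),(40,6),(62,7)],
   [(1,6),(6,6),(10,6),(74,6)],
   [(2,10),(7,3),(8,10),(12,3),(16,3),(17,10),(43,10),(45,3),(46,10),(48,10),(57,3),(61,3),(63,10),(64,3),(72,10),(73,3)],
   [(2,3),(7,10),(8,3),(12,10),(16,3),(17,10),(43,3),(45,10),(46,10),(48,10),(57,3),(61,3),(63,3),(64,10),(72,10),(73,3)],
   [(0,7),(9,6),(47,6),(56,7)],
   [(1,7),(6,6),(10,6),(74,7)],
   [(11,6),(14,6),(41,7),(58,7)],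
   [(2,10),(7,3),(8,10),(12,3),(16,10),(17,3),(43,3),(45,10),(46,10),(48,10),(57,3),(61,3),(63,3),(64,10),(72,3),(73,10)],
   [(5,7),(13,6),(40,6),(62,7)],
   [(11,6),(14,6),(41,6),(58,6)],
   [(4,6),(15,6),(44,6),(60,6)],
   [(2,10),(7,3),(8,3),(12,10),(16,3),(17,10),(43,10),(45,10),(46,10),(48,3),(57,10),(61,3),(63,3),(64,3),(72,3),(73,10)],
   [(2,3),(7,10),(8,10),(12,3),(16,10),(17,3),(43,10),(45,10),(46,10),(48,3),(57,10),(61,3),(63,3),(64,3),(72,10),(73,3)],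
   [(3,7),(18,6),(42,6),(59,7)],
   [(19,6),(27,7),(51,6),(65,7)],
   [(20,6),(22,6),(25,6),(75,6)],
   [(21,6),(24,6),(49,6),(67,6)],
   [(20,6),(22,6),(25,7),(75,7)],
   [(23,6),(26,6),(50,7),(66,7)],
   [(21,6),(24,6),(49,7),(67,7)],
   [(20,6),(22,7),(25,6),(75,7)],
   [(23,6),(26,6),(50,6),(66,6)],
   [(19,7),(27,6),(51,6),(65,7)],
   [(28,6),(34,6),(54,7),(68,7)],
   [(29,6),(35,7),(53,6),(69,7)],
   [(30,6),(31,6),(36,7),(76,7)],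
   [(30,6),(31,6),(36,6),(76,6)],
   [(32,6),(33,6),(52,6),(70,6)],
   [(32,6),(33,6),(52,7),(70,7)],
   [(28,6),(34,6),(54,6),(68,6)],
   [(29,7),(35,6),(53,6),(69,7)],
   [(30,7),(31,6),(36,6),(76,7)],
   [(37,6),(39,7),(55,6),(71,7)],
   [(38,7),(77,2)],
   [(37,7),(39,6),(55,6),(71,7)],
   [(5,6),(13,6),(40,6),(62,6)],
   [(11,7),(14,6),(41,6),(58,7)],
   [(3,6),(18,6),(42,6),(59,6)],
   [(2,10),(7,10),(8,3),(12,3),(16,10),(17,10),(43,3),(45,10),(46,3),(48,10),(57,10),(61,3),(63,10),(64,3),(72,3),(73,3)],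
   [(4,7),(15,6),(44,6),(60,7)],
   [(2,3),(7,3),(8,10),(12,10),(16,10),(17,10),(43,10),(45,3),(46,3),(48,10),(57,10),(61,3),(63,3),(64,10),(72,3),(73,3)],
   [(2,10),(7,10),(8,10),(12,10),(16,10),(17,10),(43,3),(45,3),(46,3),(48,3),(57,3),(61,3),(63,3),(64,3),(72,10),(73,10)],
   [(0,6),(9,6),(47,6),(56,6)],
   [(2,10),(7,10),(8,10),(12,10),(16,3),(17,3),(43,10),(45,10),(46,3),(48,3),(57,3),(61,3),(63,10),(64,10),(72,3),(73,3)],
   [(21,6),(24,7),(49,6),(67,7)],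
   [(23,7),(26,6),(50,6),(66,7)],
   [(19,6),(27,6),(51,6),(65,6)],
   [(32,6),(33,7),(52,6),(70,7)],
   [(29,6),(35,6),(53,6),(69,6)],
   [(28,7),(34,6),(54,6),(68,7)],
   [(37,6),(39,6),(55,6),(71,6)],
   [(0,7),(9,7),(47,6),(56,6)],
   [(2,3),(7,3),(8,3),(12,3),(16,10),(17,10),(43,10),(45,10),(46,3),(48,3),(57,3),(61,3),(63,10),(64,10),(72,10),(73,10)],
   [(11,7),(14,6),(41,7),(58,6)],
   [(3,7),(18,7),(42,6),(59,6)],
   [(4,7),(15,6),(44,7),(60,6)],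
   [(2,3),(7,3),(8,3),(12,3),(16,3),(17,3),(43,3),(45,3),(46,3),(48,3),(57,3),(61,3),(63,3),(64,3),(72,3),(73,3)],
   [(5,7),(13,7),(40,6),(62,6)],
   [(2,10),(7,10),(8,3),(12,3),(16,3),(17,3),(43,10),(45,3),(46,3),(48,10),(57,10),(61,3),(63,3),(64,10),(72,10),(73,10)],
   [(2,3),(7,3),(8,10),(12,10),(16,3),(17,3),(43,3),(45,10),(46,3),(48,10),(57,10),(61,3),(63,10),(64,3),(72,10),(73,10)],
   [(19,7),(27,7),(51,6),(65,6)],
   [(23,7),(26,6),(50,7),(66,6)],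
   [(21,6),(24,7),(49,7),(67,6)],
   [(28,7),(34,6),(54,7),(68,6)],
   [(29,7),(35,7),(53,6),(69,6)],
   [(32,6),(33,7),(52,7),(70,6)],
   [(37,7),(39,7),(55,6),(71,6)],
   [(2,3),(7,10),(8,10),(12,3),(16,3),(17,10),(43,3),(45,3),(46,10),(48,3),(57,10),(61,3),(63,10),(64,10),(72,3),(73,10)],
   [(2,10),(7,3),(8,3),(12,10),(16,10),(17,3),(43,3),(45,3),(46,10),(48,3),(57,10),(61,3),(63,10),(64,10),(72,10),(73,3)],
   [(1,7),(6,6),(10,7),(74,6)],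
   [(20,6),(22,7),(25,7),(75,6)],
   [(30,7),(31,6),(36,7),(76,6)],
   [(38,2),(77,6)]]

/-- A generator. -/
def fi22G : List (List (Nat × Nat)) :=
  [[(0,12)],
   [(1,12)],
   [(2,12)],
   [(3,1)],
   [(4,1)],
   [(5,12)],
   [(6,1)],
   [(7,1)],
   [(8,12)],
   [(9,12)],
   [(10,12)],
   [(11,12)],
   [(12,1)],
   [(13,12)],
   [(14,12)],
   [(15,12)],
   [(16,1)],
   [(17,12)],
   [(18,12)],
   [(19,12)],
   [(20,1)],
   [(21,1)],
   [(22,12)],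
   [(23,12)],
   [(24,12)],
   [(25,12)],
   [(26,12)],
   [(27,1)],
   [(28,12)],
   [(29,12)],
   [(30,1)],
   [(31,12)],
   [(32,12)],
   [(33,1)],
   [(34,1)],
   [(35,12)],
   [(36,12)],
   [(37,12)],
   [(38,12)],
   [(39,12)],
   [(40,12)],
   [(41,12)],
   [(42,12)],
   [(43,12)],
   [(44,12)],
   [(45,1)],
   [(46,12)],
   [(47,1)],
   [(48,12)],
   [(49,12)],
   [(50,1)],
   [(51,12)],
   [(52,12)],
   [(53,1)],
   [(54,12)],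
   [(55,12)],
   [(56,12)],
   [(57,12)],
   [(58,1)],
   [(59,12)],
   [(60,12)],
   [(61,12)],
   [(62,1)],
   [(63,1)],
   [(64,12)],
   [(65,12)],
   [(66,12)],
   [(67,12)],
   [(68,12)],
   [(69,12)],
   [(70,12)],
   [(71,1)],
   [(72,1)],
   [(73,12)],
   [(74,12)],
   [(75,12)],
   [(76,12)],
   [(77,1)]]

/-- A generator. -/
def fi22H : List (List (Nat × Nat)) :=
  [[(0,12)],
   [(1,1)],
   [(2,12)],
   [(3,1)],
   [(4,12)],
   [(5,1)],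
   [(6,1)],
   [(7,12)],
   [(8,12)],
   [(9,12)],
   [(10,1)],
   [(11,12)],
   [(12,12)],
   [(13,1)],
   [(14,12)],
   [(15,12)],
   [(16,12)],
   [(17,12)],
   [(18,1)],
   [(19,12)],
   [(20,12)],
   [(21,12)],
   [(22,12)],
   [(23,1)],
   [(24,12)],
   [(25,12)],
   [(26,1)],
   [(27,12)],
   [(28,1)],
   [(29,12)],
   [(30,12)],
   [(31,12)],
   [(32,12)],
   [(33,12)],
   [(34,1)],
   [(35,12)],
   [(36,12)],
   [(37,12)],
   [(38,1)],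
   [(39,12)],
   [(40,1)],
   [(41,12)],
   [(42,1)],
   [(43,12)],
   [(44,12)],
   [(45,12)],
   [(46,12)],
   [(47,12)],
   [(48,12)],
   [(49,12)],
   [(50,1)],
   [(51,12)],
   [(52,12)],
   [(53,12)],
   [(54,1)],
   [(55,12)],
   [(56,12)],
   [(57,12)],
   [(58,12)],
   [(59,1)],
   [(60,12)],
   [(61,12)],
   [(62,1)],
   [(63,12)],
   [(64,12)],
   [(65,12)],
   [(66,1)],
   [(67,12)],
   [(68,1)],
   [(69,12)],
   [(70,12)],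
   [(71,12)],
   [(72,12)],
   [(73,12)],
   [(74,1)],
   [(75,12)],
   [(76,12)],
   [(77,1)]]

/-- A generator. -/
def fi22I : List (List (Nat × Nat)) :=
  [[(0,6),(18,7),(22,6),(52,6)],
   [(1,6),(19,7),(35,6),(44,6)],
   [(2,6),(5,7),(39,6),(46,6)],
   [(3,6),(20,7),(33,6),(47,6)],
   [(4,6),(6,7),(27,6),(53,6)],
   [(2,7),(5,6),(39,6),(46,6)],
   [(4,7),(6,6),(27,6),(53,6)],
   [(7,6),(21,6),(34,6),(45,7)],
   [(8,3),(13,3),(17,10),(23,3),(24,10),(26,10),(28,10),(31,3),(36,10),(37,10),(40,10),(43,3),(48,10),(49,10),(54,10),(55,3)],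
   [(9,6),(25,6),(32,7),(42,6)],
   [(10,6),(15,7),(29,6),(51,6)],
   [(11,6),(14,6),(38,6),(41,7)],
   [(12,6),(16,6),(30,7),(50,6)],
   [(8,3),(13,3),(17,3),(23,10),(24,10),(26,10),(28,10),(31,10),(36,10),(37,3),(40,10),(43,10),(48,10),(49,3),(54,3),(55,10)],
   [(11,6),(14,6),(38,7),(41,6)],
   [(10,7),(15,6),(29,6),(51,6)],
   [(12,6),(16,6),(30,6),(50,7)],
   [(8,10),(13,3),(17,3),(23,10),(24,10),(26,3),(28,10),(31,10),(36,3),(37,10),(40,10),(43,10),(48,3),(49,10),(54,10),(55,3)],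
   [(0,7),(18,6),(22,6),(52,6)],
   [(1,7),(19,6),(35,6),(44,6)],
   [(3,7),(20,6),(33,6),(47,6)],
   [(7,6),(21,6),(34,7),(45,6)],
   [(0,6),(18,6),(22,6),(52,7)],
   [(8,3),(13,10),(17,10),(23,3),(24,3),(26,10),(28,10),(31,10),(36,3),(37,10),(40,10),(43,10),(48,3),(49,10),(54,3),(55,10)],
   [(8,10),(13,10),(17,10),(23,3),(24,3),(26,3),(28,10),(31,10),(36,10),(37,3),(40,10),(43,10),(48,10),(49,3),(54,10),(55,3)],
   [(9,6),(25,6),(32,6),(42,7)],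
   [(8,10),(13,10),(17,3),(23,10),(24,3),(26,3),(28,10),(31,3),(36,10),(37,10),(40,10),(43,3),(48,10),(49,10),(54,3),(55,10)],
   [(4,6),(6,6),(27,6),(53,7)],
   [(8,10),(13,10),(17,10),(23,10),(24,10),(26,10),(28,3),(31,3),(36,3),(37,3),(40,10),(43,10),(48,10),(49,10),(54,3),(55,3)],
   [(10,6),(15,6),(29,6),(51,7)],
   [(12,7),(16,6),(30,6),(50,6)],
   [(8,3),(13,10),(17,10),(23,10),(24,10),(26,3),(28,3),(31,3),(36,10),(37,10),(40,10),(43,10),(48,3),(49,3),(54,10),(55,10)],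
   [(9,7),(25,6),(32,6),(42,6)],
   [(3,6),(20,6),(33,6),(47,7)],
   [(7,6),(21,7),(34,6),(45,6)],
   [(1,6),(19,6),(35,6),(44,7)],
   [(8,10),(13,10),(17,3),(23,3),(24,10),(26,10),(28,3),(31,10),(36,3),(37,10),(40,10),(43,3),(48,10),(49,3),(54,10),(55,10)],
   [(8,10),(13,3),(17,10),(23,10),(24,3),(26,10),(28,3),(31,10),(36,10),(37,3),(40,10),(43,3),(48,3),(49,10),(54,10),(55,10)],
   [(11,6),(14,7),(38,6),(41,6)],
   [(2,6),(5,6),(39,6),(46,7)],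
   [(8,10),(13,10),(17,10),(23,10),(24,10),(26,10),(28,10),(31,10),(36,10),(37,10),(40,3),(43,3),(48,3),(49,3),(54,3),(55,3)],
   [(11,7),(14,6),(38,6),(41,6)],
   [(9,6),(25,7),(32,6),(42,6)],
   [(8,3),(13,10),(17,10),(23,10),(24,10),(26,3),(28,10),(31,10),(36,3),(37,3),(40,3),(43,3),(48,10),(49,10),(54,10),(55,10)],
   [(1,6),(19,6),(35,7),(44,6)],
   [(7,7),(21,6),(34,6),(45,6)],
   [(2,6),(5,6),(39,7),(46,6)],
   [(3,6),(20,6),(33,7),(47,6)],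
   [(8,10),(13,10),(17,3),(23,3),(24,10),(26,10),(28,10),(31,3),(36,10),(37,3),(40,3),(43,10),(48,3),(49,10),(54,10),(55,10)],
   [(8,10),(13,3),(17,10),(23,10),(24,3),(26,10),(28,10),(31,3),(36,3),(37,10),(40,3),(43,10),(48,10),(49,3),(54,10),(55,10)],
   [(12,6),(16,7),(30,6),(50,6)],
   [(10,6),(15,6),(29,7),(51,6)],
   [(0,6),(18,6),(22,7),(52,6)],
   [(4,6),(6,6),(27,7),(53,6)],
   [(8,10),(13,3),(17,10),(23,3),(24,10),(26,3),(28,3),(31,10),(36,10),(37,10),(40,3),(43,10),(48,10),(49,10),(54,3),(55,10)],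
   [(8,3),(13,10),(17,3),(23,10),(24,3),(26,10),(28,3),(31,10),(36,10),(37,10),(40,3),(43,10),(48,10),(49,10),(54,10),(55,3)],
   [(56,6),(59,7),(70,6),(75,6)],
   [(57,6),(64,6),(66,7),(76,6)],
   [(58,7),(77,11)],
   [(56,7),(59,6),(70,6),(75,6)],
   [(60,6),(65,6),(69,7),(74,6)],
   [(61,6),(67,6),(68,6),(73,7)],
   [(62,6),(63,7),(71,6),(72,6)],
   [(62,7),(63,6),(71,6),(72,6)],
   [(57,6),(64,6),(66,6),(76,7)],
   [(60,6),(65,6),(69,6),(74,7)],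
   [(57,7),(64,6),(66,6),(76,6)],
   [(61,6),(67,6),(68,7),(73,6)],
   [(61,6),(67,7),(68,6),(73,6)],
   [(60,7),(65,6),(69,6),(74,6)],
   [(56,6),(59,6),(70,6),(75,7)],
   [(62,6),(63,6),(71,6),(72,7)],
   [(62,6),(63,6),(71,7),(72,6)],
   [(61,7),(67,6),(68,6),(73,6)],
   [(60,6),(65,7),(69,6),(74,6)],
   [(56,6),(59,6),(70,7),(75,6)],
   [(57,6),(64,7),(66,6),(76,6)],
   [(58,11),(77,6)]]

/-- The tables. -/
def fi22Tab : List (List (List (Nat × Nat))) := [fi22A, fi22B, fi22C, fi22D, fi22E, fi22F, fi22G, fi22H, fi22I]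

end H60.Fi22Rep
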