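import Cfsg.Agent.H60.PackMat
import Cfsg.Agent.H60.Fi22RepData

/-!
The relations of the Fischer group Fi₂₂ hold for its matrices of degree 78.
-/

set_option autoImplicit false
set_option maxRecDepth 100000

namespace H60.Fi22Rep

open H60.PackMat

/-- A table by its index. -/
def tb (g : ℕ) : List (List (ℕ × ℕ)) := fi22Tab.getD g []

/-- The packed product of a word. -/
def ev (w : List ℕ) : ℕ := w.foldr (fun g Y => step (tb g) Y) idP

/-- A word gives the identity matrix. -/
def isId (w : List ℕ) : Bool := Nat.beq (can (ev w)) idP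

/-- The adjacent pairs of the diagram. -/
def adj : List (ℕ × ℕ) := [(0, 1), (1, 2), (2, 3), (3, 4), (3, 7), (4, 5), (5, 6), (7, 8)]

/-- The label of a pair. -/
def lbl (a b : ℕ) : ℕ :=
  if a = b then 1 else if adj.elem (a, b) || adj.elem (b, a) then 3 else 2

/-- A word repeated. -/
def wpow (w : List ℕ) : ℕ → List ℕ
  | 0 => []
  | n + 1 => w ++ wpow w n

theorem rows_ok : (List.range 9).all (fun g => rowsOK (tb g)) = true := by decide +kernel

theorem cox_ok : ((List.range 9).all fun a => (List.range 9).all fun b =>
    isId (wpow [a, b] (lbl a b))) = true := by decide +kernel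

theorem spider_ok : isId (wpow [3, 2, 1, 3, 4, 5, 3, 7, 8] 10) = true := by decide +kernel

theorem e7a_ok : isId (wpow [0, 1, 2, 3, 4, 5, 7] 9) = true := by decide +kernel

theorem e7b_ok : isId (wpow [1, 2, 3, 4, 5, 6, 7] 9) = true := by decide +kernel

end H60.Fi22Rep
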