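import Mathlib
import Cfsg.Agent.H31.FixedFour

/-! The recursion of `H31.SR.good_of_cfg` without the hypothesis that the element `u` lies in the
derived subgroup: it is enough that the group is generated by `K`, `u` and `c`. -/

set_option autoImplicit false
set_option linter.style.haveILetI false
set_option linter.unusedSectionVars false

namespace H60.SR

open H31.SR
open scoped commutatorElement

universe u v

variable {S : Type u} [Group S] [Finite S]

/-- An element inverting commutators normalises a coset. -/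
theorem exists_fixed_coset (h2 : IsPGroup 2 S) {u : S} (usq : ∀ g : S, g * (u * u) = u * u * g)
    (N D : Subgroup S) (hN : ∀ n ∈ N, u * n * u⁻¹ ∈ N) {x : S} (hxN : x ∈ N) (hxD : x ∉ D) :
    ∃ w ∈ N, w ∉ D ∧ ⁅u, w⁆ ∈ D := by
  classical
  by_cases he : ⁅u, x⁆ ∈ D
  · exact ⟨x, hxN, hxD, he⟩
  set e := ⁅u, x⁆ with hedef
  have heN : e ∈ N := N.mul_mem (hN x hxN) (N.inv_mem hxN)
  have hinv : u * e * u⁻¹ = e⁻¹ := by
    refine eq_inv_of_mul_eq_one_left ?_
    rw [hedef, show u * ⁅u, x⁆ * u⁻¹ * ⁅u, x⁆ = (u * u) * x * (u * u)⁻¹ * x⁻¹ by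
      simp only [commutatorElement_def]; group, ← usq x]
    group
  obtain ⟨m, hm⟩ := IsPGroup.iff_orderOf.mp h2 e
  have hex : ∃ i, e ^ (2 ^ i) ∈ D := ⟨m, by rw [← hm, pow_orderOf_eq_one]; exact one_mem D⟩
  obtain ⟨j, hj⟩ : ∃ j, Nat.find hex = j + 1 := ⟨Nat.find hex - 1, by
    have : Nat.find hex ≠ 0 := fun h => he (by have := Nat.find_spec hex; rwa [h, pow_zero, pow_one] at this)
    omega⟩
  refine ⟨e ^ (2 ^ j), N.pow_mem heN _, Nat.find_min hex (by omega), ?_⟩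
  have h1 := Nat.find_spec hex
  rw [hj, pow_succ, pow_mul, pow_two] at h1
  rw [commutatorElement_def, ← conj_pow, hinv, inv_pow, ← mul_inv_rev]
  exact D.inv_mem h1

/-- A subgroup of a cyclic group: square roots. -/
theorem sq_roots {Q : Type v} [Group Q] [Finite Q] {γ τ a b : Q} (hτ : τ ∈ Subgroup.zpowers γ) (hττ : τ * τ = 1)
    (hτ1 : τ ≠ 1) (ha : a ∈ Subgroup.zpowers γ) (hb : b ∈ Subgroup.zpowers γ) (hab : a * a = b * b) :
    a = b ∨ a = b * τ := by
  classical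
  by_contra hne
  push Not at hne
  letI := Fintype.ofFinite (Subgroup.zpowers γ)
  have hc : Commute b⁻¹ a := by
    obtain ⟨i, rfl⟩ := Subgroup.mem_zpowers_iff.mp ha
    obtain ⟨j, rfl⟩ := Subgroup.mem_zpowers_iff.mp hb
    exact ((Commute.refl γ).zpow_zpow j i).inv_left
  have hd : b⁻¹ * a * (b⁻¹ * a) = 1 := by
    rw [Commute.mul_mul_mul_comm hc.symm, hab]; group
  have h3 : ({1, ⟨τ, hτ⟩, ⟨b⁻¹ * a, mul_mem (inv_mem hb) ha⟩} : Finset (Subgroup.zpowers γ)) ⊆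
      Finset.univ.filter (fun x : Subgroup.zpowers γ => x ^ 2 = 1) := by
    intro x hx
    simp only [Finset.mem_insert, Finset.mem_singleton] at hx
    rw [Finset.mem_filter]
    refine ⟨Finset.mem_univ _, ?_⟩
    rcases hx with rfl | rfl | rfl
    · exact one_pow 2
    · exact Subtype.ext (by push_cast; rw [pow_two, hττ])
    · exact Subtype.ext (by push_cast; rw [pow_two, hd])
  have h4 := (Finset.card_le_card h3).trans (IsCyclic.card_pow_eq_one_le two_pos)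
  rw [Finset.card_insert_of_notMem, Finset.card_pair] at h4
  · omega
  · intro e
    exact hne.2 (eq_mul_of_inv_mul_eq (congrArg Subtype.val e).symm)
  · simp only [Finset.mem_insert, Finset.mem_singleton, not_or]
    refine ⟨fun e => hτ1 (congrArg Subtype.val e).symm, fun e => hne.1 ?_⟩
    exact (eq_of_inv_mul_eq_one (congrArg Subtype.val e).symm).symm

/-- The hypotheses of the recursion. -/
structure Cfg (K : Subgroup S) (u c z z2 z4 : S) : Prop where
  normal : ∀ g : S, ∀ k ∈ K, g * k * g⁻¹ ∈ K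
  gen : ∀ L : Subgroup S, K ≤ L → u ∈ L → c ∈ L → L = ⊤
  usq : ∀ g : S, g * (u * u) = u * u * g
  cu : c * u = u * c
  zc : ∀ g : S, g * z = z * g
  zsq : z * z = 1
  z2sq : z2 * z2 = 1
  zne : z ≠ 1
  z2ne : z2 ≠ 1
  z2nz : z2 ≠ z
  zK : z ∈ K
  z2K : z2 ∈ K
  z4K : z4 ∈ K
  z2c : ∀ k ∈ K, k * z2 = z2 * k
  z4c : ∀ k ∈ K, k * z4 = z4 * k
  hz2 : ∀ g : S, ⁅g, z2⁆ = 1 ∨ ⁅g, z2⁆ = z
  cz2 : ⁅c, z2⁆ = z
  uz2 : ⁅u, z2⁆ = 1
  fix : ∀ k ∈ K, ⁅u, k⁆ = 1 → InW z z2 k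
  uz4 : ⁅u, z4⁆ = z
  hz4 : ∀ g : S, InW z z2 ⁅g, z4⁆
  z4sq : InW z z2 (z4 * z4)

namespace Cfg

variable {K : Subgroup S} {u c z z2 z4 : S}

theorem uz (h : Cfg K u c z z2 z4) : ⁅u, z⁆ = 1 := commutatorElement_eq_one_iff_mul_comm.mpr (h.zc u)

/-- the four-group -/
def W (h : Cfg K u c z z2 z4) : Subgroup S := four z z2 h.zsq h.z2sq (h.z2c z h.zK)

theorem mem_W (h : Cfg K u c z z2 z4) {x : S} : x ∈ h.W ↔ InW z z2 x := Iff.rfl

theorem z_W (h : Cfg K u c z z2 z4) : z ∈ h.W := Or.inr (Or.inl rfl)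

theorem z2_W (h : Cfg K u c z z2 z4) : z2 ∈ h.W := Or.inr (Or.inr (Or.inl rfl))

theorem W_normal (h : Cfg K u c z z2 z4) : h.W.Normal := by
  have h2 : ∀ g, g * z2 * g⁻¹ ∈ h.W := fun g => by
    rw [conj_eq]
    rcases h.hz2 g with e | e <;> rw [e]
    · rw [one_mul]; exact h.z2_W
    · exact mul_mem h.z_W h.z2_W
  have h1 : ∀ g, g * z * g⁻¹ ∈ h.W := fun g => by rw [h.zc g, mul_inv_cancel_right]; exact h.z_W
  refine ⟨fun x hx g => ?_⟩
  rcases h.mem_W.mp hx with rfl | rfl | rfl | rfl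
  · rw [mul_one, mul_inv_cancel]; exact one_mem _
  · exact h1 g
  · exact h2 g
  · rw [show g * (z * z2) * g⁻¹ = g * z * g⁻¹ * (g * z2 * g⁻¹) by group]; exact mul_mem (h1 g) (h2 g)

theorem W_le (h : Cfg K u c z z2 z4) : h.W ≤ K := fun x hx => by
  rcases h.mem_W.mp hx with rfl | rfl | rfl | rfl
  exacts [one_mem _, h.zK, h.z2K, mul_mem h.zK h.z2K]

theorem W_c (h : Cfg K u c z z2 z4) {w : S} (hw : w ∈ h.W) {k : S} (hk : k ∈ K) : k * w = w * k := by
  rcases h.mem_W.mp hw with rfl | rfl | rfl | rfl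
  · rw [one_mul, mul_one]
  · exact h.zc k
  · exact h.z2c k hk
  · rw [← mul_assoc, h.zc k, mul_assoc, h.z2c k hk, mul_assoc]

theorem W_sq (h : Cfg K u c z z2 z4) {w : S} (hw : w ∈ h.W) : w * w = 1 := by
  rcases h.mem_W.mp hw with rfl | rfl | rfl | rfl
  · exact one_mul 1
  · exact h.zsq
  · exact h.z2sq
  · rw [Commute.mul_mul_mul_comm (h.zc z2), h.zsq, h.z2sq, one_mul]

theorem uW (h : Cfg K u c z z2 z4) {w : S} (hw : w ∈ h.W) : ⁅u, w⁆ = 1 := by
  rcases h.mem_W.mp hw with rfl | rfl | rfl | rfl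
  · exact commutatorElement_one_right u
  · exact h.uz
  · exact h.uz2
  · rw [conj_mul_right, h.uz, h.uz2, mul_one, mul_inv_cancel, mul_one]

theorem comm_mul (h : Cfg K u c z z2 z4) {x y : S} (hx : x ∈ K) (hy : ⁅u, y⁆ ∈ h.W) :
    ⁅u, x * y⁆ = ⁅u, x⁆ * ⁅u, y⁆ := by
  rw [conj_mul_right, h.W_c hy hx, mul_inv_cancel_right]

theorem comm_inv (h : Cfg K u c z z2 z4) {x : S} (hx : x ∈ K) (hxW : ⁅u, x⁆ ∈ h.W) : ⁅u, x⁻¹⁆ = ⁅u, x⁆ := by
  have h1 : ⁅u, x * x⁻¹⁆ = ⁅u, x⁆ * (x * ⁅u, x⁻¹⁆ * x⁻¹) := conj_mul_right u x x⁻¹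
  rw [mul_inv_cancel, commutatorElement_one_right] at h1
  have h2 : x * ⁅u, x⁻¹⁆ * x⁻¹ = ⁅u, x⁆ := (inv_eq_of_mul_eq_one_right h1.symm).symm.trans (inv_eq_of_mul_eq_one_right (h.W_sq hxW))
  calc ⁅u, x⁻¹⁆ = x⁻¹ * (x * ⁅u, x⁻¹⁆ * x⁻¹) * x := by group
    _ = x⁻¹ * (⁅u, x⁆ * x) := by rw [h2, mul_assoc]
    _ = ⁅u, x⁆ := by rw [← h.W_c hxW hx, inv_mul_cancel_left]

theorem uz4W (h : Cfg K u c z z2 z4) : ⁅u, z4⁆ ∈ h.W := h.uz4 ▸ h.z_W

/-- elements with commutator in `⟨z⟩` -/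
def A1 (h : Cfg K u c z z2 z4) : Subgroup S where
  carrier := {x | x ∈ K ∧ (⁅u, x⁆ = 1 ∨ ⁅u, x⁆ = z)}
  one_mem' := ⟨K.one_mem, Or.inl (commutatorElement_one_right u)⟩
  mul_mem' := by
    rintro x y ⟨hx, hxv⟩ ⟨hy, hyv⟩
    have hyW : ⁅u, y⁆ ∈ h.W := by rcases hyv with e | e <;> rw [e]; exacts [one_mem _, h.z_W]
    refine ⟨K.mul_mem hx hy, ?_⟩
    rw [h.comm_mul hx hyW]
    rcases hxv with e | e <;> rcases hyv with e' | e' <;> rw [e, e'] <;>
      simp [h.zsq]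
  inv_mem' := by
    rintro x ⟨hx, hxv⟩
    have hxW : ⁅u, x⁆ ∈ h.W := by rcases hxv with e | e <;> rw [e]; exacts [one_mem _, h.z_W]
    exact ⟨K.inv_mem hx, by rw [h.comm_inv hx hxW]; exact hxv⟩

/-- elements with commutator in the four-group -/
def A2 (h : Cfg K u c z z2 z4) : Subgroup S where
  carrier := {x | x ∈ K ∧ ⁅u, x⁆ ∈ h.W}
  one_mem' := ⟨K.one_mem, by rw [commutatorElement_one_right]; exact one_mem _⟩
  mul_mem' := by
    rintro x y ⟨hx, hxv⟩ ⟨hy, hyv⟩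
    exact ⟨K.mul_mem hx hy, by rw [h.comm_mul hx hyv]; exact mul_mem hxv hyv⟩
  inv_mem' := by
    rintro x ⟨hx, hxv⟩
    exact ⟨K.inv_mem hx, by rw [h.comm_inv hx hxv]; exact hxv⟩

theorem mem_A1 (h : Cfg K u c z z2 z4) {x : S} : x ∈ h.A1 ↔ x ∈ K ∧ (⁅u, x⁆ = 1 ∨ ⁅u, x⁆ = z) := Iff.rfl

theorem mem_A2 (h : Cfg K u c z z2 z4) {x : S} : x ∈ h.A2 ↔ x ∈ K ∧ ⁅u, x⁆ ∈ h.W := Iff.rfl

theorem A1_le_A2 (h : Cfg K u c z z2 z4) : h.A1 ≤ h.A2 := fun x hx => ⟨hx.1, by
  rcases hx.2 with e | e <;> rw [e]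
  exacts [one_mem _, h.z_W]⟩

theorem W_le_A1 (h : Cfg K u c z z2 z4) : h.W ≤ h.A1 := fun _ hx => ⟨h.W_le hx, Or.inl (h.uW hx)⟩

theorem z4_A1 (h : Cfg K u c z z2 z4) : z4 ∈ h.A1 := ⟨h.z4K, Or.inr h.uz4⟩

theorem A1_cases (h : Cfg K u c z z2 z4) {x : S} (hx : x ∈ h.A1) : x ∈ h.W ∨ x * z4 ∈ h.W := by
  rcases hx.2 with e | e
  · exact Or.inl (h.fix x hx.1 e)
  · refine Or.inr (h.fix _ (K.mul_mem hx.1 h.z4K) ?_)
    rw [h.comm_mul hx.1 h.uz4W, e, h.uz4, h.zsq]

theorem A1_c (h : Cfg K u c z z2 z4) {x : S} (hx : x ∈ h.A1) {k : S} (hk : k ∈ K) : k * x = x * k := by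
  rcases h.A1_cases hx with hw | hw
  · exact h.W_c hw hk
  · have h1 := h.W_c hw hk
    rw [← mul_assoc, mul_assoc x z4 k, ← h.z4c k hk, ← mul_assoc] at h1
    exact mul_right_cancel h1

theorem A1_sq (h : Cfg K u c z z2 z4) {x : S} (hx : x ∈ h.A1) : x * x ∈ h.W := by
  rcases h.A1_cases hx with hw | hw
  · exact mul_mem hw hw
  · have h1 := h.W_sq hw
    rw [Commute.mul_mul_mul_comm (h.A1_c hx h.z4K : Commute z4 x)] at h1
    rw [eq_inv_of_mul_eq_one_left h1]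
    exact h.W.inv_mem h.z4sq

theorem A1_sq' (h : Cfg K u c z z2 z4) (h4 : z4 * z4 = z) {x : S} (hx : x ∈ h.A1) (hxW : x ∉ h.W) : x * x = z := by
  have h1 := h.W_sq ((h.A1_cases hx).resolve_left hxW)
  rw [Commute.mul_mul_mul_comm (h.A1_c hx h.z4K : Commute z4 x), h4] at h1
  rw [eq_inv_of_mul_eq_one_left h1]
  exact inv_eq_of_mul_eq_one_right h.zsq

theorem A1_comm (h : Cfg K u c z z2 z4) {x : S} (hx : x ∈ h.A1) (g : S) : ⁅g, x⁆ ∈ h.W := by
  haveI := h.W_normal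
  have hw : ∀ w ∈ h.W, ⁅g, w⁆ ∈ h.W := fun w hw => by
    rw [commutatorElement_def]
    exact mul_mem (h.W_normal.conj_mem w hw g) (inv_mem hw)
  rcases h.A1_cases hx with hxw | hxw
  · exact hw x hxw
  · have h1 : x * z4 ∈ h.W := hxw
    have h2 := hw _ h1
    rw [conj_mul_right] at h2
    have h3 : x * ⁅g, z4⁆ * x⁻¹ = ⁅g, z4⁆ := by rw [h.W_c (h.hz4 g) hx.1, mul_inv_cancel_right]
    rw [h3] at h2
    exact (Subgroup.mul_mem_cancel_right _ (h.hz4 g)).mp h2

theorem A1_normal (h : Cfg K u c z z2 z4) : h.A1.Normal :=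
  ⟨fun x hx g => by rw [conj_eq]; exact mul_mem (h.W_le_A1 (h.A1_comm hx g)) hx⟩

theorem exists_next (h : Cfg K u c z z2 z4) (h2 : IsPGroup 2 S) (A : Subgroup S) [A.Normal] (hA : A ≤ K)
    (hne : ¬ K ≤ A) : ∃ x ∈ K, x ∉ A ∧ x * x ∈ A ∧ ∀ g : S, ⁅g, x⁆ ∈ A := by
  haveI : Fact (Nat.Prime 2) := ⟨Nat.prime_two⟩
  set π := QuotientGroup.mk' A
  haveI : K.Normal := ⟨fun k hk g => h.normal g k hk⟩
  haveI : (K.map π).Normal := Subgroup.Normal.map inferInstance π (QuotientGroup.mk'_surjective A)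
  have hnb : K.map π ≠ ⊥ := fun e => hne fun k hk => (QuotientGroup.eq_one_iff k).mp
    (Subgroup.mem_bot.mp (e ▸ ⟨k, hk, rfl⟩ : π k ∈ (⊥ : Subgroup (S ⧸ A))))
  have hinf := H6.inf_center_ne_bot (h2.to_quotient A) hnb
  obtain ⟨⟨q, hq⟩, hqo⟩ := exists_prime_orderOf_dvd_card' (G := ↥(K.map π ⊓ Subgroup.center (S ⧸ A))) 2 (by
    obtain ⟨n, hn⟩ := IsPGroup.iff_card.mp ((h2.to_quotient A).to_subgroup (K.map π ⊓ Subgroup.center (S ⧸ A)))
    rcases n with - | n
    · exact absurd (Subgroup.card_eq_one.mp (by simpa using hn)) hinf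
    · exact ⟨2 ^ n, by rw [hn, pow_succ']⟩)
  rw [Subgroup.orderOf_mk] at hqo
  obtain ⟨⟨x, hx, hxq⟩, hqc⟩ := Subgroup.mem_inf.mp hq
  refine ⟨x, hx, fun hxA => ?_, ?_, fun g => ?_⟩
  · have h1 : q = 1 := hxq ▸ (QuotientGroup.eq_one_iff x).mpr hxA
    rw [h1, orderOf_one] at hqo
    omega
  · refine (QuotientGroup.eq_one_iff _).mp ?_
    show π (x * x) = 1
    rw [map_mul, hxq, ← pow_two, ← hqo, pow_orderOf_eq_one]
  · refine (QuotientGroup.eq_one_iff _).mp ?_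
    show π ⁅g, x⁆ = 1
    rw [map_commutatorElement, hxq, commutatorElement_eq_one_iff_mul_comm]
    exact Subgroup.mem_center_iff.mp hqc (π g)

/-- commutators with generators suffice -/
theorem extend (h : Cfg K u c z z2 z4) (B : Subgroup S) [B.Normal] {x : S} (hK : ∀ k ∈ K, ⁅k, x⁆ ∈ B)
    (hu : ⁅u, x⁆ ∈ B) (hc : ⁅c, x⁆ ∈ B) (g : S) : ⁅g, x⁆ ∈ B := by
  have hiff : ∀ y : S, ⁅y, x⁆ ∈ B ↔ QuotientGroup.mk' B y * QuotientGroup.mk' B x = QuotientGroup.mk' B x * QuotientGroup.mk' B y := by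
    intro y
    rw [← commutatorElement_eq_one_iff_mul_comm, ← map_commutatorElement]
    exact (QuotientGroup.eq_one_iff _).symm
  have htop := h.gen ((Subgroup.centralizer ({QuotientGroup.mk' B x} : Set (S ⧸ B))).comap (QuotientGroup.mk' B))
    (fun k hk => Subgroup.mem_centralizer_singleton_iff.mpr ((hiff k).mp (hK k hk)))
    (Subgroup.mem_centralizer_singleton_iff.mpr ((hiff u).mp hu))
    (Subgroup.mem_centralizer_singleton_iff.mpr ((hiff c).mp hc))
  have hg : g ∈ (⊤ : Subgroup S) := Subgroup.mem_top g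
  rw [← htop, Subgroup.mem_comap, Subgroup.mem_centralizer_singleton_iff] at hg
  exact (hiff g).mpr hg

theorem comm_u_inv (h : Cfg K u c z z2 z4) (x : S) : u * ⁅u, x⁆ * u⁻¹ * ⁅u, x⁆ = 1 := by
  rw [show u * ⁅u, x⁆ * u⁻¹ * ⁅u, x⁆ = (u * u) * x * (u * u)⁻¹ * x⁻¹ by
    simp only [commutatorElement_def]; group, ← h.usq x]
  group

/-- a commutator in the first layer has square `z` -/
theorem sq_of_comm (h : Cfg K u c z z2 z4) {x : S} (hy : ⁅u, x⁆ ∈ h.A1) (hyW : ⁅u, x⁆ ∉ h.W) :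
    ⁅u, x⁆ * ⁅u, x⁆ = z ∧ z4 * z4 = z := by
  have huy : ⁅u, ⁅u, x⁆⁆ = z := hy.2.resolve_left fun e => hyW (h.fix _ hy.1 e)
  have hu2 := h.comm_u_inv x
  rw [conj_eq, huy, mul_assoc] at hu2
  have h3 := (h.A1_cases hy).resolve_left hyW
  have h4 := h.W_sq h3
  rw [Commute.mul_mul_mul_comm (h.A1_c hy h.z4K : Commute z4 ⁅u, x⁆)] at h4
  have h5 : ⁅u, x⁆ * ⁅u, x⁆ = z := by
    have := inv_eq_of_mul_eq_one_right hu2
    rw [inv_eq_of_mul_eq_one_right h.zsq] at this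
    exact this.symm
  rw [h5] at h4
  exact ⟨h5, (inv_eq_of_mul_eq_one_right h4).symm.trans (inv_eq_of_mul_eq_one_right h.zsq)⟩

theorem A2_cases (h : Cfg K u c z z2 z4) {z5 : S} (h5K : z5 ∈ K) (h5u : ⁅u, z5⁆ = z2 ∨ ⁅u, z5⁆ = z * z2) {x : S}
    (hx : x ∈ h.A2) : x ∈ h.A1 ∨ x * z5 ∈ h.A1 := by
  have h5W : ⁅u, z5⁆ ∈ h.W := by rcases h5u with e | e <;> rw [e]; exacts [h.z2_W, mul_mem h.z_W h.z2_W]
  rcases h.mem_W.mp hx.2 with e | e | e | e
  · exact Or.inl ⟨hx.1, Or.inl e⟩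
  · exact Or.inl ⟨hx.1, Or.inr e⟩
  all_goals
    refine Or.inr ⟨K.mul_mem hx.1 h5K, ?_⟩
    rw [h.comm_mul hx.1 h5W, e]
    rcases h5u with e' | e' <;> rw [e']
  · exact Or.inl h.z2sq
  · exact Or.inr (by rw [← mul_assoc, h.zc z2, mul_assoc, h.z2sq, mul_one])
  · exact Or.inr (by rw [mul_assoc, h.z2sq, mul_one])
  · exact Or.inl (h.W_sq (mul_mem h.z_W h.z2_W))

theorem z5_W {z5 : S} (h : Cfg K u c z z2 z4) (h5u : ⁅u, z5⁆ = z2 ∨ ⁅u, z5⁆ = z * z2) : ⁅u, z5⁆ ∈ h.W := by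
  rcases h5u with e | e <;> rw [e]
  exacts [h.z2_W, mul_mem h.z_W h.z2_W]

/-- An element moved by `u` by `z2` is central modulo the first layer. -/
theorem z5_spec (h : Cfg K u c z z2 z4) (h2 : IsPGroup 2 S) {z5 : S} (h5K : z5 ∈ K)
    (h5u : ⁅u, z5⁆ = z2 ∨ ⁅u, z5⁆ = z * z2) : z5 * z5 ∈ h.W ∧ ∀ g : S, ⁅g, z5⁆ ∈ h.A1 := by
  have h5W := h.z5_W h5u
  have h55 : z5 * z5 ∈ h.W := h.fix _ (K.mul_mem h5K h5K) (by rw [h.comm_mul h5K h5W, h.W_sq h5W])
  refine ⟨h55, ?_⟩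
  haveI := h.A1_normal
  set π := QuotientGroup.mk' h.A1 with hπ
  have hπ1 : ∀ y, π y = 1 ↔ y ∈ h.A1 := fun y => QuotientGroup.eq_one_iff y
  have hc5 : ⁅c, z5⁆ ∈ h.A1 := by
    set e := ⁅c, z5⁆ with he
    have heK : e ∈ K := K.mul_mem (h.normal c z5 h5K) (K.inv_mem h5K)
    have h1 : c * ⁅u, z5⁆ * c⁻¹ = ⁅u, e * z5⁆ := by
      rw [← conj_eq c z5]
      have h3 : c * u * c⁻¹ = u := by rw [h.cu, mul_inv_cancel_right]
      calc c * ⁅u, z5⁆ * c⁻¹ = ⁅c * u * c⁻¹, c * z5 * c⁻¹⁆ := by simp only [commutatorElement_def]; group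
        _ = _ := by rw [h3]
    have h3 : c * ⁅u, z5⁆ * c⁻¹ = z * ⁅u, z5⁆ := by
      rcases h5u with e' | e' <;> rw [e']
      · rw [conj_eq, h.cz2]
      · rw [show c * (z * z2) * c⁻¹ = c * z * c⁻¹ * (c * z2 * c⁻¹) by group, h.zc c, mul_inv_cancel_right,
          conj_eq c z2, h.cz2]
    rw [h3, h.comm_mul heK h5W] at h1
    exact ⟨heK, Or.inr (mul_right_cancel h1).symm⟩
  refine h.extend h.A1 ?_ (h.W_le_A1 h5W) hc5
  -- the elements of `K` centralising `z5` modulo the first layer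
  set D := K ⊓ (Subgroup.centralizer ({π z5} : Set (S ⧸ h.A1))).comap π with hD
  have hDm : ∀ k, k ∈ D ↔ k ∈ K ∧ π k * π z5 = π z5 * π k := fun k =>
    ⟨fun hk => ⟨hk.1, Subgroup.mem_centralizer_singleton_iff.mp hk.2⟩,
      fun hk => ⟨hk.1, Subgroup.mem_centralizer_singleton_iff.mpr hk.2⟩⟩
  have hcomm : ∀ k, ⁅k, z5⁆ ∈ h.A1 ↔ π k * π z5 = π z5 * π k := fun k => by
    rw [← hπ1, map_commutatorElement, commutatorElement_eq_one_iff_mul_comm]
  intro k₀ hk₀
  by_contra hk₀D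
  rw [hcomm] at hk₀D
  haveI : Fact (Nat.Prime 2) := ⟨Nat.prime_two⟩
  haveI : Group.IsNilpotent K := (h2.to_subgroup K).isNilpotent
  have hlt : D.subgroupOf K < ⊤ := by
    rw [lt_top_iff_ne_top, Ne, Subgroup.subgroupOf_eq_top]
    exact fun hle => hk₀D ((hDm _).mp (hle hk₀)).2
  obtain ⟨⟨y, hyK⟩, hyN, hyD⟩ := SetLike.exists_of_lt (normalizerCondition_of_isNilpotent _ hlt)
  rw [Subgroup.mem_subgroupOf] at hyD
  set N := K ⊓ Subgroup.normalizer (D : Set S) with hN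
  have hyN' : y ∈ N := by
    refine ⟨hyK, Subgroup.mem_normalizer_iff.mpr fun d => ⟨fun hd => ?_, fun hd => ?_⟩⟩
    · exact Subgroup.mem_subgroupOf.mp ((Subgroup.mem_normalizer_iff.mp hyN (⟨d, hd.1⟩ : K)).mp
        (Subgroup.mem_subgroupOf.mpr hd))
    · have hdK : d ∈ K := by
        have := K.mul_mem (K.mul_mem (K.inv_mem hyK) hd.1) hyK
        simpa [mul_assoc] using this
      exact Subgroup.mem_subgroupOf.mp ((Subgroup.mem_normalizer_iff.mp hyN (⟨d, hdK⟩ : K)).mpr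
        (Subgroup.mem_subgroupOf.mpr hd))
  have hu5 : π u * π z5 = π z5 * π u := (hcomm u).mp (h.W_le_A1 h5W)
  have hDu : ∀ d ∈ D, u * d * u⁻¹ ∈ D := by
    intro d hd
    refine (hDm _).mpr ⟨h.normal u d hd.1, ?_⟩
    rw [map_mul, map_mul, map_inv]
    exact ((Commute.mul_left (hu5 : Commute (π u) (π z5)) ((hDm d).mp hd).2).mul_left
      (Commute.inv_left hu5)).eq
  have huD : u ∈ Subgroup.normalizer (D : Set S) := by
    refine Subgroup.mem_normalizer_iff.mpr fun d => ⟨hDu d, fun hd => ?_⟩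
    have h1 := hDu _ (hDu _ hd)
    have h2' : u * u * d * (u * u)⁻¹ = d := by rw [← h.usq d, mul_inv_cancel_right]
    have h3 : d = u⁻¹ * (u * d * u⁻¹) * u := by group
    have h4 : u⁻¹ * (u * d * u⁻¹) * u = u * (u * d * u⁻¹) * u⁻¹ := by
      rw [← h3]; conv_lhs => rw [← h2']
      group
    rw [h3, h4]
    exact hDu _ hd
  have hNu : ∀ n ∈ N, u * n * u⁻¹ ∈ N := fun n hn =>
    ⟨h.normal u n hn.1, Subgroup.mul_mem _ (Subgroup.mul_mem _ huD hn.2) (Subgroup.inv_mem _ huD)⟩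
  obtain ⟨k, hkN, hkD, hf⟩ := exists_fixed_coset h2 h.usq N D hNu hyN' hyD
  set e := ⁅k, z5⁆ with he
  have heK : e ∈ K := K.mul_mem (h.normal k z5 h5K) (K.inv_mem h5K)
  have h5D : z5 ∈ D := (hDm _).mpr ⟨h5K, rfl⟩
  have hcent : ∀ d ∈ D, Commute (π d) (π e) := by
    intro d hd
    have hd' : k⁻¹ * d * k ∈ D := by
      have := (Subgroup.mem_normalizer_iff.mp (inv_mem hkN.2) d).mp hd
      rwa [inv_inv] at this
    have h1 : Commute (π d) (π (k * z5 * k⁻¹)) := by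
      have h2' : Commute (π (k⁻¹ * d * k)) (π z5) := ((hDm _).mp hd').2
      show π d * π (k * z5 * k⁻¹) = π (k * z5 * k⁻¹) * π d
      rw [← map_mul, ← map_mul, show d * (k * z5 * k⁻¹) = k * (k⁻¹ * d * k * z5) * k⁻¹ by group,
        show k * z5 * k⁻¹ * d = k * (z5 * (k⁻¹ * d * k)) * k⁻¹ by group, map_mul, map_mul, map_mul _ _ z5,
        h2'.eq]
      simp only [map_mul]
    have h2' : Commute (π d) (π z5) := ((hDm _).mp hd).2
    have := h1.mul_right h2'.inv_right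
    rwa [← map_inv, ← map_mul] at this
  have hue : ⁅u, e⁆ ∈ h.A1 := by
    rw [← hπ1, map_commutatorElement, commutatorElement_eq_one_iff_mul_comm]
    set f := ⁅u, k⁆ with hfdef
    have hf5 : Commute (π f) (π z5) := ((hDm _).mp hf).2
    have hfe : Commute (π f) (π e) := hcent f hf
    have huk : π u * π k = π f * π k * π u := by
      rw [← map_mul, ← map_mul, ← map_mul]; congr 1; rw [hfdef, commutatorElement_def]; group
    have hu5' : Commute (π u) (π z5) := hu5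
    have hee : π e = π k * π z5 * (π k)⁻¹ * (π z5)⁻¹ := by
      rw [he, map_commutatorElement, commutatorElement_def]
    have h1 : π u * π e * (π u)⁻¹ = π e := by
      have e1 : π u * π k * (π u)⁻¹ = π f * π k := by rw [huk, mul_inv_cancel_right]
      have e2 : π u * π z5 * (π u)⁻¹ = π z5 := by rw [hu5'.eq, mul_inv_cancel_right]
      calc π u * π e * (π u)⁻¹ = (π u * π k * (π u)⁻¹) * (π u * π z5 * (π u)⁻¹) *
            (π u * π k * (π u)⁻¹)⁻¹ * (π u * π z5 * (π u)⁻¹)⁻¹ := by rw [hee]; group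
        _ = π f * π e * (π z5 * (π f)⁻¹) * (π z5)⁻¹ := by rw [e1, e2, hee]; group
        _ = π f * π e * (π f)⁻¹ := by rw [← (Commute.inv_left hf5).eq]; group
        _ = π e := by rw [hfe.eq, mul_inv_cancel_right]
    calc π u * π e = π u * π e * (π u)⁻¹ * π u := by group
      _ = π e * π u := by rw [h1]
  have hek : e ∉ h.A1 := fun h' => hkD ((hDm _).mpr ⟨hkN.1, (hcomm k).mp h'⟩)
  have hconj : k * z5 * k⁻¹ = e * z5 := conj_eq k z5
  by_cases hw : ⁅u, e⁆ ∈ h.W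
  · rcases h.A2_cases h5K h5u (x := e) ⟨heK, hw⟩ with h' | h'
    · exact hek h'
    · have h1 : z5 ∈ h.A1 := by
        have := Subgroup.Normal.conj_mem (inferInstance : h.A1.Normal) _ h' k⁻¹
        rw [← hconj] at this
        simpa [mul_assoc] using this
      exact hek ((Subgroup.mul_mem_cancel_right _ h1).mp h')
  · obtain ⟨hy2, -⟩ := h.sq_of_comm hue hw
    set y := ⁅u, e * z5⁆ with hy
    have hy' : y = ⁅u, e⁆ * ⁅u, z5⁆ := h.comm_mul heK h5W
    have hex : e * z5 * (e * z5) = z5 * z5 := by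
      rw [← hconj, show k * z5 * k⁻¹ * (k * z5 * k⁻¹) = k * (z5 * z5) * k⁻¹ by group, h.W_c h55 hkN.1,
        mul_inv_cancel_right]
    have hyA : y ∈ h.A1 := hy' ▸ mul_mem hue (h.W_le_A1 h5W)
    have h1 : ⁅u, e * z5 * (e * z5)⁆ = y * y := by
      rw [conj_mul_right, h.A1_c hyA (K.mul_mem heK h5K), mul_inv_cancel_right]
    rw [hex, h.uW h55, hy', Commute.mul_mul_mul_comm (h.W_c h5W hue.1 : Commute ⁅u, e⁆ ⁅u, z5⁆).symm, hy2,
      h.W_sq h5W, mul_one] at h1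
    exact h.zne h1.symm

theorem A2_comm (h : Cfg K u c z z2 z4) {z5 : S} (h5K : z5 ∈ K) (h5g : ∀ g : S, ⁅g, z5⁆ ∈ h.A1)
    (h5u : ⁅u, z5⁆ = z2 ∨ ⁅u, z5⁆ = z * z2) {x : S} (hx : x ∈ h.A2) (g : S) : ⁅g, x⁆ ∈ h.A1 := by
  have h1 : ∀ y ∈ h.A1, ⁅g, y⁆ ∈ h.A1 := fun y hy => h.W_le_A1 (h.A1_comm hy g)
  rcases h.A2_cases h5K h5u hx with h3 | h3
  · exact h1 x h3
  · have h4 := h1 _ h3
    rw [conj_mul_right, h.A1_c (h5g g) hx.1, mul_inv_cancel_right] at h4
    exact (Subgroup.mul_mem_cancel_right _ (h5g g)).mp h4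

theorem A2_normal (h : Cfg K u c z z2 z4) {z5 : S} (h5K : z5 ∈ K) (h5g : ∀ g : S, ⁅g, z5⁆ ∈ h.A1)
    (h5u : ⁅u, z5⁆ = z2 ∨ ⁅u, z5⁆ = z * z2) : h.A2.Normal :=
  ⟨fun x hx g => by rw [conj_eq]; exact mul_mem (h.A1_le_A2 (h.A2_comm h5K h5g h5u hx g)) hx⟩

/-- The third layer. -/
theorem exists_z6 (h : Cfg K u c z z2 z4) (h2 : IsPGroup 2 S) {z5 : S} (h5K : z5 ∈ K)
    (h5g : ∀ g : S, ⁅g, z5⁆ ∈ h.A1) (h5u : ⁅u, z5⁆ = z2 ∨ ⁅u, z5⁆ = z * z2) (hne : ¬ K ≤ h.A2) :
    z4 * z4 = z ∧ ∃ z6 ∈ K, z6 * z6 ∈ h.A2 ∧ (∀ g : S, ⁅g, z6⁆ ∈ h.A2) ∧ ⁅u, z6⁆ ∈ h.A1 ∧ ⁅u, z6⁆ ∉ h.W := by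
  haveI := h.A2_normal h5K h5g h5u
  haveI := h.A1_normal
  obtain ⟨x, hxK, hxA, hxx, hxg⟩ := h.exists_next h2 h.A2 (fun y hy => hy.1) hne
  have hy : ⁅u, x⁆ ∈ h.A1 := by
    have h5W := h.z5_W h5u
    haveI := h.W_normal
    set e := ⁅u, x⁆ with he
    have heA : e ∈ h.A2 := by exact hxg u
    by_contra hne
    have hfA1 : ∀ a ∈ h.A1, ∀ g : S, ⁅g, a⁆ ∈ h.W := fun a ha g => h.A1_comm ha g
    have he5 : e * z5 ∈ h.A1 := (h.A2_cases h5K h5u heA).resolve_left hne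
    set d := ⁅c, x⁆ with hd
    have hdA : d ∈ h.A2 := hxg c
    have hde : d * e = e * d := by
      have hz5 : ∀ a ∈ h.A2, a * z5 = z5 * a := by
        intro a ha
        rcases h.A2_cases h5K h5u ha with h3 | h3
        · exact (h.A1_c h3 h5K).symm
        · have := h.A1_c h3 h5K
          rw [← mul_assoc] at this
          exact (mul_right_cancel this).symm
      have h1 : Commute d (e * z5) := h.A1_c he5 hdA.1
      have h2' : Commute d z5 := hz5 d hdA
      have := h1.mul_right h2'.inv_right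
      rwa [mul_inv_cancel_right] at this
    have h1 : c * e * c⁻¹ = ⁅u, d⁆ * e := by
      have h3 : c * u * c⁻¹ = u := by rw [h.cu, mul_inv_cancel_right]
      calc c * e * c⁻¹ = ⁅c * u * c⁻¹, c * x * c⁻¹⁆ := by rw [he]; simp only [commutatorElement_def]; group
        _ = ⁅u, d * x⁆ := by rw [h3, conj_eq c x]
        _ = ⁅u, d⁆ * e := by rw [conj_mul_right, ← he, hde, mul_inv_cancel_right]
    have h3 : ⁅c, e⁆ ∈ h.W := by
      rw [show ⁅c, e⁆ = c * e * c⁻¹ * e⁻¹ from commutatorElement_def c e, h1, mul_inv_cancel_right]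
      exact hdA.2
    have h4 : ⁅c, z5⁆ ∈ h.W := by
      have hp := hfA1 _ he5 c
      rw [conj_mul_right] at hp
      have hp' := (Subgroup.mul_mem_cancel_left _ h3).mp hp
      have := h.W_normal.conj_mem _ hp' e⁻¹
      simpa [mul_assoc] using this
    have h5 : c * ⁅u, z5⁆ * c⁻¹ = ⁅u, z5⁆ := by
      have h6 : c * u * c⁻¹ = u := by rw [h.cu, mul_inv_cancel_right]
      calc c * ⁅u, z5⁆ * c⁻¹ = ⁅c * u * c⁻¹, c * z5 * c⁻¹⁆ := by simp only [commutatorElement_def]; group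
        _ = ⁅u, ⁅c, z5⁆ * z5⁆ := by rw [h6, conj_eq c z5]
        _ = ⁅u, z5⁆ := by rw [h.comm_mul (h.W_le h4) h5W, h.uW h4, one_mul]
    rcases h5u with e' | e' <;> rw [e'] at h5
    · rw [conj_eq, h.cz2] at h5
      exact h.zne (mul_eq_right.mp h5)
    · rw [show c * (z * z2) * c⁻¹ = c * z * c⁻¹ * (c * z2 * c⁻¹) by group, h.zc c, mul_inv_cancel_right,
        conj_eq c z2, h.cz2] at h5
      exact h.zne (mul_eq_right.mp (mul_left_cancel h5))
  have hyW : ⁅u, x⁆ ∉ h.W := fun e => hxA ⟨hxK, e⟩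
  exact ⟨(h.sq_of_comm hy hyW).2, x, hxK, hxx, hxg, hy, hyW⟩

theorem card_le_or (h : Cfg K u c z z2 z4) (h2 : IsPGroup 2 S) : Nat.card K ≤ 16 ∨ z4 * z4 = z := by
  by_cases hK : K ≤ h.A2
  swap
  · by_cases hex : ∃ z5 ∈ K, ⁅u, z5⁆ = z2 ∨ ⁅u, z5⁆ = z * z2
    · obtain ⟨z5, h5K, h5u⟩ := hex
      exact Or.inr (h.exists_z6 h2 h5K (h.z5_spec h2 h5K h5u).2 h5u hK).1
    · push Not at hex
      haveI := h.A1_normal
      obtain ⟨x, hxK, hxA, -, hxg⟩ := h.exists_next h2 h.A1 (fun y hy => hy.1) (fun e => hK (e.trans h.A1_le_A2))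
      refine Or.inr (h.sq_of_comm (hxg u) fun hw => ?_).2
      rcases h.mem_W.mp hw with e | e | e | e
      exacts [hxA ⟨hxK, Or.inl e⟩, hxA ⟨hxK, Or.inr e⟩, (hex x hxK).1 e, (hex x hxK).2 e]
  left
  have hconj : ∀ g ∈ K, g * u * g⁻¹ ∈ (fun w => w * u) '' (h.W : Set S) := by
    intro g hg
    refine ⟨⁅g, u⁆, ?_, (conj_eq g u).symm⟩
    have := inv_mem (hK hg).2
    rwa [commutatorElement_inv] at this
  refine le_trans (card_le_mul u _ hconj) (le_trans (Nat.mul_le_mul (m₂ := 4) (n₂ := 4) ?_ ?_) le_rfl)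
  · have hle : K ⊓ Subgroup.centralizer ({u} : Set S) ≤ h.W := fun x hx => h.fix x hx.1
      (commutatorElement_eq_one_iff_mul_comm.mpr (Subgroup.mem_centralizer_singleton_iff.mp hx.2).symm)
    exact le_trans (Subgroup.card_le_of_le hle) (card_four h.zne h.z2ne h.z2nz.symm).le
  · rw [Nat.card_coe_set_eq]
    refine le_trans (Set.ncard_image_le (Set.toFinite _)) ?_
    rw [← Nat.card_coe_set_eq]
    exact (card_four h.zne h.z2ne h.z2nz.symm).le

/-- If `u` moves no element by `z2`, then `K` is cyclic modulo the four-group. -/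
theorem exists_generator (h : Cfg K u c z z2 z4) (h2 : IsPGroup 2 S) (h4 : z4 * z4 = z)
    (hex : ∀ x ∈ K, ⁅u, x⁆ ≠ z2 ∧ ⁅u, x⁆ ≠ z * z2) :
    ∃ g ∈ K, ∀ x ∈ K, ∃ n : ℤ, (g ^ n)⁻¹ * x ∈ h.W := by
  classical
  haveI := h.W_normal
  haveI := h.A1_normal
  set f := QuotientGroup.mk' h.W with hf
  have hf1 : ∀ x, f x = 1 ↔ x ∈ h.W := fun x => QuotientGroup.eq_one_iff x
  set τ := f z4 with hτ
  have hττ : τ * τ = 1 := by rw [hτ, ← map_mul, h4]; exact (hf1 z).mpr h.z_W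
  have hτ1 : τ ≠ 1 := fun e => h.zne (h.uz4.symm.trans (h.uW ((hf1 z4).mp e)))
  have hA1f : ∀ x ∈ h.A1, f x = 1 ∨ f x = τ := by
    intro x hx
    rcases h.A1_cases hx with hw | hw
    · exact Or.inl ((hf1 x).mpr hw)
    · right
      have h1 := (hf1 _).mpr hw
      rw [map_mul] at h1
      rw [← inv_eq_of_mul_eq_one_right hττ]
      exact eq_inv_of_mul_eq_one_left h1
  have hfA1 : ∀ x ∈ K, (f x = 1 ∨ f x = τ) → x ∈ h.A1 := by
    intro x hx hh
    rcases hh with e | e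
    · exact h.W_le_A1 ((hf1 x).mp e)
    · have h1 : x * z4⁻¹ ∈ h.W := (hf1 _).mp (by rw [map_mul, e, map_inv, mul_inv_cancel])
      have := mul_mem (h.W_le_A1 h1) h.z4_A1
      rwa [inv_mul_cancel_right] at this
  have hWu : ∀ x ∈ K, ⁅u, x⁆ ∈ h.W → x ∈ h.A1 := by
    intro x hx hw
    rcases h.mem_W.mp hw with e | e | e | e
    exacts [⟨hx, Or.inl e⟩, ⟨hx, Or.inr e⟩, absurd e (hex x hx).1, absurd e (hex x hx).2]
  obtain ⟨L, ⟨hLn, hLA, hLK, γ, hγ⟩, hmax⟩ := Set.Finite.exists_maximalFor (fun L : Subgroup S => Nat.card L)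
    {L : Subgroup S | L.Normal ∧ h.A1 ≤ L ∧ L ≤ K ∧ ∃ γ ∈ L, L.map f = Subgroup.zpowers (f γ)}
    (Set.toFinite _) ⟨h.A1, h.A1_normal, le_rfl, fun x hx => hx.1, z4, h.z4_A1,
      le_antisymm (by
        rintro _ ⟨x, hx, rfl⟩
        rcases hA1f x hx with e | e <;> rw [e]
        exacts [one_mem _, Subgroup.mem_zpowers _]) (Subgroup.zpowers_le.mpr ⟨z4, h.z4_A1, rfl⟩)⟩
  obtain ⟨hγL, hγ⟩ := hγ
  haveI := hLn
  by_cases hKL : K ≤ L
  · refine ⟨γ, hLK hγL, fun x hx => ?_⟩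
    obtain ⟨n, hn⟩ := Subgroup.mem_zpowers_iff.mp (hγ ▸ ⟨x, hKL hx, rfl⟩ : f x ∈ Subgroup.zpowers (f γ))
    exact ⟨n, (hf1 _).mp (by rw [map_mul, map_inv, map_zpow, hn, inv_mul_cancel])⟩
  exfalso
  have hτL : τ ∈ Subgroup.zpowers (f γ) := hγ ▸ ⟨z4, hLA h.z4_A1, rfl⟩
  have hmemL : ∀ x ∈ L, f x ∈ Subgroup.zpowers (f γ) := fun x hx => hγ ▸ ⟨x, hx, rfl⟩
  have hcomL : ∀ x ∈ L, ∀ g : S, ⁅g, x⁆ ∈ L := fun x hx g => mul_mem (hLn.conj_mem x hx g) (inv_mem hx)
  -- elements of order four of `L` are central in `K` modulo `W`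
  have hfour : ∀ l ∈ L, f l * f l = τ → ∀ k ∈ K, f k * f l = f l * f k := by
    intro l hl hlτ k hk
    have hA : ⁅k, l⁆ ∈ h.A1 := by
      have h1 : f (k * l * k⁻¹) * f (k * l * k⁻¹) = f l * f l := by
        rw [map_mul, map_mul, map_inv, show f k * f l * (f k)⁻¹ * (f k * f l * (f k)⁻¹) =
          f k * (f l * f l) * (f k)⁻¹ by group, hlτ, hτ, ← map_inv, ← map_mul, ← map_mul]
        congr 1
        rw [h.z4c k hk, mul_inv_cancel_right]
      rcases sq_roots hτL hττ hτ1 (hmemL _ (hLn.conj_mem l hl k)) (hmemL l hl) h1 with e | e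
      · refine hfA1 _ (hLK (hcomL l hl k)) (Or.inl ?_)
        rw [commutatorElement_def, map_mul, e, map_inv, mul_inv_cancel]
      · refine hfA1 _ (hLK (hcomL l hl k)) (Or.inr ?_)
        rw [commutatorElement_def, map_mul, e, map_inv]
        obtain ⟨i, hi⟩ := Subgroup.mem_zpowers_iff.mp hτL
        obtain ⟨j, hj⟩ := Subgroup.mem_zpowers_iff.mp (hmemL l hl)
        rw [← hi, ← hj, ((Commute.refl (f γ)).zpow_zpow j i).eq, mul_inv_cancel_right]
    have hll : l * l ∈ h.A1 := hfA1 _ (K.mul_mem (hLK hl) (hLK hl)) (Or.inr (by rw [map_mul, hlτ]))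
    set e := ⁅k, l⁆ with he
    have h1 : e * l * (e * l) = l * l := by
      rw [← conj_eq k l, show k * l * k⁻¹ * (k * l * k⁻¹) = k * (l * l) * k⁻¹ by group, h.A1_c hll hk,
        mul_inv_cancel_right]
    rw [Commute.mul_mul_mul_comm (h.A1_c hA (hLK hl) : Commute l e), mul_eq_right] at h1
    have heW : e ∈ h.W := by
      by_contra hne
      exact h.zne ((h.A1_sq' h4 hA hne).symm.trans h1)
    rw [← commutatorElement_eq_one_iff_mul_comm, ← map_commutatorElement]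
    exact (hf1 _).mpr heW
  obtain ⟨x, hxK, hxL, hxx, hxg⟩ := h.exists_next h2 L hLK hKL
  -- a root of the square
  have hroot : ∃ δ ∈ L, f δ * f δ = f (x * x) := by
    by_contra hno
    push Not at hno
    set L' := L ⊔ Subgroup.zpowers x with hL'
    have hfx : f x * f x ∈ Subgroup.zpowers (f γ) := by rw [← map_mul]; exact hmemL _ hxx
    have hgen : L'.map f = Subgroup.zpowers (f x) := by
      obtain ⟨i, hi⟩ := Subgroup.mem_zpowers_iff.mp hfx
      obtain ⟨j, hj⟩ := i.even_or_odd'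
      rcases hj with rfl | rfl
      · exfalso
        refine hno (γ ^ j) (L.zpow_mem hγL j) ?_
        rw [map_zpow, ← zpow_add, map_mul, ← hi]; ring_nf
      · have hγx : f γ ∈ Subgroup.zpowers (f x) := by
          have h1 : f γ ^ (2 * j + 1) ∈ Subgroup.zpowers (f x) :=
            hi ▸ mul_mem (Subgroup.mem_zpowers _) (Subgroup.mem_zpowers _)
          obtain ⟨m, hm⟩ := IsPGroup.iff_orderOf.mp (h2.to_quotient h.W) (f γ)
          have hco : IsCoprime (2 * j + 1) ((2 : ℤ) ^ m) := by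
            refine IsCoprime.pow_right ⟨1, -j, ?_⟩
            ring
          obtain ⟨s, t, hst⟩ := hco
          have h3 : f γ = (f γ ^ (2 * j + 1)) ^ s := by
            rw [← zpow_mul]
            conv_lhs => rw [← zpow_one (f γ), ← hst]
            rw [zpow_add, show t * (2 : ℤ) ^ m = ((2 ^ m : ℕ) : ℤ) * t by push_cast; ring, zpow_mul (f γ) _ t,
              zpow_natCast, ← hm, pow_orderOf_eq_one, one_zpow, mul_one, mul_comm s]
          rw [h3]
          exact Subgroup.zpow_mem _ h1 s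
        refine le_antisymm ?_ (Subgroup.zpowers_le.mpr ⟨x, Subgroup.mem_sup_right (Subgroup.mem_zpowers x), rfl⟩)
        rw [hL', Subgroup.map_sup, MonoidHom.map_zpowers, hγ]
        exact sup_le (Subgroup.zpowers_le.mpr hγx) le_rfl
    have hn : L'.Normal := by
      refine ⟨fun y hy g => ?_⟩
      have : L' ≤ L'.comap (MulAut.conj g).toMonoidHom := by
        refine sup_le (fun l hl => Subgroup.mem_sup_left (hLn.conj_mem l hl g)) (Subgroup.zpowers_le.mpr ?_)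
        show g * x * g⁻¹ ∈ L'
        rw [conj_eq]
        exact mul_mem (Subgroup.mem_sup_left (hxg g)) (Subgroup.mem_sup_right (Subgroup.mem_zpowers x))
      exact this hy
    have hlt : Nat.card L < Nat.card L' := by
      by_contra hge
      push Not at hge
      exact hxL (by rw [Subgroup.eq_of_le_of_card_ge le_sup_left hge]
                    exact Subgroup.mem_sup_right (Subgroup.mem_zpowers x))
    exact absurd (hmax (j := L') ⟨hn, hLA.trans le_sup_left, sup_le hLK (Subgroup.zpowers_le.mpr hxK),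
      x, Subgroup.mem_sup_right (Subgroup.mem_zpowers x), hgen⟩ hlt.le) (not_le.mpr hlt)
  -- adjust to an involution modulo `W`
  have hstep : ∀ y ∈ K, y ∉ L → (∀ g : S, ⁅g, y⁆ ∈ L) → ∀ δ ∈ L, f δ * f δ = f (y * y) →
      ∃ y' ∈ K, y' ∉ L ∧ (∀ g : S, ⁅g, y'⁆ ∈ L) ∧ (f (y' * y') = 1 ∨ f (y' * y') = τ) := by
    intro y hy hyL hyg δ hδ hδe
    refine ⟨y * δ⁻¹, K.mul_mem hy (K.inv_mem (hLK hδ)), fun h' => hyL ?_, fun g => ?_, ?_⟩
    · have := L.mul_mem h' hδ
      rwa [inv_mul_cancel_right] at this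
    · rw [conj_mul_right]
      exact mul_mem (hyg g) (hLn.conj_mem _ (hcomL _ (inv_mem hδ) g) y)
    have h1 : f (y * δ * y⁻¹) * f (y * δ * y⁻¹) = f δ * f δ := by
      rw [map_mul, map_mul, map_inv, show f y * f δ * (f y)⁻¹ * (f y * f δ * (f y)⁻¹) =
        f y * (f δ * f δ) * (f y)⁻¹ by group, hδe, map_mul]
      group
    have hcalc : f (y * δ⁻¹ * (y * δ⁻¹)) = f (y * δ * y⁻¹)⁻¹ * (f δ * f δ) * (f δ)⁻¹ := by
      rw [hδe, map_inv]; simp only [map_mul, map_inv]; group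
    rcases sq_roots hτL hττ hτ1 (hmemL _ (hLn.conj_mem δ hδ y)) (hmemL δ hδ) h1 with e | e
    · left; rw [hcalc, map_inv, e]; group
    · right; rw [hcalc, map_inv, e, mul_inv_rev, inv_eq_of_mul_eq_one_right hττ]; group
  obtain ⟨δ, hδ, hδe⟩ := hroot
  obtain ⟨x1, h1K, h1L, h1g, h1sq⟩ := hstep x hxK hxL hxg δ hδ hδe
  obtain ⟨y, hyK, hyL, hyg, hysq⟩ : ∃ y ∈ K, y ∉ L ∧ (∀ g : S, ⁅g, y⁆ ∈ L) ∧ f (y * y) = 1 := by
    rcases h1sq with e | e
    · exact ⟨x1, h1K, h1L, h1g, e⟩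
    by_cases hbig : ∃ l ∈ L, f l * f l = τ
    · obtain ⟨l, hl, hle⟩ := hbig
      refine ⟨x1 * l⁻¹, K.mul_mem h1K (K.inv_mem (hLK hl)), fun h' => h1L ?_, fun g => ?_, ?_⟩
      · have := L.mul_mem h' hl
        rwa [inv_mul_cancel_right] at this
      · rw [conj_mul_right]
        exact mul_mem (h1g g) (hLn.conj_mem _ (hcomL _ (inv_mem hl) g) x1)
      · rw [map_mul, map_mul, map_inv, Commute.mul_mul_mul_comm (Commute.inv_right (hfour l hl hle x1 h1K : Commute (f x1) (f l))).symm,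
          ← map_mul, e, ← mul_inv_rev, hle, mul_inv_cancel]
    · -- `τ` has no root, so the square of `x1` generates a larger cyclic subgroup
      exfalso
      have hγA : f γ = 1 ∨ f γ = τ := by
        by_contra hne
        push Not at hne
        obtain ⟨m, hm⟩ := IsPGroup.iff_orderOf.mp (h2.to_quotient h.W) (f γ)
        rcases m with - | m
        · rw [pow_zero, orderOf_eq_one_iff] at hm; exact hne.1 hm
        rcases m with - | m
        · have h1 : f γ * f γ = 1 := by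
            have := pow_orderOf_eq_one (f γ)
            rw [hm] at this
            simpa [pow_two] using this
          rcases sq_roots hτL hττ hτ1 (Subgroup.mem_zpowers _) (one_mem _) (by rw [h1, one_mul]) with e' | e'
          · exact hne.1 e'
          · exact hne.2 (by rw [e', one_mul])
        refine hbig ⟨γ ^ 2 ^ m, L.pow_mem hγL _, ?_⟩
        rw [map_pow, ← pow_add, ← two_mul, ← pow_succ']
        have h1 : f γ ^ 2 ^ (m + 1) * f γ ^ 2 ^ (m + 1) = 1 := by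
          rw [← pow_add, ← two_mul, ← pow_succ', ← hm, pow_orderOf_eq_one]
        have h1' : f γ ^ 2 ^ (m + 1) ≠ 1 := pow_ne_one_of_lt_orderOf (by positivity) (by
          rw [hm]; exact Nat.pow_lt_pow_right one_lt_two (by omega))
        rcases sq_roots hτL hττ hτ1 (pow_mem (Subgroup.mem_zpowers _) _) (one_mem _) (by rw [h1, one_mul]) with e' | e'
        · exact absurd e' h1'
        · rw [e', one_mul]
      have hL1 : L ≤ h.A1 := by
        intro l hl
        refine hfA1 l (hLK hl) ?_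
        obtain ⟨i, hi⟩ := Subgroup.mem_zpowers_iff.mp (hmemL l hl)
        rcases hγA with e' | e' <;> rw [e'] at hi
        · left; rw [← hi, one_zpow]
        · obtain ⟨j, rfl | rfl⟩ := i.even_or_odd'
          · left; rw [← hi, zpow_mul, zpow_two, hττ, one_zpow]
          · right; rw [← hi, zpow_add, zpow_mul, zpow_two, hττ, one_zpow, zpow_one, one_mul]
      have hle : L ⊔ Subgroup.zpowers x1 ≤ L := by
        set L' := L ⊔ Subgroup.zpowers x1 with hL'
        have hn : L'.Normal := by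
          refine ⟨fun y hy g => ?_⟩
          have : L' ≤ L'.comap (MulAut.conj g).toMonoidHom := by
            refine sup_le (fun l hl => Subgroup.mem_sup_left (hLn.conj_mem l hl g)) (Subgroup.zpowers_le.mpr ?_)
            show g * x1 * g⁻¹ ∈ L'
            rw [conj_eq]
            exact mul_mem (Subgroup.mem_sup_left (h1g g)) (Subgroup.mem_sup_right (Subgroup.mem_zpowers x1))
          exact this hy
        have hcy : L'.map f = Subgroup.zpowers (f x1) := by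
          refine le_antisymm ?_ (Subgroup.zpowers_le.mpr ⟨x1, Subgroup.mem_sup_right (Subgroup.mem_zpowers x1), rfl⟩)
          rw [hL', Subgroup.map_sup, MonoidHom.map_zpowers]
          refine sup_le ?_ le_rfl
          rintro _ ⟨l, hl, rfl⟩
          rcases hA1f l (hL1 hl) with e' | e' <;> rw [e']
          · exact one_mem _
          · rw [← e, map_mul]; exact mul_mem (Subgroup.mem_zpowers _) (Subgroup.mem_zpowers _)
        by_contra hnle
        have hlt : Nat.card L < Nat.card L' := by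
          by_contra hge
          push Not at hge
          exact hnle (Subgroup.eq_of_le_of_card_ge le_sup_left hge).ge
        exact absurd (hmax (j := L') ⟨hn, hLA.trans le_sup_left, sup_le hLK (Subgroup.zpowers_le.mpr h1K),
          x1, Subgroup.mem_sup_right (Subgroup.mem_zpowers x1), hcy⟩ hlt.le) (not_le.mpr hlt)
      exact h1L (hle (Subgroup.mem_sup_right (Subgroup.mem_zpowers x1)))
  -- the commutator with `u`
  set e := ⁅u, y⁆ with he
  have heL : e ∈ L := hyg u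
  have hue : u * e * u⁻¹ = e⁻¹ := eq_inv_of_mul_eq_one_left (h.comm_u_inv y)
  have hyy : y * y ∈ h.W := (hf1 _).mp hysq
  have hye : y * e * y⁻¹ = e⁻¹ := by
    have h1 := conj_mul_right u y y
    rw [h.uW hyy, ← he] at h1
    exact eq_inv_of_mul_eq_one_right h1.symm
  have heA : e ∈ h.A1 := by
    refine hfA1 e (hLK heL) ?_
    by_contra hne
    push Not at hne
    obtain ⟨m, hm⟩ := IsPGroup.iff_orderOf.mp (h2.to_quotient h.W) (f e)
    rcases m with - | m
    · rw [pow_zero, orderOf_eq_one_iff] at hm; exact hne.1 hm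
    rcases m with - | m
    · have h1 : f e * f e = 1 := by
        have := pow_orderOf_eq_one (f e)
        rw [hm] at this
        simpa [pow_two] using this
      rcases sq_roots hτL hττ hτ1 (hmemL e heL) (one_mem _) (by rw [h1, one_mul]) with e' | e'
      · exact hne.1 e'
      · exact hne.2 (by rw [e', one_mul])
    have h1 : f e ^ 2 ^ (m + 1) * f e ^ 2 ^ (m + 1) = 1 := by
      rw [← pow_add, ← two_mul, ← pow_succ', ← hm, pow_orderOf_eq_one]
    have h1' : f e ^ 2 ^ (m + 1) ≠ 1 := pow_ne_one_of_lt_orderOf (by positivity) (by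
      rw [hm]; exact Nat.pow_lt_pow_right one_lt_two (by omega))
    have hroot' : f (e ^ 2 ^ m) * f (e ^ 2 ^ m) = τ := by
      rw [map_pow, ← pow_add, ← two_mul, ← pow_succ']
      rcases sq_roots hτL hττ hτ1 (pow_mem (hmemL e heL) _) (one_mem _) (by rw [h1, one_mul]) with e' | e'
      · exact absurd e' h1'
      · rw [e', one_mul]
    have hc := hfour _ (L.pow_mem heL _) hroot' y hyK
    have h3 : f (y * e ^ 2 ^ m * y⁻¹) = f (e ^ 2 ^ m) := by
      rw [map_mul, map_mul, hc, map_inv, mul_inv_cancel_right]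
    rw [← conj_pow, hye, inv_pow, map_inv, inv_eq_iff_mul_eq_one, hroot'] at h3
    exact hτ1 h3
  by_cases heW : e ∈ h.W
  · exact hyL (hLA (hWu y hyK heW))
  · have h1 : ⁅u, y * y⁆ = z := by
      rw [conj_mul_right, ← he, h.A1_c heA hyK, mul_inv_cancel_right]
      exact h.A1_sq' h4 heA heW
    exact h.zne (h1.symm.trans (h.uW hyy))

end Cfg

theorem good_of_cfg (n : ℕ) : ∀ {S : Type u} [Group S] [Finite S], IsPGroup 2 S → ∀ (K : Subgroup S) (u c z z2 z4 : S),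
    Nat.card K = n → Cfg K u c z z2 z4 → z4 * z4 = z → Good K z z2 := by
  induction n using Nat.strong_induction_on with
  | _ n ih =>
  intro S _ _ h2 K u c z z2 z4 hn h h4
  haveI := h.W_normal
  set f := QuotientGroup.mk' h.W with hf
  have hker : ∀ x, f x = 1 ↔ (x = 1 ∨ x = z ∨ x = z2 ∨ x = z * z2) := fun x => QuotientGroup.eq_one_iff x
  have hzK : ∀ k ∈ K, k * z = z * k := fun k _ => h.zc k
  have hzz : z * z2 = z2 * z := h.z2c z h.zK
  have hf1 : ∀ x ∈ h.W, f x = 1 := fun x hx => (hker x).mpr hx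
  have hA1f : ∀ x ∈ h.A1, f x = 1 ∨ f x = f z4 := by
    intro x hx
    rcases h.A1_cases hx with hw | hw
    · exact Or.inl (hf1 x hw)
    · right
      have h1 := hf1 _ hw
      have h2' : f z4 * f z4 = 1 := by rw [← map_mul, h4]; exact hf1 z h.z_W
      rw [map_mul] at h1
      rw [← inv_eq_of_mul_eq_one_right h2']
      exact eq_inv_of_mul_eq_one_left h1
  have hz4f : f z4 * f z4 = 1 := by rw [← map_mul, h4]; exact hf1 z h.z_W
  by_cases hex : ∃ z5 ∈ K, ⁅u, z5⁆ = z2 ∨ ⁅u, z5⁆ = z * z2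
  swap
  · push Not at hex
    obtain ⟨g, hg, hgen⟩ := h.exists_generator h2 h4 hex
    have hfx : ∀ x ∈ K, f x ∈ Subgroup.zpowers (f g) := by
      intro x hx
      obtain ⟨n, hn⟩ := hgen x hx
      have h1 := hf1 _ hn
      rw [map_mul, map_inv, map_zpow, inv_mul_eq_one] at h1
      exact ⟨n, h1⟩
    have hz41 : f z4 ≠ 1 := fun e => h.zne (h.uz4.symm.trans (h.uW ((hker z4).mp e)))
    refine good_lift h2 f K hker h.zsq h.z2sq hzK h.z2c hzz ?_ ?_ ?_
    · intro x hx hxx hne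
      have hfxe : f x = f z4 := by
        rcases sq_roots (hfx z4 h.z4K) hz4f hz41 (hfx x hx) (one_mem _) (by rw [hxx, one_mul]) with e | e
        · exact absurd e hne
        · rw [e, one_mul]
      have hw : x⁻¹ * z4 ∈ h.W := QuotientGroup.eq.mp hfxe
      have hxA : x ∈ h.A1 := by
        have := mul_mem h.z4_A1 (inv_mem (h.W_le_A1 hw))
        rwa [mul_inv_rev, inv_inv, mul_inv_cancel_left] at this
      rw [h.A1_sq' h4 hxA fun e => hne (hf1 x e)]
      exact h.zne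
    · intro H hH hnc N _
      exfalso
      have hle : H.map f ≤ Subgroup.zpowers (f g) := by rintro _ ⟨x, hx, rfl⟩; exact hfx x (hH hx)
      obtain ⟨⟨q, hq⟩, hgq⟩ := ((Subgroup.isCyclic_of_le hle).exists_generator)
      obtain ⟨y, hy, hyq⟩ := hq
      refine hnc y hy (le_antisymm (fun r hr => ?_) (Subgroup.zpowers_le.mpr ⟨y, hy, rfl⟩))
      obtain ⟨n, hn⟩ := Subgroup.mem_zpowers_iff.mp (hgq ⟨r, hr⟩)
      refine ⟨n, ?_⟩
      have := congrArg Subtype.val hn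
      simpa [hyq] using this
    · intro H N hH hs
      have hle : H ≤ Subgroup.zpowers (f g) := hH.trans (by rintro _ ⟨x, hx, rfl⟩; exact hfx x hx)
      obtain ⟨⟨q, hq⟩, hgq⟩ := ((Subgroup.isCyclic_of_le hle).exists_generator)
      have hHq : H = Subgroup.zpowers q := by
        refine le_antisymm (fun r hr => ?_) (Subgroup.zpowers_le.mpr hq)
        obtain ⟨n, hn⟩ := Subgroup.mem_zpowers_iff.mp (hgq ⟨r, hr⟩)
        exact ⟨n, by have := congrArg Subtype.val hn; simpa using this⟩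
      have h6 := Subgroup.card_le_of_le (Subgroup.zpowers_le.mpr (hs.sq q hq) : Subgroup.zpowers (q * q) ≤ N)
      have h7 := zpowers_quot_le q
      have h8 := relIndex_mul_card hs.le
      rw [hHq] at h8
      refine le_trans (Nat.le_of_mul_le_mul_right ?_ (Nat.card_pos (α := N))) (by norm_num : 2 ≤ 2 ^ 2)
      rw [hHq, h8]
      omega
  obtain ⟨z5, h5K, h5u⟩ := hex
  obtain ⟨h55, h5g⟩ := h.z5_spec h2 h5K h5u
  have h5W : ⁅u, z5⁆ ∈ h.W := by rcases h5u with e | e <;> rw [e]; exacts [h.z2_W, mul_mem h.z_W h.z2_W]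
  have h5A2 : z5 ∈ h.A2 := ⟨h5K, h5W⟩
  have hcfix : c * (z5 * z5) * c⁻¹ = z * (z5 * z5) ∧ f ⁅c, z5⁆ = f z4 := by
    set e := ⁅c, z5⁆ with he
    have heA : e ∈ h.A1 := h5g c
    have hce : c * z5 * c⁻¹ = e * z5 := conj_eq c z5
    have h1 : c * ⁅u, z5⁆ * c⁻¹ = ⁅u, e * z5⁆ := by
      rw [← hce]
      have h3 : c * u * c⁻¹ = u := by rw [h.cu, mul_inv_cancel_right]
      calc c * ⁅u, z5⁆ * c⁻¹ = ⁅c * u * c⁻¹, c * z5 * c⁻¹⁆ := by simp only [commutatorElement_def]; group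
        _ = _ := by rw [h3]
    have h3 : c * ⁅u, z5⁆ * c⁻¹ = z * ⁅u, z5⁆ := by
      rcases h5u with e' | e' <;> rw [e']
      · rw [conj_eq, h.cz2]
      · rw [show c * (z * z2) * c⁻¹ = c * z * c⁻¹ * (c * z2 * c⁻¹) by group, h.zc c, mul_inv_cancel_right,
          conj_eq c z2, h.cz2]
    rw [h3, h.comm_mul heA.1 h5W] at h1
    have hue : ⁅u, e⁆ = z := (mul_right_cancel h1).symm
    have heW : e ∉ h.W := fun hw => h.zne (hue.symm.trans (h.uW hw))
    refine ⟨?_, ((hA1f e heA).resolve_left fun h0 => heW ((hker e).mp h0))⟩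
    rw [show c * (z5 * z5) * c⁻¹ = (c * z5 * c⁻¹) * (c * z5 * c⁻¹) by group, hce,
      Commute.mul_mul_mul_comm (h.A1_c heA h5K : Commute z5 e), h.A1_sq' h4 heA heW]
  have h5sq : z5 * z5 = z2 ∨ z5 * z5 = z * z2 := by
    have hc' := hcfix.1
    rcases h.mem_W.mp h55 with e | e | e | e
    · rw [e, mul_one, mul_inv_cancel, mul_one] at hc'
      exact absurd hc'.symm h.zne
    · rw [e, h.zc c, mul_inv_cancel_right, h.zsq] at hc'
      exact absurd hc' h.zne
    · exact Or.inl e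
    · exact Or.inr e
  have hz5f : f z5 * f z5 = 1 := by rw [← map_mul]; exact hf1 _ h55
  have hcom45 : f z4 * f z5 = f z5 * f z4 := by rw [← map_mul, ← map_mul, h.z4c z5 h5K]
  have hA2f : ∀ x ∈ h.A2, f x = 1 ∨ f x = f z4 ∨ f x = f z5 ∨ f x = f z4 * f z5 := by
    intro x hx
    rcases h.A2_cases h5K h5u hx with h3 | h3
    · rcases hA1f x h3 with e | e
      exacts [Or.inl e, Or.inr (Or.inl e)]
    · rcases hA1f _ h3 with e | e <;> rw [map_mul] at e
      · exact Or.inr (Or.inr (Or.inl ((eq_inv_of_mul_eq_one_left e).trans (inv_eq_of_mul_eq_one_right hz5f))))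
      · refine Or.inr (Or.inr (Or.inr ?_))
        rw [← e, mul_assoc, hz5f, mul_one]
  have he2 : ∀ H ≤ K, f z4 ∈ H.map f → f z5 ∈ H.map f → ∀ N : Subgroup S, (∀ y ∈ H, y * y ∈ N) → z ∈ N ∧ z2 ∈ N := by
    intro H hH hf4 hf5 N hN
    have hsq : ∀ x : S, ∀ y : S, x ∈ K → y ∈ K → f y = f x → y * y = x * x := by
      intro x y hx hy he
      have hw : x⁻¹ * y ∈ h.W := QuotientGroup.eq.mp he.symm
      have h1 : y = x * (x⁻¹ * y) := (mul_inv_cancel_left x y).symm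
      rw [h1, Commute.mul_mul_mul_comm (h.W_c hw hx : Commute x (x⁻¹ * y)).symm, h.W_sq hw, mul_one]
    obtain ⟨y4, hy4, he4⟩ := hf4
    obtain ⟨y5, hy5, he5⟩ := hf5
    have hzN : z ∈ N := h4 ▸ hsq z4 y4 h.z4K (hH hy4) he4 ▸ hN y4 hy4
    have h5N : z5 * z5 ∈ N := hsq z5 y5 h5K (hH hy5) he5 ▸ hN y5 hy5
    refine ⟨hzN, ?_⟩
    rcases h5sq with e | e <;> rw [e] at h5N
    · exact h5N
    · exact (Subgroup.mul_mem_cancel_left _ hzN).mp h5N
  have he1 : ∀ x ∈ h.A2, f x ≠ 1 → x * x ≠ 1 := by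
    intro x hx hne hxx
    rcases h.A2_cases h5K h5u hx with h3 | h3
    · rw [h.A1_sq' h4 h3 fun e => hne (hf1 x e)] at hxx
      exact h.zne hxx
    · have h6 : x * z5 = z5 * x := by
        have := h.A1_c h3 h5K
        rw [← mul_assoc, mul_assoc x z5 z5] at this
        calc x * z5 = (z5 * x * z5) * z5⁻¹ := by rw [this]; group
          _ = z5 * x := by group
      have hsq2 := h.A1_sq h3
      by_cases h7 : x * z5 ∈ h.W
      · have h8 := h.W_sq h7
        rw [Commute.mul_mul_mul_comm (h6.symm : Commute z5 x), hxx, one_mul] at h8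
        rcases h5sq with e | e <;> rw [e] at h8
        · exact h.z2ne h8
        · exact h.z2nz ((eq_inv_of_mul_eq_one_right h8).trans (inv_eq_of_mul_eq_one_right h.zsq))
      · have h8 := h.A1_sq' h4 h3 h7
        rw [Commute.mul_mul_mul_comm (h6.symm : Commute z5 x), hxx, one_mul] at h8
        rcases h5sq with e | e <;> rw [e] at h8
        · exact h.z2nz h8
        · exact h.z2ne (by
            have := congrArg (fun w => z * w) h8
            simpa [← mul_assoc, h.zsq] using this)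
  by_cases hK2 : K ≤ h.A2
  · have hmem : ∀ q ∈ K.map f, q = 1 ∨ q = f z4 ∨ q = f z5 ∨ q = f z4 * f z5 := by
      rintro _ ⟨x, hx, rfl⟩
      exact hA2f x (hK2 hx)
    refine good_lift h2 f K hker h.zsq h.z2sq hzK h.z2c hzz ?_ ?_ (bd_two_of_subset _ _ hmem)
    · exact fun x hx _ hne => he1 x (hK2 hx) hne
    · intro H hH hnc N hN
      obtain ⟨a4, a5⟩ := cyclic_or_both (L := H.map f) (f z4) (f z5) hz4f hcom45
        (fun q hq => hmem q (Subgroup.map_mono hH hq)) (fun q hq => by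
          obtain ⟨y, hy, rfl⟩ := hq
          exact hnc y hy)
      exact he2 H hH a4 a5 N hN
  obtain ⟨-, z6, h6K, h66, h6g, hy6, hy6W⟩ := h.exists_z6 h2 h5K h5g h5u hK2
  have hy6f : f ⁅u, z6⁆ = f z4 := (hA1f _ hy6).resolve_left fun e => hy6W ((hker _).mp e)
  -- the square of `z6`
  have hu66 : ⁅u, z6 * z6⁆ = z := by
    rw [conj_mul_right, h.A1_c hy6 h6K, mul_inv_cancel_right]
    exact h.A1_sq' h4 hy6 hy6W
  have h66A : z6 * z6 ∈ h.A1 := ⟨K.mul_mem h6K h6K, Or.inr hu66⟩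
  have h66f : f z6 * f z6 = f z4 := by
    rw [← map_mul]
    exact (hA1f _ h66A).resolve_left fun e => h.zne (hu66.symm.trans (h.uW ((hker _).mp e)))
  have hk5 : ∀ k ∈ K, ⁅k, z5⁆ ∈ h.W := by
    intro k hk
    by_contra hne
    have heA := h5g k
    have h1 : k * (z5 * z5) * k⁻¹ = z5 * z5 := by rw [h.W_c h55 hk, mul_inv_cancel_right]
    rw [show k * (z5 * z5) * k⁻¹ = (k * z5 * k⁻¹) * (k * z5 * k⁻¹) by group, conj_eq,
      Commute.mul_mul_mul_comm (h.A1_c heA h5K : Commute z5 ⁅k, z5⁆), h.A1_sq' h4 heA hne] at h1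
    exact h.zne (mul_eq_right.mp h1)
  have hlam : ⁅z6, z5⁆ = 1 ∨ ⁅z6, z5⁆ = z := by
    have hlW := hk5 z6 h6K
    have hA25 : ∀ d ∈ h.A2, d * z5 = z5 * d := by
      intro d hd
      rcases h.A2_cases h5K h5u hd with h3 | h3
      · exact (h.A1_c h3 h5K).symm
      · have := h.A1_c h3 h5K
        rw [← mul_assoc] at this
        exact (mul_right_cancel this).symm
    have hc6 : c * z6 * c⁻¹ = ⁅c, z6⁆ * z6 := conj_eq c z6
    have hc5 : c * z5 * c⁻¹ = ⁅c, z5⁆ * z5 := conj_eq c z5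
    have hfixc : c * ⁅z6, z5⁆ * c⁻¹ = ⁅z6, z5⁆ := by
      have e1 : c * ⁅z6, z5⁆ * c⁻¹ = ⁅c * z6 * c⁻¹, c * z5 * c⁻¹⁆ := by simp only [commutatorElement_def]; group
      have hdK : ⁅c, z6⁆ ∈ K := (h6g c).1
      have d1 : ⁅⁅c, z6⁆, z5⁆ = 1 := commutatorElement_eq_one_iff_mul_comm.mpr (hA25 _ (h6g c))
      have d2 : ∀ k ∈ K, ⁅k, ⁅c, z5⁆⁆ = 1 := fun k hk =>
        commutatorElement_eq_one_iff_mul_comm.mpr (h.A1_c (h5g c) hk)
      rw [e1, hc6, hc5, conj_mul_right, d2 _ (K.mul_mem hdK h6K), one_mul, mul_conj, d1, mul_one,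
        h.W_c hlW hdK, mul_inv_cancel_right, h.W_c hlW (h5g c).1, mul_inv_cancel_right]
    rcases h.mem_W.mp hlW with e | e | e | e
    · exact Or.inl e
    · exact Or.inr e
    all_goals
      exfalso
      rw [e] at hfixc
    · rw [conj_eq, h.cz2] at hfixc
      exact h.zne (mul_eq_right.mp hfixc)
    · rw [show c * (z * z2) * c⁻¹ = c * z * c⁻¹ * (c * z2 * c⁻¹) by group, h.zc c, mul_inv_cancel_right,
        conj_eq, h.cz2] at hfixc
      exact h.zne (mul_eq_right.mp (mul_left_cancel hfixc))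
  have hk6 : ∀ k ∈ K, ⁅k, z6⁆ ∈ h.W := by
    intro k hk
    set y := ⁅k, z6⁆ with hy
    have hyA := h6g k
    have h1 : k * (z6 * z6) * k⁻¹ = z6 * z6 := by rw [h.A1_c h66A hk, mul_inv_cancel_right]
    rw [show k * (z6 * z6) * k⁻¹ = (k * z6 * k⁻¹) * (k * z6 * k⁻¹) by group, conj_eq, ← hy] at h1
    have h3 : y * (z6 * y * z6⁻¹) = 1 := by
      have := congrArg (fun w => w * (z6 * z6)⁻¹) h1
      simp only [mul_inv_cancel] at this
      rw [← this]; group
    rcases h.A2_cases h5K h5u hyA with hy1 | hy1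
    · rw [h.A1_c hy1 h6K, mul_inv_cancel_right] at h3
      by_contra hne
      rw [h.A1_sq' h4 hy1 hne] at h3
      exact h.zne h3
    · exfalso
      have hcy : ⁅z6, y⁆ = ⁅z6, z5⁆ := by
        have e1 : ⁅z6, y * z5⁆ = 1 := commutatorElement_eq_one_iff_mul_comm.mpr (h.A1_c hy1 h6K)
        rw [conj_mul_right, h.W_c (hk5 z6 h6K) hyA.1, mul_inv_cancel_right] at e1
        rw [eq_inv_of_mul_eq_one_left e1]
        rcases hlam with e | e <;> rw [e]
        · exact inv_one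
        · exact inv_eq_of_mul_eq_one_right h.zsq
      have hyz : y * y = 1 ∨ y * y = z := by
        rw [conj_eq, hcy] at h3
        rcases hlam with e | e <;> rw [e] at h3
        · left; rwa [one_mul] at h3
        · right
          rw [← mul_assoc, h.zc y, mul_assoc] at h3
          exact (eq_inv_of_mul_eq_one_right h3).trans (inv_eq_of_mul_eq_one_right h.zsq)
      have h6c : z5 * y = y * z5 := by
        have := h.A1_c hy1 h5K
        rw [← mul_assoc] at this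
        exact mul_right_cancel this
      have h7 := h.A1_sq hy1
      have h8 : y * z5 * (y * z5) = 1 ∨ y * z5 * (y * z5) = z := by
        by_cases hw : y * z5 ∈ h.W
        · exact Or.inl (h.W_sq hw)
        · exact Or.inr (h.A1_sq' h4 hy1 hw)
      rw [Commute.mul_mul_mul_comm (h6c : Commute z5 y)] at h8
      have h9 : z5 * z5 = 1 ∨ z5 * z5 = z := by
        rcases hyz with e | e <;> rw [e] at h8
        · simpa using h8
        · rcases h8 with e' | e'
          · exact Or.inr ((eq_inv_of_mul_eq_one_right e').trans (inv_eq_of_mul_eq_one_right h.zsq))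
          · exact Or.inl (mul_eq_left.mp e')
      rcases h5sq with e | e <;> rw [e] at h9 <;> rcases h9 with e' | e'
      · exact h.z2ne e'
      · exact h.z2nz e'
      · exact h.z2nz (by
          have := congrArg (fun w => z * w) e'
          simpa [← mul_assoc, h.zsq] using this)
      · exact h.z2ne (mul_eq_left.mp e')
  -- recursion
  have hKn : ∀ q : S ⧸ h.W, ∀ k ∈ K.map f, q * k * q⁻¹ ∈ K.map f := by
    rintro q _ ⟨k, hk, rfl⟩
    obtain ⟨g, rfl⟩ := QuotientGroup.mk'_surjective h.W q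
    exact ⟨_, h.normal g k hk, by rw [map_mul, map_mul, map_inv]⟩
  have hfc : ∀ g x : S, ⁅g, x⁆ ∈ h.W → f g * f x = f x * f g := fun g x hgx => by
    rw [← commutatorElement_eq_one_iff_mul_comm, ← map_commutatorElement]; exact hf1 _ hgx
  have hq : Cfg (K.map f) (f u) (f c) (f z4) (f z5) (f z6) := by
    refine ⟨hKn, ?_, ?_, ?_, ?_, hz4f, hz5f, ?_, ?_, ?_, ⟨_, h.z4K, rfl⟩, ⟨_, h5K, rfl⟩, ⟨_, h6K, rfl⟩, ?_, ?_, ?_, ?_, ?_, ?_, ?_, ?_, ?_⟩
    · intro L hK' hu hc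
      have h1 := h.gen (L.comap f) (fun k hk => hK' ⟨k, hk, rfl⟩) hu hc
      rw [← Subgroup.map_comap_eq_self_of_surjective (QuotientGroup.mk'_surjective h.W) L, h1,
        Subgroup.map_top_of_surjective _ (QuotientGroup.mk'_surjective h.W)]
    · intro q
      obtain ⟨g, rfl⟩ := QuotientGroup.mk'_surjective h.W q
      rw [← map_mul, ← map_mul, ← map_mul, h.usq g]
    · rw [← map_mul, ← map_mul, h.cu]
    · intro q
      obtain ⟨g, rfl⟩ := QuotientGroup.mk'_surjective h.W q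
      exact hfc g z4 (h.hz4 g)
    · intro e
      exact h.zne (h4.symm.trans (h.W_sq ((hker _).mp e)))
    · intro e
      have hW5 := (hker _).mp e
      rcases h5u with e' | e'
      · exact h.z2ne (e'.symm.trans (h.uW hW5))
      · exact h.z2nz (by
          have := congrArg (fun w => z * w) (e'.symm.trans (h.uW hW5))
          simpa [← mul_assoc, h.zsq] using this)
    · intro e
      have hW5 : z4⁻¹ * z5 ∈ h.W := QuotientGroup.eq.mp e.symm
      have h1 := h.uW hW5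
      rw [h.comm_mul (K.inv_mem h.z4K) h5W, h.comm_inv h.z4K h.uz4W, h.uz4] at h1
      rcases h5u with e' | e' <;> rw [e'] at h1
      · exact h.z2nz ((eq_inv_of_mul_eq_one_right h1).trans (inv_eq_of_mul_eq_one_right h.zsq))
      · exact h.z2ne (by rwa [← mul_assoc, h.zsq, one_mul] at h1)
    · rintro _ ⟨k, hk, rfl⟩
      exact hfc k z5 (hk5 k hk)
    · rintro _ ⟨k, hk, rfl⟩
      exact hfc k z6 (hk6 k hk)
    · intro q
      obtain ⟨g, rfl⟩ := QuotientGroup.mk'_surjective h.W q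
      rw [← map_commutatorElement]
      exact hA1f _ (h5g g)
    · rw [← map_commutatorElement]; exact hcfix.2
    · rw [← map_commutatorElement]; exact hf1 _ h5W
    · rintro _ ⟨k, hk, rfl⟩ he
      rw [← map_commutatorElement] at he
      exact hA2f k ⟨hk, (hker _).mp he⟩
    · rw [← map_commutatorElement]; exact hy6f
    · intro q
      obtain ⟨g, rfl⟩ := QuotientGroup.mk'_surjective h.W q
      rw [← map_commutatorElement]
      exact hA2f _ (h6g g)
    · rw [h66f]; exact Or.inr (Or.inl rfl)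
  have hlt : Nat.card (K.map f) < n := by
    have h1 := card_eq_map_mul f K
    have h3 : 2 ≤ Nat.card ↥(K ⊓ f.ker) := by
      by_contra hlt
      have hb : K ⊓ f.ker = ⊥ := Subgroup.card_eq_one.mp (by
        have := Nat.card_pos (α := ↥(K ⊓ f.ker)); omega)
      have hz' : z ∈ K ⊓ f.ker := ⟨h.zK, MonoidHom.mem_ker.mpr (hf1 z h.z_W)⟩
      rw [hb, Subgroup.mem_bot] at hz'
      exact h.zne hz'
    have := Nat.card_pos (α := K.map f)
    have h4' : Nat.card (K.map f) * 2 ≤ Nat.card K := h1 ▸ Nat.mul_le_mul_left _ h3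
    omega
  have hG := ih _ hlt (h2.to_quotient h.W) (K.map f) (f u) (f c) (f z4) (f z5) (f z6) rfl hq h66f
  refine good_lift h2 f K hker h.zsq h.z2sq hzK h.z2c hzz ?_ ?_ hG.bd
  · intro x hx hxx hne
    refine he1 x ⟨hx, ?_⟩ hne
    refine (hker _).mp ?_
    rw [map_commutatorElement]
    rcases hG.invol (f x) ⟨x, hx, rfl⟩ hxx with e | e | e | e <;> rw [e]
    · exact commutatorElement_one_right _
    · rw [← map_commutatorElement]; exact hf1 _ h.uz4W
    · rw [← map_commutatorElement]; exact hf1 _ h5W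
    · rw [← map_mul, ← map_commutatorElement, h.comm_mul h.z4K h5W]
      exact hf1 _ (mul_mem h.uz4W h5W)
  · intro H hH hnc N hN
    obtain ⟨a4, a5⟩ := hG.noncyc (H.map f) (Subgroup.map_mono hH) (fun q hq => by
      obtain ⟨y, hy, rfl⟩ := hq
      exact hnc y hy)
    exact he2 H hH a4 a5 N hN

end H60.SR
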