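import Mathlib

/-!
Elementary abelian 2-groups in GL₃ in odd characteristic and a transfer argument.
-/

set_option autoImplicit false

namespace H60.GL3T

open Matrix

variable {F : Type*} [Field F]

/-- A vector which is an eigenvector with sign for every element of the set. -/
def SignVec {W : Type*} (ρ : W → Matrix (Fin 3) (Fin 3) F) (s : Set W) (v : Fin 3 → F) : Prop :=
  ∀ a ∈ s, ρ a *ᵥ v = v ∨ ρ a *ᵥ v = -v

theorem span_signVec {W : Type*} (h2 : (2 : F) ≠ 0) (ρ : W → Matrix (Fin 3) (Fin 3) F)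
    (hinv : ∀ a, ρ a * ρ a = 1) (hcomm : ∀ a b, ρ a * ρ b = ρ b * ρ a) (s : Finset W) :
    Submodule.span F {v | SignVec ρ (s : Set W) v} = ⊤ := by
  classical
  induction s using Finset.induction with
  | empty =>
    rw [eq_top_iff]
    exact fun v _ => Submodule.subset_span (by intro a ha; simp at ha)
  | insert a s _ ih =>
    rw [eq_top_iff, ← ih, Submodule.span_le]
    intro v hv
    have hsplit : v = (2 : F)⁻¹ • (v + ρ a *ᵥ v) + (2 : F)⁻¹ • (v - ρ a *ᵥ v) := by
      rw [← smul_add]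
      have : v + ρ a *ᵥ v + (v - ρ a *ᵥ v) = (2 : F) • v := by rw [two_smul]; abel
      rw [this, inv_smul_smul₀ h2]
    rw [hsplit]
    have key : ∀ e : F, e = 1 ∨ e = -1 → SignVec ρ ((insert a s : Finset W) : Set W) (v + e • (ρ a *ᵥ v)) := by
      intro e he b hb
      rw [Finset.coe_insert, Set.mem_insert_iff] at hb
      rcases hb with rfl | hb
      · have h1 : ρ b *ᵥ (ρ b *ᵥ v) = v := by rw [mulVec_mulVec, hinv, one_mulVec]
        rw [mulVec_add, mulVec_smul, h1]
        rcases he with rfl | rfl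
        · left; simp [add_comm]
        · right; simp [add_comm]
      · have h1 : ρ b *ᵥ (ρ a *ᵥ v) = ρ a *ᵥ (ρ b *ᵥ v) := by rw [mulVec_mulVec, hcomm, ← mulVec_mulVec]
        rw [mulVec_add, mulVec_smul, h1]
        rcases hv b hb with h | h <;> rw [h]
        · exact Or.inl rfl
        · right; rw [mulVec_neg, smul_neg, neg_add]
    refine Submodule.add_mem _ (Submodule.smul_mem _ _ (Submodule.subset_span ?_))
      (Submodule.smul_mem _ _ (Submodule.subset_span ?_))
    · simpa using key 1 (Or.inl rfl)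
    · simpa [sub_eq_add_neg] using key (-1) (Or.inr rfl)

/-- Elementary abelian 2-groups of order at least 8 in GL₃ are full diagonal sign groups. -/
theorem full_signs {W : Type*} [Group W] [Finite W] (h2 : (2 : F) ≠ 0) (hW2 : ∀ a : W, a * a = 1)
    (ρ : W →* GL (Fin 3) F) (hρ : Function.Injective ρ) (hW8 : 8 ≤ Nat.card W) :
    (∃ a : W, (ρ a : Matrix (Fin 3) (Fin 3) F) = -1) ∧
      ∀ x y : GL (Fin 3) F, (∀ a, x * ρ a = ρ a * x) → (∀ a, y * ρ a = ρ a * y) → x * y = y * x := by
  classical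
  haveI : Fintype W := Fintype.ofFinite W
  let r : W → Matrix (Fin 3) (Fin 3) F := fun a => (ρ a : Matrix (Fin 3) (Fin 3) F)
  have hrm : ∀ a b, r (a * b) = r a * r b := fun a b => by simp [r]
  have hr1 : r 1 = 1 := by simp [r]
  have hinv : ∀ a, r a * r a = 1 := fun a => by rw [← hrm, hW2, hr1]
  have hcommW : ∀ a b : W, a * b = b * a := fun a b => by
    have h1 : ∀ c : W, c⁻¹ = c := fun c => inv_eq_of_mul_eq_one_right (hW2 c)
    calc a * b = (a * b)⁻¹ := (h1 _).symm
      _ = b⁻¹ * a⁻¹ := mul_inv_rev a b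
      _ = b * a := by rw [h1, h1]
  have hcomm : ∀ a b, r a * r b = r b * r a := fun a b => by rw [← hrm, ← hrm, hcommW]
  have hspan := span_signVec h2 r hinv hcomm Finset.univ
  obtain ⟨T, hTsub, hTspan, hTli⟩ := exists_linearIndependent F {v | SignVec r ((Finset.univ : Finset W) : Set W) v}
  let B : Module.Basis T F (Fin 3 → F) := Module.Basis.mk hTli (by rw [Subtype.range_coe, hTspan, hspan])
  haveI : Fintype T := FiniteDimensional.fintypeBasisIndex B
  have hcardT : Fintype.card T = 3 := by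
    rw [← Module.finrank_eq_card_basis B, Module.finrank_fin_fun]
  have hB : ∀ i, B i = (i : Fin 3 → F) := fun i => by simp [B]
  have hsign : ∀ (a : W) (i : T), r a *ᵥ B i = B i ∨ r a *ᵥ B i = -B i := fun a i => by
    rw [hB]; exact hTsub i.2 a (Finset.mem_coe.mpr (Finset.mem_univ a))
  let sg : W → T → ℤˣ := fun a i => if r a *ᵥ B i = B i then 1 else -1
  have hsg : ∀ a i, r a *ᵥ B i = ((sg a i : ℤ) : F) • B i := by
    intro a i
    by_cases h : r a *ᵥ B i = B i
    · simp [sg, h]
    · have := (hsign a i).resolve_left h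
      simp only [sg, if_neg h]
      rw [this]
      simp
  have hext : ∀ M N : Matrix (Fin 3) (Fin 3) F, (∀ i, M *ᵥ B i = N *ᵥ B i) → M = N := by
    intro M N h
    apply Matrix.toLin'.injective
    exact B.ext fun i => by simpa [Matrix.toLin'_apply] using h i
  have hinj : Function.Injective sg := by
    intro a b h
    exact hρ (Units.ext (hext _ _ fun i => by
      show r a *ᵥ B i = r b *ᵥ B i
      rw [hsg, hsg, h]))
  have hbij : Function.Bijective sg := by
    refine (Fintype.bijective_iff_injective_and_card _).mpr ⟨hinj, le_antisymm (Fintype.card_le_of_injective _ hinj) ?_⟩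
    rw [Fintype.card_fun, hcardT, Fintype.card_units_int, ← Nat.card_eq_fintype_card]
    norm_num
    rw [← Nat.card_eq_fintype_card]
    exact hW8
  refine ⟨?_, fun x y hx hy => ?_⟩
  · obtain ⟨a, ha⟩ := hbij.2 (fun _ => -1)
    refine ⟨a, hext _ _ fun i => ?_⟩
    show r a *ᵥ B i = (-1 : Matrix (Fin 3) (Fin 3) F) *ᵥ B i
    rw [hsg, congrFun ha i]
    simp [Matrix.neg_mulVec]
  · have diag : ∀ w : GL (Fin 3) F, (∀ a, w * ρ a = ρ a * w) → ∀ i, ∃ c : F, (w : Matrix (Fin 3) (Fin 3) F) *ᵥ B i = c • B i := by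
      intro w hw i
      refine ⟨B.repr ((w : Matrix (Fin 3) (Fin 3) F) *ᵥ B i) i, ?_⟩
      conv_lhs => rw [← B.sum_repr ((w : Matrix (Fin 3) (Fin 3) F) *ᵥ B i)]
      refine Finset.sum_eq_single i (fun j _ hji => ?_) (by simp)
      obtain ⟨a, ha⟩ := hbij.2 (fun k => if k = i then 1 else -1)
      set u := (w : Matrix (Fin 3) (Fin 3) F) *ᵥ B i with hu
      have h1 : r a *ᵥ u = u := by
        have hwa : r a * (w : Matrix (Fin 3) (Fin 3) F) = (w : Matrix (Fin 3) (Fin 3) F) * r a := by
          simpa [r] using congrArg Units.val (hw a).symm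
        rw [hu, mulVec_mulVec, hwa, ← mulVec_mulVec, hsg, congrFun ha i]
        simp
      have h2' : r a *ᵥ u = ∑ k, (B.repr u k * ((sg a k : ℤ) : F)) • B k := by
        conv_lhs => rw [← B.sum_repr u]
        rw [mulVec_sum]
        exact Finset.sum_congr rfl fun k _ => by rw [mulVec_smul, hsg, smul_smul]
      have h3 := congrArg (fun q => B.repr q j) (h1.symm.trans h2')
      simp only [B.repr_sum_self] at h3
      rw [congrFun ha j, if_neg hji] at h3
      simp at h3
      have h4 : (2 : F) * B.repr u j = 0 := by linear_combination h3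
      rw [(mul_eq_zero.mp h4).resolve_left h2, zero_smul]
    refine Units.ext (hext _ _ fun i => ?_)
    obtain ⟨c, hc⟩ := diag x hx i
    obtain ⟨d, hd⟩ := diag y hy i
    simp [← mulVec_mulVec, hc, hd, mulVec_smul, smul_smul, mul_comm]

theorem exists_index_two_of_hom {G A : Type*} [Group G] [CommGroup A] [Finite A] (h : G →* A)
    (hA : IsPGroup 2 A) {g : G} (hg : h g ≠ 1) : ∃ H : Subgroup G, H.index = 2 := by
  have hne : h.range ≠ ⊥ := fun e => hg (by
    have : h g ∈ h.range := ⟨g, rfl⟩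
    rw [e, Subgroup.mem_bot] at this
    exact this)
  obtain ⟨n, hn⟩ := IsPGroup.iff_card.mp (hA.to_subgroup h.range)
  have hn0 : n ≠ 0 := by
    rintro rfl
    exact hne (Subgroup.eq_bot_of_card_eq _ (by simpa using hn))
  haveI : Fact (Nat.Prime 2) := ⟨Nat.prime_two⟩
  obtain ⟨K, hK⟩ := Sylow.exists_subgroup_card_pow_prime 2 (n := n - 1) (G := h.range)
    (by rw [hn]; exact pow_dvd_pow 2 (Nat.sub_le n 1))
  refine ⟨K.comap h.rangeRestrict, ?_⟩
  rw [Subgroup.index_comap_of_surjective _ h.rangeRestrict_surjective]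
  have h1 := K.card_mul_index
  rw [hK, hn, show 2 ^ n = 2 ^ (n - 1) * 2 by rw [← pow_succ, Nat.sub_add_cancel (Nat.one_le_iff_ne_zero.mpr hn0)]] at h1
  exact Nat.eq_of_mul_eq_mul_left (by positivity) h1

/-- Transfer: a central involution with value `-1` all of whose conjugates under the normalizer
still have value `-1` forces a subgroup of index two. -/
theorem transfer_involution {G : Type*} [Group G] [Finite G] (X : Sylow 2 G)
    {φ : ↥(X : Subgroup G) →* Fˣ} (h2 : (2 : F) ≠ 0) (z : G) (hz : z * z = 1) (hzX : z ∈ (X : Subgroup G))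
    (hzc : ∀ x ∈ (X : Subgroup G), x * z = z * x)
    (hN : ∀ g ∈ Subgroup.normalizer ((X : Subgroup G) : Set G), ∀ h : g⁻¹ * z * g ∈ (X : Subgroup G),
      φ ⟨g⁻¹ * z * g, h⟩ = -1) :
    ∃ H : Subgroup G, H.index = 2 := by
  classical
  let ψ : ↥(X : Subgroup G) →* φ.range := φ.rangeRestrict
  haveI : Finite φ.range := Finite.of_surjective ψ φ.rangeRestrict_surjective
  refine exists_index_two_of_hom (MonoidHom.transfer ψ) (X.isPGroup'.of_surjective ψ φ.rangeRestrict_surjective) (g := z) ?_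
  haveI : Fintype (G ⧸ (X : Subgroup G)) := Fintype.ofFinite _
  let T : (X : Subgroup G).LeftTransversal :=
    ⟨Set.range (fun q : G ⧸ (X : Subgroup G) => q.out), Subgroup.isComplement_range_left (fun q => q.out_eq')⟩
  have hT : ∀ q : G ⧸ (X : Subgroup G), (T.2.leftQuotientEquiv q : G) = q.out := fun q =>
    Subgroup.IsComplement.leftQuotientEquiv_apply (fun q : G ⧸ (X : Subgroup G) => q.out_eq') q
  have hzinv : z⁻¹ = z := inv_eq_of_mul_eq_one_right hz
  have hmem : ∀ q : G ⧸ (X : Subgroup G), q.out⁻¹ * (z * (z • q).out) ∈ (X : Subgroup G) := by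
    intro q
    rw [← QuotientGroup.eq]
    have : ((z * (z • q).out : G) : G ⧸ (X : Subgroup G)) = z • ((z • q).out : G ⧸ (X : Subgroup G)) := rfl
    rw [this, QuotientGroup.out_eq', QuotientGroup.out_eq', smul_smul, hz, one_smul]
  let τ : G ⧸ (X : Subgroup G) → Fˣ := fun q => φ ⟨_, hmem q⟩
  have htr : ((MonoidHom.transfer ψ z : φ.range) : Fˣ) = ∏ q, τ q := by
    rw [MonoidHom.transfer_def ψ T]
    simp only [Subgroup.leftTransversals.diff]
    rw [Subgroup.val_finset_prod]
    refine Finset.prod_congr (by ext; simp) fun q _ => ?_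
    show φ _ = φ _
    congr 1
    refine Subtype.ext ?_
    show (T.2.leftQuotientEquiv q : G)⁻¹ * ((z • T).2.leftQuotientEquiv q : G) = _
    rw [Subgroup.smul_apply_eq_smul_apply_inv_smul, hT, hT, hzinv, smul_eq_mul]
  intro hone
  have hprod : ∏ q, τ q = 1 := by rw [← htr, hone]; rfl
  rw [← Finset.prod_filter_mul_prod_filter_not Finset.univ (fun q : G ⧸ (X : Subgroup G) => z • q = q)] at hprod
  have hoff : ∏ q ∈ Finset.univ.filter (fun q : G ⧸ (X : Subgroup G) => ¬ z • q = q), τ q = 1 := by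
    refine Finset.prod_involution (fun q _ => z • q) (fun q _ => ?_) (fun q hq _ => (Finset.mem_filter.mp hq).2)
      (fun q hq => ?_) (fun q _ => ?_)
    · simp only [τ, ← map_mul]
      rw [show (1 : Fˣ) = φ 1 from (map_one φ).symm]
      congr 1
      refine Subtype.ext ?_
      show q.out⁻¹ * (z * (z • q).out) * ((z • q).out⁻¹ * (z * (z • z • q).out)) = 1
      rw [smul_smul z z q, hz, one_smul]
      calc q.out⁻¹ * (z * (z • q).out) * ((z • q).out⁻¹ * (z * q.out))
          = q.out⁻¹ * (z * z) * q.out := by simp [mul_assoc]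
        _ = 1 := by rw [hz]; simp
    · simp only [Finset.mem_filter, Finset.mem_univ, true_and] at hq ⊢
      rw [smul_smul, hz, one_smul]
      exact fun h => hq h.symm
    · rw [smul_smul, hz, one_smul]
  rw [hoff, mul_one] at hprod
  -- value on fixed cosets
  have hfix : ∀ g : G, z • (g : G ⧸ (X : Subgroup G)) = (g : G ⧸ (X : Subgroup G)) → ∀ h : g⁻¹ * z * g ∈ (X : Subgroup G),
      τ (g : G ⧸ (X : Subgroup G)) = φ ⟨g⁻¹ * z * g, h⟩ := by
    intro g hg h
    obtain ⟨u, hu⟩ := QuotientGroup.mk_out_eq_mul (X : Subgroup G) g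
    have e : (⟨_, hmem (g : G ⧸ (X : Subgroup G))⟩ : (X : Subgroup G)) = u⁻¹ * ⟨g⁻¹ * z * g, h⟩ * u := by
      refine Subtype.ext ?_
      show ((g : G ⧸ (X : Subgroup G)).out)⁻¹ * (z * (z • (g : G ⧸ (X : Subgroup G))).out) = (u : G)⁻¹ * (g⁻¹ * z * g) * (u : G)
      rw [hg, hu]
      simp [mul_assoc]
    show φ _ = _
    rw [e, map_mul, map_mul, map_inv, mul_right_comm, inv_mul_cancel, one_mul]
  let Ψ : Finset (G ⧸ (X : Subgroup G)) := Finset.univ.filter (fun q => z • q = q ∧ τ q = -1)
  have hsq : ∀ q : G ⧸ (X : Subgroup G), z • q = q → τ q = 1 ∨ τ q = -1 := by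
    intro q hq
    have hq' : τ q * τ q = 1 := by
      simp only [τ, ← map_mul]
      rw [show (1 : Fˣ) = φ 1 from (map_one φ).symm]
      congr 1
      refine Subtype.ext ?_
      show q.out⁻¹ * (z * (z • q).out) * (q.out⁻¹ * (z * (z • q).out)) = 1
      rw [hq]
      calc q.out⁻¹ * (z * q.out) * (q.out⁻¹ * (z * q.out)) = q.out⁻¹ * (z * z) * q.out := by simp [mul_assoc]
        _ = 1 := by rw [hz]; simp
    rcases mul_self_eq_one_iff.mp (show ((τ q : Fˣ) : F) * (τ q : F) = 1 by rw [← Units.val_mul, hq']; rfl) with h | h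
    · exact Or.inl (Units.ext h)
    · exact Or.inr (Units.ext (by simpa using h))
  have hval : ∏ q ∈ Finset.univ.filter (fun q : G ⧸ (X : Subgroup G) => z • q = q), τ q = (-1) ^ Ψ.card := by
    rw [← Finset.prod_filter_mul_prod_filter_not (Finset.univ.filter (fun q : G ⧸ (X : Subgroup G) => z • q = q)) (fun q => τ q = -1)]
    rw [Finset.prod_eq_one (s := Finset.filter (fun q => ¬ τ q = -1) _) (fun q hq => by
      simp only [Finset.mem_filter] at hq
      exact (hsq q hq.1.2).resolve_right hq.2), mul_one]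
    rw [Finset.filter_filter, Finset.prod_congr rfl (fun q hq => (Finset.mem_filter.mp hq).2.2), Finset.prod_const]
  -- parity
  have hinvΨ : ∀ (x : (X : Subgroup G)) (q : G ⧸ (X : Subgroup G)), q ∈ Ψ → x • q ∈ Ψ := by
    intro x q hq
    obtain ⟨g, rfl⟩ := QuotientGroup.mk_surjective q
    simp only [Ψ, Finset.mem_filter, Finset.mem_univ, true_and] at hq ⊢
    have hx := hzc x x.2
    have hxq : x • (g : G ⧸ (X : Subgroup G)) = (((x : G) * g : G) : G ⧸ (X : Subgroup G)) := rfl
    have hfg : g⁻¹ * z * g ∈ (X : Subgroup G) := by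
      have := QuotientGroup.eq.mp (show ((g : G) : G ⧸ (X : Subgroup G)) = ((z * g : G) : G ⧸ (X : Subgroup G)) from hq.1.symm)
      simpa [mul_assoc] using this
    have hfix2 : z • (((x : G) * g : G) : G ⧸ (X : Subgroup G)) = (((x : G) * g : G) : G ⧸ (X : Subgroup G)) := by
      show ((z * ((x : G) * g) : G) : G ⧸ (X : Subgroup G)) = _
      rw [← mul_assoc, ← hx, mul_assoc]
      show x • ((z * g : G) : G ⧸ (X : Subgroup G)) = x • (g : G ⧸ (X : Subgroup G))
      exact congrArg (x • ·) hq.1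
    have hconj : ((x : G) * g)⁻¹ * z * ((x : G) * g) = g⁻¹ * z * g := by
      calc ((x : G) * g)⁻¹ * z * ((x : G) * g) = g⁻¹ * ((x : G)⁻¹ * (z * (x : G))) * g := by simp [mul_assoc]
        _ = g⁻¹ * z * g := by rw [← hx, inv_mul_cancel_left]
    refine ⟨by rw [hxq]; exact hfix2, ?_⟩
    rw [hxq, hfix _ hfix2 (hconj ▸ hfg)]
    rw [← hq.2, hfix g hq.1 hfg]
    exact congrArg φ (Subtype.ext hconj)
  let S : SubMulAction (X : Subgroup G) (G ⧸ (X : Subgroup G)) := ⟨{q | q ∈ Ψ}, fun x _ hq => hinvΨ x _ hq⟩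
  have h1 := X.isPGroup'.card_modEq_card_fixedPoints S
  have h3 := X.isPGroup'.card_modEq_card_fixedPoints (G ⧸ (X : Subgroup G))
  have hcard : Nat.card (MulAction.fixedPoints (X : Subgroup G) S) = Nat.card (MulAction.fixedPoints (X : Subgroup G) (G ⧸ (X : Subgroup G))) := by
    refine Nat.card_congr (Equiv.ofBijective (fun q => ⟨(q.1 : G ⧸ (X : Subgroup G)), fun x => congrArg Subtype.val (q.2 x)⟩) ⟨?_, ?_⟩)
    · intro a b h
      exact Subtype.ext (Subtype.ext (congrArg Subtype.val h :))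
    · rintro ⟨q, hq⟩
      obtain ⟨g, rfl⟩ := QuotientGroup.mk_surjective q
      have hgN : g ∈ Subgroup.normalizer ((X : Subgroup G) : Set G) :=
        Sylow.mem_fixedPoints_mul_left_cosets_iff_mem_normalizer.mp hq
      have hzq : z • (g : G ⧸ (X : Subgroup G)) = (g : G ⧸ (X : Subgroup G)) := hq ⟨z, hzX⟩
      have hm : g⁻¹ * z * g ∈ (X : Subgroup G) := by
        have := QuotientGroup.eq.mp (show ((g : G) : G ⧸ (X : Subgroup G)) = ((z * g : G) : G ⧸ (X : Subgroup G)) from hzq.symm)
        simpa [mul_assoc] using this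
      have hmem : (g : G ⧸ (X : Subgroup G)) ∈ Ψ := by
        simp only [Ψ, Finset.mem_filter, Finset.mem_univ, true_and]
        exact ⟨hzq, by rw [hfix g hzq hm]; exact hN g hgN hm⟩
      exact ⟨⟨⟨_, hmem⟩, fun x => Subtype.ext (hq x)⟩, rfl⟩
  have hS : Nat.card S = Ψ.card := by
    show Nat.card {q // q ∈ Ψ} = _
    rw [Nat.card_eq_fintype_card, Fintype.card_coe]
  rw [hS, hcard] at h1
  have hodd : Odd Ψ.card := by
    have hidx : ¬ 2 ∣ (X : Subgroup G).index := X.not_dvd_index
    rw [Subgroup.index] at hidx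
    have h4 : Ψ.card ≡ Nat.card (G ⧸ (X : Subgroup G)) [MOD 2] := h1.trans h3.symm
    unfold Nat.ModEq at h4
    rw [Nat.odd_iff]
    omega
  rw [hval, hodd.neg_one_pow] at hprod
  have := congrArg Units.val hprod
  simp at this
  apply h2
  linear_combination (-this)

end H60.GL3T
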