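import Mathlib
import Cfsg.Agent.H60.Perm

/-!
Cycles in Hall subgroups of symmetric groups and the classes of transpositions of a subgroup.
-/

set_option autoImplicit false
set_option linter.style.haveILetI false

namespace H60.HallSym

open Equiv Equiv.Perm

variable {α : Type*} [Fintype α] [DecidableEq α]

theorem disjoint_support_conj {τ c d : Perm α} (h : _root_.Disjoint c.support d.support) :
    _root_.Disjoint (τ * c * τ⁻¹).support (τ * d * τ⁻¹).support := by
  rw [support_conj, support_conj]
  exact (Finset.disjoint_map _).mpr h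

/-- Pairwise disjoint `Q`-cycles of a subgroup. -/
structure IsCycleFam (H : Subgroup (Perm α)) (F : Finset (Perm α)) (Q : ℕ) : Prop where
  mem : ∀ c ∈ F, c ∈ H
  isCycle : ∀ c ∈ F, c.IsCycle
  card : ∀ c ∈ F, c.support.card = Q
  disjoint : ∀ c ∈ F, ∀ d ∈ F, c ≠ d → _root_.Disjoint c.support d.support

/-- A subgroup of index prime to `p` contains a full family of disjoint `p^j`-cycles. -/
theorem exists_cycleFam (H : Subgroup (Perm α)) {p j : ℕ} [hp : Fact p.Prime] (hj : 1 ≤ j)
    (hidx : ¬ p ∣ H.index) :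
    ∃ F : Finset (Perm α), F.card = Fintype.card α / p ^ j ∧ IsCycleFam H F (p ^ j) := by
  classical
  set Q := p ^ j
  have hQ : 2 ≤ Q := le_trans hp.out.two_le (Nat.le_self_pow (by omega) p)
  set t := Fintype.card α / Q
  obtain ⟨σ, hσ⟩ := (exists_with_cycleType_iff α (m := Multiset.replicate t Q)).mpr
    ⟨by rw [Multiset.sum_replicate, smul_eq_mul]; exact Nat.div_mul_le_self _ _,
      fun a ha => Multiset.eq_of_mem_replicate ha ▸ hQ⟩
  have hFc : σ.cycleFactorsFinset.card = t := by
    rw [← Multiset.card_replicate t Q, ← hσ, cycleType_def, Multiset.card_map]; rfl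
  have hsz : ∀ c ∈ σ.cycleFactorsFinset, c.IsCycle ∧ c.support.card = Q := by
    intro c hc
    refine ⟨(mem_cycleFactorsFinset_iff.mp hc).1, ?_⟩
    have : (Finset.card ∘ Equiv.Perm.support) c ∈ σ.cycleType := by
      rw [cycleType_def]; exact Multiset.mem_map_of_mem _ hc
    exact Multiset.eq_of_mem_replicate (hσ ▸ this)
  have hcomm : ∀ x ∈ (σ.cycleFactorsFinset : Set (Perm α)), ∀ y ∈ (σ.cycleFactorsFinset : Set (Perm α)),
      x * y = y * x := fun x hx y hy => cycleFactorsFinset_mem_commute' σ hx hy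
  set K := Subgroup.closure (σ.cycleFactorsFinset : Set (Perm α))
  haveI : IsMulCommutative K := Subgroup.isMulCommutative_closure hcomm
  have hK : IsPGroup p K := by
    rintro ⟨x, hx⟩
    refine ⟨j, Subtype.ext ?_⟩
    show x ^ Q = 1
    induction hx using Subgroup.closure_induction with
    | mem c hc => rw [← (hsz c hc).2, ← (hsz c hc).1.orderOf, pow_orderOf_eq_one]
    | one => exact one_pow _
    | mul a b ha hb iha ihb =>
      have hab : Commute a b :=
        congrArg Subtype.val (mul_comm' (⟨a, ha⟩ : K) ⟨b, hb⟩)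
      rw [hab.mul_pow, iha, ihb, one_mul]
    | inv a ha iha => rw [inv_pow, iha, inv_one]
  obtain ⟨P, hP⟩ := hK.exists_le_sylow
  obtain ⟨R⟩ : Nonempty (Sylow p H) := inferInstance
  have hR : IsPGroup p ((R : Subgroup H).map H.subtype) := R.2.map _
  obtain ⟨P', hP'⟩ := hR.exists_le_sylow
  have hRP : (R : Subgroup H).map H.subtype = (P' : Subgroup (Perm α)) := by
    refine Subgroup.eq_of_le_of_card_ge hP' ?_
    rw [Subgroup.card_map_of_injective H.subtype_injective, R.card_eq_multiplicity,
      P'.card_eq_multiplicity]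
    refine Nat.pow_le_pow_right hp.out.pos (le_of_eq ?_)
    rw [← H.card_mul_index, Nat.factorization_mul Nat.card_pos.ne' Subgroup.index_ne_zero_of_finite]
    simp [Nat.factorization_eq_zero_of_not_dvd hidx]
  obtain ⟨τ, hτ⟩ := MulAction.exists_smul_eq (Perm α) P P'
  have hmem : ∀ c ∈ σ.cycleFactorsFinset, τ * c * τ⁻¹ ∈ H := by
    intro c hc
    have h1 : τ * c * τ⁻¹ ∈ ((τ • P : Sylow p (Perm α)) : Subgroup (Perm α)) :=
      ⟨c, hP (Subgroup.subset_closure hc), rfl⟩
    rw [hτ, ← hRP] at h1
    obtain ⟨r, -, hr⟩ := h1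
    exact hr ▸ r.2
  refine ⟨σ.cycleFactorsFinset.image fun c => τ * c * τ⁻¹, ?_, ⟨?_, ?_, ?_, ?_⟩⟩
  · rw [Finset.card_image_of_injective _ fun a b h => by simpa using h, hFc]
  · simp only [Finset.mem_image]
    rintro _ ⟨c, hc, rfl⟩
    exact hmem c hc
  · simp only [Finset.mem_image]
    rintro _ ⟨c, hc, rfl⟩
    exact (hsz c hc).1.conj
  · simp only [Finset.mem_image]
    rintro _ ⟨c, hc, rfl⟩
    rw [support_conj, Finset.card_map]
    exact (hsz c hc).2
  · simp only [Finset.mem_image]
    rintro _ ⟨c, hc, rfl⟩ _ ⟨d, hd, rfl⟩ hne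
    refine disjoint_support_conj (Equiv.Perm.disjoint_iff_disjoint_support.mp
      (cycleFactorsFinset_pairwise_disjoint σ hc hd ?_))
    rintro rfl
    exact hne rfl

/-- The cycles of a family inside a set are few. -/
theorem card_inside_le {H : Subgroup (Perm α)} {F : Finset (Perm α)} {Q : ℕ} (hF : IsCycleFam H F Q)
    (hQ : 0 < Q) (S : Finset α) :
    (F.filter fun c => c.support ⊆ S).card ≤ S.card / Q := by
  classical
  rw [Nat.le_div_iff_mul_le hQ]
  calc (F.filter fun c => c.support ⊆ S).card * Q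
      = ((F.filter fun c => c.support ⊆ S).biUnion Equiv.Perm.support).card := by
        rw [Finset.card_biUnion, Finset.sum_const_nat fun c hc => hF.card c (Finset.mem_filter.mp hc).1]
        intro c hc d hd hne
        exact hF.disjoint c (Finset.mem_filter.mp hc).1 d (Finset.mem_filter.mp hd).1 hne
    _ ≤ S.card := Finset.card_le_card (Finset.biUnion_subset.mpr fun c hc => (Finset.mem_filter.mp hc).2)

/-- The class of `x`: the points exchanged with `x` by a transposition in `H`. -/
noncomputable def cls (H : Subgroup (Perm α)) (x : α) : Finset α :=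
  letI := Classical.decPred fun y : α => swap x y ∈ H
  Finset.univ.filter fun y => swap x y ∈ H

theorem mem_cls {H : Subgroup (Perm α)} {x y : α} : y ∈ cls H x ↔ swap x y ∈ H := by
  classical
  simp [cls]

theorem mem_cls_self (H : Subgroup (Perm α)) (x : α) : x ∈ cls H x := by
  rw [mem_cls, swap_self]; exact H.one_mem

theorem cls_trans {H : Subgroup (Perm α)} {x y z : α} (h1 : y ∈ cls H x) (h2 : z ∈ cls H y) :
    z ∈ cls H x := by
  rw [mem_cls] at *
  by_cases hxz : x = z
  · subst hxz; rw [swap_self]; exact H.one_mem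
  by_cases hyz : y = z
  · subst hyz; exact h1
  by_cases hxy : x = y
  · subst hxy; exact h2
  have h := H.mul_mem (H.mul_mem h2 h1) (H.inv_mem h2)
  rwa [← Equiv.swap_apply_apply, Equiv.swap_apply_left, Equiv.swap_apply_of_ne_of_ne hxy hxz] at h

theorem cls_symm {H : Subgroup (Perm α)} {x y : α} (h : y ∈ cls H x) : x ∈ cls H y := by
  rw [mem_cls, swap_comm]; exact mem_cls.mp h

theorem cls_eq {H : Subgroup (Perm α)} {x y : α} (h : y ∈ cls H x) : cls H y = cls H x :=
  Finset.ext fun _ => ⟨fun hz => cls_trans h hz, fun hz => cls_trans (cls_symm h) hz⟩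

theorem cls_disjoint {H : Subgroup (Perm α)} {x y : α} (h : cls H x ≠ cls H y) :
    _root_.Disjoint (cls H x) (cls H y) :=
  Finset.disjoint_left.mpr fun _ hz hz' => h ((cls_eq hz).symm.trans (cls_eq hz'))

theorem image_cls {H : Subgroup (Perm α)} {h : Perm α} (hh : h ∈ H) (x : α) :
    (cls H x).image h = cls H (h x) := by
  have key : ∀ g ∈ H, ∀ u y : α, y ∈ cls H u → g y ∈ cls H (g u) := by
    intro g hg u y hy
    rw [mem_cls, Equiv.swap_apply_apply]
    exact H.mul_mem (H.mul_mem hg (mem_cls.mp hy)) (H.inv_mem hg)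
  ext z
  rw [Finset.mem_image]
  constructor
  · rintro ⟨y, hy, rfl⟩; exact key h hh x y hy
  · intro hz
    refine ⟨h⁻¹ z, ?_, by simp⟩
    simpa using key h⁻¹ (H.inv_mem hh) (h x) z hz

theorem card_cls_apply {H : Subgroup (Perm α)} {h : Perm α} (hh : h ∈ H) (x : α) :
    (cls H (h x)).card = (cls H x).card := by
  rw [← image_cls hh x, Finset.card_image_of_injective _ h.injective]

/-- The factorial of a class size divides the order. -/
theorem factorial_dvd_card (H : Subgroup (Perm α)) (x : α) :
    (cls H x).card.factorial ∣ Nat.card H := by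
  classical
  let φ : Perm {y // y ∈ cls H x} →* Perm α := Equiv.Perm.ofSubtype
  have hle : φ.range ≤ H := by
    rintro _ ⟨σ, rfl⟩
    induction σ using Equiv.Perm.swap_induction_on with
    | one => rw [map_one]; exact H.one_mem
    | swap_mul f u v huv ih =>
      rw [map_mul]
      refine H.mul_mem ?_ ih
      rw [show φ (swap u v) = swap (u : α) v from Equiv.Perm.ofSubtype_swap_eq u v]
      exact mem_cls.mp (cls_trans (cls_symm u.2) v.2)
  refine dvd_trans (dvd_of_eq ?_) (Subgroup.card_dvd_of_le hle)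
  rw [show Nat.card φ.range = Nat.card (Perm {y // y ∈ cls H x}) from
    (Nat.card_congr (φ.ofInjective Equiv.Perm.ofSubtype_injective).toEquiv).symm, Nat.card_perm,
    Nat.card_eq_fintype_card, Fintype.card_coe]

/-- A cycle of `H` lies in a class or permutes classes of one size dividing its length. -/
theorem cycle_cases {H : Subgroup (Perm α)} {c : Perm α} (hc : c.IsCycle) (hcH : c ∈ H) :
    (∃ x, c.support ⊆ cls H x) ∨
    ∃ x : α, cls H x ≠ cls H (c x) ∧ (cls H x).card ∣ c.support.card ∧
      (cls H x).card < c.support.card ∧ x ∈ c.support := by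
  classical
  obtain ⟨x, hx⟩ : c.support.Nonempty := Finset.card_pos.mp (by have := hc.two_le_card_support; omega)
  by_cases he : cls H x = cls H (c x)
  · left
    refine ⟨x, fun y hy => ?_⟩
    obtain ⟨i, hi⟩ := hc.exists_pow_eq (mem_support.mp hx) (mem_support.mp hy)
    have : ∀ k : ℕ, (c ^ k) x ∈ cls H x := by
      intro k
      induction k with
      | zero => simpa using mem_cls_self H x
      | succ k ih =>
        rw [pow_succ', Perm.mul_apply]
        have h1 : c ((c ^ k) x) ∈ cls H (c x) := by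
          rw [← image_cls hcH x]; exact Finset.mem_image_of_mem c ih
        rwa [← he] at h1
    exact hi ▸ this i
  · right
    have hstep : ∀ y ∈ c.support, cls H y ≠ cls H (c y) ∧ (cls H y).card = (cls H x).card := by
      intro y hy
      obtain ⟨i, hi⟩ := hc.exists_pow_eq (mem_support.mp hx) (mem_support.mp hy)
      subst hi
      refine ⟨fun heq => he ?_, card_cls_apply (H.pow_mem hcH i) x⟩
      have h1 : (cls H ((c ^ i) x)).image ⇑((c ^ i)⁻¹) = (cls H (c ((c ^ i) x))).image ⇑((c ^ i)⁻¹) := by
        rw [heq]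
      rw [image_cls (H.inv_mem (H.pow_mem hcH i)), image_cls (H.inv_mem (H.pow_mem hcH i)),
        Perm.coe_inv, symm_apply_apply] at h1
      rw [h1]
      congr 1
      rw [show c ((c ^ i) x) = (c ^ i) (c x) by
        rw [← Perm.mul_apply, ← Perm.mul_apply, ((Commute.refl c).pow_right i).eq], symm_apply_apply]
    have hsub : ∀ y ∈ c.support, cls H y ⊆ c.support := by
      intro y hy z hz
      by_contra hzs
      refine (hstep y hy).1 ?_
      have : c z ∈ cls H (c y) := by rw [← image_cls hcH y]; exact Finset.mem_image_of_mem c hz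
      rw [notMem_support.mp hzs] at this
      exact (cls_eq hz).symm.trans (cls_eq this)
    have hcard : c.support.card = ∑ C ∈ c.support.image (cls H), (cls H x).card := by
      rw [Finset.card_eq_sum_card_image (cls H) c.support]
      refine Finset.sum_congr rfl fun C hC => ?_
      obtain ⟨y, hy, rfl⟩ := Finset.mem_image.mp hC
      rw [← (hstep y hy).2]
      congr 1
      ext z
      simp only [Finset.mem_filter]
      exact ⟨fun h => h.2 ▸ mem_cls_self H z, fun h => ⟨hsub y hy h, cls_eq h⟩⟩
    rw [Finset.sum_const, smul_eq_mul] at hcard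
    refine ⟨x, he, ⟨_, by rw [hcard, mul_comm]⟩, ?_, hx⟩
    have h2 : 2 ≤ (c.support.image (cls H)).card := by
      refine Finset.one_lt_card.mpr ⟨cls H x, Finset.mem_image_of_mem _ hx, cls H (c x),
        Finset.mem_image_of_mem _ (apply_mem_support.mpr hx), he⟩
    have h1 : 0 < (cls H x).card := Finset.card_pos.mpr ⟨x, mem_cls_self H x⟩
    rw [hcard]
    nlinarith

/-- A subgroup of odd index has at most one class of odd size. -/
theorem odd_cls_unique (H : Subgroup (Perm α)) (hidx : ¬ 2 ∣ H.index) {x y : α}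
    (hx : Odd (cls H x).card) (hy : Odd (cls H y).card) : cls H x = cls H y := by
  classical
  haveI : Fact (Nat.Prime 2) := ⟨Nat.prime_two⟩
  obtain ⟨F, hFc, hF⟩ := exists_cycleFam H (p := 2) (j := 1) le_rfl hidx
  rw [pow_one] at hFc hF
  have hswap : ∀ c ∈ F, ∃ u, c.support ⊆ cls H u := by
    intro c hc
    obtain ⟨u, v, huv, rfl⟩ := card_support_eq_two.mp (hF.card c hc)
    refine ⟨u, fun z hz => ?_⟩
    rw [support_swap huv, Finset.mem_insert, Finset.mem_singleton] at hz
    rcases hz with rfl | rfl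
    · exact mem_cls_self H _
    · exact mem_cls.mpr (hF.mem _ hc)
  set U := F.biUnion Equiv.Perm.support
  have hUc : U.card = 2 * F.card := by
    rw [Finset.card_biUnion (fun c hc d hd hne => hF.disjoint c hc d hd hne),
      Finset.sum_const_nat hF.card, mul_comm]
  have hout : ∀ x : α, Odd (cls H x).card → ∃ z ∈ cls H x, z ∉ U := by
    intro x hx
    by_contra hcon
    push Not at hcon
    have heq : cls H x = (F.filter fun c => c.support ⊆ cls H x).biUnion Equiv.Perm.support := by
      refine le_antisymm (fun z hz => ?_)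
        (Finset.biUnion_subset.mpr fun c hc => (Finset.mem_filter.mp hc).2)
      obtain ⟨c, hc, hzc⟩ := Finset.mem_biUnion.mp (hcon z hz)
      obtain ⟨u, hu⟩ := hswap c hc
      have : cls H u = cls H x := (cls_eq (hu hzc)).symm.trans (cls_eq hz)
      exact Finset.mem_biUnion.mpr ⟨c, Finset.mem_filter.mpr ⟨hc, this ▸ hu⟩, hzc⟩
    rw [heq, Finset.card_biUnion (fun c hc d hd hne => hF.disjoint c (Finset.mem_filter.mp hc).1 d
      (Finset.mem_filter.mp hd).1 hne),
      Finset.sum_const_nat fun c hc => hF.card c (Finset.mem_filter.mp hc).1] at hx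
    exact Nat.not_even_iff_odd.mpr hx ⟨_, by ring⟩
  obtain ⟨a, ha, haU⟩ := hout x hx
  obtain ⟨b, hb, hbU⟩ := hout y hy
  have h1 : Uᶜ.card ≤ 1 := by rw [Finset.card_compl, hUc, hFc]; omega
  rw [Finset.card_le_one.mp h1 a (Finset.mem_compl.mpr haU) b (Finset.mem_compl.mpr hbU)] at ha
  exact (cls_eq ha).symm.trans (cls_eq hb)

/-- Carries in a pair of classes come from classes of equal size. -/
theorem carry_cases (H : Subgroup (Perm α)) {p j : ℕ} [hp : Fact p.Prime] (hj : 1 ≤ j)
    (hidx : ¬ p ∣ H.index) {x y : α} (hne : cls H x ≠ cls H y) :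
    (cls H x).card % p ^ j + (cls H y).card % p ^ j < p ^ j ∨
    ∃ u v : α, cls H u ≠ cls H v ∧ (cls H u).card = (cls H v).card ∧ (cls H u).card ∣ p ^ j := by
  classical
  have hQ : 0 < (p ^ j) := pow_pos hp.out.pos j
  obtain ⟨F, hFc, hF⟩ := exists_cycleFam H hj hidx
  by_cases hin : ∀ c ∈ F, ∃ u, c.support ⊆ cls H u
  · left
    by_contra hcarry
    have h1 := card_inside_le hF hQ (cls H x)
    have h2 := card_inside_le hF hQ (cls H y)
    have h3 := card_inside_le hF hQ (cls H x ∪ cls H y)ᶜ
    rw [Finset.card_compl, Finset.card_union_of_disjoint (cls_disjoint hne)] at h3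
    have hcover : F ⊆ (F.filter fun c => c.support ⊆ cls H x) ∪ (F.filter fun c => c.support ⊆ cls H y) ∪
        (F.filter fun c => c.support ⊆ (cls H x ∪ cls H y)ᶜ) := by
      intro c hc
      obtain ⟨u, hu⟩ := hin c hc
      simp only [Finset.mem_union, Finset.mem_filter]
      by_cases ex : cls H u = cls H x
      · exact Or.inl (Or.inl ⟨hc, ex ▸ hu⟩)
      by_cases ey : cls H u = cls H y
      · exact Or.inl (Or.inr ⟨hc, ey ▸ hu⟩)
      refine Or.inr ⟨hc, fun z hz => Finset.mem_compl.mpr fun hz' => ?_⟩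
      rcases Finset.mem_union.mp hz' with h | h
      · exact ex ((cls_eq (hu hz)).symm.trans (cls_eq h))
      · exact ey ((cls_eq (hu hz)).symm.trans (cls_eq h))
    have h4 := (Finset.card_le_card hcover).trans ((Finset.card_union_le _ _).trans
      (Nat.add_le_add_right (Finset.card_union_le _ _) _))
    have h5 : (cls H x).card + (cls H y).card ≤ Fintype.card α := by
      rw [← Finset.card_union_of_disjoint (cls_disjoint hne)]
      exact Finset.card_le_univ _
    have key : ∀ a b n : ℕ, a + b ≤ n → ¬ (a % p ^ j + b % p ^ j < p ^ j) →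
        a / p ^ j + b / p ^ j + (n - (a + b)) / p ^ j < n / p ^ j := by
      intro a b n hab hc
      have ea := Nat.div_add_mod a (p ^ j)
      have eb := Nat.div_add_mod b (p ^ j)
      have er := Nat.div_add_mod (n - (a + b)) (p ^ j)
      generalize (n - (a + b)) % p ^ j = R at er
      refine (Nat.le_div_iff_mul_le hQ).mpr ?_
      calc (a / p ^ j + b / p ^ j + (n - (a + b)) / p ^ j + 1) * p ^ j
          = p ^ j * (a / p ^ j) + p ^ j * (b / p ^ j) + p ^ j * ((n - (a + b)) / p ^ j) + p ^ j := by
            ring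
        _ ≤ n := by omega
    have h6 := key _ _ _ h5 hcarry
    omega
  · right
    push Not at hin
    obtain ⟨c, hc, hno⟩ := hin
    rcases cycle_cases (hF.isCycle c hc) (hF.mem c hc) with ⟨u, hu⟩ | ⟨u, hu, hd, -, -⟩
    · exact absurd hu (hno u)
    · rw [hF.card c hc] at hd
      exact ⟨u, c u, hu, (card_cls_apply (hF.mem c hc) u).symm, hd⟩

/-- For an odd prime, every cycle of prime power length lies in a class. -/
theorem odd_cycle_inside (H : Subgroup (Perm α)) (h2 : ¬ 2 ∣ H.index) {c : Perm α} (hc : c.IsCycle)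
    (hcH : c ∈ H) (hodd : Odd c.support.card) : ∃ x, c.support ⊆ cls H x := by
  rcases cycle_cases hc hcH with h | ⟨x, hx, hd, -, -⟩
  · exact h
  · refine absurd (odd_cls_unique H h2 (hodd.of_dvd_nat hd) ?_) hx
    rw [card_cls_apply hcH]
    exact hodd.of_dvd_nat hd

/-- No carries at odd prime powers. -/
theorem no_carry_odd (H : Subgroup (Perm α)) {p j : ℕ} [hp : Fact p.Prime] (hp2 : p ≠ 2) (hj : 1 ≤ j)
    (h2 : ¬ 2 ∣ H.index) (hidx : ¬ p ∣ H.index) {x y : α} (hne : cls H x ≠ cls H y) :
    (cls H x).card % p ^ j + (cls H y).card % p ^ j < p ^ j := by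
  rcases carry_cases H hj hidx hne with h | ⟨u, v, huv, hsz, hd⟩
  · exact h
  · have hodd : Odd (cls H u).card := ((hp.out.odd_of_ne_two hp2).pow).of_dvd_nat hd
    exact absurd (odd_cls_unique H h2 hodd (hsz ▸ hodd)) huv

end H60.HallSym
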