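import Mathlib
import Cfsg.Agent.H60.HallCycles

/-! Groups of odd order: cycles of one prime length have equal or disjoint supports. -/

set_option autoImplicit false
set_option linter.style.haveILetI false

namespace H60.HallSym

open Equiv Equiv.Perm MulAction
open scoped Pointwise

variable {α : Type*} [Fintype α] [DecidableEq α]

theorem support_eq_of_odd {H : Subgroup (Perm α)} (hodd : Odd (Nat.card H)) {p : ℕ} (hp : p.Prime)
    {c d : Perm α} (hc : c.IsCycle) (hd : d.IsCycle) (hcp : c.support.card = p)
    (hdp : d.support.card = p) (hcH : c ∈ H) (hdH : d ∈ H)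
    (hmeet : ¬ _root_.Disjoint c.support d.support) : c.support = d.support := by
  classical
  by_contra hne
  obtain ⟨x0, hx0c, hx0d⟩ := Finset.not_disjoint_iff.mp hmeet
  set U : Finset α := c.support ∪ d.support with hU
  have hfix : ∀ g ∈ ({c, d} : Set (Perm α)), ∀ z ∉ U, g z = z := by
    intro g hg z hz
    simp only [hU, Finset.mem_union, not_or] at hz
    rcases hg with rfl | rfl
    · exact notMem_support.mp hz.1
    · exact notMem_support.mp hz.2
  set L := Subgroup.closure ({c, d} : Set (Perm α)) with hL
  have hLfix : ∀ g ∈ L, ∀ z ∉ U, g z = z := by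
    intro g hg
    induction hg using Subgroup.closure_induction with
    | mem g hg => exact hfix g hg
    | one => simp
    | mul a b _ _ iha ihb => intro z hz; rw [Perm.mul_apply, ihb z hz, iha z hz]
    | inv a _ iha =>
      intro z hz
      conv_lhs => rw [← iha z hz]
      simp
  have hLiff : ∀ g ∈ L, ∀ z, g z ∈ U ↔ z ∈ U := by
    intro g hg z
    constructor
    · intro h
      by_contra hz
      rw [hLfix g hg z hz] at h
      exact hz h
    · intro hz
      by_contra h
      have h1 := hLfix g⁻¹ (L.inv_mem hg) _ h
      rw [Perm.coe_inv, symm_apply_apply] at h1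
      exact h (h1 ▸ hz)
  let ρ : L →* Perm U :=
    { toFun := fun g => (g : Perm α).subtypePerm (fun z => (hLiff g g.2 z))
      map_one' := by ext z; simp
      map_mul' := fun a b => by ext z; rfl }
  set M := ρ.range with hM
  have hcL : c ∈ L := Subgroup.subset_closure (by simp)
  have hdL : d ∈ L := Subgroup.subset_closure (by simp)
  let x : U := ⟨x0, Finset.mem_union_left _ hx0c⟩
  haveI htr : IsPretransitive M U := by
    rw [isPretransitive_iff_base x]
    rintro ⟨z, hz⟩
    obtain ⟨g, hg, hgz⟩ : ∃ g ∈ L, g x0 = z := by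
      rcases Finset.mem_union.mp hz with h | h
      · obtain ⟨i, hi⟩ := hc.exists_pow_eq (mem_support.mp hx0c) (mem_support.mp h)
        exact ⟨c ^ i, L.pow_mem hcL i, hi⟩
      · obtain ⟨i, hi⟩ := hd.exists_pow_eq (mem_support.mp hx0d) (mem_support.mp h)
        exact ⟨d ^ i, L.pow_mem hdL i, hi⟩
    exact ⟨⟨ρ ⟨g, hg⟩, ⟨_, rfl⟩⟩, Subtype.ext hgz⟩
  -- cycles fix blocks through the common point
  have hblock : ∀ (e : Perm α) (heL : e ∈ L), e.IsCycle → e.support.card = p → x0 ∈ e.support →
      ∀ B : Set U, IsBlock M B → x ∈ B → B.Nontrivial → ∀ z : U, (z : α) ∈ e.support → z ∈ B := by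
    intro e heL hec hep hx0e B hB hxB hnt
    let ee : M := ⟨ρ ⟨e, heL⟩, ⟨_, rfl⟩⟩
    have happ : ∀ (i : ℕ) (u : U), (((ee ^ i) • u : U) : α) = (e ^ i) u := by
      intro i
      induction i with
      | zero => intro u; simp
      | succ i ih =>
        intro u
        rw [pow_succ', mul_smul, pow_succ', Perm.mul_apply, ← ih u]
        rfl
    have hfixB : ee • B = B := by
      obtain ⟨z, hzB, hzx⟩ := hnt.exists_ne x
      by_contra hmove
      have hz : (z : α) ∈ e.support := by
        by_contra hzs
        refine hmove (hB.smul_eq_of_mem hzB ?_)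
        convert hzB using 1
        exact Subtype.ext (notMem_support.mp hzs)
      obtain ⟨i, hi⟩ := hec.exists_pow_eq (mem_support.mp hx0e) (mem_support.mp hz)
      have hiB : (ee ^ i) • B = B :=
        hB.smul_eq_of_mem hxB (by convert hzB using 1; exact Subtype.ext ((happ i x).trans hi))
      have hip : ¬ p ∣ i := fun hdvd => hzx (Subtype.ext (by
        rw [← hi, orderOf_dvd_iff_pow_eq_one.mp (by rw [hec.orderOf, hep]; exact hdvd)]
        rfl))
      have hpow : ee ^ p = 1 := by
        refine Subtype.ext (Equiv.ext fun u => Subtype.ext ?_)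
        show (((ee ^ p) • u : U) : α) = u
        rw [happ, ← hep, ← hec.orderOf, pow_orderOf_eq_one]
        rfl
      have hcop : Nat.gcd i p = 1 := ((hp.coprime_iff_not_dvd).mpr hip).symm
      refine hmove (mem_stabilizer_iff.mp ?_)
      have hgcd := Nat.gcd_eq_gcd_ab i p
      rw [hcop] at hgcd
      have : ee = (ee ^ i) ^ Nat.gcdA i p := by
        calc ee = ee ^ ((1 : ℕ) : ℤ) := by simp
          _ = (ee ^ i) ^ Nat.gcdA i p * (ee ^ p) ^ Nat.gcdB i p := by
            rw [hgcd, zpow_add, zpow_mul, zpow_mul, zpow_natCast, zpow_natCast]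
          _ = _ := by rw [hpow, one_zpow, mul_one]
      rw [this]
      exact zpow_mem (mem_stabilizer_iff.mpr hiB) _
    intro z hz
    obtain ⟨i, hi⟩ := hec.exists_pow_eq (mem_support.mp hx0e) (mem_support.mp hz)
    have h1 : (ee ^ i) • x ∈ (ee ^ i) • B := Set.smul_mem_smul_set hxB
    rw [mem_stabilizer_iff.mp (pow_mem (mem_stabilizer_iff.mpr hfixB) i)] at h1
    convert h1 using 1
    exact Subtype.ext ((happ i x).trans hi).symm
  have hprim : IsPreprimitive M U := by
    refine IsPreprimitive.of_isTrivialBlock_base x fun {B} hxB hB => ?_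
    rcases B.subsingleton_or_nontrivial with h | h
    · exact Or.inl h
    refine Or.inr (Set.eq_univ_of_forall fun z => ?_)
    rcases Finset.mem_union.mp z.2 with hz | hz
    · exact hblock c hcL hc hcp hx0c B hB hxB h z hz
    · exact hblock d hdL hd hdp hx0d B hB hxB h z hz
  -- the cycle `c` on `U` gives double transitivity
  have hcU : p < Fintype.card U := by
    rw [Fintype.card_coe, ← hcp]
    refine Finset.card_lt_card ((Finset.ssubset_iff_of_subset Finset.subset_union_left).mpr ?_)
    obtain ⟨z, hz, hzc⟩ : ∃ z ∈ d.support, z ∉ c.support := by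
      by_contra hcon
      push Not at hcon
      exact hne (Finset.eq_of_subset_of_card_le (fun z hz => hcon z hz) (by omega)).symm
    exact ⟨z, Finset.mem_union_right _ hz, hzc⟩
  have hsupp : (ρ ⟨c, hcL⟩).support.map (Function.Embedding.subtype _) = c.support := by
    ext z
    simp only [Finset.mem_map, mem_support, Function.Embedding.coe_subtype]
    constructor
    · rintro ⟨⟨u, hu⟩, hne', rfl⟩
      exact fun h => hne' (Subtype.ext h)
    · intro h
      exact ⟨⟨z, Finset.mem_union_left _ (mem_support.mpr h)⟩, fun e => h (congrArg Subtype.val e), rfl⟩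
  have hcard' : (ρ ⟨c, hcL⟩).support.card = p := by rw [← Finset.card_map, hsupp, hcp]
  have hcyc : (ρ ⟨c, hcL⟩).IsCycle :=
    have hord : orderOf (ρ ⟨c, hcL⟩) = p := by
      refine (hp.eq_one_or_self_of_dvd _ (orderOf_dvd_of_pow_eq_one ?_)).resolve_left ?_
      · rw [← map_pow, show (⟨c, hcL⟩ : L) ^ p = 1 from Subtype.ext (by
          show c ^ p = 1
          rw [← hcp, ← hc.orderOf, pow_orderOf_eq_one]), map_one]
      · intro h1
        rw [orderOf_eq_one_iff.mp h1, Equiv.Perm.support_one, Finset.card_empty] at hcard'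
        exact hp.ne_zero hcard'.symm
    isCycle_of_prime_order (by rw [hord]; exact hp) (by rw [hord, hcard']; have := hp.pos; omega)
  haveI := Equiv.Perm.isPretransitive_of_isCycle_mem (G := M) hcyc ⟨_, rfl⟩
  let s : Set U := ((ρ ⟨c, hcL⟩).support : Set U)ᶜ
  have hs : s.ncard = Fintype.card U - p := by
    rw [Set.ncard_compl, Set.ncard_coe_finset, hcard', Nat.card_eq_fintype_card]
  have hmemD : ∀ z : U, z ∈ SubMulAction.ofFixingSubgroup M s ↔ z ∈ (ρ ⟨c, hcL⟩).support := fun z => by
    simp [s, SubMulAction.mem_ofFixingSubgroup_iff]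
  haveI : IsPreprimitive (fixingSubgroup M s) (SubMulAction.ofFixingSubgroup M s) :=
    IsPreprimitive.of_prime_card (by
      rw [Nat.card_congr (Equiv.subtypeEquivRight hmemD), Nat.card_eq_fintype_card, Fintype.card_coe,
        hcard']
      exact hp)
  have h1 : IsMultiplyPreprimitive M U (Fintype.card U - p - 1 + 2) :=
    hprim.isMultiplyPreprimitive (s := s) (n := Fintype.card U - p - 1) (by omega)
      (by rw [Nat.card_eq_fintype_card]; have := hp.two_le; omega) inferInstance
  haveI : IsMultiplyPretransitive M U (Fintype.card U - p - 1 + 2) := h1.isMultiplyPretransitive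
  have h2 : IsMultiplyPretransitive M U 2 :=
    isMultiplyPretransitive_of_le (n := Fintype.card U - p - 1 + 2) (by omega)
      (by rw [Nat.card_eq_fintype_card]; have := hp.two_le; omega)
  obtain ⟨u, v, huv⟩ := Fintype.one_lt_card_iff.mp (show 1 < Fintype.card U by have := hp.two_le; omega)
  obtain ⟨g, hgu, hgv⟩ := is_two_pretransitive_iff.mp h2 huv huv.symm
  have heven : 2 ∣ orderOf g := by
    rcases Nat.even_or_odd (orderOf g) with h | ⟨k, hk⟩
    · exact h.two_dvd
    exfalso
    have h2' : (g ^ 2) • u = u := by rw [sq, mul_smul, hgu, hgv]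
    have h3 : (g ^ (2 * k + 1)) • u = v := by
      rw [pow_succ', mul_smul, pow_mul]
      rw [mem_stabilizer_iff.mp (pow_mem (mem_stabilizer_iff.mpr h2') k), hgu]
    rw [← hk, pow_orderOf_eq_one, one_smul] at h3
    exact huv h3
  have hML : Nat.card M ∣ Nat.card H := (Subgroup.card_range_dvd ρ).trans
    (Subgroup.card_dvd_of_le ((Subgroup.closure_le H).mpr (by
      rintro z (rfl | rfl) <;> assumption)))
  exact Nat.not_even_iff_odd.mpr hodd
    (even_iff_two_dvd.mpr ((heven.trans (orderOf_dvd_natCard g)).trans hML))

/-- A Hall subgroup of odd order involves at most one prime. -/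
theorem one_prime_of_odd {π : Set ℕ} (H : Subgroup (Perm α))
    (hH : ∀ r : ℕ, r.Prime → r ∣ Nat.card H → r ∈ π) (hI : ∀ r : ℕ, r.Prime → r ∈ π → ¬ r ∣ H.index)
    (h2 : 2 ∉ π) {p q : ℕ} (hp : p.Prime) (hq : q.Prime) (hpπ : p ∈ π) (hqπ : q ∈ π)
    (hpn : p ≤ Fintype.card α) (hqn : q ≤ Fintype.card α) : p = q := by
  classical
  wlog hlt : p < q generalizing p q with Hw
  · rcases Nat.lt_trichotomy p q with h | h | h
    · exact Hw hp hq hpπ hqπ hpn hqn h
    · exact h
    · exact (Hw hq hp hqπ hpπ hqn hpn h).symm
  exfalso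
  have hodd : Odd (Nat.card H) := by
    rcases Nat.even_or_odd (Nat.card H) with h | h
    · exact absurd (hH 2 Nat.prime_two h.two_dvd) h2
    · exact h
  haveI : Fact p.Prime := ⟨hp⟩
  haveI : Fact q.Prime := ⟨hq⟩
  obtain ⟨F, hFc, hF⟩ := exists_cycleFam H (j := 1) le_rfl (hI p hp hpπ)
  obtain ⟨D, hDc, hD⟩ := exists_cycleFam H (j := 1) le_rfl (hI q hq hqπ)
  rw [pow_one] at hFc hF hDc hD
  obtain ⟨d, hdD⟩ : D.Nonempty := Finset.card_pos.mp (hDc ▸ Nat.div_pos hqn hq.pos)
  have hdH := hD.mem d hdD
  have hdc := hD.isCycle d hdD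
  have hdq := hD.card d hdD
  set W := F.biUnion Equiv.Perm.support
  -- `d` permutes the supports of the `p`-cycles
  have hperm : ∀ c ∈ F, ∀ k : ℕ, ∃ c' ∈ F, c.support.map (d ^ k).toEmbedding = c'.support := by
    intro c hc k
    set e := d ^ k * c * (d ^ k)⁻¹ with he
    have heH : e ∈ H := H.mul_mem (H.mul_mem (H.pow_mem hdH k) (hF.mem c hc)) (H.inv_mem (H.pow_mem hdH k))
    have hes : e.support = c.support.map (d ^ k).toEmbedding := support_conj
    have hec : e.support.card = p := by rw [hes, Finset.card_map, hF.card c hc]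
    have hnd : ∃ c' ∈ F, ¬ _root_.Disjoint e.support c'.support := by
      by_contra hcon
      push Not at hcon
      have hdis : _root_.Disjoint e.support W :=
        (Finset.disjoint_biUnion_right _ _ _).mpr hcon
      have h1 := Finset.card_le_univ (e.support ∪ W)
      rw [Finset.card_union_of_disjoint hdis, hec, Finset.card_biUnion (fun a ha b hb hne => hF.disjoint a ha b hb hne),
        Finset.sum_const_nat hF.card, hFc] at h1
      have h3 := Nat.div_add_mod' (Fintype.card α) p
      have h4 := Nat.mod_lt (Fintype.card α) hp.pos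
      omega
    obtain ⟨c', hc', hmeet⟩ := hnd
    exact ⟨c', hc', hes.symm.trans (support_eq_of_odd hodd hp ((hF.isCycle c hc).conj) (hF.isCycle c' hc') hec
      (hF.card c' hc') heH (hF.mem c' hc') hmeet)⟩
  by_cases hout : ∀ z ∈ d.support, z ∉ W
  · have h1 : d.support ⊆ Wᶜ := fun z hz => Finset.mem_compl.mpr (hout z hz)
    have h2' := Finset.card_le_card h1
    rw [hdq, Finset.card_compl, Finset.card_biUnion (fun a ha b hb hne => hF.disjoint a ha b hb hne),
      Finset.sum_const_nat hF.card, hFc] at h2'
    have h3 := Nat.div_add_mod' (Fintype.card α) p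
    have h4 := Nat.mod_lt (Fintype.card α) hp.pos
    omega
  push Not at hout
  obtain ⟨z, hzd, hzW⟩ := hout
  obtain ⟨c, hc, hzc⟩ := Finset.mem_biUnion.mp hzW
  obtain ⟨z', hz', hne'⟩ : ∃ z' ∈ c.support, z' ≠ z :=
    Finset.exists_mem_ne (by rw [hF.card c hc]; exact hp.one_lt) z
  have hdordq : orderOf d = q := by rw [hdc.orderOf, hdq]
  -- the images of the support of `c` under powers of `d`
  by_cases hfix : c.support.map d.toEmbedding = c.support
  · have hsub : d.support ⊆ c.support := by
      intro w hw
      obtain ⟨i, rfl⟩ := hdc.exists_pow_eq (mem_support.mp hzd) (mem_support.mp hw)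
      clear hw
      induction i with
      | zero => simpa using hzc
      | succ i ih =>
        rw [pow_succ', Perm.mul_apply, ← hfix]
        exact Finset.mem_map_of_mem d.toEmbedding ih
    have := Finset.card_le_card hsub
    rw [hdq, hF.card c hc] at this
    omega
  · have hinj : ∀ i < q, ∀ k < q, c.support.map (d ^ i).toEmbedding = c.support.map (d ^ k).toEmbedding → i = k := by
      have key : ∀ i, ∀ k, i ≤ k → k < q →
          c.support.map (d ^ i).toEmbedding = c.support.map (d ^ k).toEmbedding → i = k := by
        intro i k hik hk heq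
        by_contra hne
        have hm : c.support.map (d ^ (k - i)).toEmbedding = c.support := by
          refine Finset.map_injective (d ^ i).toEmbedding ?_
          rw [Finset.map_map, heq, show k = i + (k - i) by omega, pow_add]
          congr 1
          ext u
          simp
        refine hfix ?_
        -- the stabiliser of the support contains `d ^ (k - i)` and so `d`
        let S : Subgroup (Perm α) :=
          { carrier := {g | c.support.map g.toEmbedding = c.support}
            one_mem' := by
              refine Eq.trans ?_ Finset.map_refl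
              rfl
            mul_mem' := fun {a b} ha hb => by
              simp only [Set.mem_ofPred_eq] at ha hb ⊢
              conv_rhs => rw [← ha, ← hb]
              rw [Finset.map_map]
              rfl
            inv_mem' := fun {a} ha => by
              simp only [Set.mem_ofPred_eq] at ha ⊢
              conv_lhs => rw [← ha]
              rw [Finset.map_map]
              ext u; simp }
        have hd' : d ∈ Subgroup.zpowers (d ^ (k - i)) := by
          rw [Subgroup.mem_zpowers_iff]
          have hcop : Nat.gcd (k - i) q = 1 :=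
            ((hq.coprime_iff_not_dvd).mpr fun h => by
              have := Nat.le_of_dvd (by omega) h; omega).symm
          refine ⟨Nat.gcdA (k - i) q, ?_⟩
          have hg := Nat.gcd_eq_gcd_ab (k - i) q
          rw [hcop] at hg
          calc (d ^ (k - i)) ^ Nat.gcdA (k - i) q
              = (d ^ (k - i)) ^ Nat.gcdA (k - i) q * (d ^ q) ^ Nat.gcdB (k - i) q := by
                rw [← hdordq, pow_orderOf_eq_one, one_zpow, mul_one]
            _ = d ^ ((1 : ℕ) : ℤ) := by rw [hg, zpow_add, zpow_mul, zpow_mul, zpow_natCast, zpow_natCast]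
            _ = d := by simp
        exact (Subgroup.zpowers_le.mpr (show d ^ (k - i) ∈ S from hm)) hd'
      intro i hi k hk heq
      rcases le_total i k with h | h
      · exact key i k h hk heq
      · exact (key k i h hi heq.symm).symm
    have hall : ∀ k < q, ∀ u ∈ c.support.map (d ^ k).toEmbedding, u ∈ d.support := by
      intro k hk u hu
      by_contra hud
      obtain ⟨v, hv, rfl⟩ := Finset.mem_map.mp hu
      have hdv : d v = v := by
        by_contra h
        exact hud (pow_apply_mem_support.mpr (mem_support.mpr h))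
      obtain ⟨c', hc', hc's⟩ := hperm c hc 1
      rw [pow_one] at hc's
      refine hfix (hc's.trans ?_)
      rw [show c' = c from ?_]
      by_contra hne2
      refine Finset.disjoint_left.mp (hF.disjoint c' hc' c hc hne2) ?_ hv
      rw [← hc's]
      exact Finset.mem_map.mpr ⟨v, hv, hdv⟩
    have hdisj : ((Finset.range q : Finset ℕ) : Set ℕ).PairwiseDisjoint fun k => c.support.map (d ^ k).toEmbedding := by
      intro i hi k hk hne
      obtain ⟨a, ha, hae⟩ := hperm c hc i
      obtain ⟨b, hb, hbe⟩ := hperm c hc k
      show _root_.Disjoint (c.support.map (d ^ i).toEmbedding) (c.support.map (d ^ k).toEmbedding)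
      rw [hae, hbe]
      exact hF.disjoint a ha b hb fun e => hne (hinj i (Finset.mem_range.mp hi) k (Finset.mem_range.mp hk) (by rw [hae, hbe, e]))
    have h1 : (Finset.range q).biUnion (fun k => c.support.map (d ^ k).toEmbedding) ⊆ d.support :=
      Finset.biUnion_subset.mpr fun k hk u hu => hall k (Finset.mem_range.mp hk) u hu
    have h2' := Finset.card_le_card h1
    rw [Finset.card_biUnion hdisj, Finset.sum_const_nat (m := p) fun k _ => by rw [Finset.card_map, hF.card c hc],
      Finset.card_range, hdq] at h2'
    have := hp.two_le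
    have := hq.pos
    nlinarith

end H60.HallSym
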