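import Mathlib
import Cfsg.Agent.H32.AltAut
import Cfsg.Agent.H60.HallCycles
import Cfsg.Agent.H60.HallOdd

/-! Hall subgroups of alternating groups lie in Hall subgroups of symmetric groups. -/

set_option autoImplicit false
set_option linter.style.haveILetI false

namespace H60.HallAlt

open Equiv Equiv.Perm H32.AltAut

variable {α : Type*} [Fintype α] [DecidableEq α]

theorem index_eq [Nontrivial α] {M : Subgroup (Perm α)} (hMA : M ≤ alternatingGroup α) :
    M.index = M.relIndex (alternatingGroup α) * 2 := by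
  rw [← Subgroup.relIndex_mul_index hMA, alternatingGroup.index_eq_two]

/-- Swaps from a Sylow 2-subgroup, with all products of two in `M`. -/
theorem exists_swaps {M : Subgroup (Perm α)} (hMA : M ≤ alternatingGroup α)
    (h2 : ¬ 2 ∣ M.relIndex (alternatingGroup α)) :
    ∃ F : Finset (Finset α), F.card = Fintype.card α / 2 ∧ (∀ e ∈ F, e.card = 2) ∧
      (∀ e ∈ F, ∀ e' ∈ F, e ≠ e' → _root_.Disjoint e e') ∧
      ∀ a b c d : α, a ≠ b → c ≠ d → {a, b} ∈ F → {c, d} ∈ F → swap a b * swap c d ∈ M := by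
  classical
  haveI : Fact (Nat.Prime 2) := ⟨Nat.prime_two⟩
  obtain ⟨R⟩ : Nonempty (Sylow 2 M) := inferInstance
  have hRle : (R : Subgroup M).map M.subtype ≤ M := Subgroup.map_subtype_le _
  have hRodd : ¬ 2 ∣ ((R : Subgroup M).map M.subtype).relIndex (alternatingGroup α) := by
    rw [← Subgroup.relIndex_mul_relIndex _ _ _ hRle hMA]
    intro h
    rcases Nat.prime_two.dvd_mul.mp h with h | h
    · refine R.not_dvd_index (p := 2) ?_
      rwa [Subgroup.relIndex, Subgroup.subgroupOf, Subgroup.comap_map_eq_self_of_injective M.subtype_injective] at h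
    · exact h2 h
  obtain ⟨P, hP⟩ := (R.2.map M.subtype).exists_le_sylow
  have hPA : (P : Subgroup (Perm α)) ⊓ alternatingGroup α ≤ M := by
    have hRK : (R : Subgroup M).map M.subtype ≤ (P : Subgroup (Perm α)) ⊓ alternatingGroup α :=
      le_inf hP (hRle.trans hMA)
    have h1 : ((R : Subgroup M).map M.subtype).relIndex ((P : Subgroup (Perm α)) ⊓ alternatingGroup α) ∣
        ((R : Subgroup M).map M.subtype).relIndex (alternatingGroup α) :=
      Dvd.intro _ (Subgroup.relIndex_mul_relIndex _ _ _ hRK inf_le_right)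
    have h2' : ((R : Subgroup M).map M.subtype).relIndex ((P : Subgroup (Perm α)) ⊓ alternatingGroup α) ∣
        Nat.card P := (Subgroup.index_dvd_card _).trans (Subgroup.card_dvd_of_le inf_le_left)
    obtain ⟨k, hk⟩ := IsPGroup.iff_card.mp P.2
    rw [hk] at h2'
    obtain ⟨i, -, hi⟩ := (Nat.dvd_prime_pow Nat.prime_two).mp h2'
    rcases Nat.eq_zero_or_pos i with rfl | hi0
    · rw [pow_zero, Subgroup.relIndex_eq_one] at hi
      exact hi.trans hRle
    · exact absurd ((dvd_pow_self 2 (by omega)).trans (hi ▸ h1)) hRodd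
  obtain ⟨F, hFc, hF⟩ := HallSym.exists_cycleFam (P : Subgroup (Perm α)) (p := 2) (j := 1) le_rfl
    P.not_dvd_index
  rw [pow_one] at hFc hF
  have hinj : Set.InjOn Equiv.Perm.support (F : Set (Perm α)) := by
    intro c hc d hd he
    by_contra hne
    have h := hF.disjoint c hc d hd hne
    rw [he] at h
    have := hF.card d hd
    rw [_root_.disjoint_self, Finset.bot_eq_empty] at h
    rw [h] at this
    simp at this
  refine ⟨F.image Equiv.Perm.support, by rw [Finset.card_image_of_injOn hinj, hFc], ?_, ?_, ?_⟩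
  · simp only [Finset.mem_image]
    rintro _ ⟨c, hc, rfl⟩
    exact hF.card c hc
  · simp only [Finset.mem_image]
    rintro _ ⟨c, hc, rfl⟩ _ ⟨d, hd, rfl⟩ hne
    exact hF.disjoint c hc d hd fun e => hne (by rw [e])
  · intro a b c d hab hcd he he'
    have key : ∀ u v : α, u ≠ v → ({u, v} : Finset α) ∈ F.image Equiv.Perm.support →
        swap u v ∈ (P : Subgroup (Perm α)) := by
      intro u v huv hmem
      obtain ⟨f, hf, hfs⟩ := Finset.mem_image.mp hmem
      obtain ⟨x, y, hxy, rfl⟩ := card_support_eq_two.mp (hF.card f hf)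
      rw [support_swap hxy] at hfs
      have hu : u ∈ ({x, y} : Finset α) := by rw [hfs]; simp
      have hv : v ∈ ({x, y} : Finset α) := by rw [hfs]; simp
      simp only [Finset.mem_insert, Finset.mem_singleton] at hu hv
      rcases hu with rfl | rfl <;> rcases hv with rfl | rfl
      · exact absurd rfl huv
      · exact hF.mem _ hf
      · rw [swap_comm]; exact hF.mem _ hf
      · exact absurd rfl huv
    refine hPA ⟨(P : Subgroup (Perm α)).mul_mem (key a b hab he) (key c d hcd he'), ?_⟩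
    exact mem_alternatingGroup.mpr (by rw [map_mul, sign_swap hab, sign_swap hcd]; simp)

theorem three_dvd_orderOf {e : Perm α} {x : α} (h6 : (e ^ 6) x = x) (h2 : (e ^ 2) x ≠ x) :
    3 ∣ orderOf e := by
  by_contra h
  have hcop : Nat.Coprime 3 (orderOf e) := (Nat.prime_three.coprime_iff_not_dvd).mpr h
  have he : e ^ 2 ∈ Subgroup.zpowers (e ^ 6) := by
    rw [Subgroup.mem_zpowers_iff]
    refine ⟨Nat.gcdA 3 (orderOf e), ?_⟩
    have hg := Nat.gcd_eq_gcd_ab 3 (orderOf e)
    rw [hcop] at hg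
    calc (e ^ 6) ^ Nat.gcdA 3 (orderOf e)
        = (e ^ 2) ^ (((3 : ℕ) : ℤ) * Nat.gcdA 3 (orderOf e)) *
            (e ^ 2) ^ (((orderOf e : ℕ) : ℤ) * Nat.gcdB 3 (orderOf e)) := by
          have h1 : (e ^ 2) ^ (((orderOf e : ℕ) : ℤ) * Nat.gcdB 3 (orderOf e)) = 1 := by
            rw [zpow_mul, zpow_natCast, ← pow_mul, mul_comm 2, pow_mul, pow_orderOf_eq_one, one_pow, one_zpow]
          rw [h1, mul_one, zpow_mul, zpow_natCast, ← pow_mul]
      _ = e ^ 2 := by rw [← zpow_add, ← hg, Nat.cast_one, zpow_one]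
  exact h2 ((Subgroup.zpowers_le.mpr (show e ^ 6 ∈ MulAction.stabilizer (Perm α) x from h6)) he)

/-- A Hall subgroup of `A_n` containing a cycle of prime length at least five contains an element
of order three. -/
theorem three_dvd_card {M : Subgroup (Perm α)} (hMA : M ≤ alternatingGroup α)
    (h2 : ¬ 2 ∣ M.relIndex (alternatingGroup α)) (hn : 6 ≤ Fintype.card α) {c : Perm α}
    (hc : c.IsCycle) (hcM : c ∈ M) (hq : c.support.card.Prime) (hq5 : 5 ≤ c.support.card) :
    3 ∣ Nat.card M := by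
  classical
  obtain ⟨F, hFc, hF2, hFd, hFM⟩ := exists_swaps hMA h2
  have hmove : ∃ e ∈ F, e.image c ∉ F := by
    by_contra hcon
    push Not at hcon
    obtain ⟨x, hx, hxe⟩ : ∃ x ∈ c.support, ∃ e ∈ F, x ∈ e := by
      by_contra hno
      push Not at hno
      have hdis : c.support ⊆ (F.biUnion fun e => e)ᶜ := fun z hz => Finset.mem_compl.mpr fun hz' => by
        obtain ⟨e, he, hze⟩ := Finset.mem_biUnion.mp hz'
        exact hno z hz e he hze
      have h1 := Finset.card_le_card hdis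
      rw [Finset.card_compl, Finset.card_biUnion (fun a ha b hb hne => hFd a ha b hb hne),
        Finset.sum_const_nat (m := 2) (fun a ha => hF2 a ha), hFc] at h1
      omega
    obtain ⟨e, he, hxe⟩ := hxe
    have hiter : ∀ i : ℕ, e.image ⇑(c ^ i) ∈ F := by
      intro i
      induction i with
      | zero => simpa using he
      | succ i ih =>
        rw [pow_succ', Perm.coe_mul, ← Finset.image_image]
        exact hcon _ ih
    obtain ⟨y, hye, hyx⟩ := Finset.exists_mem_ne (by rw [hF2 e he]; norm_num) x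
    have hexy : e = {x, y} := by
      refine (Finset.eq_of_subset_of_card_le (fun z hz => ?_) ?_).symm
      · simp only [Finset.mem_insert, Finset.mem_singleton] at hz
        rcases hz with rfl | rfl <;> assumption
      · rw [hF2 e he, Finset.card_pair hyx.symm]
    have hcx : e.image c = e → False := by
      intro h
      have h1 : c x ∈ e := h ▸ Finset.mem_image_of_mem c hxe
      have h2' : c (c x) ∈ e := h ▸ Finset.mem_image_of_mem c h1
      rw [hexy, Finset.mem_insert, Finset.mem_singleton] at h1 h2'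
      have hne1 : c x ≠ x := mem_support.mp hx
      have hcc : c (c x) = x := by
        rcases h2' with h3 | h3
        · exact h3
        · exact absurd (c.injective (h3.trans (h1.resolve_left hne1).symm)) hne1
      have hdvd : orderOf c ∣ 2 := orderOf_dvd_of_pow_eq_one (hc.pow_eq_one_iff.mpr
        ⟨x, hne1, by rw [sq, Perm.mul_apply, hcc]⟩)
      rw [hc.orderOf] at hdvd
      have := Nat.le_of_dvd two_pos hdvd
      omega
    have hys : y ∈ c.support := by
      by_contra hy
      refine hcx ?_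
      by_contra hne
      refine Finset.disjoint_left.mp (hFd _ (hcon e he) e he hne) ?_ hye
      exact Finset.mem_image.mpr ⟨y, hye, notMem_support.mp hy⟩
    obtain ⟨i, hi⟩ := hc.exists_pow_eq (mem_support.mp hx) (mem_support.mp hys)
    have hfix : e.image ⇑(c ^ i) = e := by
      by_contra hne
      refine Finset.disjoint_left.mp (hFd _ (hiter i) e he hne) ?_ hye
      exact Finset.mem_image.mpr ⟨x, hxe, hi⟩
    have hback : (c ^ i) y = x := by
      have h1 : (c ^ i) y ∈ e := hfix ▸ Finset.mem_image_of_mem _ hye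
      rw [hexy, Finset.mem_insert, Finset.mem_singleton] at h1
      exact h1.resolve_right fun h => hyx ((c ^ i).injective (h.trans hi.symm))
    have hd : orderOf c ∣ i + i := orderOf_dvd_of_pow_eq_one (hc.pow_eq_one_iff.mpr
      ⟨x, mem_support.mp hx, by rw [pow_add, Perm.mul_apply, hi, hback]⟩)
    rw [hc.orderOf] at hd
    have hi' : c.support.card ∣ i := by
      refine (hq.dvd_mul.mp (by rwa [two_mul] : c.support.card ∣ 2 * i)).resolve_left fun h => ?_
      have := Nat.le_of_dvd two_pos h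
      omega
    rw [← hc.orderOf, orderOf_dvd_iff_pow_eq_one] at hi'
    rw [hi', Perm.one_apply] at hi
    exact hyx hi.symm
  obtain ⟨e, he, hne⟩ := hmove
  obtain ⟨u, v, huv, rfl⟩ := Finset.card_eq_two.mp (hF2 e he)
  set a := c u
  set f := c v
  have haf : a ≠ f := fun h => huv (c.injective h)
  have himg : ({u, v} : Finset α).image c = {a, f} := by simp [a, f]
  rw [himg] at hne
  -- the image pairs
  have hsum : (F.biUnion fun e => e).card = 2 * F.card := by
    rw [Finset.card_biUnion (fun a ha b hb hne => hFd a ha b hb hne),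
      Finset.sum_const_nat (m := 2) (fun a ha => hF2 a ha), mul_comm]
  have hcov : ∃ z ∈ ({a, f} : Finset α), ∃ w, w ≠ z ∧ {z, w} ∈ F := by
    by_contra hcon
    push Not at hcon
    have hsub : ({a, f} : Finset α) ⊆ (F.biUnion fun e => e)ᶜ := by
      intro z hz
      refine Finset.mem_compl.mpr fun hz' => ?_
      obtain ⟨g, hg, hzg⟩ := Finset.mem_biUnion.mp hz'
      obtain ⟨p, q, hpq, rfl⟩ := Finset.card_eq_two.mp (hF2 g hg)
      simp only [Finset.mem_insert, Finset.mem_singleton] at hzg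
      rcases hzg with rfl | rfl
      · exact hcon z hz q hpq.symm hg
      · exact hcon z hz p hpq (by rwa [Finset.pair_comm])
    have h1 := Finset.card_le_card hsub
    rw [Finset.card_compl, hsum, Finset.card_pair haf, hFc] at h1
    omega
  obtain ⟨z, hz, b, hbz, hzb⟩ := hcov
  -- orient the image pair as `{z, f'}`
  obtain ⟨z₀, f₀, hz₀, hzf, himg'⟩ : ∃ z₀ f₀ : α, c z₀ = z ∧ z₀ ≠ f₀ ∧ ({z₀, f₀} : Finset α) = {u, v} := by
    rcases Finset.mem_insert.mp hz with rfl | h
    · exact ⟨u, v, rfl, huv, rfl⟩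
    · rw [Finset.mem_singleton] at h
      subst h
      exact ⟨v, u, rfl, huv.symm, Finset.pair_comm v u⟩
  set g₀ := c f₀ with hg₀
  have hzg : z ≠ g₀ := fun h => hzf (c.injective (hz₀.trans h))
  have hzgF : ({z, g₀} : Finset α) ∉ F := by
    have : ({z, g₀} : Finset α) = {a, f} := by
      rw [← himg, ← himg']; simp [hz₀, hg₀]
    rwa [this]
  have hgb : g₀ ≠ b := fun h => hzgF (h ▸ hzb)
  -- partners
  obtain ⟨p, hp, hpz, hpg⟩ : ∃ p ∈ F, p ≠ {z, b} ∧ g₀ ∉ p := by
    by_contra hcon
    push Not at hcon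
    have hle : (F.erase {z, b}).card ≤ 1 := Finset.card_le_one.mpr fun p hp p' hp' => by
      rw [Finset.mem_erase] at hp hp'
      by_contra hne'
      exact Finset.disjoint_left.mp (hFd p hp.2 p' hp'.2 hne') (hcon p hp.2 hp.1) (hcon p' hp'.2 hp'.1)
    rw [Finset.card_erase_of_mem hzb, hFc] at hle
    omega
  obtain ⟨q', hq', hqz, hqb⟩ : ∃ q' ∈ F, q' ≠ ({u, v} : Finset α) ∧ c⁻¹ b ∉ q' := by
    by_contra hcon
    push Not at hcon
    have hle : (F.erase {u, v}).card ≤ 1 := Finset.card_le_one.mpr fun p hp p' hp' => by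
      rw [Finset.mem_erase] at hp hp'
      by_contra hne'
      exact Finset.disjoint_left.mp (hFd p hp.2 p' hp'.2 hne') (hcon p hp.2 hp.1) (hcon p' hp'.2 hp'.1)
    rw [Finset.card_erase_of_mem he, hFc] at hle
    omega
  obtain ⟨p₁, p₂, hp12, rfl⟩ := Finset.card_eq_two.mp (hF2 p hp)
  obtain ⟨r₁, r₂, hr12, rfl⟩ := Finset.card_eq_two.mp (hF2 q' hq')
  have hd1 : swap z b * swap p₁ p₂ ∈ M := hFM z b p₁ p₂ hbz.symm hp12 hzb hp
  have hd2 : swap z g₀ * swap (c r₁) (c r₂) ∈ M := by
    have h := M.mul_mem (M.mul_mem hcM (hFM z₀ f₀ r₁ r₂ hzf hr12 (himg' ▸ he) hq')) (M.inv_mem hcM)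
    rwa [← conj_mul, ← swap_apply_apply, ← swap_apply_apply, hz₀] at h
  set d := swap z b * swap p₁ p₂
  set d' := swap z g₀ * swap (c r₁) (c r₂)
  have dz1 := Finset.disjoint_left.mp (hFd _ hp _ hzb hpz)
  simp only [Finset.mem_insert, Finset.mem_singleton, not_or] at dz1 hpg hqb
  obtain ⟨h11, h12⟩ := dz1 (a := p₁) (Or.inl rfl)
  obtain ⟨h21, h22⟩ := dz1 (a := p₂) (Or.inr rfl)
  have dz2 := Finset.disjoint_left.mp (hFd _ hq' _ he hqz)
  rw [← himg'] at dz2
  simp only [Finset.mem_insert, Finset.mem_singleton, not_or] at dz2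
  obtain ⟨k11, k12⟩ := dz2 (a := r₁) (Or.inl rfl)
  obtain ⟨k21, k22⟩ := dz2 (a := r₂) (Or.inr rfl)
  have hcz : ∀ r : α, r ≠ z₀ → z ≠ c r := fun r hr h => hr (c.injective (h.symm.trans hz₀.symm))
  have hcg : ∀ r : α, r ≠ f₀ → g₀ ≠ c r := fun r hr h => hr (c.injective h.symm)
  have hcb : ∀ r : α, c⁻¹ b ≠ r → b ≠ c r := fun r hr h => hr (by rw [h]; simp)
  have dz : d z = b := by
    simp only [d, Perm.mul_apply]
    rw [swap_apply_of_ne_of_ne (Ne.symm h11) (Ne.symm h21), swap_apply_left]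
  have db : d b = z := by
    simp only [d, Perm.mul_apply]
    rw [swap_apply_of_ne_of_ne (Ne.symm h12) (Ne.symm h22), swap_apply_right]
  have dg : d g₀ = g₀ := by
    simp only [d, Perm.mul_apply]
    rw [swap_apply_of_ne_of_ne hpg.1 hpg.2, swap_apply_of_ne_of_ne hzg.symm hgb]
  have d'z : d' z = g₀ := by
    simp only [d', Perm.mul_apply]
    rw [swap_apply_of_ne_of_ne (hcz r₁ k11) (hcz r₂ k21), swap_apply_left]
  have d'g : d' g₀ = z := by
    simp only [d', Perm.mul_apply]
    rw [swap_apply_of_ne_of_ne (hcg r₁ k12) (hcg r₂ k22), swap_apply_right]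
  have d'b : d' b = b := by
    simp only [d', Perm.mul_apply]
    rw [swap_apply_of_ne_of_ne (hcb r₁ hqb.1) (hcb r₂ hqb.2), swap_apply_of_ne_of_ne hbz hgb.symm]
  refine (three_dvd_orderOf (e := d * d') (x := z) ?_ ?_).trans
    (Subgroup.orderOf_dvd_natCard M (M.mul_mem hd1 hd2))
  · simp [pow_succ, Perm.mul_apply, dz, db, dg, d'z, d'g, d'b]
  · simp [pow_succ, Perm.mul_apply, dz, db, dg, d'z, d'g, d'b, hbz]

/-- `y` is joined to `x` by a three-cycle of `M`. -/
def Rel (M : Subgroup (Perm α)) (x y : α) : Prop :=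
  x = y ∨ ∃ c ∈ M, c.IsThreeCycle ∧ c x = y

theorem rel_symm {M : Subgroup (Perm α)} {x y : α} (h : Rel M x y) : Rel M y x := by
  rcases h with rfl | ⟨c, hc, h3, rfl⟩
  · exact Or.inl rfl
  · exact Or.inr ⟨c⁻¹, M.inv_mem hc, h3.inv, by simp⟩

theorem rel_trans {M : Subgroup (Perm α)} {x y z : α} (h1 : Rel M x y) (h2 : Rel M y z) : Rel M x z := by
  rcases h1 with rfl | ⟨c, hc, hc3, rfl⟩
  · exact h2
  rcases h2 with rfl | ⟨d, hd, hd3, rfl⟩
  · exact Or.inr ⟨c, hc, hc3, rfl⟩
  by_cases hcx : c x = x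
  · exact Or.inr ⟨d, hd, hd3, by rw [hcx]⟩
  by_cases hdc : d (c x) = c x
  · exact Or.inr ⟨c, hc, hc3, hdc.symm⟩
  by_cases hdx : d x = x
  · refine Or.inr ⟨d * c * d⁻¹, M.mul_mem (M.mul_mem hd hc) (M.inv_mem hd), ?_, ?_⟩
    · rw [Perm.IsThreeCycle, cycleType_conj]; exact hc3
    · have : d⁻¹ x = x := by
        conv_lhs => rw [← hdx]
        simp
      simp only [Perm.mul_apply, this]
  · obtain ⟨i, hi⟩ := hd3.isCycle.exists_pow_eq hdx (show d (d (c x)) ≠ d (c x) from fun h => hdc (d.injective h))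
    by_cases he : d (c x) = x
    · exact Or.inl he.symm
    refine Or.inr ?_
    have h3 : d ^ 3 = 1 := by rw [← hd3.orderOf]; exact pow_orderOf_eq_one d
    rw [← Nat.div_add_mod i 3, pow_add, pow_mul, h3, one_pow, one_mul] at hi
    rcases (show i % 3 = 0 ∨ i % 3 = 1 ∨ i % 3 = 2 by omega) with h | h | h <;> rw [h] at hi
    · exact absurd hi.symm he
    · exact ⟨d, hd, hd3, by simpa using hi⟩
    · exact ⟨d ^ 2, M.pow_mem hd 2, hd3.isThreeCycle_sq, hi⟩

theorem rel_map {M : Subgroup (Perm α)} {g : Perm α} (hg : g ∈ M) {x y : α} (h : Rel M x y) :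
    Rel M (g x) (g y) := by
  rcases h with rfl | ⟨c, hc, hc3, rfl⟩
  · exact Or.inl rfl
  · refine Or.inr ⟨g * c * g⁻¹, M.mul_mem (M.mul_mem hg hc) (M.inv_mem hg), ?_, by simp⟩
    rw [Perm.IsThreeCycle, cycleType_conj]; exact hc3

theorem rel_of_mem_support {M : Subgroup (Perm α)} {c : Perm α} (hc : c ∈ M) (h3 : c.IsThreeCycle)
    {x y : α} (hx : x ∈ c.support) (hy : y ∈ c.support) : Rel M x y := by
  obtain ⟨i, rfl⟩ := h3.isCycle.exists_pow_eq (mem_support.mp hx) (mem_support.mp hy)
  clear hy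
  induction i with
  | zero => exact Or.inl (by simp)
  | succ i ih =>
    rw [pow_succ', Perm.mul_apply]
    exact rel_trans ih (Or.inr ⟨c, hc, h3, rfl⟩)

end H60.HallAlt
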