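import Mathlib
import Cfsg.Agent.H60.HallAlt

/-! The lift of a Hall subgroup of `A_n` to a Hall subgroup of `S_n`. -/

set_option autoImplicit false
set_option linter.style.haveILetI false

namespace H60.HallAlt

open Equiv Equiv.Perm H32.AltAut

variable {α : Type*} [Fintype α] [DecidableEq α]

theorem tcyc_rot {x y z : α} (xy : x ≠ y) (xz : x ≠ z) (yz : y ≠ z) :
    tcyc y z x = tcyc x y z := by
  obtain ⟨-, -, -, -, h⟩ := eq_tcyc (tcyc_isThreeCycle xy xz yz)
    (show tcyc x y z y ≠ y by rw [tcyc_snd]; exact yz.symm)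
  rw [tcyc_snd, tcyc_thd xz yz] at h
  exact h.symm

theorem tcyc_inv {x y z : α} (xy : x ≠ y) (xz : x ≠ z) (yz : y ≠ z) :
    tcyc x z y = (tcyc x y z)⁻¹ := by
  have h3 := (tcyc_isThreeCycle xy xz yz).inv
  have hx : (tcyc x y z)⁻¹ x = z := by
    rw [Perm.coe_inv, symm_apply_eq, tcyc_thd xz yz]
  have hz : (tcyc x y z)⁻¹ z = y := by
    rw [Perm.coe_inv, symm_apply_eq, tcyc_snd]
  obtain ⟨-, -, -, -, h⟩ := eq_tcyc h3 (show (tcyc x y z)⁻¹ x ≠ x by rw [hx]; exact xz.symm)
  rw [hx, hz] at h
  exact h.symm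

/-- All three-cycles inside `S` belong to `M`. -/
def Good (M : Subgroup (Perm α)) (S : Finset α) : Prop :=
  ∀ x ∈ S, ∀ y ∈ S, ∀ z ∈ S, x ≠ y → x ≠ z → y ≠ z → tcyc x y z ∈ M

theorem good_support {M : Subgroup (Perm α)} {c : Perm α} (hc : c ∈ M) (h3 : c.IsThreeCycle) :
    Good M c.support := by
  intro x hx y hy z hz xy xz yz
  obtain ⟨a1, a2, a3, ha, he⟩ := eq_tcyc h3 (mem_support.mp hx)
  have hsup : ∀ w ∈ c.support, w = x ∨ w = c x ∨ w = c (c x) := by
    intro w hw
    by_contra h
    push Not at h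
    exact mem_support.mp hw (by rw [he]; exact tcyc_other h.1 h.2.1 h.2.2)
  rcases hsup y hy with rfl | rfl | rfl
  · exact absurd rfl xy
  · rcases hsup z hz with rfl | rfl | rfl
    · exact absurd rfl xz
    · exact absurd rfl yz
    · exact he ▸ hc
  · rcases hsup z hz with rfl | rfl | rfl
    · exact absurd rfl xz
    · rw [tcyc_inv a1 a2 a3, ← he]; exact M.inv_mem hc
    · exact absurd rfl yz

theorem good_insert {M : Subgroup (Perm α)} {S : Finset α} (hS : Good M S) {y p q : α} (hy : y ∉ S)
    (hp : p ∈ S) (hq : q ∈ S) (hpq : p ≠ q) (h : tcyc y p q ∈ M) : Good M (insert y S) := by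
  have ne_y : ∀ u ∈ S, y ≠ u := fun u hu h => hy (h ▸ hu)
  have hsym : ∀ p ∈ S, ∀ q ∈ S, p ≠ q → tcyc y p q ∈ M → tcyc y q p ∈ M := by
    intro p hp q hq hpq h
    rw [tcyc_inv (ne_y p hp) (ne_y q hq) hpq]
    exact M.inv_mem h
  have hstep : ∀ p ∈ S, ∀ q ∈ S, ∀ r ∈ S, p ≠ q → r ≠ p → r ≠ q → tcyc y p q ∈ M → tcyc y r p ∈ M := by
    intro p hp q hq r hr hpq hrp hrq h
    have ht := hS p hp r hr q hq hrp.symm hpq hrq
    have h1 := M.mul_mem (M.mul_mem ht h) (M.inv_mem ht)
    rwa [tcyc_conj, tcyc_other (ne_y p hp) (ne_y r hr) (ne_y q hq), tcyc_fst hrp.symm hrq,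
      tcyc_thd hpq hrq] at h1
  have hleft : ∀ r ∈ S, ∃ s ∈ S, r ≠ s ∧ tcyc y r s ∈ M := by
    intro r hr
    by_cases hrp : r = p
    · exact ⟨q, hq, hrp ▸ hpq, hrp ▸ h⟩
    by_cases hrq : r = q
    · exact ⟨p, hp, hrp, hrq ▸ hsym p hp q hq hpq h⟩
    exact ⟨p, hp, hrp, hstep p hp q hq r hr hpq hrp hrq h⟩
  have hall : ∀ r ∈ S, ∀ t ∈ S, r ≠ t → tcyc y r t ∈ M := by
    intro r hr t ht hrt
    obtain ⟨s, hs, hrs, h1⟩ := hleft r hr
    by_cases hts : t = s
    · exact hts ▸ h1
    exact hsym t ht r hr hrt.symm (hstep r hr s hs t ht hrs hrt.symm hts h1)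
  intro u hu v hv w hw uv uw vw
  rw [Finset.mem_insert] at hu hv hw
  rcases hu with rfl | hu
  · exact hall v (hv.resolve_left uv.symm) w (hw.resolve_left uw.symm) vw
  rcases hv with rfl | hv
  · rw [← tcyc_rot uv uw vw]
    exact hall w (hw.resolve_left vw.symm) u hu uw.symm
  rcases hw with rfl | hw
  · rw [tcyc_rot uw.symm vw.symm uv]
    exact hall u hu v hv uv
  exact hS u hu v hv w hw uv uw vw

/-- The class of `x` under `Rel`. -/
noncomputable def cl (M : Subgroup (Perm α)) (x : α) : Finset α :=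
  letI := Classical.decPred (Rel M x)
  Finset.univ.filter (Rel M x)

theorem mem_cl {M : Subgroup (Perm α)} {x y : α} : y ∈ cl M x ↔ Rel M x y := by
  classical
  simp [cl]

theorem mem_cl_self (M : Subgroup (Perm α)) (x : α) : x ∈ cl M x := mem_cl.mpr (Or.inl rfl)

theorem cl_eq {M : Subgroup (Perm α)} {x y : α} (h : y ∈ cl M x) : cl M y = cl M x :=
  Finset.ext fun _ => ⟨fun hz => mem_cl.mpr (rel_trans (mem_cl.mp h) (mem_cl.mp hz)),
    fun hz => mem_cl.mpr (rel_trans (rel_symm (mem_cl.mp h)) (mem_cl.mp hz))⟩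

theorem image_cl {M : Subgroup (Perm α)} {g : Perm α} (hg : g ∈ M) (x : α) :
    (cl M x).image g = cl M (g x) := by
  ext z
  rw [Finset.mem_image]
  constructor
  · rintro ⟨y, hy, rfl⟩; exact mem_cl.mpr (rel_map hg (mem_cl.mp hy))
  · intro hz
    exact ⟨g⁻¹ z, mem_cl.mpr (by simpa using rel_map (M.inv_mem hg) (mem_cl.mp hz)), by simp⟩

theorem card_cl_apply {M : Subgroup (Perm α)} {g : Perm α} (hg : g ∈ M) (x : α) :
    (cl M (g x)).card = (cl M x).card := by
  rw [← image_cl hg x, Finset.card_image_of_injective _ g.injective]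

theorem good_cl {M : Subgroup (Perm α)} {x : α} (h : 3 ≤ (cl M x).card) : Good M (cl M x) := by
  classical
  obtain ⟨y, hy, hyx⟩ := Finset.exists_mem_ne (show 1 < (cl M x).card by omega) x
  obtain ⟨c, hc, hc3, hcx⟩ : ∃ c ∈ M, c.IsThreeCycle ∧ c x = y :=
    (mem_cl.mp hy).resolve_left hyx.symm
  have hsub : c.support ⊆ cl M x := fun z hz => mem_cl.mpr (rel_of_mem_support hc hc3
    (mem_support.mpr (by rw [hcx]; exact hyx)) hz)
  obtain ⟨S, hS, hSmax⟩ := Finset.exists_max_image
    ((cl M x).powerset.filter fun S => Good M S ∧ 3 ≤ S.card) Finset.card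
    ⟨c.support, Finset.mem_filter.mpr ⟨Finset.mem_powerset.mpr hsub, good_support hc hc3,
      hc3.card_support.ge⟩⟩
  rw [Finset.mem_filter, Finset.mem_powerset] at hS
  obtain ⟨hSC, hgood, hS3⟩ := hS
  suffices S = cl M x from this ▸ hgood
  refine le_antisymm hSC fun z hz => ?_
  by_contra hzS
  obtain ⟨a, ha⟩ : S.Nonempty := Finset.card_pos.mp (by omega)
  have haz : Rel M a z := rel_trans (rel_symm (mem_cl.mp (hSC ha))) (mem_cl.mp hz)
  obtain ⟨d, hd, hd3, hda⟩ := haz.resolve_left fun h : a = z => hzS (h ▸ ha)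
  have hmove : d a ≠ a := by rw [hda]; exact fun h => hzS (h ▸ ha)
  obtain ⟨n1, n2, n3, -, he⟩ := eq_tcyc hd3 hmove
  rw [hda] at n1 n2 n3 he
  obtain ⟨p, hp, q, hq, hpq, hmem⟩ : ∃ p ∈ S, ∃ q ∈ S, p ≠ q ∧ tcyc z p q ∈ M := by
    by_cases hw : d z ∈ S
    · exact ⟨d z, hw, a, ha, n2.symm, by rw [tcyc_rot n1 n2 n3, ← he]; exact hd⟩
    · obtain ⟨b, hb, hba⟩ := Finset.exists_mem_ne (show 1 < S.card by omega) a
      obtain ⟨b', hb', hb'b⟩ := Finset.exists_mem_ne
        (show 1 < (S.erase a).card by rw [Finset.card_erase_of_mem ha]; omega) b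
      rw [Finset.mem_erase] at hb'
      have hfix : ∀ u ∈ S, u ≠ a → d u = u := fun u hu hua => by
        rw [he]
        exact tcyc_other hua (fun h => hzS (h ▸ hu)) (fun h => hw (h ▸ hu))
      refine ⟨b, hb, b', hb'.2, hb'b.symm, ?_⟩
      have h1 := M.mul_mem (M.mul_mem hd (hgood a ha b hb b' hb'.2 hba.symm hb'.1.symm hb'b.symm))
        (M.inv_mem hd)
      rwa [tcyc_conj, hda, hfix b hb hba, hfix b' hb'.2 hb'.1] at h1
  have hle := hSmax (insert z S) (Finset.mem_filter.mpr ⟨Finset.mem_powerset.mpr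
    (Finset.insert_subset hz hSC), good_insert hgood hzS hp hq hpq hmem,
    le_trans hS3 (Finset.card_le_card (Finset.subset_insert _ _))⟩)
  rw [Finset.card_insert_of_notMem hzS] at hle
  omega

theorem prime_dvd_of_le_cl {M : Subgroup (Perm α)} {x : α} {r : ℕ} (hr : r.Prime) (hr2 : r ≠ 2)
    (h : r ≤ (cl M x).card) : r ∣ Nat.card M := by
  classical
  have hr3 : 3 ≤ r := by have := hr.two_le; omega
  have hgood := good_cl (M := M) (x := x) (by omega)
  obtain ⟨σ, hσ, hct, -⟩ := H60.exists_perm_replicate (α := {y // y ∈ cl M x}) hr le_rfl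
    (by rw [Fintype.card_coe]; omega)
  let φ : Perm {y // y ∈ cl M x} →* Perm α := Equiv.Perm.ofSubtype
  have hσA : σ ∈ alternatingGroup {y // y ∈ cl M x} := by
    rw [mem_alternatingGroup, sign_of_cycleType_eq_replicate hr.pos
      (by rw [hct, Multiset.card_replicate]), if_pos (hr.odd_of_ne_two hr2)]
  have hle : alternatingGroup {y // y ∈ cl M x} ≤ M.comap φ := by
    rw [← closure_three_cycles_eq_alternating, Subgroup.closure_le]
    intro u hu
    obtain ⟨w, hw⟩ : ∃ w, u w ≠ w := by
      have h3 := Perm.IsThreeCycle.card_support hu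
      obtain ⟨w, hw⟩ : u.support.Nonempty := Finset.card_pos.mp (by omega)
      exact ⟨w, mem_support.mp hw⟩
    obtain ⟨n1, n2, n3, -, he⟩ := eq_tcyc hu hw
    show φ u ∈ M
    rw [he]
    simp only [tcyc, map_mul]
    rw [show φ (swap w (u (u w))) = swap (w : α) (u (u w) : α) from ofSubtype_swap_eq _ _,
      show φ (swap w (u w)) = swap (w : α) (u w : α) from ofSubtype_swap_eq _ _]
    exact hgood _ w.2 _ (u w).2 _ (u (u w)).2 (fun e => n1 (Subtype.ext e)) (fun e => n2 (Subtype.ext e))
      (fun e => n3 (Subtype.ext e))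
  have := Subgroup.orderOf_dvd_natCard M (show φ σ ∈ M from hle hσA)
  rwa [orderOf_injective φ Equiv.Perm.ofSubtype_injective, hσ] at this

/-- A Hall subgroup of `A_n` with `2` and `3` lies in a `π`-subgroup of `S_n` with an odd element. -/
theorem exists_lift {π : Set ℕ} {M : Subgroup (Perm α)} (hMA : M ≤ alternatingGroup α)
    (hn : 5 ≤ Fintype.card α)
    (hH : ∀ r : ℕ, r.Prime → r ∣ Nat.card M → r ∈ π)
    (hI : ∀ r : ℕ, r.Prime → r ∈ π → ¬ r ∣ M.relIndex (alternatingGroup α))
    (h2 : 2 ∈ π) (h3 : 3 ∈ π) :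
    ∃ K : Subgroup (Perm α), M ≤ K ∧ (∀ r : ℕ, r.Prime → r ∣ Nat.card K → r ∈ π) ∧
      ∃ g ∈ K, g ∉ alternatingGroup α := by
  classical
  haveI : Nontrivial α := Fintype.one_lt_card_iff_nontrivial.mp (by omega)
  haveI : Fact (Nat.Prime 3) := ⟨Nat.prime_three⟩
  have hidx3 : ¬ 3 ∣ M.index := by
    rw [index_eq hMA]
    exact fun h => (Nat.prime_three.dvd_mul.mp h).elim (hI 3 Nat.prime_three h3) (by norm_num)
  obtain ⟨F, hFc, hF⟩ := HallSym.exists_cycleFam M (p := 3) (j := 1) le_rfl hidx3
  rw [pow_one] at hFc hF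
  have hF3 : ∀ c ∈ F, c.IsThreeCycle := fun c hc => card_support_eq_three_iff.mp (hF.card c hc)
  -- at most two points have small classes
  have hsmall : ∀ S : Finset α, (∀ z ∈ S, (cl M z).card < 3) → S.card ≤ 2 := by
    intro S hS
    have hdis : S ⊆ (F.biUnion Equiv.Perm.support)ᶜ := fun z hz => Finset.mem_compl.mpr fun hz' => by
      obtain ⟨c, hc, hzc⟩ := Finset.mem_biUnion.mp hz'
      have hsub : c.support ⊆ cl M z := fun w hw =>
        mem_cl.mpr (rel_of_mem_support (hF.mem c hc) (hF3 c hc) hzc hw)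
      have := Finset.card_le_card hsub
      have := hS z hz
      rw [hF.card c hc] at *
      omega
    have h1 := Finset.card_le_card hdis
    rw [Finset.card_compl, Finset.card_biUnion (fun a ha b hb hne => hF.disjoint a ha b hb hne),
      Finset.sum_const_nat hF.card, hFc] at h1
    omega
  -- at most one large class of odd size
  obtain ⟨E, hEc, hE2, hEd, hEM⟩ := exists_swaps hMA (hI 2 Nat.prime_two h2)
  have hinside : ∀ a b : α, a ≠ b → ({a, b} : Finset α) ∈ E → 3 ≤ (cl M a).card → b ∈ cl M a := by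
    intro a b hab he h3a
    by_contra hb
    obtain ⟨e', he', hne⟩ : ∃ e' ∈ E, e' ≠ {a, b} := Finset.exists_mem_ne (by omega) _
    obtain ⟨c, d, hcd, rfl⟩ := Finset.card_eq_two.mp (hE2 e' he')
    have hdis := Finset.disjoint_left.mp (hEd _ he' _ he hne)
    simp only [Finset.mem_insert, Finset.mem_singleton, not_or] at hdis
    obtain ⟨hca, hcb⟩ := hdis (a := c) (Or.inl rfl)
    obtain ⟨hda, hdb⟩ := hdis (a := d) (Or.inr rfl)
    set g := swap a b * swap c d with hg
    have hgM : g ∈ M := hEM a b c d hab hcd he he'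
    have hga : g a = b := by
      simp only [hg, Perm.mul_apply]
      rw [swap_apply_of_ne_of_ne (Ne.symm hca) (Ne.symm hda), swap_apply_left]
    have himg : (cl M a).image g = cl M b := by rw [image_cl hgM, hga]
    have hdisj : _root_.Disjoint (cl M a) (cl M b) := Finset.disjoint_left.mpr fun z hz hz' =>
      hb (((cl_eq hz).symm.trans (cl_eq hz')) ▸ mem_cl_self M b)
    have hsupp : ∀ z ∈ cl M a ∪ cl M b, z ∈ ({a, b, c, d} : Finset α) := by
      intro z hz
      by_contra hno
      simp only [Finset.mem_insert, Finset.mem_singleton, not_or] at hno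
      have hfix : g z = z := by
        simp only [hg, Perm.mul_apply]
        rw [swap_apply_of_ne_of_ne hno.2.2.1 hno.2.2.2, swap_apply_of_ne_of_ne hno.1 hno.2.1]
      rcases Finset.mem_union.mp hz with h | h
      · exact Finset.disjoint_left.mp hdisj h (himg ▸ Finset.mem_image.mpr ⟨z, h, hfix⟩)
      · rw [← himg] at h
        obtain ⟨w, hw, hwz⟩ := Finset.mem_image.mp h
        have : w = z := g.injective (hwz.trans hfix.symm)
        subst this
        exact Finset.disjoint_left.mp hdisj hw (himg ▸ Finset.mem_image.mpr ⟨w, hw, hfix⟩)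
    have h1 := Finset.card_le_card (fun z hz => hsupp z hz : cl M a ∪ cl M b ⊆ ({a, b, c, d} : Finset α))
    rw [Finset.card_union_of_disjoint hdisj] at h1
    have h2' : (cl M b).card = (cl M a).card := by
      rw [← himg, Finset.card_image_of_injective _ g.injective]
    have h3' : ({a, b, c, d} : Finset α).card ≤ 4 := Finset.card_le_four
    omega
  have hodd : ∀ x y : α, 3 ≤ (cl M x).card → 3 ≤ (cl M y).card → Odd (cl M x).card →
      Odd (cl M y).card → cl M x = cl M y := by
    have hout : ∀ x : α, 3 ≤ (cl M x).card → Odd (cl M x).card → ∃ z ∈ cl M x, z ∉ E.biUnion fun e => e := by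
      intro x h3x hox
      by_contra hcon
      push Not at hcon
      have heq : cl M x = (E.filter fun e => e ⊆ cl M x).biUnion fun e => e := by
        refine le_antisymm (fun z hz => ?_)
          (Finset.biUnion_subset.mpr fun e he => (Finset.mem_filter.mp he).2)
        obtain ⟨e, he, hze⟩ := Finset.mem_biUnion.mp (hcon z hz)
        obtain ⟨a, b, hab, rfl⟩ := Finset.card_eq_two.mp (hE2 e he)
        refine Finset.mem_biUnion.mpr ⟨{a, b}, Finset.mem_filter.mpr ⟨he, fun w hw => ?_⟩, hze⟩
        rw [← cl_eq hz] at h3x ⊢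
        simp only [Finset.mem_insert, Finset.mem_singleton] at hze hw
        rcases hze with rfl | rfl
        · rcases hw with rfl | rfl
          · exact mem_cl_self M _
          · exact hinside _ _ hab he h3x
        · rcases hw with rfl | rfl
          · exact hinside _ _ hab.symm (by rwa [Finset.pair_comm]) h3x
          · exact mem_cl_self M _
      rw [heq, Finset.card_biUnion (fun c hc d hd hne => hEd c (Finset.mem_filter.mp hc).1 d
        (Finset.mem_filter.mp hd).1 hne),
        Finset.sum_const_nat (m := 2) fun c hc => hE2 c (Finset.mem_filter.mp hc).1] at hox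
      exact Nat.not_even_iff_odd.mpr hox ⟨_, by ring⟩
    intro x y hx hy hox hoy
    obtain ⟨a, ha, haU⟩ := hout x hx hox
    obtain ⟨b, hb, hbU⟩ := hout y hy hoy
    have h1 : (E.biUnion fun e => e)ᶜ.card ≤ 1 := by
      rw [Finset.card_compl, Finset.card_biUnion (fun a ha b hb hne => hEd a ha b hb hne),
        Finset.sum_const_nat (m := 2) (fun a ha => hE2 a ha), hEc]
      omega
    rw [Finset.card_le_one.mp h1 a (Finset.mem_compl.mpr haU) b (Finset.mem_compl.mpr hbU)] at ha
    exact (cl_eq ha).symm.trans (cl_eq hb)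
  -- the stabiliser of the classes
  let K : Subgroup (Perm α) :=
    { carrier := {g | ∀ u v, Rel M (g u) (g v) ↔ Rel M u v}
      one_mem' := fun u v => Iff.rfl
      mul_mem' := fun {a b} ha hb u v => (ha (b u) (b v)).trans (hb u v)
      inv_mem' := fun {a} ha u v => by
        have := ha (a⁻¹ u) (a⁻¹ v)
        simp only [Perm.coe_inv, apply_symm_apply] at this ⊢
        exact this.symm }
  refine ⟨K, fun g hg u v => ⟨fun h => ?_, rel_map hg⟩, ?_, ?_⟩
  · have := rel_map (M.inv_mem hg) h
    simpa using this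
  · intro r hr hd
    by_contra hrπ
    have hr2 : r ≠ 2 := fun h => hrπ (h ▸ h2)
    have hr3 : r ≠ 3 := fun h => hrπ (h ▸ h3)
    have hbig : ∀ z, (cl M z).card < r := fun z => by
      by_contra h
      exact hrπ (hH r hr (prime_dvd_of_le_cl (M := M) (x := z) hr hr2 (by omega)))
    haveI : Fact r.Prime := ⟨hr⟩
    obtain ⟨g, hg⟩ := exists_prime_orderOf_dvd_card' r hd
    obtain ⟨x, hx⟩ : ∃ x, (g : Perm α) x ≠ x := by
      by_contra h
      push Not at h
      have h1 : g = 1 := Subtype.ext (Equiv.ext h)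
      rw [h1, orderOf_one] at hg
      exact hr.one_lt.ne hg
    let T : Subgroup K :=
      { carrier := {h | Rel M x ((h : Perm α) x)}
        one_mem' := Or.inl rfl
        mul_mem' := fun {a b} ha hb => rel_trans ha ((a.2 x ((b : Perm α) x)).mpr hb)
        inv_mem' := fun {a} ha => rel_symm ((a.2 _ x).mp (by simpa using ha)) }
    have hgT : g ∉ T := by
      intro hgT
      have hsub : (Finset.range r).image (fun i => ((g : Perm α) ^ i) x) ⊆ cl M x := by
        intro z hz
        obtain ⟨i, -, rfl⟩ := Finset.mem_image.mp hz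
        exact mem_cl.mpr (T.pow_mem hgT i)
      have hinj : Set.InjOn (fun i => ((g : Perm α) ^ i) x) (Finset.range r : Set ℕ) := by
        intro i hi k hk he
        by_contra hne
        wlog hik : i < k generalizing i k with Hw
        · exact Hw hk hi he.symm (Ne.symm hne) (by omega)
        have h1 : ((g : Perm α) ^ (k - i)) x = x := by
          have e : (g : Perm α) ^ k = (g : Perm α) ^ i * (g : Perm α) ^ (k - i) := by
            rw [← pow_add, Nat.add_sub_cancel' hik.le]
          simp only at he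
          rw [e, Perm.mul_apply] at he
          exact ((g : Perm α) ^ i).injective he.symm
        have hcop : Nat.Coprime (k - i) (orderOf (g : Perm α)) := by
          rw [Subgroup.orderOf_coe, hg]
          refine ((hr.coprime_iff_not_dvd).mpr fun h => ?_).symm
          have := Nat.le_of_dvd (by omega) h
          have := Finset.mem_range.mp hk
          omega
        have hmem : (g : Perm α) ∈ Subgroup.zpowers ((g : Perm α) ^ (k - i)) :=
          (mem_zpowers_pow_iff).mpr hcop
        exact hx ((Subgroup.zpowers_le.mpr (show (g : Perm α) ^ (k - i) ∈ MulAction.stabilizer (Perm α) x from h1)) hmem)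
      have hc1 := Finset.card_le_card hsub
      rw [Finset.card_image_of_injOn hinj, Finset.card_range] at hc1
      have hc2 := hbig x
      omega
    -- distinct classes along the orbit
    set P := (Finset.range r).image (fun i => cl M (((g : Perm α) ^ i) x)) with hP
    have hsize : ∀ i, (cl M (((g : Perm α) ^ i) x)).card = (cl M x).card := by
      intro i
      have hk : (g : Perm α) ^ i ∈ K := K.pow_mem g.2 i
      refine (Finset.card_bij (fun z _ => ((g : Perm α) ^ i) z) (fun z hz => ?_) (fun a _ b _ h => ((g : Perm α) ^ i).injective h) fun z hz => ?_).symm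
      · exact mem_cl.mpr ((hk x z).mpr (mem_cl.mp hz))
      · refine ⟨((g : Perm α) ^ i)⁻¹ z, mem_cl.mpr ((hk x _).mp ?_), by simp⟩
        simpa using mem_cl.mp hz
    have hinjC : Set.InjOn (fun i => cl M (((g : Perm α) ^ i) x)) (Finset.range r : Set ℕ) := by
      intro i hi k hk he
      by_contra hne
      wlog hik : i < k generalizing i k with Hw
      · exact Hw hk hi he.symm (Ne.symm hne) (by omega)
      simp only at he
      have h1 : g ^ (k - i) ∈ T := by
        have hrel : Rel M (((g : Perm α) ^ i) x) (((g : Perm α) ^ k) x) :=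
          mem_cl.mp (he ▸ mem_cl_self M _)
        have e : (g : Perm α) ^ k = (g : Perm α) ^ i * (g : Perm α) ^ (k - i) := by
          rw [← pow_add, Nat.add_sub_cancel' hik.le]
        rw [e, Perm.mul_apply] at hrel
        exact ((K.pow_mem g.2 i) _ _).mp hrel
      have hcop : Nat.Coprime (k - i) (orderOf g) := by
        rw [hg]
        refine ((hr.coprime_iff_not_dvd).mpr fun h => ?_).symm
        have := Nat.le_of_dvd (by omega) h
        have := Finset.mem_range.mp hk
        omega
      exact hgT ((Subgroup.zpowers_le.mpr h1) ((mem_zpowers_pow_iff).mpr hcop))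
    have hra : r * (cl M x).card ≤ Fintype.card α := by
      refine le_trans (le_of_eq ?_) (Finset.card_le_univ ((Finset.range r).biUnion fun i => cl M (((g : Perm α) ^ i) x)))
      rw [Finset.card_biUnion, Finset.sum_const_nat (m := (cl M x).card) fun i _ => hsize i, Finset.card_range]
      intro i hi k hk hne
      refine Finset.disjoint_left.mpr fun z hz hz' => hne (hinjC hi hk ?_)
      exact (cl_eq hz).symm.trans (cl_eq hz')
    have ha3 : 3 ≤ (cl M x).card := by
      by_contra hlt
      have := hsmall ((Finset.range r).image fun i => ((g : Perm α) ^ i) x) (by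
        intro z hz
        obtain ⟨i, -, rfl⟩ := Finset.mem_image.mp hz
        have := hsize i
        omega)
      rw [Finset.card_image_of_injOn fun i hi k hk he => hinjC hi hk (congrArg (cl M) he), Finset.card_range] at this
      have := hr.two_le
      omega
    -- a long cycle of 3-power length
    set j := Nat.log 3 (Fintype.card α)
    have hj : 1 ≤ j := Nat.log_pos (by norm_num) (by omega)
    have hjle : 3 ^ j ≤ Fintype.card α := Nat.pow_log_le_self 3 (by omega)
    have hjlt : Fintype.card α < 3 ^ j * 3 := by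
      rw [← pow_succ]; exact Nat.lt_pow_succ_log_self (by norm_num) _
    obtain ⟨D, hDc, hD⟩ := HallSym.exists_cycleFam M (p := 3) hj hidx3
    obtain ⟨c, hc⟩ : D.Nonempty := Finset.card_pos.mp (hDc ▸ Nat.div_pos hjle (pow_pos (by norm_num) j))
    have hcH := hD.mem c hc
    have hccyc := hD.isCycle c hc
    obtain ⟨z, hz⟩ : c.support.Nonempty := Finset.card_pos.mp (by rw [hD.card c hc]; exact pow_pos (by norm_num) j)
    by_cases hzc : cl M z = cl M (c z)
    · have hsub : c.support ⊆ cl M z := by
        intro y hy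
        obtain ⟨i, rfl⟩ := hccyc.exists_pow_eq (mem_support.mp hz) (mem_support.mp hy)
        clear hy
        induction i with
        | zero => simpa using mem_cl_self M z
        | succ i ih =>
          rw [pow_succ', Perm.mul_apply, hzc, ← image_cl hcH z]
          exact Finset.mem_image_of_mem c ih
      have h1 := Finset.card_le_card hsub
      rw [hD.card c hc] at h1
      have h2' := hbig z
      have : 3 ^ j * 3 ≤ r * (cl M x).card := Nat.mul_le_mul (by omega) ha3
      omega
    · have hstep : ∀ y ∈ c.support, cl M y ≠ cl M (c y) ∧ (cl M y).card = (cl M z).card := by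
        intro y hy
        obtain ⟨i, rfl⟩ := hccyc.exists_pow_eq (mem_support.mp hz) (mem_support.mp hy)
        refine ⟨fun heq => hzc ?_, card_cl_apply (M.pow_mem hcH i) z⟩
        have h1 : (cl M ((c ^ i) z)).image ⇑((c ^ i)⁻¹) = (cl M (c ((c ^ i) z))).image ⇑((c ^ i)⁻¹) := by
          rw [heq]
        rw [image_cl (M.inv_mem (M.pow_mem hcH i)), image_cl (M.inv_mem (M.pow_mem hcH i)),
          Perm.coe_inv, symm_apply_apply] at h1
        rw [h1]
        congr 1
        rw [show c ((c ^ i) z) = (c ^ i) (c z) by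
          rw [← Perm.mul_apply, ← Perm.mul_apply, ((Commute.refl c).pow_right i).eq], symm_apply_apply]
      have hsub : ∀ y ∈ c.support, cl M y ⊆ c.support := by
        intro y hy w hw
        by_contra hws
        refine (hstep y hy).1 ?_
        have : c w ∈ cl M (c y) := by rw [← image_cl hcH y]; exact Finset.mem_image_of_mem c hw
        rw [notMem_support.mp hws] at this
        exact (cl_eq hw).symm.trans (cl_eq this)
      have hcard : c.support.card = ∑ C ∈ c.support.image (cl M), (cl M z).card := by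
        rw [Finset.card_eq_sum_card_image (cl M) c.support]
        refine Finset.sum_congr rfl fun C hC => ?_
        obtain ⟨y, hy, rfl⟩ := Finset.mem_image.mp hC
        rw [← (hstep y hy).2]
        congr 1
        ext w
        simp only [Finset.mem_filter]
        exact ⟨fun h => h.2 ▸ mem_cl_self M w, fun h => ⟨hsub y hy h, cl_eq h⟩⟩
      rw [Finset.sum_const, smul_eq_mul, hD.card c hc] at hcard
      have hoz : Odd (cl M z).card := ((by decide : Odd 3).pow).of_dvd_nat (hcard ▸ dvd_mul_left _ _)
      by_cases h3z : 3 ≤ (cl M z).card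
      · exact hzc (hodd z (c z) h3z (by rw [card_cl_apply hcH]; exact h3z) hoz
          (by rw [card_cl_apply hcH]; exact hoz))
      · have := hsmall c.support fun y hy => by rw [(hstep y hy).2]; omega
        rw [hD.card c hc] at this
        have : 3 ^ 1 ≤ 3 ^ j := Nat.pow_le_pow_right (by norm_num) hj
        omega
  · obtain ⟨c, hc⟩ : F.Nonempty := Finset.card_pos.mp (by omega)
    obtain ⟨x, y, hxy, hx, hy⟩ : ∃ x y, x ≠ y ∧ x ∈ c.support ∧ y ∈ c.support := by
      obtain ⟨x, hx, y, hy, hxy⟩ := Finset.one_lt_card.mp (show 1 < c.support.card by rw [hF.card c hc]; norm_num)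
      exact ⟨x, y, hxy, hx, hy⟩
    have hrel : Rel M x y := rel_of_mem_support (hF.mem c hc) (hF3 c hc) hx hy
    refine ⟨swap x y, fun u v => ?_, by simp [mem_alternatingGroup, sign_swap hxy]⟩
    have key : ∀ w, Rel M w (swap x y w) := by
      intro w
      rw [swap_apply_def]
      split_ifs with h1 h2
      · exact h1 ▸ hrel
      · exact h2 ▸ rel_symm hrel
      · exact Or.inl rfl
    exact ⟨fun h => rel_trans (key u) (rel_trans h (rel_symm (key v))),
      fun h => rel_trans (rel_symm (key u)) (rel_trans h (key v))⟩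

end H60.HallAlt
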