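import Mathlib
import Cfsg.Prelude.Def_OddOrderLocal
import Cfsg.Prelude.Def_HallClasses
import Cfsg.Agent.H60.HallAltLift

/-! Hall subgroups of `A_n` are the intersections with those of `S_n`. -/

set_option autoImplicit false
set_option linter.style.haveILetI false
set_option linter.unusedSectionVars false

namespace H60.HallAlt

open Equiv Equiv.Perm

variable {α : Type*} [Fintype α] [DecidableEq α]

/-- The relative index in the alternating group divides the index. -/
theorem relIndex_alt_dvd (H : Subgroup (Perm α)) : H.relIndex (alternatingGroup α) ∣ H.index := by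
  by_cases hα : Nontrivial α
  · have h1 : H.relIndex (alternatingGroup α) * 2 = (H ⊓ alternatingGroup α).index := by
      rw [index_eq (inf_le_right : H ⊓ alternatingGroup α ≤ alternatingGroup α),
        Subgroup.inf_relIndex_right]
    have h2 : (alternatingGroup α).relIndex H * H.index = (H ⊓ alternatingGroup α).index := by
      rw [← Subgroup.inf_relIndex_left, Subgroup.relIndex_mul_index inf_le_left]
    have h3 : (alternatingGroup α).relIndex H ∣ 2 :=
      (alternatingGroup.index_eq_two (α := α)) ▸ Subgroup.relIndex_dvd_index_of_normal _ _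
    refine Nat.dvd_of_mul_dvd_mul_right two_pos (h1 ▸ h2 ▸ ?_)
    rw [mul_comm H.index 2]
    exact Nat.mul_dvd_mul_right h3 _
  · haveI := not_nontrivial_iff_subsingleton.mp hα
    rw [show alternatingGroup α = ⊤ from Subgroup.ext fun g => by simp [Subsingleton.elim g 1],
      Subgroup.relIndex_top_right]

theorem hall_subgroupOf {π : Set ℕ} {H : Subgroup (Perm α)} (h : Cfsg.IsPiHall π H) :
    Cfsg.IsPiHall π (H.subgroupOf (alternatingGroup α)) := by
  refine ⟨fun r hr hd => h.1 r hr ?_, fun r hr hrπ hd => h.2 r hr hrπ (hd.trans (relIndex_alt_dvd H))⟩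
  refine hd.trans ?_
  rw [← Subgroup.inf_subgroupOf_right, Nat.card_congr (Subgroup.subgroupOfEquivOfLe inf_le_right).toEquiv]
  exact Subgroup.card_dvd_of_le inf_le_left

/-- A `π`-subgroup with an odd element above a Hall subgroup of `A_n` is Hall. -/
theorem hall_of_odd_elt {π : Set ℕ} {M K : Subgroup (Perm α)} (hMA : M ≤ alternatingGroup α)
    (hI : ∀ r : ℕ, r.Prime → r ∈ π → ¬ r ∣ M.relIndex (alternatingGroup α)) (hMK : M ≤ K)
    (hK : ∀ r : ℕ, r.Prime → r ∣ Nat.card K → r ∈ π) {g : Perm α} (hg : g ∈ K)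
    (hgA : g ∉ alternatingGroup α) :
    Cfsg.IsPiHall π K ∧ K ⊓ alternatingGroup α = M := by
  haveI : Nontrivial α := by
    by_contra h
    haveI := not_nontrivial_iff_subsingleton.mp h
    exact hgA (Subsingleton.elim (1 : Perm α) g ▸ (alternatingGroup α).one_mem)
  have hle : M ≤ K ⊓ alternatingGroup α := le_inf hMK hMA
  have heq : K ⊓ alternatingGroup α = M := by
    refine le_antisymm (Subgroup.relIndex_eq_one.mp (Nat.eq_one_iff_not_exists_prime_dvd.mpr ?_)) hle
    intro r hr hd
    refine hI r hr (hK r hr ?_) ?_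
    · exact (hd.trans (Subgroup.index_dvd_card _)).trans (Subgroup.card_dvd_of_le inf_le_left)
    · exact hd.trans (Dvd.intro _ (Subgroup.relIndex_mul_relIndex _ _ _ hle inf_le_right))
  refine ⟨⟨hK, fun r hr hrπ hd => hI r hr hrπ ?_⟩, heq⟩
  have h2 : (alternatingGroup α).relIndex K = 2 := by
    have h3 : (alternatingGroup α).relIndex K ∣ 2 :=
      (alternatingGroup.index_eq_two (α := α)) ▸ Subgroup.relIndex_dvd_index_of_normal _ _
    rcases (Nat.dvd_prime Nat.prime_two).mp h3 with h | h
    · exact absurd (Subgroup.relIndex_eq_one.mp h hg) hgA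
    · exact h
  have h4 := index_eq hMA
  rw [← Subgroup.relIndex_mul_index hMK, ← heq, Subgroup.inf_relIndex_left, h2, heq] at h4
  rwa [show K.index = M.relIndex (alternatingGroup α) by omega] at hd

/-- A Hall subgroup of `A_n` extends to a Hall subgroup of `S_n`. -/
theorem exists_hall {π : Set ℕ} {M : Subgroup (Perm α)} (hMA : M ≤ alternatingGroup α)
    (hH : ∀ r : ℕ, r.Prime → r ∣ Nat.card M → r ∈ π)
    (hI : ∀ r : ℕ, r.Prime → r ∈ π → ¬ r ∣ M.relIndex (alternatingGroup α)) :
    ∃ K : Subgroup (Perm α), Cfsg.IsPiHall π K ∧ K ⊓ alternatingGroup α = M := by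
  classical
  by_cases hα : Nontrivial α
  swap
  · haveI := not_nontrivial_iff_subsingleton.mp hα
    refine ⟨M, ⟨hH, fun r hr _ hd => hr.one_lt.ne' (Nat.dvd_one.mp ?_)⟩, inf_eq_left.mpr hMA⟩
    rwa [show M = ⊤ from Subgroup.ext fun g => by simp [Subsingleton.elim g 1], Subgroup.index_top] at hd
  by_cases h2 : 2 ∈ π
  swap
  · refine ⟨M, ⟨hH, fun r hr hrπ hd => ?_⟩, inf_eq_left.mpr hMA⟩
    rw [index_eq hMA] at hd
    rcases hr.dvd_mul.mp hd with h | h
    · exact hI r hr hrπ h
    · exact h2 ((Nat.prime_dvd_prime_iff_eq hr Nat.prime_two).mp h ▸ hrπ)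
  suffices ∃ K : Subgroup (Perm α), M ≤ K ∧ (∀ r : ℕ, r.Prime → r ∣ Nat.card K → r ∈ π) ∧
      ∃ g ∈ K, g ∉ alternatingGroup α by
    obtain ⟨K, hMK, hK, g, hg, hgA⟩ := this
    exact ⟨K, hall_of_odd_elt hMA hI hMK hK hg hgA⟩
  by_cases hns : ∃ r : ℕ, r.Prime ∧ r ≤ Fintype.card α ∧ r ∉ π
  swap
  · push Not at hns
    obtain ⟨a, b, hab⟩ := hα.exists_pair_ne
    refine ⟨⊤, le_top, fun r hr hd => hns r hr ?_, swap a b, trivial, by simp [mem_alternatingGroup, sign_swap hab]⟩
    rw [Subgroup.card_top, Nat.card_perm, Nat.card_eq_fintype_card] at hd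
    exact hr.dvd_factorial.mp hd
  by_cases hodd : ∃ q : ℕ, q.Prime ∧ q ≠ 2 ∧ q ∈ π ∧ q ≤ Fintype.card α
  swap
  · push Not at hodd
    haveI : Fact (Nat.Prime 2) := ⟨Nat.prime_two⟩
    have hM2 : IsPGroup 2 M := by
      refine IsPGroup.iff_card.mpr ⟨_, Nat.eq_prime_pow_of_unique_prime_dvd Nat.card_pos.ne' fun {r} hr hd => ?_⟩
      by_contra hr2
      have h1 := (hodd r hr hr2 (hH r hr hd))
      have h3 : r ∣ (Fintype.card α).factorial := by
        rw [← Nat.card_eq_fintype_card, ← Nat.card_perm]
        exact hd.trans (Subgroup.card_subgroup_dvd_card M)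
      have := hr.dvd_factorial.mp h3
      omega
    obtain ⟨P, hP⟩ := hM2.exists_le_sylow
    refine ⟨P, hP, fun r hr hd => ?_, ?_⟩
    · obtain ⟨k, hk⟩ := IsPGroup.iff_card.mp P.2
      rw [hk] at hd
      obtain rfl := (Nat.prime_dvd_prime_iff_eq hr Nat.prime_two).mp (hr.dvd_of_dvd_pow hd)
      exact h2
    · by_contra hcon
      push Not at hcon
      refine P.not_dvd_index (p := 2) ?_
      have h := Subgroup.index_dvd_of_le hcon
      rwa [alternatingGroup.index_eq_two] at h
  obtain ⟨r, hr, hrn, hrπ⟩ := hns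
  obtain ⟨q, hq, hq2, hqπ, hqn⟩ := hodd
  have hn5 : 5 ≤ Fintype.card α := by
    by_contra hlt
    have hr2 : r ≠ 2 := fun h => hrπ (h ▸ h2)
    have := hr.two_le
    have := hq.two_le
    rcases (show r = 3 ∨ r = 4 by omega) with rfl | rfl
    · rcases (show q = 3 ∨ q = 4 by omega) with rfl | rfl
      · exact hrπ hqπ
      · norm_num at hq
    · norm_num at hr
  by_cases h3 : 3 ∈ π
  · exact exists_lift hMA hn5 hH hI h2 h3
  exfalso
  have hq5 : 5 ≤ q := by
    have := hq.two_le
    by_contra hlt
    rcases (show q = 3 ∨ q = 4 by omega) with rfl | rfl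
    · exact h3 hqπ
    · norm_num at hq
  haveI : Fact q.Prime := ⟨hq⟩
  have hidx : ¬ q ∣ M.index := by
    rw [index_eq hMA]
    intro h
    rcases hq.dvd_mul.mp h with h | h
    · exact hI q hq hqπ h
    · have := Nat.le_of_dvd two_pos h
      omega
  obtain ⟨F, hFc, hF⟩ := HallSym.exists_cycleFam M (p := q) (j := 1) le_rfl hidx
  rw [pow_one] at hFc hF
  obtain ⟨c, hc⟩ : F.Nonempty := Finset.card_pos.mp (hFc ▸ Nat.div_pos hqn hq.pos)
  rcases (show 6 ≤ Fintype.card α ∨ Fintype.card α = 5 by omega) with h6 | h5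
  · exact h3 (hH 3 Nat.prime_three (three_dvd_card hMA (hI 2 Nat.prime_two h2) h6 (hF.isCycle c hc)
      (hF.mem c hc) (by rw [hF.card c hc]; exact hq) (by rw [hF.card c hc]; exact hq5)))
  · -- a subgroup of index three in `A_5`
    obtain rfl : q = 5 := by omega
    haveI : IsSimpleGroup (alternatingGroup α) :=
      alternatingGroup.isSimpleGroup (by rw [Nat.card_eq_fintype_card]; omega)
    have hA : Nat.card (alternatingGroup α) = 60 := by
      have h := two_mul_nat_card_alternatingGroup (α := α)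
      rw [Nat.card_perm, Nat.card_eq_fintype_card (α := α), h5, show Nat.factorial 5 = 120 from rfl] at h
      omega
    have hcm := (M.subgroupOf (alternatingGroup α)).card_mul_index
    rw [show (M.subgroupOf (alternatingGroup α)).index = M.relIndex (alternatingGroup α) from rfl, hA,
      Nat.card_congr (Subgroup.subgroupOfEquivOfLe hMA).toEquiv] at hcm
    have hi2 := hI 2 Nat.prime_two h2
    have hi5 := hI 5 (by norm_num) hqπ
    have hne3 : ¬ 3 ∣ Nat.card M := fun h => h3 (hH 3 Nat.prime_three h)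
    have hidx3 : M.relIndex (alternatingGroup α) = 3 := by
      generalize M.relIndex (alternatingGroup α) = i at hcm hi2 hi5
      have hle : i ≤ 60 := Nat.le_of_dvd (by norm_num) (Dvd.intro_left _ hcm)
      have hdvd : i ∣ 60 := Dvd.intro_left _ hcm
      interval_cases i <;> first | omega | (norm_num at hdvd; done)
    set N := M.subgroupOf (alternatingGroup α)
    have hN3 : N.index = 3 := hidx3
    have hcore : N.normalCore = ⊥ := by
      rcases Subgroup.Normal.eq_bot_or_eq_top (inferInstance : N.normalCore.Normal) with h | h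
      · exact h
      · exfalso
        have h' : N = ⊤ := top_le_iff.mp (h ▸ N.normalCore_le)
        rw [h', Subgroup.index_top] at hN3
        omega
    have hinj : Function.Injective (MulAction.toPermHom (alternatingGroup α) (alternatingGroup α ⧸ N)) := by
      rw [← MonoidHom.ker_eq_bot_iff, ← Subgroup.normalCore_eq_ker]
      exact hcore
    have hle := Nat.card_le_card_of_injective _ hinj
    rw [hA, Nat.card_perm, ← Subgroup.index_eq_card, hN3] at hle
    norm_num [Nat.factorial] at hle

end H60.HallAlt
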