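import Mathlib
import Cfsg.Agent.H60.HallCycles

/-! Classification of the Hall subgroups of even order of symmetric groups. -/

set_option autoImplicit false
set_option linter.style.haveILetI false

namespace H60.HallSym

open Equiv Equiv.Perm

/-- No carries in `Y + b` at powers of primes up to `Y`. -/
def CarryFree (Y b : ℕ) : Prop :=
  ∀ q j : ℕ, q.Prime → q ≤ Y → 1 ≤ j → Y % q ^ j + b % q ^ j < q ^ j

theorem mod_of_dvd_add {x t Q : ℕ} (h : Q ∣ x + t) (ht : 1 ≤ t) (htQ : t ≤ Q) : x % Q = Q - t := by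
  obtain ⟨c, hc⟩ := h
  obtain ⟨c, rfl⟩ : ∃ c', c = c' + 1 := ⟨c - 1, by
    rcases Nat.eq_zero_or_pos c with h0 | h0
    · subst h0; omega
    · omega⟩
  have hx : x = (Q - t) + c * Q := by rw [Nat.mul_succ, Nat.mul_comm Q c] at hc; omega
  rw [hx, Nat.add_mul_mod_self_right, Nat.mod_eq_of_lt (by omega)]

theorem prime_succ {Y b : ℕ} (hY : 2 ≤ Y) (hb : 1 ≤ b) (hbY : b ≤ Y) (h : CarryFree Y b) :
    (Y + 1).Prime := by
  by_contra hnp
  have hdvd : Y + 1 ∣ b := by
    rw [Nat.dvd_iff_prime_pow_dvd_dvd]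
    intro q k hq hqk
    rcases Nat.eq_zero_or_pos k with rfl | hk
    · simp
    have hqY : q ≤ Y := by
      have hd : q ∣ Y + 1 := (dvd_pow_self q (by omega)).trans hqk
      have hle := Nat.le_of_dvd (by omega) hd
      rcases eq_or_ne q (Y + 1) with rfl | hne
      · exact absurd hq hnp
      · omega
    have h1 := h q k hq hqY hk
    have hQ : 1 ≤ q ^ k := Nat.one_le_pow _ _ hq.pos
    rw [mod_of_dvd_add hqk le_rfl hQ] at h1
    refine Nat.dvd_of_mod_eq_zero ?_
    generalize b % q ^ k = R at h1 ⊢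
    omega
  have := Nat.le_of_dvd (by omega) hdvd
  omega

theorem dvd_of_residue {N M : ℕ} (hN : N ≠ 0)
    (h : ∀ q k : ℕ, q.Prime → 1 ≤ k → q ^ k ∣ N → q ^ k ∣ M) : N ∣ M := by
  rw [Nat.dvd_iff_prime_pow_dvd_dvd]
  intro q k hq hqk
  rcases Nat.eq_zero_or_pos k with rfl | hk
  · simp
  · exact h q k hq hk hqk

theorem dvd_mul_pred_of_mod_le {Q x : ℕ} (hQ : 2 ≤ Q) (h : x % Q ≤ 1) : Q ∣ x * (x - 1) := by
  rcases Nat.le_one_iff_eq_zero_or_eq_one.mp h with h0 | h0
  · exact dvd_mul_of_dvd_left (Nat.dvd_of_mod_eq_zero h0) _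
  · refine dvd_mul_of_dvd_right ?_ _
    have e := Nat.div_add_mod x Q
    exact ⟨x / Q, by omega⟩

theorem no_pair {Y b : ℕ} (hY : 5 ≤ Y) (hb : 2 ≤ b) (hbY : b ≤ Y) (h : CarryFree Y b) : False := by
  have hp := prime_succ (by omega) (by omega) hbY h
  have hev : Y % 2 = 0 := by
    rcases hp.eq_two_or_odd with h2 | h2 <;> omega
  have hbne : b ≠ Y := by
    rintro rfl
    obtain ⟨k, m, hm, hYm⟩ := Nat.exists_eq_pow_mul_and_not_dvd (show b ≠ 0 by omega) 2 (by norm_num)
    have h1 := h 2 (k + 1) Nat.prime_two (by omega) (by omega)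
    have h2 : b % 2 ^ (k + 1) = 2 ^ k := by
      conv_lhs => rw [hYm, pow_succ, Nat.mul_mod_mul_left]
      rw [show m % 2 = 1 by omega, mul_one]
    rw [h2, pow_succ] at h1
    omega
  have hd1 : b + 1 ∣ Y := dvd_of_residue (by omega) fun q k hq hk hd => by
    have hQ : 2 ≤ q ^ k := le_trans hq.two_le (Nat.le_self_pow (by omega) q)
    have hle := Nat.le_of_dvd (by omega) ((dvd_pow_self q (by omega)).trans hd)
    have h1 := h q k hq (by omega) hk
    rw [mod_of_dvd_add hd le_rfl (by omega)] at h1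
    refine Nat.dvd_of_mod_eq_zero ?_
    revert h1
    rw [Nat.add_comm]
    generalize Y % q ^ k = R
    intro h1
    have e : b % q ^ k = b % q ^ k := rfl
    omega
  have hd2 : Y + 2 ∣ b * (b - 1) := dvd_of_residue (by omega) fun q k hq hk hd => by
    have hQ : 2 ≤ q ^ k := le_trans hq.two_le (Nat.le_self_pow (by omega) q)
    have hqd : q ∣ Y + 2 := (dvd_pow_self q (by omega)).trans hd
    have hqY : q ≤ Y := by
      have hle := Nat.le_of_dvd (by omega) hqd
      rcases eq_or_ne q (Y + 2) with rfl | hne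
      · rcases hq.eq_two_or_odd with h2 | h2 <;> omega
      rcases eq_or_ne q (Y + 1) with rfl | hne'
      · have h3 : Y + 1 ∣ 1 := (Nat.dvd_add_right dvd_rfl).mp (show Y + 1 ∣ (Y + 1) + 1 from hqd)
        have := Nat.le_of_dvd one_pos h3
        omega
      · omega
    have h1 := h q k hq hqY hk
    rw [mod_of_dvd_add hd (by norm_num) hQ] at h1
    exact dvd_mul_pred_of_mod_le hQ (by omega)
  obtain ⟨d, hd⟩ := hd1
  obtain ⟨e, he⟩ := hd2
  have hd0 : 1 ≤ d := by
    rcases Nat.eq_zero_or_pos d with rfl | h0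
    · omega
    · exact h0
  have hb2 : 1 ≤ b * (b - 1) := Nat.mul_pos (by omega) (by omega)
  have he0 : 1 ≤ e := by
    rcases Nat.eq_zero_or_pos e with rfl | h0
    · omega
    · exact h0
  have hZ : (b : ℤ) * ((b : ℤ) - 1) = ((b + 1) * d + 2 : ℤ) * e := by
    have h' : b * (b - 1) = ((b + 1) * d + 2) * e := by rw [← hd]; exact he
    have h'' := congrArg (fun x : ℕ => (x : ℤ)) h'
    push_cast [Nat.cast_sub (show 1 ≤ b by omega)] at h''
    exact h''
  obtain ⟨t, ht⟩ : ∃ t : ℤ, t = (b : ℤ) - 2 - e * d := ⟨_, rfl⟩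
  have ht2 : 2 * ((e : ℤ) - 1) = ((b : ℤ) + 1) * t := by rw [ht]; linarith
  have hed : (e : ℤ) * d < b := by
    by_contra hc
    push Not at hc
    have := mul_le_mul_of_nonneg_left hc (show (0 : ℤ) ≤ (b : ℤ) + 1 by positivity)
    nlinarith
  have heb : (e : ℤ) < b := by
    have : (e : ℤ) * 1 ≤ e * d := mul_le_mul_of_nonneg_left (by exact_mod_cast hd0) (by positivity)
    linarith
  have ht0 : 0 ≤ t := by
    by_contra hc
    push Not at hc
    have : ((b : ℤ) + 1) * t < 0 := mul_neg_of_pos_of_neg (by positivity) hc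
    omega
  have ht1 : t ≤ 1 := by
    by_contra hc
    push Not at hc
    have := mul_le_mul_of_nonneg_left (show (2 : ℤ) ≤ t by omega) (show (0 : ℤ) ≤ (b : ℤ) + 1 by positivity)
    omega
  rcases (show t = 0 ∨ t = 1 by omega) with rfl | rfl
  · -- `e = 1`
    have he1 : e = 1 := by omega
    subst he1
    have hdb : (d : ℤ) = b - 2 := by omega
    have hb4 : 4 ≤ b := by
      by_contra hc
      have : b < 4 := by omega
      interval_cases b <;> omega
    have hYb : b + 2 ≤ Y := by
      have : (b + 1) * 2 ≤ (b + 1) * d := Nat.mul_le_mul_left _ (by omega)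
      omega
    have hd3 : b + 2 ∣ Y * (Y - 1) := dvd_of_residue (by omega) fun q k hq hk hdq => by
      have hQ : 2 ≤ q ^ k := le_trans hq.two_le (Nat.le_self_pow (by omega) q)
      have hle := Nat.le_of_dvd (by omega) ((dvd_pow_self q (by omega)).trans hdq)
      have h1 := h q k hq (by omega) hk
      rw [mod_of_dvd_add hdq (by norm_num) hQ] at h1
      exact dvd_mul_pred_of_mod_le hQ (by omega)
    have h12 : b + 2 ∣ 12 := by
      obtain ⟨c, hc⟩ := hd3
      have hc' : (Y : ℤ) * ((Y : ℤ) - 1) = ((b : ℤ) + 2) * c := by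
        have h'' := congrArg (fun x : ℕ => (x : ℤ)) hc
        push_cast [Nat.cast_sub (show 1 ≤ Y by omega)] at h''
        exact h''
      have hY' : (Y : ℤ) = ((b : ℤ) + 1) * ((b : ℤ) - 2) := by rw [← hdb, hd]; push_cast; ring
      have hdv : ((b + 2 : ℕ) : ℤ) ∣ ((12 : ℕ) : ℤ) :=
        ⟨c - ((b : ℤ) - 3) * ((b : ℤ) * b - b + 1), by
          push_cast
          rw [mul_sub, ← hc', hY']
          ring⟩
      exact Int.natCast_dvd_natCast.mp hdv
    have hb10 : b = 4 ∨ b = 10 := by
      have := Nat.le_of_dvd (by norm_num) h12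
      have : b ≤ 10 := by omega
      interval_cases b <;> first | omega | (revert h12; decide)
    rcases hb10 with rfl | rfl
    · obtain rfl : Y = 10 := by have : d = 2 := by omega
                                subst this; omega
      exact absurd (h 7 1 (by norm_num) (by norm_num) le_rfl) (by norm_num)
    · obtain rfl : Y = 88 := by have : d = 8 := by omega
                                subst this; omega
      exact absurd (h 13 1 (by norm_num) (by norm_num) le_rfl) (by norm_num)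
  · -- `d = 1`, `b = 9`
    have hd1 : d = 1 := by
      by_contra hc
      have : (e : ℤ) * 2 ≤ e * d := mul_le_mul_of_nonneg_left (by exact_mod_cast (by omega : 2 ≤ d)) (by positivity)
      omega
    subst hd1
    obtain rfl : b = 9 := by omega
    obtain rfl : Y = 10 := by omega
    exact absurd (h 2 4 Nat.prime_two (by norm_num) (by norm_num)) (by norm_num)

/-- Twice a power of two other than `4` has a carry at a small odd prime power. -/
theorem pow_two_carry {a : ℕ} (h : ∃ i, a = 2 ^ i) (h2 : 2 ≤ a) (h4 : a ≠ 4) :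
    ∃ q j : ℕ, q.Prime ∧ q ≠ 2 ∧ 1 ≤ j ∧ (q ≤ a ∨ q ≤ 3) ∧ q ^ j ≤ 2 * (a % q ^ j) := by
  obtain ⟨i, rfl⟩ := h
  rcases Nat.even_or_odd i with ⟨c, rfl⟩ | ⟨c, rfl⟩
  · have hc2 : 2 ≤ c := by
      rcases c with _ | _ | c
      · simp at h2
      · simp at h4
      · omega
    obtain ⟨c, rfl⟩ : ∃ c', c = c' + 2 := ⟨c - 2, by omega⟩
    set m := 2 ^ (c + 2 + (c + 2) - 1) + 1 with hm
    have hm2 : 2 ^ (c + 2 + (c + 2)) + 2 = 2 * m := by
      rw [hm, mul_add, mul_one, ← pow_succ', show c + 2 + (c + 2) - 1 + 1 = c + 2 + (c + 2) by omega]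
    have h8 : 8 ≤ 2 ^ (c + 2 + (c + 2) - 1) :=
      le_trans (by norm_num) (Nat.pow_le_pow_right two_pos (show 3 ≤ c + 2 + (c + 2) - 1 by omega))
    obtain ⟨q, j, hq, hj, hQ4, hQm⟩ : ∃ q j : ℕ, q.Prime ∧ 1 ≤ j ∧ 4 ≤ q ^ j ∧ q ^ j ∣ m := by
      by_contra hcon
      push Not at hcon
      have h3 : ∀ q : ℕ, q.Prime → q ∣ m → q = 3 := by
        intro q hq hqm
        have hlt : q < 4 := by
          by_contra hge
          exact hcon q 1 hq le_rfl (by rw [pow_one]; omega) (by rwa [pow_one])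
        have hodd : m % 2 = 1 := by
          rw [hm, show c + 2 + (c + 2) - 1 = (c + 2 + (c + 2) - 2) + 1 by omega, pow_succ]; omega
        interval_cases q
        · exact absurd hq Nat.not_prime_zero
        · exact absurd hq Nat.not_prime_one
        · omega
        · rfl
      obtain ⟨v, hv⟩ : ∃ v, m = 3 ^ v :=
        ⟨_, Nat.eq_prime_pow_of_unique_prime_dvd (by omega) fun {q} hq hqm => h3 q hq hqm⟩
      rcases Nat.lt_or_ge v 2 with hv2 | hv2
      · interval_cases v <;> omega
      · exact hcon 3 2 Nat.prime_three (by norm_num) (by norm_num) (hv ▸ pow_dvd_pow 3 hv2)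
    have hq2 : q ≠ 2 := by
      rintro rfl
      have h2d : 2 ∣ m := (dvd_pow_self 2 (by omega)).trans hQm
      rw [hm, show c + 2 + (c + 2) - 1 = (c + 2 + (c + 2) - 2) + 1 by omega, pow_succ] at h2d
      omega
    have hle := Nat.le_of_dvd (by omega) hQm
    refine ⟨q, j, hq, hq2, hj, Or.inl ?_, ?_⟩
    · have := Nat.le_self_pow (show j ≠ 0 by omega) q
      omega
    · have hmod : 2 ^ (c + 2 + (c + 2)) % q ^ j = q ^ j - 2 :=
        mod_of_dvd_add (by rw [hm2]; exact dvd_mul_of_dvd_right hQm 2) (by norm_num) (by omega)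
      omega
  · refine ⟨3, 1, Nat.prime_three, by norm_num, le_rfl, Or.inr le_rfl, ?_⟩
    rw [pow_one, pow_succ, pow_mul, Nat.mul_mod, Nat.pow_mod]
    norm_num

variable {α : Type*} [Fintype α] [DecidableEq α]

/-- Hall subgroups with `2` and an odd prime. -/
theorem classify {π : Set ℕ} (H : Subgroup (Perm α))
    (hH : ∀ r : ℕ, r.Prime → r ∣ Nat.card H → r ∈ π) (hI : ∀ r : ℕ, r.Prime → r ∈ π → ¬ r ∣ H.index)
    (h2 : 2 ∈ π) (hodd : ∃ q : ℕ, q.Prime ∧ q ≠ 2 ∧ q ∈ π ∧ q ≤ Fintype.card α)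
    (hns : ∃ r : ℕ, r.Prime ∧ r ≤ Fintype.card α ∧ r ∉ π) :
    ∃ x : α, (∀ r : ℕ, r.Prime → r ≤ Fintype.card α → (r ∈ π ↔ r ≤ (cls H x).card)) ∧
      (((Fintype.card α).Prime ∧ (cls H x).card + 1 = Fintype.card α) ∨
        ((Fintype.card α = 7 ∨ Fintype.card α = 8) ∧ (cls H x).card = 4 ∧
          ∀ y, cls H y ≠ cls H x → (cls H y).card + 4 = Fintype.card α)) := by
  classical
  obtain ⟨q₀, hq₀, hq₀2, hq₀π, hq₀n⟩ := hodd
  haveI : Nonempty α := Fintype.card_pos_iff.mp (by have := hq₀.pos; omega)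
  obtain ⟨x, hx⟩ := Finite.exists_max fun y : α => (cls H y).card
  set Y := (cls H x).card with hY
  set n := Fintype.card α with hn
  haveI : Fact (Nat.Prime 2) := ⟨Nat.prime_two⟩
  have hidx2 := hI 2 Nat.prime_two h2
  have hYn : Y ≤ n := Finset.card_le_univ _
  have hlow : ∀ r : ℕ, r.Prime → r ≤ Y → r ∈ π := fun r hr hrY =>
    hH r hr ((hr.dvd_factorial.mpr hrY).trans (factorial_dvd_card H x))
  have hhigh : ∀ q j : ℕ, q.Prime → q ≠ 2 → q ∈ π → 1 ≤ j → q ^ j ≤ n → q ^ j ≤ Y := by
    intro q j hq hq2 hqπ hj hle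
    haveI : Fact q.Prime := ⟨hq⟩
    obtain ⟨F, hFc, hF⟩ := exists_cycleFam H hj (hI q hq hqπ)
    obtain ⟨c, hc⟩ : F.Nonempty := Finset.card_pos.mp (hFc ▸ Nat.div_pos hle (pow_pos hq.pos j))
    obtain ⟨u, hu⟩ := odd_cycle_inside H hidx2 (hF.isCycle c hc) (hF.mem c hc)
      (by rw [hF.card c hc]; exact (hq.odd_of_ne_two hq2).pow)
    exact hF.card c hc ▸ (Finset.card_le_card hu).trans (hx u)
  have hY3 : 3 ≤ Y := by
    have := hhigh q₀ 1 hq₀ hq₀2 hq₀π le_rfl (by rwa [pow_one])
    rw [pow_one] at this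
    have := hq₀.two_le
    omega
  have hπ : ∀ r : ℕ, r.Prime → r ≤ n → (r ∈ π ↔ r ≤ Y) := by
    intro r hr hrn
    refine ⟨fun hrπ => ?_, hlow r hr⟩
    rcases eq_or_ne r 2 with rfl | hr2
    · omega
    · simpa using hhigh r 1 hr hr2 hrπ le_rfl (by rwa [pow_one])
  obtain ⟨r₀, hr₀, hr₀n, hr₀π⟩ := hns
  have hr₀Y : Y < r₀ := by
    by_contra hc
    exact hr₀π (hlow r₀ hr₀ (by omega))
  have hother : ∀ y, cls H y ≠ cls H x → ∀ q j : ℕ, q.Prime → q ≠ 2 → q ≤ Y → 1 ≤ j →
      Y % q ^ j + (cls H y).card % q ^ j < q ^ j := by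
    intro y hy q j hq hq2 hqY hj
    haveI : Fact q.Prime := ⟨hq⟩
    exact no_carry_odd H hq2 hj hidx2 (hI q hq (hlow q hq hqY)) hy.symm
  have hpair : ∀ u v : α, cls H u ≠ cls H v → (cls H u).card = (cls H v).card →
      (∃ i, (cls H u).card = 2 ^ i) → (cls H u).card = 4 := by
    intro u v huv he hpow
    by_contra h4
    have hu2 : 2 ≤ (cls H u).card := by
      by_contra hc
      have h1 : 0 < (cls H u).card := Finset.card_pos.mpr ⟨u, mem_cls_self H u⟩
      have ho : Odd (cls H u).card := by rw [show (cls H u).card = 1 by omega]; exact odd_one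
      exact huv (odd_cls_unique H hidx2 ho (he ▸ ho))
    obtain ⟨q, j, hq, hq2, hj, hle, hc⟩ := pow_two_carry hpow hu2 h4
    haveI : Fact q.Prime := ⟨hq⟩
    have hqY : q ≤ Y := by rcases hle with h | h <;> have := hx u <;> omega
    have h1 := no_carry_odd H hq2 hj hidx2 (hI q hq (hlow q hq hqY)) huv
    rw [← he] at h1
    omega
  have hy0 : ∃ y, cls H y ≠ cls H x := by
    by_contra hcon
    push Not at hcon
    have : cls H x = Finset.univ := Finset.eq_univ_iff_forall.mpr fun y => hcon y ▸ mem_cls_self H y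
    have h1 : Y = n := by rw [hY, this, Finset.card_univ]
    omega
  obtain ⟨y₀, hy₀⟩ := hy0
  refine ⟨x, hπ, ?_⟩
  rcases Nat.lt_or_ge Y 5 with hY5 | hY5
  · have hY4 : Y = 4 := by
      by_contra hc
      have hn4 : 4 ≤ n := by omega
      obtain ⟨F, hFc, hF⟩ := exists_cycleFam H (p := 2) (j := 2) (by norm_num) hidx2
      obtain ⟨c, hcF⟩ : F.Nonempty := Finset.card_pos.mp (hFc ▸ Nat.div_pos hn4 (by norm_num))
      have hcard : c.support.card = 4 := hF.card c hcF
      rcases cycle_cases (hF.isCycle c hcF) (hF.mem c hcF) with ⟨u, hu⟩ | ⟨u, hu, hd, hlt, -⟩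
      · have h1 := (Finset.card_le_card hu).trans (hx u)
        omega
      · have he := (card_cls_apply (hF.mem c hcF) u).symm
        rw [hcard] at hd
        obtain ⟨i, -, hi⟩ := (Nat.dvd_prime_pow Nat.prime_two).mp (show (cls H u).card ∣ 2 ^ 2 from hd)
        have := hpair u (c u) hu he ⟨i, hi⟩
        omega
    have h3π : 3 ∈ π := hlow 3 Nat.prime_three (by omega)
    have hn9 : n < 9 := by
      by_contra hc
      have := hhigh 3 2 Nat.prime_three (by norm_num) h3π (by norm_num) (by omega)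
      omega
    have hsub : (cls H x ∪ cls H y₀).card = Y + (cls H y₀).card :=
      Finset.card_union_of_disjoint (cls_disjoint hy₀.symm)
    have h34 : ∀ y, cls H y ≠ cls H x → (cls H y).card ≠ 2 := by
      intro y hy h
      have := hother y hy 3 1 Nat.prime_three (by norm_num) (by omega) le_rfl
      rw [hY4, h] at this
      norm_num at this
    have hsum : ∀ y, cls H y ≠ cls H x → (cls H y).card + 4 = n := by
      intro y hy
      by_contra hne
      have hle : Y + (cls H y).card ≤ n := by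
        rw [hY, ← Finset.card_union_of_disjoint (cls_disjoint hy.symm)]
        exact Finset.card_le_univ _
      obtain ⟨z, hz⟩ : ∃ z, z ∉ cls H x ∪ cls H y := by
        by_contra hcon
        push Not at hcon
        have := congrArg Finset.card (Finset.eq_univ_iff_forall.mpr hcon)
        rw [Finset.card_union_of_disjoint (cls_disjoint hy.symm), Finset.card_univ] at this
        omega
      rw [Finset.mem_union, not_or] at hz
      have hzx : cls H z ≠ cls H x := fun h => hz.1 (h ▸ mem_cls_self H z)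
      have hzy : cls H z ≠ cls H y := fun h => hz.2 (h ▸ mem_cls_self H z)
      have h3 : Y + (cls H y).card + (cls H z).card ≤ n := by
        rw [hY, ← Finset.card_union_of_disjoint (cls_disjoint hy.symm),
          ← Finset.card_union_of_disjoint (Finset.disjoint_union_left.mpr
            ⟨cls_disjoint hzx.symm, cls_disjoint hzy.symm⟩)]
        exact Finset.card_le_univ _
      have hpy : 0 < (cls H y).card := Finset.card_pos.mpr ⟨y, mem_cls_self H y⟩
      have hpz : 0 < (cls H z).card := Finset.card_pos.mpr ⟨z, mem_cls_self H z⟩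
      have hy2 := h34 y hy
      have hz2 := h34 z hzx
      have hoy : Odd (cls H y).card := by rw [Nat.odd_iff]; omega
      have hoz : Odd (cls H z).card := by rw [Nat.odd_iff]; omega
      exact hzy.symm (odd_cls_unique H hidx2 hoy hoz)
    have h1 := hsum y₀ hy₀
    have h0 : 0 < (cls H y₀).card := Finset.card_pos.mpr ⟨y₀, mem_cls_self H y₀⟩
    have h2' := h34 y₀ hy₀
    rcases (show n = 5 ∨ n = 7 ∨ n = 8 by omega) with h | h | h
    · exact Or.inl ⟨h ▸ by norm_num, by omega⟩
    · exact Or.inr ⟨Or.inl h, hY4, hsum⟩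
    · exact Or.inr ⟨Or.inr h, hY4, hsum⟩
  · have hnopair : ∀ u v : α, cls H u ≠ cls H v → (cls H u).card = (cls H v).card →
        ¬ ∃ i, (cls H u).card = 2 ^ i := by
      intro u v huv he hpow
      have h4 := hpair u v huv he hpow
      haveI : Fact (Nat.Prime 5) := ⟨by norm_num⟩
      have h5 := no_carry_odd H (p := 5) (j := 1) (by norm_num) le_rfl hidx2
        (hI 5 (by norm_num) (hlow 5 (by norm_num) hY5)) huv
      rw [← he, h4] at h5
      norm_num at h5
    have hcf : ∀ y, cls H y ≠ cls H x → CarryFree Y (cls H y).card := by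
      intro y hy q j hq hqY hj
      rcases eq_or_ne q 2 with rfl | hq2
      · rcases carry_cases H hj hidx2 hy.symm with h | ⟨u, v, huv, he, hd⟩
        · exact h
        · obtain ⟨i, -, hi⟩ := (Nat.dvd_prime_pow Nat.prime_two).mp hd
          exact absurd ⟨i, hi⟩ (hnopair u v huv he)
      · exact hother y hy q j hq hq2 hqY hj
    have hone : ∀ y, cls H y ≠ cls H x → (cls H y).card = 1 := by
      intro y hy
      have h0 : 0 < (cls H y).card := Finset.card_pos.mpr ⟨y, mem_cls_self H y⟩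
      by_contra hne
      exact no_pair hY5 (by omega) (hx y) (hcf y hy)
    have hsucc : Y + 1 = n := by
      have huniv : Finset.univ = cls H x ∪ cls H y₀ := by
        refine (Finset.eq_univ_iff_forall.mpr fun z => ?_).symm
        rw [Finset.mem_union]
        by_cases hzx : cls H z = cls H x
        · exact Or.inl (hzx ▸ mem_cls_self H z)
        · have e := odd_cls_unique H hidx2 (x := z) (y := y₀)
            (by rw [hone z hzx]; exact odd_one) (by rw [hone y₀ hy₀]; exact odd_one)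
          exact Or.inr (e ▸ mem_cls_self H z)
      rw [hn, ← Finset.card_univ, huniv, Finset.card_union_of_disjoint (cls_disjoint hy₀.symm),
        hone y₀ hy₀]
    exact Or.inl ⟨hsucc ▸ prime_succ (by omega) (by rw [hone y₀ hy₀]) (hx y₀) (hcf y₀ hy₀), hsucc⟩

end H60.HallSym
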