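import Mathlib
import Cfsg.Prelude.Def_OddOrderLocal
import Cfsg.Prelude.Def_HallClasses
import Cfsg.Agent.H60.HallAltMain
import Cfsg.Agent.H60.HallClass
import Cfsg.Agent.H60.HallOdd

/-! Conjugacy of the Hall subgroups of `S_n` and `A_n`. -/

set_option autoImplicit false
set_option linter.style.haveILetI false
set_option linter.unusedSectionVars false

namespace H60.HallConj

open Equiv Equiv.Perm
open scoped Pointwise

/-- A Hall subgroup lying in a `π`-subgroup equals it. -/
theorem eq_of_le {G : Type*} [Group G] [Finite G] {π : Set ℕ} {H T : Subgroup G}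
    (hH : Cfsg.IsPiHall π H) (hHT : H ≤ T) (hT : ∀ r : ℕ, r.Prime → r ∣ Nat.card T → r ∈ π) : H = T := by
  refine le_antisymm hHT (Subgroup.relIndex_eq_one.mp (Nat.eq_one_iff_not_exists_prime_dvd.mpr ?_))
  intro r hr hd
  exact hH.2 r hr (hT r hr (hd.trans (Subgroup.index_dvd_card _)))
    (hd.trans (Dvd.intro _ (Subgroup.relIndex_mul_index hHT)))

/-- Hall subgroups are conjugate if at most one prime of `π` divides the group order. -/
theorem conj_of_one_prime {G : Type*} [Group G] [Finite G] {π : Set ℕ}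
    (h : ∀ r s : ℕ, r.Prime → s.Prime → r ∈ π → s ∈ π → r ∣ Nat.card G → s ∣ Nat.card G → r = s)
    {H K : Subgroup G} (hH : Cfsg.IsPiHall π H) (hK : Cfsg.IsPiHall π K) :
    ∃ g : G, K = H.map (MulAut.conj g).toMonoidHom := by
  by_cases hp : ∃ p : ℕ, p.Prime ∧ p ∈ π ∧ p ∣ Nat.card G
  · obtain ⟨p, hp, hpπ, hpd⟩ := hp
    haveI : Fact p.Prime := ⟨hp⟩
    have hpg : ∀ {L : Subgroup G}, Cfsg.IsPiHall π L → IsPGroup p L := fun {L} hL =>
      IsPGroup.iff_card.mpr ⟨_, Nat.eq_prime_pow_of_unique_prime_dvd Nat.card_pos.ne' fun {r} hr hd =>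
        h r p hr hp (hL.1 r hr hd) hpπ (hd.trans (Subgroup.card_subgroup_dvd_card L)) hpd⟩
    obtain ⟨g, hg⟩ := MulAction.exists_smul_eq G ((hpg hH).toSylow (hH.2 p hp hpπ))
      ((hpg hK).toSylow (hK.2 p hp hpπ))
    exact ⟨g, (congrArg (fun P : Sylow p G => (P : Subgroup G)) hg).symm⟩
  · push Not at hp
    have hbot : ∀ {L : Subgroup G}, Cfsg.IsPiHall π L → L = ⊥ := fun {L} hL =>
      Subgroup.card_eq_one.mp (Nat.eq_one_iff_not_exists_prime_dvd.mpr fun r hr hd =>
        hp r hr (hL.1 r hr hd) (hd.trans (Subgroup.card_subgroup_dvd_card L)))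
    exact ⟨1, by rw [hbot hH, hbot hK, Subgroup.map_bot]⟩

variable {α : Type*} [Fintype α] [DecidableEq α]

theorem prime_dvd_card_iff {r : ℕ} (hr : r.Prime) :
    r ∣ Nat.card (Perm α) ↔ r ≤ Fintype.card α := by
  rw [Nat.card_perm, Nat.card_eq_fintype_card, hr.dvd_factorial]

/-- A permutation moving every point within its class lies in the subgroup. -/
theorem mem_of_cls {H : Subgroup (Perm α)} :
    ∀ g : Perm α, (∀ z, g z ∈ HallSym.cls H z) → g ∈ H := by
  suffices ∀ m : ℕ, ∀ g : Perm α, g.support.card = m → (∀ z, g z ∈ HallSym.cls H z) → g ∈ H from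
    fun g hg => this _ g rfl hg
  intro m
  induction m using Nat.strong_induction_on with
  | _ m ih =>
    intro g hm hg
    rcases eq_or_ne g 1 with rfl | hne
    · exact H.one_mem
    obtain ⟨z, hz⟩ : ∃ z, g z ≠ z := by
      by_contra h
      push Not at h
      exact hne (Equiv.ext h)
    set g' := swap z (g z) * g with hg'
    have hsub : g'.support ⊆ g.support.erase z := by
      intro w hw
      rw [mem_support, hg', Perm.mul_apply] at hw
      rw [Finset.mem_erase, mem_support]
      refine ⟨fun h => hw (by rw [h, swap_apply_right]), fun h => hw ?_⟩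
      rw [h]
      refine swap_apply_of_ne_of_ne ?_ ?_
      · rintro rfl; exact hz h
      · intro e
        have : w = z := g.injective (h.trans e)
        subst this
        exact hz h
    have hlt : g'.support.card < m := by
      have h1 := Finset.card_le_card hsub
      rw [Finset.card_erase_of_mem (mem_support.mpr hz)] at h1
      have := Finset.card_pos.mpr ⟨z, mem_support.mpr hz⟩
      omega
    have hg'H : g' ∈ H := by
      refine ih _ hlt g' rfl fun w => ?_
      rw [hg', Perm.mul_apply, swap_apply_def]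
      split_ifs with h1 h2
      · refine HallSym.cls_trans (hg w) ?_
        rw [h1]
        exact hg z
      · rw [g.injective h2]; exact HallSym.mem_cls_self H z
      · exact hg w
    have hs : swap z (g z) ∈ H := HallSym.mem_cls.mp (hg z)
    have he : g = swap z (g z) * g' := by rw [hg', ← mul_assoc, swap_mul_self, one_mul]
    rw [he]
    exact H.mul_mem hs hg'H

theorem smul_compl (g : Perm α) (C : Finset α) : g • Cᶜ = (g • C)ᶜ := by
  ext y
  simp only [Finset.mem_compl, Finset.mem_smul_finset]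
  constructor
  · rintro ⟨u, hu, rfl⟩ ⟨v, hv, e⟩
    exact hu (smul_left_cancel g e ▸ hv)
  · intro h
    exact ⟨g⁻¹ • y, fun hu => h ⟨_, hu, smul_inv_smul g y⟩, smul_inv_smul g y⟩

theorem smul_pair (g : Perm α) (C : Finset α) :
    g • ({C, Cᶜ} : Finset (Finset α)) = {g • C, (g • C)ᶜ} := by
  rw [Finset.smul_finset_insert, Finset.smul_finset_singleton, smul_compl]

/-- The stabiliser of the partition `{C, Cᶜ}`. -/
def pairStab (C : Finset α) : Subgroup (Perm α) :=
  MulAction.stabilizer (Perm α) ({C, Cᶜ} : Finset (Finset α))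

theorem mem_pairStab {C : Finset α} {g : Perm α} :
    g ∈ pairStab C ↔ g • C = C ∨ g • C = Cᶜ := by
  rw [pairStab, MulAction.mem_stabilizer_iff, smul_pair]
  constructor
  · intro h
    have h' : g • C ∈ ({C, Cᶜ} : Finset (Finset α)) := h ▸ Finset.mem_insert_self _ _
    simpa using h'
  · rintro (h | h)
    · rw [h]
    · rw [h, compl_compl, Finset.pair_comm]

theorem eq_pairStab {π : Set ℕ} (h2 : 2 ∈ π) {H : Subgroup (Perm α)} (hH : Cfsg.IsPiHall π H) {x : α}
    (hother : ∀ y, HallSym.cls H y ≠ HallSym.cls H x →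
      (HallSym.cls H y).card + (HallSym.cls H x).card = Fintype.card α) :
    H = pairStab (HallSym.cls H x) := by
  classical
  set C := HallSym.cls H x with hC
  have hcompl : ∀ y, HallSym.cls H y ≠ C → HallSym.cls H y = Cᶜ := by
    intro y hy
    refine Finset.eq_of_subset_of_card_le (fun z hz => Finset.mem_compl.mpr
      (Finset.disjoint_left.mp (HallSym.cls_disjoint hy) hz)) ?_
    rw [Finset.card_compl]
    have := hother y hy
    omega
  refine eq_of_le hH (fun g hg => mem_pairStab.mpr ?_) ?_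
  · have himg : g • C = HallSym.cls H (g x) := HallSym.image_cls hg x
    by_cases he : HallSym.cls H (g x) = C
    · exact Or.inl (himg.trans he)
    · exact Or.inr (himg.trans (hcompl _ he))
  · intro r hr hd
    by_cases hr2 : r = 2
    · exact hr2 ▸ h2
    haveI : Fact r.Prime := ⟨hr⟩
    obtain ⟨g, hg⟩ := exists_prime_orderOf_dvd_card' r hd
    have hsq : ((g : Perm α) ^ 2) • C = C := by
      rw [sq, mul_smul]
      rcases mem_pairStab.mp g.2 with h | h
      · rw [h, h]
      · rw [h, smul_compl, h, compl_compl]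
    have hmem : (g : Perm α) ^ 2 ∈ H := by
      refine mem_of_cls _ fun z => ?_
      have hiff : ((g : Perm α) ^ 2) z ∈ C ↔ z ∈ C := by
        have h := Finset.smul_mem_smul_finset_iff (a := (g : Perm α) ^ 2) (b := z) (s := C)
        rwa [hsq] at h
      by_cases hz : z ∈ C
      · rw [HallSym.cls_eq hz]; exact hiff.mpr hz
      · rw [hcompl z fun h => hz (h ▸ HallSym.mem_cls_self H z), Finset.mem_compl]
        exact fun h => hz (hiff.mp h)
    refine hH.1 r hr ((dvd_of_eq ?_).trans (Subgroup.orderOf_dvd_natCard H hmem))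
    have hcop : Nat.Coprime (orderOf (g : Perm α)) 2 := by
      rw [Subgroup.orderOf_coe, hg]
      exact (Nat.coprime_primes hr Nat.prime_two).mpr hr2
    rw [hcop.orderOf_pow, Subgroup.orderOf_coe, hg]

/-- The Hall subgroups of `S_n` are conjugate. -/
theorem conj_perm {π : Set ℕ} {H K : Subgroup (Perm α)} (hH : Cfsg.IsPiHall π H)
    (hK : Cfsg.IsPiHall π K) : ∃ g : Perm α, K = H.map (MulAut.conj g).toMonoidHom := by
  classical
  by_cases h2 : 2 ∈ π
  swap
  · exact conj_of_one_prime (fun r s hr hs hrπ hsπ hrd hsd => HallSym.one_prime_of_odd H hH.1 hH.2 h2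
      hr hs hrπ hsπ ((prime_dvd_card_iff hr).mp hrd) ((prime_dvd_card_iff hs).mp hsd)) hH hK
  by_cases hodd : ∃ q : ℕ, q.Prime ∧ q ≠ 2 ∧ q ∈ π ∧ q ≤ Fintype.card α
  swap
  · push Not at hodd
    refine conj_of_one_prime (fun r s hr hs hrπ hsπ hrd hsd => ?_) hH hK
    have hr' : r = 2 := by
      by_contra h
      exact absurd ((prime_dvd_card_iff hr).mp hrd) (not_le.mpr (hodd r hr h hrπ))
    have hs' : s = 2 := by
      by_contra h
      exact absurd ((prime_dvd_card_iff hs).mp hsd) (not_le.mpr (hodd s hs h hsπ))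
    rw [hr', hs']
  by_cases hns : ∃ r : ℕ, r.Prime ∧ r ≤ Fintype.card α ∧ r ∉ π
  swap
  · push Not at hns
    have htop : ∀ {L : Subgroup (Perm α)}, Cfsg.IsPiHall π L → L = ⊤ := fun {L} hL =>
      eq_of_le hL le_top fun r hr hd => hns r hr ((prime_dvd_card_iff hr).mp (by
        rwa [Subgroup.card_top] at hd))
    exact ⟨1, by rw [htop hH, htop hK, Subgroup.map_top_of_surjective _ (MulAut.conj _).surjective]⟩
  obtain ⟨x, hπx, hcx⟩ := HallSym.classify H hH.1 hH.2 h2 hodd hns
  obtain ⟨y, hπy, hcy⟩ := HallSym.classify K hK.1 hK.2 h2 hodd hns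
  have hshape : ∀ {L : Subgroup (Perm α)} {z : α},
      (((Fintype.card α).Prime ∧ (HallSym.cls L z).card + 1 = Fintype.card α) ∨
        ((Fintype.card α = 7 ∨ Fintype.card α = 8) ∧ (HallSym.cls L z).card = 4 ∧
          ∀ w, HallSym.cls L w ≠ HallSym.cls L z → (HallSym.cls L w).card + 4 = Fintype.card α)) →
      ∀ w, HallSym.cls L w ≠ HallSym.cls L z →
        (HallSym.cls L w).card + (HallSym.cls L z).card = Fintype.card α := by
    intro L z hc w hw
    rcases hc with ⟨-, hY⟩ | ⟨-, hY, hsum⟩
    · have h1 := Finset.card_le_univ (HallSym.cls L w ∪ HallSym.cls L z)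
      rw [Finset.card_union_of_disjoint (HallSym.cls_disjoint hw)] at h1
      have h2 : 0 < (HallSym.cls L w).card := Finset.card_pos.mpr ⟨w, HallSym.mem_cls_self L w⟩
      omega
    · rw [hY]; exact hsum w hw
  have hcard : (HallSym.cls H x).card = (HallSym.cls K y).card := by
    rcases hcx with ⟨hpx, hx⟩ | ⟨hnx, hx, -⟩ <;> rcases hcy with ⟨hpy, hy⟩ | ⟨hny, hy, -⟩
    · omega
    · rcases hny with h | h
      · have h5 := (hπy 5 (by norm_num) (by omega))
        rw [hπx 5 (by norm_num) (by omega)] at h5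
        omega
      · rw [h] at hpx; norm_num at hpx
    · rcases hnx with h | h
      · have h5 := (hπy 5 (by norm_num) (by omega))
        rw [hπx 5 (by norm_num) (by omega)] at h5
        omega
      · rw [h] at hpy; norm_num at hpy
    · omega
  haveI := Set.powersetCard.isPretransitive (α := α) (n := (HallSym.cls H x).card)
  obtain ⟨g, hg⟩ := MulAction.exists_smul_eq (Perm α)
    (⟨HallSym.cls H x, rfl⟩ : Set.powersetCard α (HallSym.cls H x).card)
    ⟨HallSym.cls K y, hcard.symm⟩
  have hg' : g • HallSym.cls H x = HallSym.cls K y := congrArg Subtype.val hg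
  refine ⟨g, ?_⟩
  conv_lhs => rw [eq_pairStab h2 hK (hshape hcy)]
  conv_rhs => rw [eq_pairStab h2 hH (hshape hcx)]
  rw [pairStab, pairStab, ← hg', ← smul_pair, MulAction.stabilizer_smul_eq_stabilizer_map_conj]

/-- The Hall subgroups of `A_n` are conjugate. -/
theorem conj_alt {π : Set ℕ} {M N : Subgroup (alternatingGroup α)} (hM : Cfsg.IsPiHall π M)
    (hN : Cfsg.IsPiHall π N) :
    ∃ g : alternatingGroup α, N = M.map (MulAut.conj g).toMonoidHom := by
  classical
  have hlift : ∀ {L : Subgroup (alternatingGroup α)}, Cfsg.IsPiHall π L →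
      ∃ K : Subgroup (Perm α), Cfsg.IsPiHall π K ∧
        K ⊓ alternatingGroup α = L.map (alternatingGroup α).subtype := by
    intro L hL
    refine HallAlt.exists_hall (Subgroup.map_subtype_le L) (fun r hr hd => hL.1 r hr ?_)
      (fun r hr hrπ hd => hL.2 r hr hrπ ?_)
    · rwa [Nat.card_congr (Subgroup.equivMapOfInjective L _ (alternatingGroup α).subtype_injective).toEquiv]
    · rwa [Subgroup.relIndex, Subgroup.subgroupOf,
        Subgroup.comap_map_eq_self_of_injective (alternatingGroup α).subtype_injective] at hd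
  obtain ⟨K, hK, hKM⟩ := hlift hM
  by_cases h2 : 2 ∈ π ∧ Nontrivial α
  swap
  · refine conj_of_one_prime (fun r s hr hs hrπ hsπ hrd hsd => ?_) hM hN
    have hd := fun {t : ℕ} (ht : t.Prime) (htd : t ∣ Nat.card (alternatingGroup α)) =>
      (prime_dvd_card_iff (α := α) ht).mp (htd.trans (Subgroup.card_subgroup_dvd_card _))
    by_cases h2π : 2 ∈ π
    · have hsub : ¬ Nontrivial α := fun h => h2 ⟨h2π, h⟩
      haveI := not_nontrivial_iff_subsingleton.mp hsub
      have h1 := hd hr hrd
      have := Fintype.card_le_one_iff_subsingleton.mpr ‹Subsingleton α›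
      have := hr.two_le
      omega
    · exact HallSym.one_prime_of_odd K hK.1 hK.2 h2π hr hs hrπ hsπ (hd hr hrd) (hd hs hsd)
  obtain ⟨h2π, hα⟩ := h2
  obtain ⟨L, hL, hLN⟩ := hlift hN
  obtain ⟨h, hhK, hhA⟩ : ∃ h ∈ K, h ∉ alternatingGroup α := by
    by_contra hcon
    push Not at hcon
    refine hK.2 2 Nat.prime_two h2π ?_
    have hd := Subgroup.index_dvd_of_le hcon
    rwa [alternatingGroup.index_eq_two] at hd
  obtain ⟨g₀, hg₀⟩ := conj_perm hK hL
  obtain ⟨g, hgA, hg⟩ : ∃ g ∈ alternatingGroup α, L = K.map (MulAut.conj g).toMonoidHom := by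
    by_cases hA : g₀ ∈ alternatingGroup α
    · exact ⟨g₀, hA, hg₀⟩
    refine ⟨g₀ * h, ?_, ?_⟩
    · rw [Subgroup.mul_mem_iff_of_index_two alternatingGroup.index_eq_two]
      exact ⟨fun e => absurd e hA, fun e => absurd e hhA⟩
    · rw [hg₀]
      have hKh : K.map (MulAut.conj h).toMonoidHom = K := by
        ext z
        simp only [Subgroup.mem_map, MulEquiv.coe_toMonoidHom, MulAut.conj_apply]
        constructor
        · rintro ⟨u, hu, rfl⟩; exact K.mul_mem (K.mul_mem hhK hu) (K.inv_mem hhK)
        · intro hz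
          exact ⟨h⁻¹ * z * h, K.mul_mem (K.mul_mem (K.inv_mem hhK) hz) hhK, by group⟩
      conv_lhs => rw [← hKh]
      rw [Subgroup.map_map]
      congr 1
  refine ⟨⟨g, hgA⟩, Subgroup.map_injective (alternatingGroup α).subtype_injective ?_⟩
  rw [← hLN, hg]
  have hcomp : (alternatingGroup α).subtype.comp (MulAut.conj (⟨g, hgA⟩ : alternatingGroup α)).toMonoidHom =
      ((MulAut.conj g).toMonoidHom).comp (alternatingGroup α).subtype := by
    ext z
    simp
  rw [Subgroup.map_map, hcomp, ← Subgroup.map_map, ← hKM,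
    Subgroup.map_inf _ _ _ (MulAut.conj g).injective]
  congr 1
  exact (Subgroup.Normal.map_conj_eq (alternatingGroup α) g).symm

end H60.HallConj
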