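import Mathlib
import Cfsg.Agent.H60.HallConj

/-! The full Sylow analogue `D_π` for alternating groups. -/

set_option autoImplicit false
set_option linter.style.haveILetI false
set_option linter.unusedSectionVars false

namespace H60.HallDpi

open Equiv Equiv.Perm
open scoped Pointwise

/-- In a `D_π`-group every maximal `π`-subgroup is a Hall subgroup. -/
theorem hall_of_maximal {G : Type*} [Group G] [Finite G] {π : Set ℕ} (h : Cfsg.IsDPiGroup π G)
    {L : Subgroup G} (hL : Maximal (Cfsg.IsPiSubgroup π) L) : Cfsg.IsPiHall π L := by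
  refine ⟨hL.1, fun p hp hpπ hd => ?_⟩
  haveI : Fact p.Prime := ⟨hp⟩
  obtain ⟨P⟩ : Nonempty (Sylow p G) := inferInstance
  have hPπ : Cfsg.IsPiSubgroup π (P : Subgroup G) := by
    intro q hq hqd
    obtain ⟨k, hk⟩ := IsPGroup.iff_card.mp P.2
    rw [hk] at hqd
    obtain rfl := (Nat.prime_dvd_prime_iff_eq hq hp).mp (hq.dvd_of_dvd_pow hqd)
    exact hpπ
  obtain ⟨M, hle, hM⟩ := Finite.exists_le_maximal hPπ
  obtain ⟨g, hg⟩ := h L M hL hM
  have hidx : M.index = L.index := by rw [hg]; exact Subgroup.index_map_equiv L (MulAut.conj g)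
  exact P.not_dvd_index (hd.trans (hidx ▸ Subgroup.index_dvd_of_le hle))

theorem dpi_of_one_prime {G : Type*} [Group G] [Finite G] {π : Set ℕ}
    (h : ∀ r s : ℕ, r.Prime → s.Prime → r ∈ π → s ∈ π → r ∣ Nat.card G → s ∣ Nat.card G → r = s) :
    Cfsg.IsDPiGroup π G := by
  intro H K hH hK
  refine HallConj.conj_of_one_prime h ?_ ?_ <;>
  · rename_i L hL
    refine ⟨by first | exact hH.1 | exact hK.1, fun p hp hpπ hd => ?_⟩
    haveI : Fact p.Prime := ⟨hp⟩
    have key : ∀ A : Subgroup G, Maximal (Cfsg.IsPiSubgroup π) A → ¬ p ∣ A.index := by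
      intro A hA hdA
      have hdG : p ∣ Nat.card G := hdA.trans A.index_dvd_card
      have hpA : IsPGroup p A := IsPGroup.iff_card.mpr ⟨_, Nat.eq_prime_pow_of_unique_prime_dvd
        Nat.card_pos.ne' fun {r} hr hrd =>
          h r p hr hp (hA.1 r hr hrd) hpπ (hrd.trans (Subgroup.card_subgroup_dvd_card A)) hdG⟩
      obtain ⟨P, hP⟩ := hpA.exists_le_sylow
      have hPA : (P : Subgroup G) ≤ A := hA.2 (fun q hq hqd => by
        obtain ⟨k, hk⟩ := IsPGroup.iff_card.mp P.2
        rw [hk] at hqd
        obtain rfl := (Nat.prime_dvd_prime_iff_eq hq hp).mp (hq.dvd_of_dvd_pow hqd)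
        exact hpπ) hP
      exact P.not_dvd_index (hdA.trans (Subgroup.index_dvd_of_le hPA))
    first | exact key _ hH hd | exact key _ hK hd

theorem dpi_of_all {G : Type*} [Group G] [Finite G] {π : Set ℕ}
    (h : ∀ r : ℕ, r.Prime → r ∣ Nat.card G → r ∈ π) : Cfsg.IsDPiGroup π G := by
  intro H K hH hK
  have key : ∀ A : Subgroup G, Maximal (Cfsg.IsPiSubgroup π) A → A = ⊤ := fun A hA =>
    top_le_iff.mp (hA.2 (fun q hq hd => h q hq (by rwa [Subgroup.card_top] at hd)) le_top)
  exact ⟨1, by rw [key H hH, key K hK, Subgroup.map_top_of_surjective _ (MulAut.conj (1 : G)).surjective]⟩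

variable {α : Type*} [Fintype α] [DecidableEq α]

theorem prime_dvd_alt {r : ℕ} (hr : r.Prime) (h4 : 4 ≤ Fintype.card α) :
    r ∣ Nat.card (alternatingGroup α) ↔ r ≤ Fintype.card α := by
  haveI : Nontrivial α := Fintype.one_lt_card_iff_nontrivial.mp (by omega)
  refine ⟨fun h => (HallConj.prime_dvd_card_iff hr).mp (h.trans (Subgroup.card_subgroup_dvd_card _)), fun h => ?_⟩
  have h2 : 2 * Nat.card (alternatingGroup α) = (Fintype.card α).factorial := by
    rw [two_mul_nat_card_alternatingGroup, Nat.card_perm, Nat.card_eq_fintype_card]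
  rcases eq_or_ne r 2 with rfl | hne
  · have h4' : 4 ∣ (Fintype.card α).factorial := Nat.dvd_factorial (by norm_num) h4
    omega
  · refine (hr.dvd_mul.mp (h2 ▸ hr.dvd_factorial.mpr h)).resolve_left fun hd => hne ?_
    exact (Nat.prime_dvd_prime_iff_eq hr Nat.prime_two).mp hd

/-- A set of points and its complement that are preserved by every even permutation
preserving a given pair. -/
theorem exists_move {a b : α} (hab : a ≠ b) (h5 : 5 ≤ Fintype.card α) (z : α) :
    ∃ g : Perm α, g ∈ alternatingGroup α ∧ g • ({a, b} : Finset α) = {a, b} ∧ g z ≠ z := by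
  classical
  have hrest : 3 ≤ ((Finset.univ : Finset α) \ {a, b}).card := by
    rw [Finset.card_sdiff, Finset.inter_univ, Finset.card_univ, Finset.card_pair hab]
    omega
  have hsmul : ∀ g : Perm α, g • ({a, b} : Finset α) = {g a, g b} := fun g => by
    rw [Finset.smul_finset_insert, Finset.smul_finset_singleton]; rfl
  by_cases hz : z = a ∨ z = b
  · obtain ⟨c, hc, d, hd, hcd⟩ := Finset.one_lt_card.mp (show 1 < ((Finset.univ : Finset α) \ {a, b}).card by omega)
    simp only [Finset.mem_sdiff, Finset.mem_univ, true_and, Finset.mem_insert, Finset.mem_singleton, not_or] at hc hd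
    refine ⟨swap a b * swap c d, mem_alternatingGroup.mpr (by rw [map_mul, sign_swap hab, sign_swap hcd]; simp), ?_, ?_⟩
    · rw [hsmul, Perm.mul_apply, Perm.mul_apply, swap_apply_of_ne_of_ne (Ne.symm hc.1) (Ne.symm hd.1),
        swap_apply_of_ne_of_ne (Ne.symm hc.2) (Ne.symm hd.2), swap_apply_left, swap_apply_right, Finset.pair_comm]
    · rcases hz with rfl | rfl
      · rw [Perm.mul_apply, swap_apply_of_ne_of_ne (Ne.symm hc.1) (Ne.symm hd.1), swap_apply_left]
        exact hab.symm
      · rw [Perm.mul_apply, swap_apply_of_ne_of_ne (Ne.symm hc.2) (Ne.symm hd.2), swap_apply_right]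
        exact hab
  · rw [not_or] at hz
    have hz' : z ∈ (Finset.univ : Finset α) \ {a, b} := by simp [hz.1, hz.2]
    obtain ⟨c, hc, d, hd, hcd⟩ := Finset.one_lt_card.mp
      (show 1 < (((Finset.univ : Finset α) \ {a, b}).erase z).card by
        rw [Finset.card_erase_of_mem hz']; omega)
    simp only [Finset.mem_erase, Finset.mem_sdiff, Finset.mem_univ, true_and, Finset.mem_insert,
      Finset.mem_singleton, not_or] at hc hd
    refine ⟨swap z c * swap z d, mem_alternatingGroup.mpr (by
      rw [map_mul, sign_swap (Ne.symm hc.1), sign_swap (Ne.symm hd.1)]; simp), ?_, ?_⟩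
    · rw [hsmul, Perm.mul_apply, Perm.mul_apply, swap_apply_of_ne_of_ne (Ne.symm hz.1) (Ne.symm hd.2.1),
        swap_apply_of_ne_of_ne (Ne.symm hz.1) (Ne.symm hc.2.1),
        swap_apply_of_ne_of_ne (Ne.symm hz.2) (Ne.symm hd.2.2),
        swap_apply_of_ne_of_ne (Ne.symm hz.2) (Ne.symm hc.2.2)]
    · rw [Perm.mul_apply, swap_apply_left, swap_apply_of_ne_of_ne hd.1 (Ne.symm hcd)]
      exact hd.1

/-- For prime degree the pair stabiliser is a `π`-subgroup outside every point stabiliser. -/
theorem pair_pi {π : Set ℕ} (hp : (Fintype.card α).Prime) (h5 : 5 ≤ Fintype.card α) {a b : α}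
    (hab : a ≠ b) (hπ : ∀ r : ℕ, r.Prime → r < Fintype.card α → r ∈ π) :
    Cfsg.IsPiSubgroup π ((MulAction.stabilizer (Perm α) ({a, b} : Finset α)).subgroupOf (alternatingGroup α)) := by
  classical
  intro r hr hd
  by_contra hrπ
  have hrn : r ≤ Fintype.card α :=
    (HallConj.prime_dvd_card_iff hr).mp ((hd.trans (Subgroup.card_subgroup_dvd_card _)).trans (Subgroup.card_subgroup_dvd_card _))
  obtain rfl : r = Fintype.card α := by
    by_contra hne
    exact hrπ (hπ r hr (by omega))
  haveI : Fact (Fintype.card α).Prime := ⟨hp⟩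
  obtain ⟨g, hg⟩ := exists_prime_orderOf_dvd_card' _ hd
  have hg' : orderOf ((g : alternatingGroup α) : Perm α) = Fintype.card α := by
    rw [Subgroup.orderOf_coe, Subgroup.orderOf_coe, hg]
  set σ := ((g : alternatingGroup α) : Perm α)
  have hfix : σ • ({a, b} : Finset α) = {a, b} := g.2
  have himg : ∀ y ∈ ({a, b} : Finset α), σ y ∈ ({a, b} : Finset α) := fun y hy => by
    have h := Finset.smul_mem_smul_finset (a := σ) hy
    rwa [hfix] at h
  have h2 : (σ ^ 2) a = a := by
    have h1 := himg a (by simp)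
    rw [Finset.mem_insert, Finset.mem_singleton] at h1
    rw [sq, Perm.mul_apply]
    rcases h1 with h | h
    · rw [h, h]
    · have h1' := himg b (by simp)
      rw [Finset.mem_insert, Finset.mem_singleton] at h1'
      rw [h]
      exact h1'.resolve_right fun h' => hab (σ.injective (h.trans h'.symm))
  have hmem : σ ^ 2 ∈ MulAction.stabilizer (Perm α) a := h2
  have hord : orderOf (σ ^ 2) = Fintype.card α := by
    have hcop : Nat.Coprime (orderOf σ) 2 := by
      rw [hg']; exact (Nat.coprime_primes hp Nat.prime_two).mpr (by omega)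
    rw [hcop.orderOf_pow, hg']
  have hdv := Subgroup.orderOf_dvd_natCard _ hmem
  rw [hord] at hdv
  haveI : Nonempty α := ⟨a⟩
  have hcm := (MulAction.stabilizer (Perm α) a).card_mul_index
  rw [MulAction.index_stabilizer_of_transitive, Nat.card_perm, Nat.card_eq_fintype_card (α := α)] at hcm
  obtain ⟨k, hk⟩ : ∃ k, Fintype.card α = k + 1 := ⟨Fintype.card α - 1, by omega⟩
  rw [hk, Nat.factorial_succ, mul_comm] at hcm
  rw [hk] at hdv
  have := Nat.eq_of_mul_eq_mul_left (by omega) hcm
  rw [this] at hdv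
  rw [hk] at hp
  exact absurd ((hp.dvd_factorial).mp hdv) (by omega)

end H60.HallDpi
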