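import Cfsg.Agent.H27.ConjUnion
import Cfsg.Agent.H33.TwoPrime
import Cfsg.Agent.H1.ThompsonComplement
import Cfsg.Agent.H1.FPF
import Cfsg.Agent.H5.PResidual
import Mathlib.GroupTheory.Transfer

/-! A finite group `H` permuting a non-abelian simple group `S` by automorphisms and
anti-automorphisms, inducing all inner automorphisms, cannot have maximal stabilisers of all
non-trivial elements. -/

set_option autoImplicit false

namespace H60

variable {H S : Type*} [Group H] [Group S] [Finite S] [IsSimpleGroup S]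

/-- Stabiliser of a point under a permutation representation. -/
def fixer (ρ : H →* Equiv.Perm S) (x : S) : Subgroup H :=
  (MulAction.stabilizer (Equiv.Perm S) x).comap ρ

theorem mem_fixer {ρ : H →* Equiv.Perm S} {x : S} {h : H} : h ∈ fixer ρ x ↔ ρ h x = x := Iff.rfl

theorem no_maximal_centralizers (hS : ¬ ∀ a b : S, a * b = b * a) (ρ : H →* Equiv.Perm S)
    (haut : ∀ h : H, (∀ x y, ρ h (x * y) = ρ h x * ρ h y) ∨ (∀ x y, ρ h (x * y) = ρ h y * ρ h x))
    (hinn : ∀ c : S, ∃ h : H, ∀ x, ρ h x = c * x * c⁻¹)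
    (hmax : ∀ x : S, x ≠ 1 → IsCoatom (fixer ρ x)) : False := by
  classical
  -- images of one, products of commuting elements, powers
  have hone : ∀ h, ρ h 1 = 1 := fun h => by
    rcases haut h with k | k <;> simpa using k 1 1
  have hmulc : ∀ h x y, x * y = y * x → ρ h (x * y) = ρ h x * ρ h y ∧ ρ h x * ρ h y = ρ h y * ρ h x := by
    intro h x y hxy
    rcases haut h with k | k
    · exact ⟨k x y, by rw [← k, ← k, hxy]⟩
    · exact ⟨by rw [hxy, k], by rw [← k, ← k, hxy]⟩
  have hpow : ∀ h x (n : ℕ), ρ h (x ^ n) = ρ h x ^ n := by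
    intro h x n
    induction n with
    | zero => simp [hone]
    | succ n ih => rw [pow_succ, (hmulc h (x ^ n) x (Commute.self_pow x n).symm.eq).1, ih, pow_succ]
  have hcentre : ∀ x : S, x ≠ 1 → ∃ c : S, c * x ≠ x * c := by
    intro x hx
    by_contra h
    push Not at h
    rcases (inferInstance : (Subgroup.center S).Normal).eq_bot_or_eq_top with hc | hc
    · exact hx (Subgroup.mem_bot.mp (hc ▸ Subgroup.mem_center_iff.mpr h))
    · exact hS fun a b => (Subgroup.mem_center_iff.mp (hc ▸ Subgroup.mem_top a) b).symm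
  -- a set fixed by the stabiliser of `x`
  have hset : ∀ x : S, x ≠ 1 → ∀ A : Set S, (∀ h, ρ h x = x → ∀ y ∈ A, ρ h y ∈ A) →
      (∀ c, ∀ y ∈ A, c * y * c⁻¹ ∈ A) ∨ ∀ c, (∀ y ∈ A, c * y * c⁻¹ ∈ A) → c * x = x * c := by
    intro x hx A hA
    let K : Subgroup H :=
      { carrier := {h | ∀ y, ρ h y ∈ A ↔ y ∈ A}
        one_mem' := fun y => by simp
        mul_mem' := fun {a b} ha hb y => by rw [map_mul, Equiv.Perm.mul_apply]; exact (ha _).trans (hb y)
        inv_mem' := fun {a} ha y => by
          have h1 := ha ((ρ a)⁻¹ y)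
          rw [Equiv.Perm.coe_inv, Equiv.apply_symm_apply] at h1
          rw [map_inv, Equiv.Perm.coe_inv]
          exact h1.symm }
    have hle : fixer ρ x ≤ K := by
      intro h hh y
      refine ⟨fun hy => ?_, fun hy => hA h hh y hy⟩
      have := hA h⁻¹ (inv_mem hh) _ hy
      rwa [map_inv, Equiv.Perm.coe_inv, Equiv.symm_apply_apply] at this
    rcases eq_or_lt_of_le hle with heq | hlt
    · refine Or.inr fun c hc => ?_
      obtain ⟨h, hh⟩ := hinn c
      have hm : h ∈ K := by
        intro y
        refine ⟨fun hy => ?_, fun hy => hh y ▸ hc y hy⟩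
        -- conjugation by `c` is bijective on `A`
        have hinj : Set.InjOn (fun z => c * z * c⁻¹) A := fun a _ b _ e => by
          simpa using mul_left_cancel (mul_right_cancel e)
        have hsurj := (Set.toFinite A).surjOn_iff_bijOn_of_mapsTo (f := fun z => c * z * c⁻¹)
          (fun z hz => hc z hz)
        have hb : Set.BijOn (fun z => c * z * c⁻¹) A A :=
          hsurj.mp ((Set.toFinite A).injOn_iff_bijOn_of_mapsTo (fun z hz => hc z hz) |>.mp hinj).surjOn
        obtain ⟨z, hz, hze⟩ := hb.surjOn (hh y ▸ hy : c * y * c⁻¹ ∈ A)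
        have : z = y := mul_left_cancel (mul_right_cancel hze)
        exact this ▸ hz
      rw [← heq, mem_fixer, hh, mul_inv_eq_iff_eq_mul] at hm
      exact hm
    · refine Or.inl fun c y hy => ?_
      obtain ⟨h, hh⟩ := hinn c
      exact hh y ▸ (((hmax x hx).2 K hlt) ▸ Subgroup.mem_top h : h ∈ K) y |>.mpr hy
  have hpows : ∀ x : S, x ≠ 1 → ∀ c, c * x * c⁻¹ ∈ Subgroup.zpowers x → c * x = x * c := by
    intro x hx c hc
    rcases hset x hx (Subgroup.zpowers x : Set S) (fun h hh y hy => by
        obtain ⟨n, rfl⟩ := mem_zpowers_iff_mem_range_orderOf.mp hy |>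
          Finset.mem_image.mp |>.imp fun n hn => hn.2
        rw [hpow, hh]; exact pow_mem (Subgroup.mem_zpowers x) n) with h | h
    · exfalso
      have hn : (Subgroup.zpowers x).Normal := ⟨fun y hy c => h c y hy⟩
      rcases hn.eq_bot_or_eq_top with h' | h'
      · exact hx (Subgroup.zpowers_eq_bot.mp h')
      · refine hS fun a b => ?_
        obtain ⟨i, rfl⟩ := Subgroup.mem_zpowers_iff.mp (h' ▸ Subgroup.mem_top a : a ∈ Subgroup.zpowers x)
        obtain ⟨j, rfl⟩ := Subgroup.mem_zpowers_iff.mp (h' ▸ Subgroup.mem_top b : b ∈ Subgroup.zpowers x)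
        exact zpow_mul_comm x i j
    · refine h c fun y hy => ?_
      obtain ⟨n, rfl⟩ := Subgroup.mem_zpowers_iff.mp hy
      rw [← conj_zpow]; exact zpow_mem hc n
  -- no involutions
  have hodd : ∀ p : ℕ, p.Prime → p ∣ Nat.card S → p ≠ 2 := by
    rintro p hp hd rfl
    haveI : Fact (Nat.Prime 2) := ⟨hp⟩
    have hcomm : ∀ u v : S, orderOf u = 2 → orderOf v = 2 → u * v = v * u := by
      intro u v hu hv
      by_contra hne
      have hu2 : u * u = 1 := by rw [← sq, ← hu, pow_orderOf_eq_one]
      have hv2 : v * v = 1 := by rw [← sq, ← hv, pow_orderOf_eq_one]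
      have hui : u⁻¹ = u := inv_eq_of_mul_eq_one_right hu2
      have hvi : v⁻¹ = v := inv_eq_of_mul_eq_one_right hv2
      refine hne ?_
      have hx : u * v ≠ 1 := fun h => hne (by rw [← (inv_eq_of_mul_eq_one_right h), hui])
      have := hpows (u * v) hx u (by
        have : u * (u * v) * u⁻¹ = (u * v)⁻¹ := by
          rw [mul_inv_rev, hui, hvi, ← mul_assoc, hu2, one_mul]
        rw [this]; exact inv_mem (Subgroup.mem_zpowers _))
      rw [← mul_assoc, hu2, one_mul] at this
      calc u * v = u * ((u * v) * u) := by rw [← this]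
        _ = v * u := by rw [← mul_assoc, ← mul_assoc, hu2, one_mul]
    obtain ⟨u, hu⟩ := exists_prime_orderOf_dvd_card' 2 hd
    let M := Subgroup.closure {v : S | orderOf v = 2}
    have hMn : M.Normal := by
      refine ⟨fun y hy c => ?_⟩
      induction hy using Subgroup.closure_induction with
      | mem z hz => exact Subgroup.subset_closure ((MulEquiv.orderOf_eq (MulAut.conj c) z).trans hz)
      | one => simp
      | mul a b _ _ ha hb => rw [← conj_mul]; exact mul_mem ha hb
      | inv a _ ha => rw [← conj_inv]; exact inv_mem ha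
    rcases hMn.eq_bot_or_eq_top with h' | h'
    · have : u ∈ M := Subgroup.subset_closure hu
      rw [h', Subgroup.mem_bot] at this
      rw [this, orderOf_one] at hu
      omega
    · refine hS fun a b => ?_
      have hab := Subgroup.isMulCommutative_closure (k := {v : S | orderOf v = 2}) fun a ha b hb => hcomm a b ha hb
      have hmem : ∀ t : S, t ∈ M := fun t => by rw [h']; trivial
      exact congrArg Subtype.val (hab.is_comm.comm (⟨a, hmem a⟩ : M) ⟨b, hmem b⟩)
  -- centralisers of coprime commuting elements agree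
  have hCpow : ∀ (x : S) (n : ℕ), x ≠ 1 → x ^ n ≠ 1 → ∀ c, c * x ^ n = x ^ n * c → c * x = x * c := by
    intro x n hx hn c hc
    have heq : fixer ρ x = fixer ρ (x ^ n) := by
      have hle : fixer ρ x ≤ fixer ρ (x ^ n) := fun h hh => by
        rw [mem_fixer, hpow, mem_fixer.mp hh]
      exact (eq_or_lt_of_le hle).resolve_right fun hlt => (hmax _ hn).1 ((hmax x hx).2 _ hlt)
    obtain ⟨h, hh⟩ := hinn c
    have hm : h ∈ fixer ρ (x ^ n) := by rw [mem_fixer, hh, mul_inv_eq_iff_eq_mul, hc]
    rw [← heq, mem_fixer, hh, mul_inv_eq_iff_eq_mul] at hm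
    exact hm
  have hCcop : ∀ x y : S, x ≠ 1 → y ≠ 1 → x * y = y * x → (orderOf x).Coprime (orderOf y) →
      ∀ c, c * x = x * c → c * y = y * c := by
    intro x y hx hy hxy hco c hc
    have hxy1 : x * y ≠ 1 := by
      intro h
      have : orderOf y = orderOf x := by rw [← inv_eq_of_mul_eq_one_right h, orderOf_inv]
      rw [this] at hco
      exact hx (orderOf_eq_one_iff.mp ((Nat.coprime_self _).mp hco))
    have hpw : ∀ a b : S, Commute a b → (orderOf a).Coprime (orderOf b) → ∃ n : ℕ, (a * b) ^ n = a := by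
      intro a b hab hco
      obtain ⟨m, hm⟩ := exists_pow_eq_self_of_coprime hco.symm
      exact ⟨orderOf b * m, by rw [pow_mul, hab.mul_pow, pow_orderOf_eq_one, mul_one, hm]⟩
    obtain ⟨n, hn⟩ := hpw x y hxy hco
    have h1 : c * (x * y) = x * y * c := hCpow (x * y) n hxy1 (by rwa [hn]) c (by rwa [hn])
    rw [← mul_assoc, hc, mul_assoc, mul_assoc] at h1
    exact mul_left_cancel h1
  -- a prime, its Sylow subgroup and a central element
  obtain ⟨p, hp, hd⟩ := Nat.exists_prime_and_dvd (Finite.one_lt_card (α := S)).ne'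
  haveI : Fact p.Prime := ⟨hp⟩
  obtain ⟨P⟩ : Nonempty (Sylow p S) := inferInstance
  obtain ⟨z, hzP, hz1, hzc⟩ := H27.exists_central_ne_one P hd
  set C : Subgroup S := Subgroup.centralizer ({z} : Set S) with hCdef
  have hmemC : ∀ y, y ∈ C ↔ y * z = z * y := fun y => Subgroup.mem_centralizer_singleton_iff
  have hPC : (P : Subgroup S) ≤ C := fun y hy => (hmemC y).mpr (Subgroup.mem_centralizer_iff.mp hzc y hy)
  have hCinv : ∀ h, ρ h z = z → ∀ y ∈ C, ρ h y ∈ C := by
    intro h hh y hy
    have := (hmulc h y z ((hmemC y).mp hy)).2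
    rw [hh] at this
    exact (hmemC _).mpr this
  have hNC : ∀ c, (∀ y ∈ C, c * y * c⁻¹ ∈ C) → c ∈ C := by
    intro c hc
    rcases hset z hz1 (C : Set S) hCinv with h | h
    · exfalso
      have hn : C.Normal := ⟨fun y hy c => h c y hy⟩
      rcases hn.eq_bot_or_eq_top with h' | h'
      · exact hz1 (Subgroup.mem_bot.mp (h' ▸ hPC hzP))
      · obtain ⟨d, hd⟩ := hcentre z hz1
        exact hd ((hmemC d).mp (h' ▸ Subgroup.mem_top d))
    · exact (hmemC c).mpr (h c hc)
  obtain ⟨kz, hkz⟩ := P.2 ⟨z, hzP⟩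
  have hzord : ∃ j, orderOf z = p ^ j := by
    obtain ⟨j, -, hj⟩ := (Nat.dvd_prime_pow hp).mp
      (orderOf_dvd_of_pow_eq_one (congrArg Subtype.val hkz : z ^ (p ^ kz) = 1))
    exact ⟨j, hj⟩
  -- elements of `C` which are not `p`-elements are central in `C`
  have hcentral : ∀ y ∈ C, (∀ j, orderOf y ≠ p ^ j) → ∀ w ∈ C, w * y = y * w := by
    intro y hy hyp w hw
    obtain ⟨q, hq, hqd, hqp⟩ : ∃ q, q.Prime ∧ q ∣ orderOf y ∧ q ≠ p := by
      by_contra h
      push Not at h
      exact hyp _ (Nat.eq_prime_pow_of_unique_prime_dvd (orderOf_pos y).ne' fun {q} hq hqd => h q hq hqd)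
    have hy1 : y ≠ 1 := fun h => hyp 0 (by rw [h]; simp)
    obtain ⟨d, hd'⟩ := hqd
    have hy'o : orderOf (y ^ d) = q := by
      rw [orderOf_pow, hd', Nat.gcd_mul_left_left, Nat.mul_div_cancel q]
      rcases Nat.eq_zero_or_pos d with h | h
      · rw [h, mul_zero] at hd'; exact absurd hd' (orderOf_pos y).ne'
      · exact h
    have hy'1 : y ^ d ≠ 1 := fun h => hq.ne_one (by rw [← hy'o, h, orderOf_one])
    obtain ⟨j, hj⟩ := hzord
    refine hCpow y d hy1 hy'1 w (hCcop z (y ^ d) hz1 hy'1 ?_ ?_ w ((hmemC w).mp hw))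
    · exact (Commute.pow_left ((hmemC y).mp hy) d).symm.eq
    · rw [hj, hy'o]
      exact Nat.Coprime.pow_left _ ((Nat.coprime_primes hp hq).mpr (Ne.symm hqp))
  by_cases hab : ∀ a ∈ C, ∀ b ∈ C, a * b = b * a
  · -- abelian: Burnside
    have hCP : C = Subgroup.centralizer ((P : Subgroup S) : Set S) :=
      le_antisymm (fun a ha => Subgroup.mem_centralizer_iff.mpr fun b hb => hab b (hPC hb) a ha)
        (fun a ha => (hmemC a).mpr (Subgroup.mem_centralizer_iff.mp ha z hzP).symm)
    have hNP : Subgroup.normalizer ((P : Subgroup S) : Set S) ≤ Subgroup.centralizer ((P : Subgroup S) : Set S) := by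
      intro c hc
      rw [← hCP]
      refine hNC c fun y hy => ?_
      rw [hCP, Subgroup.mem_centralizer_iff] at hy ⊢
      intro b hb
      have hb' : c⁻¹ * b * c ∈ (P : Subgroup S) := by
        simpa using (Subgroup.mem_normalizer_iff.mp (inv_mem hc) b).mp hb
      have := hy _ hb'
      calc b * (c * y * c⁻¹) = c * (c⁻¹ * b * c * y) * c⁻¹ := by group
        _ = c * (y * (c⁻¹ * b * c)) * c⁻¹ := by rw [this]
        _ = c * y * c⁻¹ * b := by group
    have hcompl := MonoidHom.ker_transferSylow_isComplement' P hNP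
    rcases (inferInstance : (MonoidHom.transferSylow P hNP).ker.Normal).eq_bot_or_eq_top with h | h
    · rw [h, Subgroup.isComplement'_bot_left] at hcompl
      haveI : Group.IsSolvable S := by
        haveI : IsPGroup p S := by
          have h2 := P.2
          rw [hcompl] at h2
          exact h2.of_equiv Subgroup.topEquiv
        exact H33.isSolvable_of_two_primes hp hp fun r hr hd => Or.inl (by
          obtain ⟨n, hn⟩ := IsPGroup.iff_card.mp ‹IsPGroup p S›
          exact (Nat.prime_dvd_prime_iff_eq hr hp).mp (hr.dvd_of_dvd_pow (hn ▸ hd)))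
      exact hS (IsSimpleGroup.comm_iff_isSolvable.mpr inferInstance)
    · rw [h, Subgroup.isComplement'_top_left] at hcompl
      exact P.ne_bot_of_dvd_card hd hcompl
  · -- `C` is a `p`-group
    have hCp : IsPGroup p C := by
      intro y
      by_contra hyp
      push Not at hyp
      have hyj : ∀ j, orderOf (y : S) ≠ p ^ j := fun j hj =>
        hyp j (Subtype.ext (by rw [SubmonoidClass.coe_pow, ← hj, pow_orderOf_eq_one]; rfl))
      apply hab
      have key : ∀ w ∈ C, ∀ b ∈ C, b * w = w * b := by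
        intro w hw b hb
        by_cases hwp : ∀ j, orderOf w ≠ p ^ j
        · exact hcentral w hw hwp b hb
        push Not at hwp
        obtain ⟨j, hj⟩ := hwp
        rcases eq_or_ne w 1 with rfl | hw1
        · simp
        have hyw : (y : S) * w = w * y := (hcentral y y.2 hyj w hw).symm
        obtain ⟨q, hq, hqd, hqp⟩ : ∃ q, q.Prime ∧ q ∣ orderOf (y : S) ∧ q ≠ p := by
          by_contra h
          push Not at h
          exact hyj _ (Nat.eq_prime_pow_of_unique_prime_dvd (orderOf_pos (y : S)).ne' fun {q} hq hqd => h q hq hqd)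
        obtain ⟨d, hd'⟩ := hqd
        have hd0 : 0 < d := by
          rcases Nat.eq_zero_or_pos d with h | h
          · rw [h, mul_zero] at hd'; exact absurd hd' (orderOf_pos (y : S)).ne'
          · exact h
        have hy'o : orderOf ((y : S) ^ d) = q := by
          rw [orderOf_pow, hd', Nat.gcd_mul_left_left, Nat.mul_div_cancel q hd0]
        refine hCcop ((y : S) ^ d) w (fun h => hq.ne_one (by rw [← hy'o, h, orderOf_one])) hw1
          (Commute.pow_left hyw d).eq ?_ b ((Commute.pow_right (hcentral y y.2 hyj b hb) d).eq)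
        rw [hy'o, hj]
        exact Nat.Coprime.pow_right _ ((Nat.coprime_primes hq hp).mpr hqp)
      exact fun a ha b hb => key b hb a ha
    have hCeq : C = (P : Subgroup S) := P.3 hCp hPC
    have hJinv : ∀ h, ρ h z = z → ∀ y ∈ Cfsg.thompsonSubgroupOf p (P : Subgroup S),
        ρ h y ∈ Cfsg.thompsonSubgroupOf p (P : Subgroup S) := by
      intro h hh
      rcases haut h with k | k
      · exact H1.thompsonSubgroupOf_invariant (MulEquiv.mk' (ρ h) k) p fun x hx =>
          hCeq ▸ hCinv h hh x (hPC hx)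
      · intro y hy
        have hφ : ∀ x, (ρ h).trans (Equiv.inv S) x = (ρ h x)⁻¹ := fun x => rfl
        have := H1.thompsonSubgroupOf_invariant
          (MulEquiv.mk' ((ρ h).trans (Equiv.inv S)) fun a b => by rw [hφ, hφ, hφ, k, mul_inv_rev])
          p (fun x hx => Subgroup.inv_mem _ (hCeq ▸ hCinv h hh x (hPC hx))) y hy
        exact (Subgroup.inv_mem_iff _).mp this
    have hNJ : Subgroup.normalizer (Cfsg.thompsonSubgroupOf p (P : Subgroup S) : Set S) ≤ (P : Subgroup S) := by
      intro c hc
      rcases hset z hz1 (Cfsg.thompsonSubgroupOf p (P : Subgroup S) : Set S) hJinv with h | h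
      · exfalso
        have hn : (Cfsg.thompsonSubgroupOf p (P : Subgroup S)).Normal := ⟨fun y hy c => h c y hy⟩
        rcases hn.eq_bot_or_eq_top with h' | h'
        · exact H1.thompsonSubgroupOf_ne_bot' P.2 (P.ne_bot_of_dvd_card hd) h'
        · have hPt : (P : Subgroup S) = ⊤ :=
            top_le_iff.mp (h' ▸ H1.thompsonSubgroupOf_le p (P : Subgroup S))
          obtain ⟨d, hd⟩ := hcentre z hz1
          exact hd ((hmemC d).mp (hPC (hPt ▸ Subgroup.mem_top d)))
      · exact hCeq ▸ (hmemC c).mpr (h c fun y hy => (Subgroup.mem_normalizer_iff.mp hc y).mp hy)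
    have hCZ : Subgroup.centralizer (((P : Subgroup S) ⊓ Subgroup.centralizer ((P : Subgroup S) : Set S) :
        Subgroup S) : Set S) ≤ (P : Subgroup S) := fun c hc =>
      hCeq ▸ (hmemC c).mpr (Subgroup.mem_centralizer_iff.mp hc z ⟨hzP, hzc⟩).symm
    obtain ⟨Q, N, hNn, hNc⟩ := H1.thompson_normal_p_complement (hodd p hp hd) P
      (H5.hasNormalPComplement_of_isPGroup (P.2.to_le hNJ))
      (H5.hasNormalPComplement_of_isPGroup (P.2.to_le hCZ))
    rcases hNn.eq_bot_or_eq_top with h | h
    · rw [h, Subgroup.isComplement'_bot_left] at hNc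
      have h2 := Q.2
      rw [hNc] at h2
      obtain ⟨n, hn⟩ := IsPGroup.iff_card.mp h2
      rw [Subgroup.card_top] at hn
      exact hS (IsSimpleGroup.comm_iff_isSolvable.mpr (H33.isSolvable_of_two_primes hp hp fun r hr hd =>
        Or.inl ((Nat.prime_dvd_prime_iff_eq hr hp).mp (hr.dvd_of_dvd_pow (hn ▸ hd)))))
    · rw [h, Subgroup.isComplement'_top_left] at hNc
      exact Q.ne_bot_of_dvd_card hd hNc

end H60
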