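import Cfsg.Agent.H60.MaxClassParity

/-!
Scalars of an automorphism on the layers of a `p`-group of maximal class: no automorphism acts on
the top three layers as `1, ±1, ∓1` (`-1` on the centre when the two exceptional centralizers agree).
-/

set_option autoImplicit false
set_option linter.unusedSectionVars false

open Subgroup
open scoped commutatorElement
open H30 (lcsT twoStep mem_twoStep)

namespace H60.MaxSgn

universe u

variable {G : Type u} [Group G] {p n : ℕ}

/-- `α` raises `g` to the power `a` modulo `K`. -/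
def Sc (α : MulAut G) (K : Subgroup G) (g : G) (a : ℤ) : Prop := (g ^ a)⁻¹ * α g ∈ K

theorem lcs_apply (α : MulAut G) {i : ℕ} {x : G} (hx : x ∈ lcsT G i) : α x ∈ lcsT G i := by
  have h := (inferInstance : (lcsT G i).Characteristic).fixed α
  exact (SetLike.ext_iff.1 h x).2 hx

theorem twoStep_apply (α : MulAut G) {i : ℕ} {x : G} (hx : x ∈ twoStep G i) : α x ∈ twoStep G i := by
  refine mem_twoStep.2 fun y hy => ?_
  have h := lcs_apply α (mem_twoStep.1 hx _ (lcs_apply α⁻¹ hy))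
  rwa [map_commutatorElement, MulAut.apply_inv_self] at h

theorem lcs_zero (g : G) : g ∈ lcsT G 0 := by rw [lcsT, Subgroup.lowerCentralSeries_zero]; trivial

variable {j : ℕ}

theorem q_central {z : G} (hz : z ∈ lcsT G (j + 1)) (w : G) :
    Commute (QuotientGroup.mk' (lcsT G (j + 2)) z) (QuotientGroup.mk' (lcsT G (j + 2)) w) := by
  rw [← commutatorElement_eq_one_iff_commute, ← map_commutatorElement]
  exact (QuotientGroup.eq_one_iff _).2 (H34.commutator_mem_lcs_succ hz w)

/-- `w ↦ [x, w]` modulo `γ (j + 2)` for `x` in `γ j`. -/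
def rightHom {x : G} (hx : x ∈ lcsT G j) : G →* G ⧸ lcsT G (j + 2) :=
  MonoidHom.mk' (fun w => QuotientGroup.mk' _ ⁅x, w⁆) fun a b => by
    rw [show ⁅x, a * b⁆ = ⁅x, a⁆ * (a * ⁅x, b⁆ * a⁻¹) by simp only [commutatorElement_def]; group,
      map_mul, map_mul, map_mul, map_inv, ← (q_central (H34.commutator_mem_lcs_succ hx b) a).eq,
      mul_inv_cancel_right]

/-- Commuting multiplies scalars. -/
theorem sc_comm (α : MulAut G) {x g : G} {c a : ℤ} (hx : x ∈ lcsT G j)
    (hxc : Sc α (lcsT G (j + 1)) x c) (hg : Sc α (twoStep G j) g a) :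
    Sc α (lcsT G (j + 2)) ⁅x, g⁆ (c * a) := by
  set q := QuotientGroup.mk' (lcsT G (j + 2)) with hq
  unfold Sc at *
  rw [← QuotientGroup.eq, map_commutatorElement, QuotientGroup.mk_zpow]
  show q ⁅x, g⁆ ^ (c * a) = q ⁅α x, α g⁆
  set r := (x ^ c)⁻¹ * α x with hr
  set t := (g ^ a)⁻¹ * α g with ht
  have hαx : α x = x ^ c * r := by rw [hr, mul_inv_cancel_left]
  have hαg : α g = g ^ a * t := by rw [ht, mul_inv_cancel_left]
  have hxj : x ^ c ∈ lcsT G j := zpow_mem hx c
  have hrj : r ∈ lcsT G j := mul_mem (inv_mem hxj) (lcs_apply α hx)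
  have e1 : ∀ w, q ⁅x ^ c * r, w⁆ = q ⁅x ^ c, w⁆ := fun w => by
    have hrw : q ⁅r, w⁆ = 1 := (QuotientGroup.eq_one_iff _).2 (H34.commutator_mem_lcs_succ hxc w)
    rw [show ⁅x ^ c * r, w⁆ = x ^ c * ⁅r, w⁆ * (x ^ c)⁻¹ * ⁅x ^ c, w⁆ by
      simp only [commutatorElement_def]; group, map_mul, map_mul, map_mul, hrw, mul_one, map_inv,
      mul_inv_cancel, one_mul]
  rw [hαx, hαg, e1]
  have e2 : q ⁅x ^ c, g ^ a * t⁆ = q ⁅x ^ c, g⁆ ^ a := by
    have h := map_mul (rightHom hxj) (g ^ a) t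
    rw [map_zpow] at h
    refine h.trans ?_
    rw [show rightHom hxj t = 1 from (QuotientGroup.eq_one_iff _).2 (mem_twoStep.1 hg _ hxj), mul_one]
    rfl
  rw [e2]
  have e3 : q ⁅x ^ c, g⁆ = q ⁅x, g⁆ ^ c := by
    have h := map_zpow (H34.stepHom g j) (⟨x, hx⟩ : lcsT G j) c
    exact h
  rw [e3, ← zpow_mul]

theorem sc_mono {α : MulAut G} {K L : Subgroup G} (h : K ≤ L) {g : G} {a : ℤ} (hs : Sc α K g a) :
    Sc α L g a := h hs

variable [Finite G] [hp : Fact p.Prime]

/-- The scalar is determined modulo `p`. -/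
theorem sc_unique {α : MulAut G} {K : Subgroup G} {g : G} (hgp : g ^ p ∈ K) (hg : g ∉ K) {a b : ℤ}
    (ha : Sc α K g a) (hb : Sc α K g b) : (p : ℤ) ∣ a - b := by
  have h1 : g ^ (a - b) ∈ K := by
    have h := mul_mem ha (inv_mem hb)
    rw [show (g ^ a)⁻¹ * α g * ((g ^ b)⁻¹ * α g)⁻¹ = g ^ (-a + b) by group] at h
    rw [show a - b = -(-a + b) by ring, zpow_neg]
    exact inv_mem h
  by_contra hpk
  obtain ⟨u, v, huv⟩ := ((Nat.prime_iff_prime_int.1 hp.out).coprime_iff_not_dvd).2 hpk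
  refine hg ?_
  have : g ^ (u * p + v * (a - b) : ℤ) ∈ K := by
    rw [zpow_add, mul_comm u, mul_comm v, zpow_mul, zpow_mul, zpow_natCast]
    exact mul_mem (zpow_mem hgp u) (zpow_mem h1 v)
  rwa [huv, zpow_one] at this

theorem pow_mem_succ (h : H30.MaxCls G p n) (hj1 : 1 ≤ j) (hjn : j + 2 ≤ n) {x : G}
    (hx : x ∈ lcsT G j) : x ^ p ∈ lcsT G (j + 1) := by
  set N := lcsT G (j + 1)
  have hidx : (N.subgroupOf (lcsT G j)).index = p := by
    have h1 : N.relIndex (lcsT G j) * (lcsT G j).index = N.index :=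
      Subgroup.relIndex_mul_index (Subgroup.lowerCentralSeries_antitone _ (Nat.le_succ j))
    rw [h.lcs_index hj1 (by omega), h.lcs_index (by omega) (by omega), pow_succ' p (j + 1)] at h1
    exact Nat.eq_of_mul_eq_mul_right (pow_pos hp.out.pos _) h1
  have := Subgroup.pow_index_mem (N.subgroupOf (lcsT G j)) ⟨x, hx⟩
  rw [hidx] at this
  exact this

theorem notMem_twoStep_gen (h : H30.MaxCls G p n) (hj1 : 1 ≤ j) (hjn : j + 3 ≤ n) {x g : G}
    (hx : x ∈ lcsT G j) (hxn : x ∉ lcsT G (j + 1)) (hg : g ∉ twoStep G j) :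
    ⁅x, g⁆ ∉ lcsT G (j + 2) :=
  fun hc => hg (H34.twoStep_of_commute h hj1 (by omega) hx hxn hc)

/-- A two-step centralizer meeting another outside `γ₁` contains it. -/
theorem one_le_of_mem (h : H30.MaxCls G p n) (hn : 5 ≤ n) {K : Subgroup G} (hK : lcsT G 1 ≤ K)
    {g : G} (hg : g ∈ twoStep G 1) (hg1 : g ∉ lcsT G 1) (hgK : g ∈ K) : twoStep G 1 ≤ K := by
  have hlt : lcsT G 1 < lcsT G 1 ⊔ zpowers g := left_lt_sup.2 fun hh => hg1 (hh (mem_zpowers g))
  have hle : lcsT G 1 ⊔ zpowers g ≤ twoStep G 1 :=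
    sup_le (H34.lcs_one_le_twoStep 1) (zpowers_le.2 hg)
  have h1 := H30.card_mul_le_of_lt h.isPGroup hlt
  have h2 := H30.card_mul_le_of_lt h.isPGroup (lt_top_iff_ne_top.2 (h.twoStep_ne_top (i := 1) (by omega)))
  rw [h.lcs_card le_rfl (by omega)] at h1
  rw [Subgroup.card_top, h.card] at h2
  have h3 : Nat.card (twoStep G 1) ≤ Nat.card (lcsT G 1 ⊔ zpowers g : Subgroup G) := by
    refine le_trans (Nat.le_of_mul_le_mul_left ?_ hp.out.pos) h1
    refine h2.trans (le_of_eq ?_)
    rw [← pow_succ', ← pow_succ']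
    congr 1
    omega
  rw [← Subgroup.eq_of_le_of_card_ge hle h3]
  exact sup_le hK (zpowers_le.2 hgK)

/-- The final sign contradiction. -/
theorem no_auto (hp5 : 5 ≤ p) (h : H30.MaxCls G p n) (hn : 5 ≤ n) (α : MulAut G) (e : ℤ)
    (he : e = 1 ∨ e = -1)
    (hG3 : ∀ x ∈ lcsT G (n - 4), Sc α (lcsT G (n - 3)) x 1)
    (hZ2 : ∀ x ∈ lcsT G (n - 3), Sc α (lcsT G (n - 2)) x e)
    (hZ : ∀ x ∈ lcsT G (n - 2), α x = x ^ (-e))
    (he1 : twoStep G 1 = twoStep G (n - 3) → e = 1) : False := by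
  have hp2 : ¬ (p : ℤ) ∣ 2 := by
    intro hd
    have := Int.le_of_dvd (by norm_num) hd
    omega
  obtain ⟨s, hs⟩ := H34.exists_avoid n h (by omega)
  have hT : ∀ j, 1 ≤ j → j + 4 ≤ n → twoStep G j = twoStep G 1 := fun j hj hjn =>
    MaxPar.twoStep_eq (by omega) h hn hj hjn
  have hgen : ∀ i, i + 2 ≤ n → ∃ x ∈ lcsT G i, x ∉ lcsT G (i + 1) := fun i hi =>
    SetLike.not_le_iff_exists.1 (h.lcs_not_le (by omega))
  have hzero : ∀ x ∈ lcsT G (n - 2), Sc α (lcsT G (n - 1)) x (-e) := fun x hx => by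
    show _ ∈ lcsT G (n - 1)
    rw [hZ x hx, inv_mul_cancel]
    exact one_mem _
  obtain ⟨x4, hx4, hx4n⟩ := hgen (n - 4) (by omega)
  obtain ⟨x3, hx3, hx3n⟩ := hgen (n - 3) (by omega)
  rw [show n - 4 + 1 = n - 3 by omega] at hx4n
  rw [show n - 3 + 1 = n - 2 by omega] at hx3n
  -- the scalar of an element outside the two-step centralizer of the two top levels
  have top4 : ∀ {g : G} {a : ℤ}, g ∉ twoStep G (n - 4) → Sc α (twoStep G (n - 4)) g a →
      (p : ℤ) ∣ e - a := by
    intro g a hg hga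
    have hc := sc_comm α hx4 (by rw [show n - 4 + 1 = n - 3 by omega]; exact hG3 x4 hx4) hga
    rw [one_mul] at hc
    have hm := H34.commutator_mem_lcs_succ hx4 g
    rw [show n - 4 + 1 = n - 3 by omega] at hm
    have hn' := notMem_twoStep_gen h (j := n - 4) (by omega) (by omega) hx4
      (by rwa [show n - 4 + 1 = n - 3 by omega]) hg
    rw [show n - 4 + 2 = n - 2 by omega] at hn' hc
    have hp' := pow_mem_succ h (j := n - 3) (by omega) (by omega) hm
    rw [show n - 3 + 1 = n - 2 by omega] at hp'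
    exact sc_unique hp' hn' (hZ2 _ hm) hc
  have top3 : ∀ {g : G} {b : ℤ}, g ∉ twoStep G (n - 3) → Sc α (twoStep G (n - 3)) g b →
      (p : ℤ) ∣ -e - e * b := by
    intro g b hg hgb
    have hc := sc_comm α hx3 (by rw [show n - 3 + 1 = n - 2 by omega]; exact hZ2 x3 hx3) hgb
    have hm := H34.commutator_mem_lcs_succ hx3 g
    rw [show n - 3 + 1 = n - 2 by omega] at hm
    have hn' := notMem_twoStep_gen h (j := n - 3) (by omega) (by omega) hx3
      (by rwa [show n - 3 + 1 = n - 2 by omega]) hg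
    rw [show n - 3 + 2 = n - 1 by omega] at hn' hc
    have hp' := pow_mem_succ h (j := n - 2) (by omega) (by omega) hm
    rw [show n - 2 + 1 = n - 1 by omega] at hp'
    exact sc_unique hp' hn' (hzero _ hm) hc
  by_cases hCM : twoStep G 1 = twoStep G (n - 3)
  · obtain rfl := he1 hCM
    have h4 : twoStep G (n - 4) = twoStep G (n - 3) := by rw [hT _ (by omega) (by omega), hCM]
    obtain ⟨k, hk⟩ := H34.exists_mul_mem_twoStep h (i := n - 3) (by omega) (by omega)
      (hs _ (by omega)) (α s)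
    have hsc : Sc α (twoStep G (n - 3)) s (-k) := by
      show _ ∈ twoStep G (n - 3)
      rw [zpow_neg, inv_inv, show s ^ k * α s = s ^ k * (α s * s ^ k) * (s ^ k)⁻¹ by group]
      haveI : (twoStep G (n - 3)).Normal := by unfold twoStep; infer_instance
      exact (inferInstance : (twoStep G (n - 3)).Normal).conj_mem _ hk _
    have a1 := top4 (g := s) (hs _ (by omega)) (by rw [h4]; exact hsc)
    have a2 := top3 (g := s) (hs _ (by omega)) hsc
    exact hp2 (by have := dvd_sub a1 a2; ring_nf at this ⊢; exact this)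
  have hne : ¬ twoStep G 1 ≤ twoStep G (n - 3) := fun hle =>
    hCM (MaxPar.eq_one_of_le h (by omega) hs (by omega) hle).symm
  have heven : Even n := (Nat.even_or_odd n).resolve_right fun ho =>
    hCM (MaxPar.twoStep_eq_odd (by omega) n h ho hn (n - 3) (by omega) (by omega)).symm
  have h6 : 6 ≤ n := by rcases heven with ⟨m, rfl⟩; omega
  obtain ⟨g1, hg1, hg1M⟩ := SetLike.not_le_iff_exists.1 hne
  have hg1n : g1 ∉ lcsT G 1 := fun hh => hg1M (H34.lcs_one_le_twoStep _ hh)
  obtain ⟨k, hk⟩ := H34.exists_mul_mem_twoStep h (i := n - 3) (by omega) (by omega) hg1M s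
  set e2 := s * g1 ^ k
  have he2 : e2 ∉ twoStep G 1 := fun hh =>
    hs 1 (by omega) (((twoStep G 1).mul_mem_cancel_right (zpow_mem hg1 k)).1 hh)
  have he2n : e2 ∉ lcsT G 1 := fun hh => he2 (H34.lcs_one_le_twoStep _ hh)
  -- both lines are fixed, with scalars
  have hline : ∀ {K : Subgroup G} {g : G}, lcsT G 1 ≤ K → K ≠ ⊤ → g ∈ K → g ∉ lcsT G 1 →
      (∀ x ∈ K, α x ∈ K) → ∃ a : ℤ, Sc α (lcsT G 1) g a := by
    intro K g hK hKt hg hgn hinv
    have hlt : lcsT G 1 < lcsT G 1 ⊔ zpowers g := left_lt_sup.2 fun hh => hgn (hh (mem_zpowers g))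
    have hle : lcsT G 1 ⊔ zpowers g ≤ K := sup_le hK (zpowers_le.2 hg)
    have h1 := H30.card_mul_le_of_lt h.isPGroup hlt
    have h2 := H30.card_mul_le_of_lt h.isPGroup (lt_top_iff_ne_top.2 hKt)
    rw [h.lcs_card le_rfl (by omega)] at h1
    rw [Subgroup.card_top, h.card] at h2
    have h3 : Nat.card K ≤ Nat.card (lcsT G 1 ⊔ zpowers g : Subgroup G) := by
      refine le_trans (Nat.le_of_mul_le_mul_left ?_ hp.out.pos) h1
      refine h2.trans (le_of_eq ?_)
      rw [← pow_succ', ← pow_succ']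
      congr 1
      omega
    have hmem : α g ∈ lcsT G 1 ⊔ zpowers g := by
      rw [Subgroup.eq_of_le_of_card_ge hle h3]; exact hinv g hg
    rw [H30.mem_sup_zpowers (by rw [normalizer_eq_top_iff.2 inferInstance]; trivial)] at hmem
    obtain ⟨r, hr, a, ha⟩ := hmem
    refine ⟨a, ?_⟩
    show _ ∈ lcsT G 1
    rw [← ha, ← mul_assoc]
    simpa using (inferInstance : (lcsT G 1).Normal).conj_mem r hr (g ^ a)⁻¹
  obtain ⟨b, hb⟩ := hline (H34.lcs_one_le_twoStep 1) (h.twoStep_ne_top (i := 1) (by omega)) hg1 hg1n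
    fun x hx => twoStep_apply α hx
  obtain ⟨a, ha⟩ := hline (H34.lcs_one_le_twoStep (n - 3))
    (h.twoStep_ne_top (i := n - 3) (by omega)) hk he2n fun x hx => twoStep_apply α hx
  have a1 := top4 (g := e2) (by rw [hT _ (by omega) (by omega)]; exact he2)
    (sc_mono (H34.lcs_one_le_twoStep _) ha)
  have b1 := top3 (g := g1) hg1M (sc_mono (H34.lcs_one_le_twoStep _) hb)
  -- propagate down the levels
  have hcom1 : ⁅g1, e2⁆ ∉ lcsT G 2 := by
    intro hc
    have hxs : e2 ∉ lcsT G 1 ⊔ zpowers g1 := fun hh =>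
      he2 ((sup_le (H34.lcs_one_le_twoStep 1) (zpowers_le.2 hg1)) hh)
    have hcl := H34.closure_pair_eq_of_notMem (H := ⊤) h (mem_top g1) (mem_top e2) hg1n hxs (by omega)
    refine hg1n ?_
    rw [← H34.twoStep_zero h (by omega)]
    refine mem_twoStep.2 fun y _ => ?_
    set q := QuotientGroup.mk' (lcsT G (0 + 2))
    have hle : closure ({g1, e2} : Set G) ≤ (centralizer ({q g1} : Set _)).comap q := by
      rw [closure_le]
      rintro y (rfl | rfl)
      · exact mem_centralizer_singleton_iff.2 rfl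
      · refine mem_centralizer_singleton_iff.2 (commutatorElement_eq_one_iff_mul_comm.1 ?_).symm
        rw [← map_commutatorElement]
        exact (QuotientGroup.eq_one_iff _).2 hc
    rw [← QuotientGroup.eq_one_iff, ← QuotientGroup.mk'_apply, map_commutatorElement,
      commutatorElement_eq_one_iff_mul_comm]
    exact mem_centralizer_singleton_iff.1 (hle (hcl.ge (mem_top y)))
  have hlev : ∀ j, 1 ≤ j → j ≤ n - 4 →
      ∃ x ∈ lcsT G j, x ∉ lcsT G (j + 1) ∧ Sc α (lcsT G (j + 1)) x (b * a ^ j) := by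
    intro j hj
    induction j, hj using Nat.le_induction with
    | base =>
      intro _
      refine ⟨⁅g1, e2⁆, H34.commutator_mem_lcs_succ (lcs_zero g1) e2, hcom1, ?_⟩
      rw [pow_one]
      exact sc_comm α (lcs_zero g1) hb (sc_mono (H34.lcs_one_le_twoStep 0) ha)
    | succ j hj ih =>
      intro hjn
      obtain ⟨x, hx, hxn, hsc⟩ := ih (by omega)
      refine ⟨⁅x, e2⁆, H34.commutator_mem_lcs_succ hx e2, notMem_twoStep_gen h hj (by omega) hx hxn
        (by rw [hT j hj (by omega)]; exact he2), ?_⟩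
      rw [pow_succ, ← mul_assoc]
      exact sc_comm α hx hsc (sc_mono (H34.lcs_one_le_twoStep _) ha)
  obtain ⟨x, hx, hxn, hsc⟩ := hlev (n - 4) (by omega) le_rfl
  have c1 := sc_unique (pow_mem_succ h (j := n - 4) (by omega) (by omega) hx) hxn
    (by rw [show n - 4 + 1 = n - 3 by omega]; exact hG3 x hx) hsc
  have hev : Even (n - 4) := by rcases heven with ⟨m, rfl⟩; exact ⟨m - 2, by omega⟩
  have ea : (a : ZMod p) = e := by
    have := (ZMod.intCast_zmod_eq_zero_iff_dvd (e - a) p).2 a1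
    push_cast at this
    exact (sub_eq_zero.1 this).symm
  have eb : -(e : ZMod p) - e * b = 0 := by
    have := (ZMod.intCast_zmod_eq_zero_iff_dvd (-e - e * b) p).2 b1
    push_cast at this
    exact this
  have ec : (1 : ZMod p) - b * a ^ (n - 4) = 0 := by
    have := (ZMod.intCast_zmod_eq_zero_iff_dvd (1 - b * a ^ (n - 4)) p).2 c1
    push_cast at this
    exact this
  apply hp2
  rw [← ZMod.intCast_zmod_eq_zero_iff_dvd]
  push_cast
  rw [ea] at ec
  rcases he with rfl | rfl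
  · push_cast at eb ec
    rw [one_pow] at ec
    linear_combination ec - eb
  · push_cast at eb ec
    rw [hev.neg_one_pow] at ec
    linear_combination ec + eb

end H60.MaxSgn
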