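import Cfsg.Agent.H60.TransvectionEmb
import Cfsg.Agent.H60.EssentialWorld
import Cfsg.Agent.H60.MaxClassSigns

/-!
An elementary abelian subgroup of order `p ^ 3` of a `p`-group of maximal class (`p ≥ 5`, order at
least `p ^ 5`) is never essential in a saturated fusion system.
-/

set_option autoImplicit false
set_option linter.unusedSectionVars false
set_option maxHeartbeats 1000000

open Subgroup
open scoped commutatorElement IsMulCommutative
open H30 (lcsT twoStep mem_twoStep)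
open H60.TvEmb (disp disp_apply IsTv)

namespace H60.Cube

universe u

variable {G : Type u} [Group G] [Finite G] {p n : ℕ} [hp : Fact p.Prime] {E : Subgroup G}

/-- A normal subgroup strictly inside another one has, in it, an element central modulo it. -/
theorem exists_central_mod {N : Type u} [Group N] [Finite N] (hN : IsPGroup p N) {M K : Subgroup N}
    [M.Normal] [K.Normal] (h : ¬ K ≤ M) : ∃ y ∈ K, y ∉ M ∧ ∀ g : N, ⁅g, y⁆ ∈ M := by
  set q := QuotientGroup.mk' M with hq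
  have hKq : (K.map q).Normal := Subgroup.Normal.map ‹_› q (QuotientGroup.mk'_surjective M)
  haveI := hKq
  have hne : K.map q ≠ ⊥ := by
    rw [Ne, Subgroup.map_eq_bot_iff, hq, QuotientGroup.ker_mk']; exact h
  haveI : Fintype (N ⧸ M) := Fintype.ofFinite _
  have hZ : K.map q ⊓ center (N ⧸ M) ≠ ⊥ := H30.inf_center_ne_bot (hN.to_quotient M) hKq hne
  obtain ⟨⟨z, hzK, hzc⟩, hz1⟩ := Subgroup.ne_bot_iff_exists_ne_one.1 hZ
  obtain ⟨y, hy, rfl⟩ := hzK
  refine ⟨y, hy, fun hyM => hz1 (Subtype.ext ((QuotientGroup.eq_one_iff y).2 hyM)), fun g => ?_⟩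
  rw [← QuotientGroup.eq_one_iff]
  show q ⁅g, y⁆ = 1
  rw [map_commutatorElement, commutatorElement_eq_one_iff_mul_comm]
  exact mem_center_iff.1 hzc (q g)

section World

variable [IsMulCommutative E]

/-- Conjugation of `E` by an element of its normalizer. -/
abbrev cE (g : normalizer (E : Set G)) : MulAut E := E.normalizerMonoidHom g

theorem cE_apply (g : normalizer (E : Set G)) (x : E) : ((cE g x : E) : G) = g * x * (g : G)⁻¹ := rfl

theorem disp_cE (g : normalizer (E : Set G)) (x : E) : ((disp (cE g) x : E) : G) = ⁅(g : G), (x : G)⁆ := by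
  rw [disp_apply, Subgroup.coe_mul, Subgroup.coe_inv, cE_apply, commutatorElement_def]

theorem self_centralizing (w : EWorld G p E) {g : G} (hg : ∀ x ∈ E, g * x = x * g) : g ∈ E :=
  (w.small (w.conj E 1) (by ext x; simp)).2 g hg

theorem mem_of_cE_eq (w : EWorld G p E) {g h : normalizer (E : Set G)} (he : cE g = cE h) :
    (g : G)⁻¹ * h ∈ E := by
  refine self_centralizing w fun x hx => ?_
  have h1 := congrArg Subtype.val (DFunLike.congr_fun he ⟨x, hx⟩)
  simp only [cE_apply] at h1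
  calc (g : G)⁻¹ * h * x = (g : G)⁻¹ * ((h : G) * x * (h : G)⁻¹) * h := by group
    _ = (g : G)⁻¹ * ((g : G) * x * (g : G)⁻¹) * h := by rw [h1]
    _ = x * ((g : G)⁻¹ * h) := by group

/-- The automizer induced by `S` on `E` has order `p`. -/
theorem card_normalizer (hp5 : 5 ≤ p) (hG : IsPGroup p G) (hexp : ∀ x : E, x ^ p = 1)
    (hcard : Nat.card E = p ^ 3) (w : EWorld G p E) :
    Nat.card (normalizer (E : Set G)) ≤ p ^ 4 := by
  classical
  by_contra! hbig
  set N := normalizer (E : Set G)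
  have hNp : IsPGroup p N := hG.to_subgroup N
  set E' := E.subgroupOf N with hE'
  haveI hE'n : E'.Normal := Subgroup.normal_in_normalizer
  have hEN : E ≤ N := le_normalizer
  have hcE' : Nat.card E' = p ^ 3 := by
    rw [Nat.card_congr (subgroupOfEquivOfLe hEN).toEquiv, hcard]
  have hne : ¬ E' ≤ ⊥ := fun hle => by
    rw [le_bot_iff.1 hle, card_bot] at hcE'
    exact absurd hcE'.symm (Nat.one_lt_pow (by norm_num) hp.out.one_lt).ne'
  obtain ⟨a, ha, ha1, hac⟩ := exists_central_mod hNp hne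
  have hacen : a ∈ center N := mem_center_iff.2 fun g =>
    commutatorElement_eq_one_iff_mul_comm.1 (Subgroup.mem_bot.1 (hac g))
  set A := zpowers a
  haveI hAn : A.Normal := ⟨fun x hx g => by
    rw [mem_center_iff.1 ((zpowers_le.2 hacen) hx) g, mul_inv_cancel_right]; exact hx⟩
  have hpow : ∀ x ∈ E', x ^ p = 1 := fun x hx =>
    Subtype.ext (by
      have h := congrArg (fun e : E => (e : G)) (hexp ⟨(x : G), hx⟩)
      simpa using h)
  have hcA : Nat.card A = p := by
    rw [Nat.card_zpowers]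
    exact orderOf_eq_prime (hpow a ha) fun h => ha1 (Subgroup.mem_bot.2 h)
  have hAE : ¬ E' ≤ A := fun hle => by
    have := Subgroup.card_le_of_le hle
    rw [hcA, hcE'] at this
    exact absurd this (not_le.2 (by simpa using Nat.pow_lt_pow_right hp.out.one_lt (by norm_num : 1 < 3)))
  obtain ⟨x, hx, hxA, hxc⟩ := exists_central_mod hNp hAE
  -- the centralizer of `x`
  let φ : N →* center N := MonoidHom.mk' (fun g => ⟨⁅g, x⁆, (zpowers_le.2 hacen) (hxc g)⟩) fun g h =>
    Subtype.ext (by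
      show ⁅g * h, x⁆ = ⁅g, x⁆ * ⁅h, x⁆
      rw [show ⁅g * h, x⁆ = g * ⁅h, x⁆ * g⁻¹ * ⁅g, x⁆ by simp only [commutatorElement_def]; group,
        mem_center_iff.1 ((zpowers_le.2 hacen) (hxc h)) g, mul_inv_cancel_right,
        ← mem_center_iff.1 ((zpowers_le.2 hacen) (hxc h)) ⁅g, x⁆])
  have hmemC : ∀ g, g ∈ φ.ker ↔ g * x = x * g := fun g => by
    rw [MonoidHom.mem_ker, ← commutatorElement_eq_one_iff_mul_comm]
    exact Subtype.ext_iff
  have hEcomm : ∀ u ∈ E', ∀ v ∈ E', u * v = v * u := fun u hu v hv =>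
    Subtype.ext (congrArg (fun e : E => (e : G)) (mul_comm (⟨(u : G), hu⟩ : E) ⟨(v : G), hv⟩) :)
  have hE'C : E' ≤ φ.ker := fun g hg => (hmemC g).2 (hEcomm g hg x hx)
  have hCbig : ¬ φ.ker ≤ E' := fun hle => by
    have h1 : Nat.card φ.range ≤ Nat.card A := by
      refine Nat.card_le_card_of_injective
        (fun y => (⟨((y : center N) : N), by obtain ⟨g, hg⟩ := y.2; rw [← hg]; exact hxc g⟩ : A)) ?_
      intro y y' hyy
      exact Subtype.ext (Subtype.ext (congrArg (fun u : A => (u : N)) hyy))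
    have h2 := φ.ker.card_mul_index
    rw [Subgroup.index_ker] at h2
    have h3 := Nat.mul_le_mul (Subgroup.card_le_of_le hle) h1
    rw [h2, hcE', hcA, ← pow_succ, show 3 + 1 = 4 from rfl] at h3
    omega
  obtain ⟨g, hgC, hgE, hgc⟩ := exists_central_mod hNp hCbig
  -- `g` acts as a transvection
  -- transfer to the strongly embedded group
  obtain ⟨Q, _, _, f, Y, hf, hY, hrange, -⟩ := w.emb
  obtain ⟨qz, hqz⟩ := hrange g
  have htv : IsTv p (cE g) := by
    set d := disp (cE g)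
    have hx' : (⟨(x : G), hx⟩ : E) ∈ d.ker := Subtype.ext (by
      rw [disp_cE]
      exact congrArg Subtype.val (commutatorElement_eq_one_iff_mul_comm.2 ((hmemC g).1 hgC)))
    have ha' : (⟨(a : G), ha⟩ : E) ∈ d.ker := Subtype.ext (by
      rw [disp_cE]
      exact congrArg Subtype.val (commutatorElement_eq_one_iff_mul_comm.2 (mem_center_iff.1 hacen g)))
    set W := zpowers (⟨(a : G), ha⟩ : E) ⊔ zpowers (⟨(x : G), hx⟩ : E)
    have hWker : W ≤ d.ker := sup_le (zpowers_le.2 ha') (zpowers_le.2 hx')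
    have hEp : IsPGroup p E := hG.to_subgroup E
    have hWcard : p * p ≤ Nat.card W := by
      have hlt : zpowers (⟨(a : G), ha⟩ : E) < W := left_lt_sup.2 fun hh => hxA (by
        obtain ⟨i, hi⟩ := mem_zpowers_iff.1 (hh (mem_zpowers _))
        exact mem_zpowers_iff.2 ⟨i, Subtype.ext (by
          have := congrArg (fun e : E => (e : G)) hi
          simpa using this)⟩)
      have hc := H30.card_mul_le_of_lt hEp hlt
      rwa [Nat.card_zpowers, orderOf_eq_prime (hexp _) fun h0 => ha1 (Subgroup.mem_bot.2 (Subtype.ext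
        (congrArg Subtype.val h0 :)))] at hc
    have hprod := d.ker.card_mul_index
    rw [Subgroup.index_ker, hcard] at hprod
    have hker : p * p ≤ Nat.card d.ker := hWcard.trans (Subgroup.card_le_of_le hWker)
    have hr1 : d.range ≠ ⊥ := by
      intro h0
      refine hgE ?_
      refine self_centralizing w fun u hu => ?_
      have h2 : d ⟨u, hu⟩ ∈ d.range := ⟨_, rfl⟩
      rw [h0, Subgroup.mem_bot] at h2
      have h3 := congrArg Subtype.val h2
      rw [disp_cE] at h3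
      exact commutatorElement_eq_one_iff_mul_comm.1 h3
    have hrcard : Nat.card d.range ≤ p := by
      by_contra! hlt
      have h2 := Nat.mul_le_mul hker (Nat.succ_le_of_lt hlt)
      rw [hprod, pow_succ, pow_two] at h2
      exact absurd (Nat.le_of_mul_le_mul_left h2 (Nat.mul_pos hp.out.pos hp.out.pos)) (by omega)
    obtain ⟨k, hk⟩ := (hEp.to_subgroup d.range).exists_card_eq
    have hk1 : k = 1 := by
      rw [hk] at hrcard
      have h1 := (Nat.pow_le_pow_iff_right hp.out.one_lt (n := k) (m := 1)).1 (by simpa using hrcard)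
      rcases k.eq_zero_or_pos with rfl | hk0
      · exact absurd (Subgroup.eq_bot_of_card_eq _ (by simpa using hk)) hr1
      · omega
    have hcr : Nat.card d.range = p := by rw [hk, hk1, pow_one]
    refine ⟨hcr, ?_⟩
    have hkc : Nat.card d.ker = p * p := by
      rw [hcr, pow_succ, pow_two] at hprod
      exact Nat.eq_of_mul_eq_mul_right hp.out.pos hprod
    rintro _ ⟨u, rfl⟩
    by_cases hu : u ∈ d.ker
    · rw [MonoidHom.mem_ker.1 hu]; exact one_mem _
    -- the displacement lands in the invariant hyperplane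
    have hWeq : W = d.ker := Subgroup.eq_of_le_of_card_ge hWker (by rw [hkc]; exact hWcard)
    set W' := A ⊔ zpowers x
    haveI hWn : W'.Normal := ⟨fun c hc v => by
      have hle : W' ≤ W'.comap (MulAut.conj v).toMonoidHom := sup_le
        (fun c hc => mem_sup_left (hAn.conj_mem c hc v))
        (zpowers_le.2 (show v * x * v⁻¹ ∈ W' by
          rw [show v * x * v⁻¹ = ⁅v, x⁆ * x by rw [commutatorElement_def]; group]
          exact mul_mem (mem_sup_left (hxc v)) (mem_sup_right (mem_zpowers x))))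
      exact hle hc⟩
    let ι : E →* N := Subgroup.inclusion hEN
    have hWW : W' = W.map ι := by
      rw [Subgroup.map_sup, MonoidHom.map_zpowers, MonoidHom.map_zpowers]
      rfl
    have hWE : ¬ E' ≤ W' := fun hle => hu (by
      have h2 : (⟨(u : G), hEN u.2⟩ : N) ∈ W' := hle u.2
      rw [hWW] at h2
      obtain ⟨c, hc, hce⟩ := h2
      rw [← hWeq, ← show c = u from Subtype.ext (congrArg Subtype.val hce :)]
      exact hc)
    obtain ⟨y, hy, hyW, hyc⟩ := exists_central_mod hNp hWE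
    have hin : ∀ e : E, d e ∈ W := by
      intro e
      have he : (⟨(e : G), hEN e.2⟩ : N) ∈ W' ⊔ zpowers y := by
        have hle : W' ⊔ zpowers y ≤ E' := sup_le (sup_le (zpowers_le.2 ha) (zpowers_le.2 hx)) (zpowers_le.2 hy)
        have h2 : W' < W' ⊔ zpowers y := left_lt_sup.2 fun hh => hyW (hh (mem_zpowers y))
        have h4 := H30.card_mul_le_of_lt hNp h2
        have h5 : Nat.card W = Nat.card W' := by
          rw [hWW, Subgroup.card_map_of_injective (Subgroup.inclusion_injective hEN)]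
        rw [← h5, hWeq, hkc] at h4
        rw [Subgroup.eq_of_le_of_card_ge hle (by rw [hcE']; exact le_trans (le_of_eq (by ring)) h4)]
        exact e.2
      rw [mem_sup_of_normal_left] at he
      obtain ⟨c, hc, m, hm, hcm⟩ := he
      obtain ⟨i, rfl⟩ := mem_zpowers_iff.1 hm
      rw [hWW] at hc
      obtain ⟨c', hc', rfl⟩ := hc
      have hy' : d ⟨(y : G), hy⟩ ∈ W := by
        have h6 := hyc g
        rw [hWW] at h6
        obtain ⟨e', he', hee⟩ := h6
        rw [show d ⟨(y : G), hy⟩ = e' from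
          Subtype.ext (by rw [disp_cE]; exact (congrArg Subtype.val hee).symm)]
        exact he'
      rw [show e = c' * (⟨(y : G), hy⟩ : E) ^ i from Subtype.ext (by
        have := congrArg Subtype.val hcm
        simpa [ι] using this.symm), map_mul, map_zpow, show d c' = 1 from hWker hc', one_mul]
      exact zpow_mem hy' i
    exact hWker (hin u)
  have hgpow : g ^ p ∈ E' := by
    have h1 : cE (g ^ p) = cE 1 :=
      (map_pow E.normalizerMonoidHom g p).trans ((htv.pow_prime hexp).trans (map_one _).symm)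
    have h2 : ((g ^ p : N) : G)⁻¹ * ((1 : N) : G) ∈ E := mem_of_cE_eq w h1
    rw [OneMemClass.coe_one, mul_one] at h2
    exact inv_mem_iff.1 h2
  set H := E' ⊔ zpowers g
  have hH : Nat.card H ≤ p ^ 4 := by
    have := H31.MaxPow.card_sup_zpowers_le (A := E') (a := g) (p := p)
      (by rw [normalizer_eq_top_iff.2 hE'n]; trivial) hgpow
    rwa [hcE', ← pow_succ'] at this
  obtain ⟨h, hh⟩ : ∃ h, h ∉ H := by
    by_contra! hall
    have : Nat.card N ≤ Nat.card H := by
      rw [(Subgroup.eq_top_iff' H).2 hall, card_top]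
    omega
  obtain ⟨qJ, hqJ⟩ := hrange h
  refine TvEmb.no_commuting_tv (p := p) (z := qz) (J := qJ) (by omega) hexp f hf hY
    (by rw [hqz]; exact htv) (hf ?_) ?_ ?_
  · rw [map_mul, map_mul, hqz, hqJ, ← map_mul, ← map_mul]
    refine MulEquiv.ext fun u => Subtype.ext ?_
    rw [cE_apply, cE_apply]
    have hgh : ((⁅g, h⁆ : N) : G) ∈ E := by
      have h7 := inv_mem (hgc h)
      rwa [commutatorElement_inv] at h7
    have h8 := congrArg (fun e : E => (e : G)) (mul_comm (⟨_, hgh⟩ : E) (cE (h * g) u))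
    simp only [Subgroup.coe_mul, cE_apply] at h8
    rw [show ((g * h : N) : G) * u * ((g * h : N) : G)⁻¹ =
        ((⁅g, h⁆ : N) : G) * ((h : G) * g * u * ((h : G) * g)⁻¹) * ((⁅g, h⁆ : N) : G)⁻¹ by
          simp only [commutatorElement_def, Subgroup.coe_mul, Subgroup.coe_inv]; group]
    simp only [Subgroup.coe_mul] at h8 ⊢
    rw [h8, mul_inv_cancel_right]
  · obtain ⟨k, hk⟩ := hNp h
    have hJp : qJ ^ p ^ k = 1 := hf (by rw [map_pow, hqJ, ← map_pow, hk, map_one, map_one])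
    rintro ⟨_, i, rfl⟩
    refine ⟨k, Subtype.ext ?_⟩
    show (qJ ^ i) ^ p ^ k = 1
    rw [← zpow_natCast, ← zpow_mul, mul_comm, zpow_mul, zpow_natCast, hJp, one_zpow]
  · intro hJ
    obtain ⟨i, hi⟩ := mem_zpowers_iff.1 hJ
    have h1 : cE (g ^ i) = cE h := by
      refine (map_zpow E.normalizerMonoidHom g i).trans ?_
      refine Eq.trans ?_ hqJ
      rw [← hi, map_zpow, hqz]
    have h2 : (g ^ i)⁻¹ * h ∈ E' := mem_of_cE_eq w h1
    refine hh ?_
    rw [show h = g ^ i * ((g ^ i)⁻¹ * h) by group]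
    exact mul_mem (mem_sup_right (zpow_mem (mem_zpowers g) i)) (mem_sup_left h2)

end World

section Main

theorem mem_sup_of_normalizer_mem {K : Subgroup G} {x : G} (hx : zpowers x ≤ normalizer (K : Set G))
    {g : G} : g ∈ zpowers x ⊔ K ↔ ∃ a ∈ zpowers x, ∃ b ∈ K, a * b = g := by
  rw [← SetLike.mem_coe, Subgroup.coe_mul_of_left_le_normalizer_right (zpowers x) K hx]
  simp [Set.mem_mul]

variable [IsMulCommutative E]

theorem exists_c1 (h : H30.MaxCls G p n) (hn : 5 ≤ n) :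
    ∃ x ∈ twoStep G 1, x ∉ lcsT G 1 := by
  obtain ⟨s, hs⟩ := H34.exists_avoid n h (by omega)
  have hsp : s ^ p ∈ lcsT G 1 := h.pow_mem_lcs_one (by omega) s
  have hne : lcsT G 1 ⊔ zpowers s ≠ ⊤ := by
    intro htop
    have hc := H31.MaxPow.card_sup_zpowers_le (A := lcsT G 1) (a := s) (p := p)
      (by rw [normalizer_eq_top_iff.2 inferInstance]; trivial) hsp
    rw [htop, card_top, h.card, h.lcs_card le_rfl (by omega), ← pow_succ'] at hc
    have := (Nat.pow_le_pow_iff_right hp.out.one_lt).1 hc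
    omega
  obtain ⟨g, -, hg⟩ := SetLike.exists_of_lt (lt_top_iff_ne_top.2 hne)
  obtain ⟨k, hk⟩ := H34.exists_mul_mem_twoStep h le_rfl (by omega) (hs 1 (by omega)) g
  refine ⟨g * s ^ k, hk, fun hh => hg ?_⟩
  rw [show g = g * s ^ k * (s ^ k)⁻¹ by group]
  exact mul_mem (mem_sup_left hh) (mem_sup_right (inv_mem (zpow_mem (mem_zpowers s) k)))

/-- The layer three from the bottom is abelian. -/
theorem g3_comm (h : H30.MaxCls G p n) (hn : 5 ≤ n) {a b : G} (ha : a ∈ lcsT G (n - 4))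
    (hb : b ∈ lcsT G (n - 4)) : a * b = b * a := by
  obtain ⟨c, hc, hcn⟩ := SetLike.not_le_iff_exists.1 (h.lcs_not_le (i := n - 4) (by omega))
  obtain ⟨s, a', ha', rfl⟩ := h.exists_pow_mul (i := n - 4) (by omega) (by omega) hc hcn ha
  obtain ⟨t, b', hb', rfl⟩ := h.exists_pow_mul (i := n - 4) (by omega) (by omega) hc hcn hb
  have h1 : ∀ {x y : G}, x ∈ lcsT G (n - 4 + 1) → y ∈ lcsT G (n - 4) → Commute x y := fun hx hy =>
    commutatorElement_eq_one_iff_commute.1 (MaxPar.comm_eq_one h (by omega) hx hy)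
  have hle : lcsT G (n - 4 + 1) ≤ lcsT G (n - 4) := Subgroup.lowerCentralSeries_antitone _ (Nat.le_succ _)
  exact ((h1 ha' (hle hb')).mul_right (h1 ha' (zpow_mem hc t))).mul_left
    (((h1 hb' (zpow_mem hc s)).symm).mul_right ((Commute.refl c).zpow_zpow s t))

theorem g3_pow (hp5 : 5 ≤ p) (h : H30.MaxCls G p n) (hn : 5 ≤ n) {a : G}
    (ha : a ∈ lcsT G (n - 4)) : a ^ p = 1 := by
  obtain ⟨s, hs⟩ := H34.exists_avoid n h (by omega)
  have h1 := H34.pow_mem_of_pow_eq h (i₀ := 1) le_rfl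
    (fun b hb => H34.mul_pow_eq_of_avoid h (by omega) hs hb) (i := n - 4) (by omega) ha
  rwa [h.lcs_bot (by omega), Subgroup.mem_bot] at h1

/-- No map carries a subgroup of `γ₁` onto `E`. -/
theorem not_le_one (h : H30.MaxCls G p n) (hn : 5 ≤ n) (hcard : Nat.card E = p ^ 3)
    (w : EWorld G p E) (hN4 : Nat.card (normalizer (E : Set G)) ≤ p ^ 4) {H : Subgroup G}
    {f : H →* G} (hf : w.Hom H f) (hr : f.range = E) : ¬ H ≤ lcsT G 1 := by
  intro hH1
  obtain ⟨hle, hsc⟩ := w.small hf hr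
  have hle4 := hle.trans hN4
  have hH : Nat.card H = p ^ 3 := by
    rw [← hcard, ← hr]
    exact Nat.card_congr (MonoidHom.ofInjective (w.inj hf)).toEquiv
  have hnorm : ¬ H.Normal := fun hnH => by
    rw [normalizer_eq_top_iff.2 hnH, card_top, h.card] at hle4
    have := (Nat.pow_le_pow_iff_right hp.out.one_lt).1 hle4
    omega
  have hZ2 : lcsT G (n - 3) ≤ H := fun z hz => hsc z fun x hx =>
    (commutatorElement_eq_one_iff_mul_comm.1 (MaxPar.comm_eq_one h (by omega) (hH1 hx) hz)).symm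
  -- anything commutating `γ₁` into `γ (n - 3)` normalises `H`
  have hnormal : ∀ g : G, (∀ x ∈ lcsT G 1, ⁅g, x⁆ ∈ lcsT G (n - 3)) →
      g ∈ normalizer (H : Set G) := fun g hg => by
    refine H85.mem_normalizer_of_conj fun x hx => ?_
    rw [show g * x * g⁻¹ = ⁅g, x⁆ * x by rw [commutatorElement_def]; group]
    exact H.mul_mem (hZ2 (hg x (hH1 hx))) hx
  rcases (show n = 5 ∨ n = 6 ∨ 7 ≤ n by omega) with rfl | rfl | h7
  · refine hnorm ?_
    have : H = lcsT G 1 := Subgroup.eq_of_le_of_card_ge hH1 (by rw [h.lcs_card le_rfl (by omega), hH])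
    rw [this]
    infer_instance
  · obtain ⟨x, hx, hx1⟩ := exists_c1 h hn
    have hL : lcsT G 1 ≤ normalizer (H : Set G) := fun g hg => hnormal g fun y hy =>
      MaxPar.comm_lcs_mem hg hy (by omega)
    have hxN : x ∈ normalizer (H : Set G) := hnormal x fun y hy => by
      rw [← commutatorElement_inv]
      exact inv_mem (mem_twoStep.1 hx y hy)
    have hlt : lcsT G 1 < normalizer (H : Set G) :=
      SetLike.lt_iff_le_and_exists.2 ⟨hL, x, hxN, hx1⟩
    have := H30.card_mul_le_of_lt h.isPGroup hlt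
    rw [h.lcs_card le_rfl (by omega), ← pow_succ'] at this
    have := (Nat.pow_le_pow_iff_right hp.out.one_lt).1 (this.trans hle4)
    omega
  · have hL : lcsT G (n - 5) ≤ normalizer (H : Set G) := fun g hg => hnormal g fun y hy =>
      MaxPar.comm_lcs_mem hg hy (by omega)
    have heq : lcsT G (n - 5) = normalizer (H : Set G) :=
      Subgroup.eq_of_le_of_card_ge hL (by
        rw [h.lcs_card (by omega) (by omega), show n - 1 - (n - 5) = 4 by omega]; exact hle4)
    have hH2 : H ≤ lcsT G 2 := le_normalizer.trans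
      (heq.ge.trans (Subgroup.lowerCentralSeries_antitone _ (by omega)))
    have hG3 : lcsT G (n - 4) ≤ H := fun z hz => hsc z fun x hx =>
      (commutatorElement_eq_one_iff_mul_comm.1 (MaxPar.comm_eq_one h (by omega) (hH2 hx) hz)).symm
    refine hnorm ?_
    rw [← Subgroup.eq_of_le_of_card_ge hG3 (by
      rw [h.lcs_card (by omega) (by omega), show n - 1 - (n - 4) = 3 by omega, hH])]
    infer_instance

/-- An injective endomorphism preserving a subgroup, as an automorphism of it. -/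
theorem exists_aut {H : Subgroup G} (f : H →* G) (hf : Function.Injective f) (hle : ∀ x, f x ∈ H) :
    ∃ σ : MulAut H, ∀ x, ((σ x : H) : G) = f x := by
  have hinj : Function.Injective (f.codRestrict H hle) := fun a b hab => hf (congrArg Subtype.val hab)
  exact ⟨MulEquiv.ofBijective (f.codRestrict H hle) (Finite.injective_iff_bijective.1 hinj), fun x => rfl⟩

theorem card_sup_eq (h : H30.MaxCls G p n) {A K : Subgroup G} (hAK : A ≤ K) {a : G} (haK : a ∈ K)
    (haA : a ∉ A) (hc : Nat.card K ≤ p * Nat.card A) : A ⊔ zpowers a = K := by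
  refine Subgroup.eq_of_le_of_card_ge (sup_le hAK (zpowers_le.2 haK)) (hc.trans ?_)
  exact H30.card_mul_le_of_lt h.isPGroup (left_lt_sup.2 fun hh => haA (hh (mem_zpowers a)))

/-- The theorem on the group side. -/
theorem false_of_world (hp5 : 5 ≤ p) (h : H30.MaxCls G p n) (hn : 5 ≤ n)
    (hexp : ∀ x : E, x ^ p = 1) (hcard : Nat.card E = p ^ 3) (w : EWorld G p E) : False := by
  classical
  have hN4 := card_normalizer hp5 h.isPGroup hexp hcard w
  have hid : w.Hom E E.subtype ∧ E.subtype.range = E := by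
    refine ⟨?_, E.range_subtype⟩
    have := w.conj E 1
    rwa [show (MulAut.conj (1 : G)).toMonoidHom.comp E.subtype = E.subtype by ext x; simp] at this
  have hE1 : ¬ E ≤ lcsT G 1 := not_le_one h hn hcard w hN4 hid.1 hid.2
  have hcomm : ∀ x ∈ E, ∀ y ∈ E, x * y = y * x := fun x hx y hy =>
    congrArg (fun e : E => (e : G)) (mul_comm (⟨x, hx⟩ : E) ⟨y, hy⟩)
  set Z := lcsT G (n - 2) with hZdef
  set Z2 := lcsT G (n - 3) with hZ2def
  set G3 := lcsT G (n - 4) with hG3def
  set C := twoStep G 1 with hCdef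
  set M := twoStep G (n - 3) with hMdef
  have hcZ : Nat.card Z = p := by
    rw [h.lcs_card (by omega) (by omega), show n - 1 - (n - 2) = 1 by omega, pow_one]
  have hcZ2 : Nat.card Z2 = p ^ 2 := by
    rw [h.lcs_card (by omega) (by omega), show n - 1 - (n - 3) = 2 by omega]
  have hcG3 : Nat.card G3 = p ^ 3 := by
    rw [h.lcs_card (by omega) (by omega), show n - 1 - (n - 4) = 3 by omega]
  have hZ2G3 : Z2 ≤ G3 := Subgroup.lowerCentralSeries_antitone _ (by omega)
  have hZZ2 : Z ≤ Z2 := Subgroup.lowerCentralSeries_antitone _ (by omega)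
  have hG31 : G3 ≤ lcsT G 1 := Subgroup.lowerCentralSeries_antitone _ (by omega)
  have hMc : ∀ g ∈ M, ∀ x ∈ Z2, g * x = x * g := fun g hg x hx => by
    have := mem_twoStep.1 hg x hx
    rw [h.lcs_bot (by omega), Subgroup.mem_bot, commutatorElement_eq_one_iff_mul_comm] at this
    exact this.symm
  have hC4 : twoStep G (n - 4) = C := MaxPar.twoStep_eq (by omega) h hn (by omega) (by omega)
  have hC3 : ∀ g ∈ C, ∀ x ∈ G3, ⁅x, g⁆ ∈ Z := fun g hg x hx => by
    have := mem_twoStep.1 (hC4.ge hg) x hx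
    rwa [show n - 4 + 2 = n - 2 by omega] at this
  -- `E` lies in `C` or in `M`
  have hCM : E ≤ C ∨ E ≤ M := by
    by_contra! hcon
    obtain ⟨x, hx, hxC⟩ := SetLike.not_le_iff_exists.1 hcon.1
    obtain ⟨y, hy, hyM⟩ := SetLike.not_le_iff_exists.1 hcon.2
    have key : ∀ g ∈ E, g ∈ C ∨ g ∈ M := fun g hg => by
      by_contra! hg'
      have h1 := MaxPar.cent_card (by omega) h hn hg'.1 hg'.2
      have h2 : E ≤ centralizer ({g} : Set G) := fun u hu =>
        mem_centralizer_singleton_iff.2 (hcomm u hu g hg)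
      have h3 := Subgroup.card_le_of_le h2
      rw [h1, hcard] at h3
      have := (Nat.pow_le_pow_iff_right hp.out.one_lt).1 h3
      omega
    have hxM := (key x hx).resolve_left hxC
    have hyC := (key y hy).resolve_right hyM
    rcases key _ (mul_mem hx hy) with hh | hh
    · exact hxC ((C.mul_mem_cancel_right hyC).1 hh)
    · exact hyM ((M.mul_mem_cancel_left hxM).1 hh)
  have hZE : Z ≤ E := fun z hz => self_centralizing w fun x _ =>
    (mem_center_iff.1 (h.lcs_pred_le_center hz) x).symm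
  have hEM : E ≤ M → Z2 ≤ E := fun hle z hz => self_centralizing w fun x hx => (hMc x (hle hx) z hz).symm
  have hG3N : G3 ≤ normalizer (E : Set G) := fun g hg => by
    refine H85.mem_normalizer_of_conj fun x hx => ?_
    rw [show g * x * g⁻¹ = ⁅g, x⁆ * x by rw [commutatorElement_def]; group]
    refine E.mul_mem ?_ hx
    rcases hCM with hle | hle
    · exact hZE (hC3 x (hle hx) g hg)
    · exact hEM hle (by
        have := H34.commutator_mem_lcs_succ hg x
        rwa [show n - 4 + 1 = n - 3 by omega] at this)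
  have hG3E : ¬ G3 ≤ E := fun hle => by
    have heq : G3 = E := Subgroup.eq_of_le_of_card_ge hle (by rw [hcG3, hcard])
    exact hE1 (heq ▸ hG31)
  set N := normalizer (E : Set G) with hNdef
  have hEN : E ≤ N := le_normalizer
  obtain ⟨g0, hg0, hg0E⟩ := SetLike.not_le_iff_exists.1 hG3E
  have hNcard : Nat.card N = p ^ 4 := by
    refine le_antisymm hN4 ?_
    have := H30.card_mul_le_of_lt h.isPGroup
      (SetLike.lt_iff_le_and_exists.2 ⟨hEN, g0, hG3N hg0, hg0E⟩ : E < N)
    rwa [hcard, ← pow_succ'] at this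
  set W := E ⊓ G3 with hWdef
  have hcW : Nat.card W = p ^ 2 := by
    refine le_antisymm ?_ ?_
    · have h1 : W < G3 := lt_of_le_of_ne inf_le_right fun he => hG3E (he.ge.trans inf_le_left)
      have := H30.card_mul_le_of_lt h.isPGroup h1
      rw [hcG3, pow_succ'] at this
      exact Nat.le_of_mul_le_mul_left this hp.out.pos
    · have h1 : E.relIndex N = p := by
        have := Subgroup.relIndex_mul_relIndex ⊥ E N bot_le hEN
        rw [relIndex_bot_left, relIndex_bot_left, hcard, hNcard, pow_succ p 3] at this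
        exact Nat.eq_of_mul_eq_mul_left (pow_pos hp.out.pos _) this
      have h2 : W.relIndex G3 ≤ p := by
        rw [hWdef, inf_relIndex_right, ← h1]
        exact Subgroup.relIndex_le_of_le_right hG3N (by rw [h1]; exact hp.out.ne_zero)
      have h3 := Subgroup.relIndex_mul_relIndex ⊥ W G3 bot_le inf_le_right
      rw [relIndex_bot_left, relIndex_bot_left, hcG3] at h3
      have h4 := Nat.mul_le_mul_left (Nat.card W) h2
      rw [h3, pow_succ] at h4
      exact Nat.le_of_mul_le_mul_right h4 hp.out.pos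
  have hZW : Z ≤ W := le_inf hZE (hZZ2.trans hZ2G3)
  have hWZ2 : Z2 ≤ E → W = Z2 := fun hle =>
    (Subgroup.eq_of_le_of_card_ge (le_inf hle hZ2G3) (by rw [hcW, hcZ2])).symm
  -- the transvection `l`
  obtain ⟨l, hlG3, hlE, hlZ2⟩ : ∃ l ∈ G3, l ∉ E ∧ (¬ Z2 ≤ E → l ∈ Z2) := by
    by_cases hle : Z2 ≤ E
    · exact ⟨g0, hg0, hg0E, fun hn' => absurd hle hn'⟩
    · obtain ⟨l, hl, hlE⟩ := SetLike.not_le_iff_exists.1 hle
      exact ⟨l, hZ2G3 hl, hlE, fun _ => hl⟩
  have hG3sup : W ⊔ zpowers l = G3 := card_sup_eq h inf_le_right hlG3 (fun hh => hlE hh.1)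
    (by rw [hcW, hcG3, ← pow_succ'])
  have hNsup : E ⊔ zpowers l = N := card_sup_eq h hEN (hG3N hlG3) hlE (by rw [hcard, hNcard, ← pow_succ'])
  set z : MulAut E := cE ⟨l, hG3N hlG3⟩ with hzdef
  have hdz : ∀ x : E, ((disp z x : E) : G) = ⁅l, (x : G)⁆ := fun x => disp_cE _ x
  have hdW : ∀ x : E, ((disp z x : E) : G) ∈ W := fun x => by
    refine ⟨(disp z x).2, ?_⟩
    rw [hdz, show ⁅l, (x : G)⁆ = l * ((x : G) * l⁻¹ * (x : G)⁻¹) by rw [commutatorElement_def]; group]
    exact mul_mem hlG3 ((inferInstance : G3.Normal).conj_mem _ (inv_mem hlG3) _)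
  have hWker : ∀ x : E, (x : G) ∈ W → disp z x = 1 := fun x hx =>
    Subtype.ext (by
      rw [hdz]
      exact commutatorElement_eq_one_iff_mul_comm.2 (g3_comm h hn hlG3 hx.2))
  have hkerW : ∀ x : E, disp z x = 1 → (x : G) ∈ W := by
    intro x hx
    by_contra hxW
    have htop : W ⊔ zpowers (x : G) = E := card_sup_eq h inf_le_left x.2 hxW
      (by rw [hcW, hcard, ← pow_succ'])
    refine hlE (self_centralizing w fun u hu => ?_)
    have hle : W ⊔ zpowers (x : G) ≤ centralizer ({l} : Set G) := sup_le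
      (fun c hc => mem_centralizer_singleton_iff.2 (g3_comm h hn hc.2 hlG3))
      (zpowers_le.2 (mem_centralizer_singleton_iff.2 (by
        have := congrArg Subtype.val hx
        rw [hdz] at this
        exact (commutatorElement_eq_one_iff_mul_comm.1 this).symm)))
    exact (mem_centralizer_singleton_iff.1 (hle (htop.ge hu))).symm
  have htv : IsTv p z := by
    refine ⟨?_, fun _ ⟨x, hx⟩ => hx ▸ MonoidHom.mem_ker.2 (hWker _ (hdW x))⟩
    have hk : (disp z).ker = W.subgroupOf E :=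
      Subgroup.ext fun x => ⟨fun hx => hkerW x hx, fun hx => hWker x hx⟩
    have h1 := (disp z).ker.card_mul_index
    rw [Subgroup.index_ker, hk, Nat.card_congr (subgroupOfEquivOfLe (inf_le_left : W ≤ E)).toEquiv, hcW,
      hcard, pow_succ p 2] at h1
    exact Nat.eq_of_mul_eq_mul_left (pow_pos hp.out.pos _) h1
  set V : Subgroup G := (disp z).range.map E.subtype with hVdef
  have hcV : Nat.card V = p := by rw [hVdef, Subgroup.card_map_of_injective E.subtype_injective, htv.card]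
  have hVW : V ≤ W := by rintro _ ⟨_, ⟨x, rfl⟩, rfl⟩; exact hdW x
  have hVmem : ∀ x ∈ E, ⁅l, x⁆ ∈ V := fun x hx =>
    ⟨_, ⟨⟨x, hx⟩, rfl⟩, hdz ⟨x, hx⟩⟩
  have hVZ : (¬ Z2 ≤ E ∨ E ≤ C) → V = Z := by
    intro hc
    refine Subgroup.eq_of_le_of_card_ge ?_ (by rw [hcV, hcZ])
    rintro _ ⟨_, ⟨x, rfl⟩, rfl⟩
    show ((disp z x : E) : G) ∈ Z
    rw [hdz]
    rcases hc with hc | hc
    · have := H34.commutator_mem_lcs_succ (hlZ2 hc) (x : G)
      rwa [show n - 3 + 1 = n - 2 by omega] at this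
    · exact hC3 _ (hc x.2) l hlG3
  -- the involution
  obtain ⟨Q, _, _, f, Y, hf, hY, hrange, hfHom⟩ := w.emb
  obtain ⟨qz, hqz⟩ := hrange ⟨l, hG3N hlG3⟩
  let X : Subgroup (MulAut E) := f.range
  have hXAut : ∀ α ∈ X, w.Aut E α := fun α ⟨q, hq⟩ => hq ▸ hfHom q
  have hzX : z ∈ X := ⟨qz, hqz⟩
  obtain ⟨z', hz'X, hz', hne1, hne2⟩ : ∃ z' ∈ X, IsTv p z' ∧
      ¬ (disp z).range ≤ (disp z').ker ∧ ¬ (disp z').range ≤ (disp z).ker := by
    obtain ⟨q, hq⟩ : ∃ q : Q, q * qz * q⁻¹ ∉ zpowers qz := by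
      by_contra! hall
      haveI : (zpowers qz).Normal := ⟨fun c hc q => by
        obtain ⟨i, rfl⟩ := mem_zpowers_iff.1 hc
        rw [← conj_zpow]
        exact zpow_mem (hall q) i⟩
      have hpz : IsPGroup p (zpowers qz) := by
        rintro ⟨_, i, rfl⟩
        refine ⟨1, Subtype.ext (hf ?_)⟩
        rw [pow_one, SubgroupClass.coe_pow, map_pow, map_zpow, hqz, OneMemClass.coe_one, map_one,
          ← zpow_natCast, ← zpow_mul, mul_comm, zpow_mul, zpow_natCast]
        rw [show E.normalizerMonoidHom ⟨l, hG3N hlG3⟩ = z from rfl, htv.pow_prime hexp, one_zpow]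
      have h0 := H87.stronglyPEmbedded_normal_eq_bot hY _ hpz
      rw [zpowers_eq_bot] at h0
      obtain ⟨v, ⟨x, hx⟩, hv⟩ := htv.exists_gen
      apply hv
      rw [← hx, show z = f qz from hqz.symm, h0, map_one, disp_apply, MulAut.one_apply, mul_inv_cancel]
    refine ⟨f (q * qz * q⁻¹), ⟨_, rfl⟩, ?_⟩
    have hz' : IsTv p (f (q * qz * q⁻¹)) := by
      rw [map_mul, map_mul, map_inv, hqz]; exact (htv.conj _).1
    have hnp : ¬ IsPGroup p ↥(closure ({z, f (q * qz * q⁻¹)} : Set (MulAut E))) := by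
      intro hU
      set U := closure ({z, f (q * qz * q⁻¹)} : Set (MulAut E))
      have hUX : U ≤ X := (closure_le _).2 (by rintro u (rfl | rfl); exacts [hzX, ⟨_, rfl⟩])
      have hzU : z ∈ U := subset_closure (by simp)
      have hcase : ∀ g : N, ∃ i : ℤ, cE g = z ^ i := fun g => by
        have hg : (g : G) ∈ E ⊔ zpowers l := hNsup.ge g.2
        rw [sup_comm, mem_sup_of_normalizer_mem (zpowers_le.2 (hG3N hlG3))] at hg
        obtain ⟨a, ha, b, hb, hab⟩ := hg
        obtain ⟨i, rfl⟩ := mem_zpowers_iff.1 ha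
        refine ⟨i, ?_⟩
        have : g = (⟨l, hG3N hlG3⟩ : N) ^ i * ⟨b, hEN hb⟩ := Subtype.ext (by simpa using hab.symm)
        rw [this]
        refine (map_mul E.normalizerMonoidHom _ _).trans ?_
        rw [show E.normalizerMonoidHom ⟨b, hEN hb⟩ = 1 from MulEquiv.ext fun u => Subtype.ext (by
          show b * (u : G) * b⁻¹ = (u : G)
          rw [hcomm b hb u u.2, mul_inv_cancel_right]), mul_one]
        exact map_zpow E.normalizerMonoidHom _ i
      obtain ⟨g, hg⟩ := w.sylow E (Or.inr rfl) U hU (fun α hα => hXAut α (hUX hα))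
        (fun g => by obtain ⟨i, hi⟩ := hcase g; rw [show E.normalizerMonoidHom g = z ^ i from hi]
                     exact zpow_mem hzU i)
        (f (q * qz * q⁻¹)) (subset_closure (by simp))
      obtain ⟨i, hi⟩ := hcase ⟨g, H85.mem_normalizer_of_induced hg⟩
      refine hq ⟨i, hf ?_⟩
      show f (qz ^ i) = _
      rw [map_zpow, hqz]
      exact hi.symm.trans (MulEquiv.ext fun u => Subtype.ext (hg u).symm)
    refine ⟨hz', fun hle => hnp (TvEmb.pair_pgroup (by omega) hexp htv hz' hle), fun hle => hnp ?_⟩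
    rw [Set.pair_comm]
    exact TvEmb.pair_pgroup (by omega) hexp hz' htv hle
  obtain ⟨τ, hτX, hτz, hτV, hτW, -⟩ := TvEmb.exists_flip hexp hzX hz'X htv hz' hne1 hne2
  -- extend it to the normalizer
  set fτ := E.subtype.comp (τ : MulAut E).toMonoidHom
  have hfτ : fτ.range = E := by
    ext u
    exact ⟨fun ⟨x, hx⟩ => hx ▸ (τ x).2, fun hu => ⟨τ⁻¹ ⟨u, hu⟩, congrArg Subtype.val (MulAut.apply_inv_self E τ _)⟩⟩
  have hτcomm : ∀ g : N, Commute τ (cE g) := by
    intro g
    have hle : N ≤ ((centralizer ({τ} : Set (MulAut E))).comap E.normalizerMonoidHom).map N.subtype := by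
      refine hNsup.ge.trans (sup_le ?_ (zpowers_le.2 ⟨⟨l, hG3N hlG3⟩, ?_, rfl⟩))
      · intro u hu
        refine ⟨⟨u, hEN hu⟩, mem_centralizer_singleton_iff.2 ?_, rfl⟩
        rw [show E.normalizerMonoidHom ⟨u, hEN hu⟩ = 1 from MulEquiv.ext fun v => Subtype.ext (by
          show u * (v : G) * u⁻¹ = (v : G)
          rw [hcomm u hu v v.2, mul_inv_cancel_right]), one_mul, mul_one]
      · exact mem_centralizer_singleton_iff.2 hτz.symm.eq
    obtain ⟨g', hg', hgg⟩ := hle g.2
    obtain rfl : g' = g := Subtype.ext hgg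
    exact (mem_centralizer_singleton_iff.1 hg').symm
  obtain ⟨φ, hφ, hφE⟩ := w.ext (hXAut τ hτX) hfτ (Or.inr rfl) N hEN fun k hk => ⟨hk, k, fun x hx => by
    exact congrArg Subtype.val (DFunLike.congr_fun (hτcomm ⟨k, hk⟩).eq x)⟩
  have hφinj := w.inj hφ
  have hφE' : ∀ (x : G) (hx : x ∈ E), φ ⟨x, hEN hx⟩ = ((τ ⟨x, hx⟩ : E) : G) := fun x hx => hφE ⟨x, hx⟩
  set lN : N := ⟨l, hG3N hlG3⟩
  have hconj : ∀ (x : G) (hx : x ∈ E), φ lN * ((τ ⟨x, hx⟩ : E) : G) * (φ lN)⁻¹ =
      l * ((τ ⟨x, hx⟩ : E) : G) * l⁻¹ := fun x hx => by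
    rw [← hφE' x hx, ← map_mul, ← map_inv, ← map_mul]
    have e1 : lN * ⟨x, hEN hx⟩ * lN⁻¹ = ⟨((cE lN ⟨x, hx⟩ : E) : G), hEN (cE lN ⟨x, hx⟩).2⟩ :=
      Subtype.ext rfl
    rw [e1, hφE' _ (cE lN ⟨x, hx⟩).2, hφE' x hx]
    exact congrArg Subtype.val (DFunLike.congr_fun (hτcomm lN).eq ⟨x, hx⟩)
  obtain ⟨e1, he1, hle1⟩ : ∃ e1 ∈ E, φ lN = l * e1 := by
    refine ⟨l⁻¹ * φ lN, self_centralizing w fun u hu => ?_, by group⟩
    have := hconj ((τ⁻¹ ⟨u, hu⟩ : E) : G) (τ⁻¹ ⟨u, hu⟩).2
    simp only [Subtype.coe_eta, MulAut.apply_inv_self] at this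
    calc l⁻¹ * φ lN * u = l⁻¹ * (φ lN * u * (φ lN)⁻¹) * φ lN := by group
      _ = l⁻¹ * (l * u * l⁻¹) * φ lN := by rw [this]
      _ = u * (l⁻¹ * φ lN) := by group
  have hτWmem : ∀ x : E, (x : G) ∈ W → ((τ x : E) : G) ∈ W := fun x hx => by
    have := hτW x (MonoidHom.mem_ker.2 (hWker x hx))
    rw [show τ x = τ x * x⁻¹ * x by group, Subgroup.coe_mul]
    exact mul_mem (hVW ⟨_, this, rfl⟩) hx
  have he1W : e1 ∈ W := by
    by_contra he1W
    have hlt : N < ⊤ := by
      refine lt_top_iff_ne_top.2 fun htop => ?_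
      rw [htop, card_top, h.card] at hNcard
      have := Nat.pow_right_injective hp.out.two_le hNcard
      omega
    haveI := h.isPGroup.isNilpotent
    obtain ⟨y, hyN, hyn⟩ := SetLike.exists_of_lt (Group.normalizerCondition_of_isNilpotent N hlt)
    have hyc : ∀ {u : G}, u ∈ N → y * u * y⁻¹ ∈ N := fun hu => H85.conj_mem_of_mem_normalizer hyN hu
    have hyW : ∀ {u : G}, u ∈ W → y * u * y⁻¹ ∈ W := fun {u} hu => by
      refine ⟨self_centralizing w fun v hv => ?_, (inferInstance : G3.Normal).conj_mem u hu.2 y⟩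
      have hv' : y⁻¹ * v * y ∈ N := H85.conj_mem_of_mem_normalizer' hyN (hEN hv)
      rw [← hNsup] at hv'
      have hle : E ⊔ zpowers l ≤ centralizer ({u} : Set G) := sup_le
        (fun c hc => mem_centralizer_singleton_iff.2 (hcomm c hc u hu.1))
        (zpowers_le.2 (mem_centralizer_singleton_iff.2 (g3_comm h hn hlG3 hu.2)))
      have h2 := mem_centralizer_singleton_iff.1 (hle hv')
      calc y * u * y⁻¹ * v = y * (u * (y⁻¹ * v * y)) * y⁻¹ := by group
        _ = y * (y⁻¹ * v * y * u) * y⁻¹ := by rw [h2]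
        _ = v * (y * u * y⁻¹) := by group
    set c := y * e1 * y⁻¹ * e1⁻¹ with hcdef
    have hcN : c ∈ N := mul_mem (hyc (hEN he1)) (inv_mem (hEN he1))
    have hcmem : c ∈ G3 := by
      have h1 : G3 ≤ N ⊓ lcsT G 1 := le_inf hG3N hG31
      have h2 : N ⊓ lcsT G 1 < N := lt_of_le_of_ne inf_le_left fun he => hE1 (hEN.trans (he.ge.trans inf_le_right))
      have h3 := H30.card_mul_le_of_lt h.isPGroup h2
      rw [hNcard, pow_succ' p 3] at h3
      rw [Subgroup.eq_of_le_of_card_ge h1 (by rw [hcG3]; exact Nat.le_of_mul_le_mul_left h3 hp.out.pos)]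
      refine ⟨hcN, ?_⟩
      rw [hcdef, show y * e1 * y⁻¹ * e1⁻¹ = ⁅y, e1⁆ by rw [commutatorElement_def]]
      rw [lcsT, Subgroup.lowerCentralSeries_succ, Subgroup.lowerCentralSeries_zero]
      exact commutator_mem_commutator (mem_top y) (mem_top e1)
    have hcW' : c ∉ W := fun hc => hyn (by
      have hEsup : W ⊔ zpowers e1 = E := card_sup_eq h inf_le_left he1 he1W
        (by rw [hcW, hcard, ← pow_succ'])
      have hle : E ≤ E.comap (MulAut.conj y).toMonoidHom := hEsup.ge.trans (sup_le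
        (fun u hu => (hyW hu).1)
        (zpowers_le.2 (show y * e1 * y⁻¹ ∈ E by
          rw [show y * e1 * y⁻¹ = c * e1 by rw [hcdef]; group]; exact mul_mem hc.1 he1)))
      exact H85.mem_normalizer_of_conj fun u hu => hle hu)
    have hcy : y * c * y⁻¹ * c⁻¹ ∈ W := by
      by_cases hle : Z2 ≤ E
      · rw [hWZ2 hle]
        have := H34.commutator_mem_lcs_succ hcmem y
        rw [show n - 4 + 1 = n - 3 by omega] at this
        rw [show y * c * y⁻¹ * c⁻¹ = ⁅c, y⁆⁻¹ by rw [commutatorElement_def]; group]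
        exact inv_mem this
      · haveI : W.Normal → True := fun _ => trivial
        have hl2 := hlZ2 hle
        have hc' := hG3sup.ge hcmem
        rw [sup_comm, mem_sup_of_normalizer_mem (zpowers_le.2 (?_ : l ∈ normalizer (W : Set G)))] at hc'
        · obtain ⟨a, ha, b, hb, hab⟩ := hc'
          obtain ⟨i, rfl⟩ := mem_zpowers_iff.1 ha
          have hz : ⁅y, l ^ i⁆ ∈ W := hZW (by
            rw [← commutatorElement_inv]
            have := H34.commutator_mem_lcs_succ (zpow_mem hl2 i) y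
            rw [show n - 3 + 1 = n - 2 by omega] at this
            exact inv_mem this)
          rw [← hab, show y * (l ^ i * b) * y⁻¹ * (l ^ i * b)⁻¹ =
            ⁅y, l ^ i⁆ * (l ^ i * (y * b * y⁻¹ * b⁻¹) * (l ^ i)⁻¹) by rw [commutatorElement_def]; group]
          refine mul_mem hz ?_
          have hw : y * b * y⁻¹ * b⁻¹ ∈ W := mul_mem (hyW hb) (inv_mem hb)
          rw [g3_comm h hn (zpow_mem hlG3 i) hw.2, mul_inv_cancel_right]
          exact hw
        · exact H85.mem_normalizer_of_conj fun u hu => by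
            rw [g3_comm h hn hlG3 hu.2, mul_inv_cancel_right]; exact hu
    -- iterate
    have hiter : ∀ k : ℕ, ∃ u ∈ W, y ^ k * e1 * (y ^ k)⁻¹ = e1 * c ^ k * u := by
      intro k
      induction k with
      | zero => exact ⟨1, one_mem _, by simp⟩
      | succ k ih =>
        obtain ⟨u, hu, he⟩ := ih
        obtain ⟨d, hd, hdc⟩ : ∃ d ∈ W, (y * c * y⁻¹) ^ k = c ^ k * d := by
          refine ⟨(y * c * y⁻¹ * c⁻¹) ^ k, pow_mem hcy k, ?_⟩
          rw [← (show Commute c (y * c * y⁻¹ * c⁻¹) from g3_comm h hn hcmem hcy.2).mul_pow]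
          congr 1
          rw [g3_comm h hn hcmem hcy.2, inv_mul_cancel_right]
        obtain ⟨d', hd', hec⟩ : ∃ d' ∈ W, c * e1 = e1 * c * d' := by
          refine ⟨⁅c⁻¹, e1⁻¹⁆, ⟨?_, ?_⟩, by rw [commutatorElement_def]; group⟩
          · rw [commutatorElement_def]
            refine E.mul_mem ?_ (by simpa using he1)
            exact H85.conj_mem_of_mem_normalizer (inv_mem hcN : c⁻¹ ∈ N) (inv_mem he1)
          · rw [commutatorElement_def, show c⁻¹ * e1⁻¹ * c⁻¹⁻¹ * e1⁻¹⁻¹ = c⁻¹ * (e1⁻¹ * c * e1⁻¹⁻¹) by group]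
            exact G3.mul_mem (G3.inv_mem hcmem) ((inferInstance : G3.Normal).conj_mem c hcmem e1⁻¹)
        refine ⟨d' * (d * (y * u * y⁻¹)), mul_mem hd' (mul_mem hd (hyW hu)), ?_⟩
        rw [show y ^ (k + 1) * e1 * (y ^ (k + 1))⁻¹ = y * (y ^ k * e1 * (y ^ k)⁻¹) * y⁻¹ by
          rw [pow_succ' y k]; group, he,
          show y * (e1 * c ^ k * u) * y⁻¹ = y * e1 * y⁻¹ * (y * c * y⁻¹) ^ k * (y * u * y⁻¹) by
            rw [conj_pow]; group,
          show y * e1 * y⁻¹ = c * e1 by rw [hcdef]; group, hdc, hec, pow_succ' c k]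
        rw [show e1 * c * d' * (c ^ k * d) * (y * u * y⁻¹) = e1 * c * (d' * c ^ k) * d * (y * u * y⁻¹) by
          group, g3_comm h hn hd'.2 (pow_mem hcmem k)]
        group
    obtain ⟨k, hk⟩ : ∃ k : ℕ, c ^ k * l⁻¹ ∈ W := by
      have hsup : W ⊔ zpowers c = G3 := card_sup_eq h inf_le_right hcmem hcW'
        (by rw [hcW, hcG3, ← pow_succ'])
      have hl' := hsup.ge hlG3
      rw [sup_comm, mem_sup_of_normalizer_mem (zpowers_le.2 (H85.mem_normalizer_of_conj fun u hu => by
        rw [g3_comm h hn hcmem hu.2, mul_inv_cancel_right]; exact hu))] at hl'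
      obtain ⟨a, ha, b, hb, hab⟩ := hl'
      rw [← mem_powers_iff_mem_zpowers] at ha
      obtain ⟨k, rfl⟩ := ha
      refine ⟨k, ?_⟩
      rw [← hab, mul_inv_rev, g3_comm h hn (inv_mem hb.2) (inv_mem (pow_mem hcmem k)),
        mul_inv_cancel_left]
      exact inv_mem hb
    obtain ⟨u, hu, he⟩ := hiter k
    set y' := y ^ k
    have hy'W : ∀ {u : G}, u ∈ W → y' * u * y'⁻¹ ∈ W := by
      intro v hv
      show y ^ k * v * (y ^ k)⁻¹ ∈ W
      clear he hk hu
      induction k with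
      | zero => simpa using hv
      | succ k ih =>
        rw [show y ^ (k + 1) * v * (y ^ (k + 1))⁻¹ = y * (y ^ k * v * (y ^ k)⁻¹) * y⁻¹ by
          rw [pow_succ' y k]; group]
        exact hyW ih
    set E'' := E.map (MulAut.conj y').toMonoidHom
    have hW'' : W ≤ E'' := by
      have hle : W.map (MulAut.conj y').toMonoidHom ≤ W := by rintro _ ⟨v, hv, rfl⟩; exact hy'W hv
      have heq := Subgroup.eq_of_le_of_card_ge hle
        (by rw [Subgroup.card_map_of_injective (MulAut.conj y').injective])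
      exact heq.ge.trans (Subgroup.map_mono inf_le_left)
    have hl'' : φ lN ∈ E'' := by
      have h1 : e1 * c ^ k * u ∈ E'' := ⟨e1, he1, by show y' * e1 * y'⁻¹ = _; exact he⟩
      have hcom : (e1 * l) * (φ lN)⁻¹ ∈ W := by
        rw [hle1, mul_inv_rev, show e1 * l * (e1⁻¹ * l⁻¹) = ⁅l, e1⁆⁻¹ by rw [commutatorElement_def]; group]
        exact inv_mem (hVW (hVmem e1 he1))
      have h2 : e1 * c ^ k * l⁻¹ * e1⁻¹ ∈ E'' := hW'' (by
        rw [show e1 * c ^ k * l⁻¹ * e1⁻¹ = e1 * (c ^ k * l⁻¹) * e1⁻¹ by group,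
          hcomm e1 he1 _ hk.1, mul_inv_cancel_right]
        exact hk)
      rw [show φ lN = ((e1 * l) * (φ lN)⁻¹)⁻¹ * ((e1 * c ^ k * l⁻¹ * e1⁻¹)⁻¹ * (e1 * c ^ k * u * u⁻¹)) by
        group]
      exact mul_mem (inv_mem (hW'' hcom)) (mul_mem (inv_mem h2) (mul_mem h1 (inv_mem (hW'' hu))))
    -- `G3` would be a conjugate of `E`
    let K : Subgroup G := normalizer (E'' : Set G)
    set r := φ.comp (Subgroup.inclusion hG3N)
    have hr : w.Hom G3 r := w.restr hφ hG3N
    have hrle : ∀ x, r x ∈ E'' := by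
      intro x
      have hx := hG3sup.ge x.2
      rw [sup_comm, mem_sup_of_normalizer_mem (zpowers_le.2 (H85.mem_normalizer_of_conj fun u hu => by
        rw [g3_comm h hn hlG3 hu.2, mul_inv_cancel_right]; exact hu))] at hx
      obtain ⟨a, ha, b, hb, hab⟩ := hx
      obtain ⟨i, rfl⟩ := mem_zpowers_iff.1 ha
      show φ ⟨x, _⟩ ∈ E''
      rw [show (⟨(x : G), hG3N x.2⟩ : N) = lN ^ i * ⟨b, hEN hb.1⟩ from Subtype.ext (by simpa using hab.symm),
        map_mul, map_zpow, hφE' b hb.1]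
      exact mul_mem (zpow_mem hl'' i) (hW'' (hτWmem ⟨b, hb.1⟩ hb))
    have hrcard : r.range = E'' := by
      refine Subgroup.eq_of_le_of_card_ge (by rintro _ ⟨x, rfl⟩; exact hrle x) ?_
      rw [Nat.card_congr (MonoidHom.ofInjective (w.inj hr)).symm.toEquiv, hcG3,
        Subgroup.card_map_of_injective (MulAut.conj y').injective, hcard]
    have hback := w.comp hr (w.conj E'' y'⁻¹) hrle
    have hbr : (((MulAut.conj y'⁻¹).toMonoidHom.comp E''.subtype).comp (r.codRestrict E'' hrle)).range = E := by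
      refine Subgroup.eq_of_le_of_card_ge ?_ ?_
      · rintro _ ⟨x, rfl⟩
        obtain ⟨v, hv, hve⟩ := hrle x
        show y'⁻¹ * r x * y'⁻¹⁻¹ ∈ E
        rw [← hve]
        simpa [mul_assoc] using hv
      · rw [Nat.card_congr (MonoidHom.ofInjective (w.inj hback)).symm.toEquiv, hcG3, hcard]
    exact not_le_one h hn hcard w hN4 hback hbr hG31
  -- the automorphism of `G3`
  have hφG3 : ∀ x : G3, φ ⟨(x : G), hG3N x.2⟩ ∈ G3 := by
    intro x
    have hx := hG3sup.ge x.2
    rw [sup_comm, mem_sup_of_normalizer_mem (zpowers_le.2 (H85.mem_normalizer_of_conj fun u hu => by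
      rw [g3_comm h hn hlG3 hu.2, mul_inv_cancel_right]; exact hu))] at hx
    obtain ⟨a, ha, b, hb, hab⟩ := hx
    obtain ⟨i, rfl⟩ := mem_zpowers_iff.1 ha
    rw [show (⟨(x : G), hG3N x.2⟩ : N) = lN ^ i * ⟨b, hEN hb.1⟩ from Subtype.ext (by simpa using hab.symm),
      map_mul, map_zpow, hle1, hφE' b hb.1]
    exact mul_mem (zpow_mem (mul_mem hlG3 he1W.2) i) (hτWmem ⟨b, hb.1⟩ hb).2
  obtain ⟨σ0, hσ0⟩ := exists_aut (φ.comp (Subgroup.inclusion hG3N))
    (hφinj.comp (Subgroup.inclusion_injective hG3N)) hφG3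
  have hσ0A : w.Aut G3 σ0 := by
    have := w.restr hφ hG3N
    rwa [show φ.comp (Subgroup.inclusion hG3N) = G3.subtype.comp σ0.toMonoidHom from
      MonoidHom.ext fun x => (hσ0 x).symm] at this
  have hσA : ∀ k : ℕ, w.Aut G3 (σ0 ^ k) := fun k => by
    induction k with
    | zero => rw [pow_zero]; exact w.aut_one G3
    | succ k ih => rw [pow_succ]; exact w.aut_mul ih hσ0A
  set σ := σ0 ^ p with hσdef
  have hσ0W : ∀ (x : G3) (hx : (x : G) ∈ W), ((σ0 x : G3) : G) = ((τ ⟨x, hx.1⟩ : E) : G) := fun x hx => by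
    rw [hσ0]; exact hφE' x hx.1
  have hτV' : ∀ (x : E), (x : G) ∈ V → τ x = x⁻¹ := fun x ⟨v, hv, hvx⟩ => by
    obtain rfl : v = x := Subtype.ext hvx
    exact hτV v hv
  have hσ0V : ∀ (x : G3), (x : G) ∈ V → ((σ0 x : G3) : G) = (x : G)⁻¹ := fun x hx => by
    rw [hσ0W x (hVW hx), hτV' _ hx]; rfl
  have hσ0d : ∀ (x : G3), (x : G) ∈ W → ((σ0 x : G3) : G) * (x : G)⁻¹ ∈ V := fun x hx => by
    rw [hσ0W x hx]
    exact ⟨_, hτW ⟨x, hx.1⟩ (MonoidHom.mem_ker.2 (hWker _ hx)), rfl⟩
  have hodd : ∀ m : ℕ, ∀ (x : G3), (x : G) ∈ W → (σ0 ^ (2 * m + 1)) x = σ0 x := by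
    intro m x hx
    induction m with
    | zero => simp
    | succ m ih =>
      rw [show 2 * (m + 1) + 1 = 1 + (1 + (2 * m + 1)) by omega, pow_add, pow_add, pow_one,
        MulAut.mul_apply, MulAut.mul_apply, ih]
      congr 1
      have hd := hσ0d x hx
      set d : G3 := σ0 x * x⁻¹
      have hd' : (d : G) ∈ V := hd
      have h1 : σ0 d = d⁻¹ := Subtype.ext (hσ0V d hd')
      have h2 : σ0 x = d * x := by simp [d]
      rw [h2, map_mul, h1, h2, inv_mul_cancel_left]
  obtain ⟨m, hm⟩ : ∃ m, p = 2 * m + 1 := (hp.out.odd_of_ne_two (by omega))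
  have hσW : ∀ (x : G3), (x : G) ∈ W → σ x = σ0 x := fun x hx => by rw [hσdef, hm]; exact hodd m x hx
  have hσl : ((σ ⟨l, hlG3⟩ : G3) : G) * l⁻¹ ∈ V := by
    set L : G3 := ⟨l, hlG3⟩
    set e' : G3 := ⟨e1, he1W.2⟩
    have hL : σ0 L = L * e' := Subtype.ext (by rw [hσ0]; exact hle1)
    have key : ∀ k : ℕ, ∃ v : G3, (v : G) ∈ V ∧ (σ0 ^ k) L = L * e' ^ k * v := by
      intro k
      induction k with
      | zero => exact ⟨1, one_mem _, by simp⟩
      | succ k ih =>
        obtain ⟨v, hv, he⟩ := ih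
        have hc : ∀ a b : G3, a * b = b * a := fun a b => Subtype.ext (g3_comm h hn a.2 b.2)
        have h1 : (((σ0 e' * e'⁻¹) ^ k * σ0 v : G3) : G) ∈ V := by
          rw [Subgroup.coe_mul, SubgroupClass.coe_pow]
          refine mul_mem (pow_mem (hσ0d e' he1W) k) ?_
          rw [hσ0V v hv]
          exact inv_mem hv
        refine ⟨_, h1, ?_⟩
        rw [pow_succ', MulAut.mul_apply, he, map_mul, map_mul, map_pow, hL,
          Commute.mul_pow (hc _ _), inv_pow, pow_succ' e' k]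
        rw [show L * (e' * e' ^ k) * (σ0 e' ^ k * (e' ^ k)⁻¹ * σ0 v) =
          L * e' * (e' ^ k * (σ0 e' ^ k) * (e' ^ k)⁻¹) * σ0 v by group, hc (e' ^ k) (σ0 e' ^ k),
          mul_inv_cancel_right]
    obtain ⟨v, hv, he⟩ := key p
    rw [hσdef, he, show e' ^ p = 1 from Subtype.ext (g3_pow hp5 h hn he1W.2), mul_one]
    show l * (v : G) * l⁻¹ ∈ V
    rw [g3_comm h hn hlG3 v.2, mul_inv_cancel_right]
    exact hv
  have hσd : ∀ x : G3, ((σ x : G3) : G) * (x : G)⁻¹ ∈ V := by
    have hc : ∀ a b : G3, a * b = b * a := fun a b => Subtype.ext (g3_comm h hn a.2 b.2)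
    let T : Subgroup G3 :=
      { carrier := {x | ((σ x : G3) : G) * (x : G)⁻¹ ∈ V}
        one_mem' := by simp
        mul_mem' := fun {a b} ha hb => by
          show ((σ (a * b) : G3) : G) * ((a * b : G3) : G)⁻¹ ∈ V
          have : σ (a * b) * (a * b)⁻¹ = (σ a * a⁻¹) * (σ b * b⁻¹) := by
            rw [map_mul, mul_inv_rev, show σ a * σ b * (b⁻¹ * a⁻¹) = σ a * ((σ b * b⁻¹) * a⁻¹) by group,
              hc (σ b * b⁻¹) a⁻¹, mul_assoc]
          have h' := congrArg (fun u : G3 => (u : G)) this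
          simp only [Subgroup.coe_mul, Subgroup.coe_inv] at h' ⊢
          rw [h']
          exact mul_mem ha hb
        inv_mem' := fun {a} ha => by
          show ((σ a⁻¹ : G3) : G) * ((a⁻¹ : G3) : G)⁻¹ ∈ V
          have : σ a⁻¹ * a⁻¹⁻¹ = (σ a * a⁻¹)⁻¹ := by rw [map_inv, inv_inv, mul_inv_rev, inv_inv, hc]
          have h' := congrArg (fun u : G3 => (u : G)) this
          simp only [Subgroup.coe_mul, Subgroup.coe_inv] at h' ⊢
          rw [h']
          exact inv_mem ha }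
    intro x
    have hle : G3 ≤ T.map G3.subtype := hG3sup.ge.trans (sup_le
      (fun u hu => ⟨⟨u, hu.2⟩, by
        show ((σ ⟨u, hu.2⟩ : G3) : G) * u⁻¹ ∈ V
        rw [hσW _ hu]; exact hσ0d ⟨u, hu.2⟩ hu, rfl⟩)
      (zpowers_le.2 ⟨⟨l, hlG3⟩, hσl, rfl⟩))
    obtain ⟨x', hx', he⟩ := hle x.2
    obtain rfl : x' = x := Subtype.ext he
    exact hx'
  have hσV : ∀ x : G3, (x : G) ∈ V → ((σ x : G3) : G) = (x : G)⁻¹ := fun x hx => by
    rw [hσW x (hVW hx)]; exact hσ0V x hx
  have hσAut : w.Aut G3 σ := hσA p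
  -- transfer a layer automorphism to `G` and use the signs
  have hfin : ∀ e : ℤ, (e = 1 ∨ e = -1) →
      (∀ x : G3, (x : G) ∈ Z → ((σ x : G3) : G) = (x : G) ^ (-e)) →
      (∀ x : G3, (x : G) ∈ Z2 → ((x : G) ^ e)⁻¹ * ((σ x : G3) : G) ∈ Z) →
      (∀ x : G3, ((x : G))⁻¹ * ((σ x : G3) : G) ∈ Z2) → (C = M → e = 1) → False := by
    intro e he h0 h1 h2 hCM'
    haveI : IsMulCommutative G3 := ⟨⟨fun a b => Subtype.ext (g3_comm h hn a.2 b.2)⟩⟩
    have hexp3 : ∀ x : G3, x ^ p = 1 := fun x =>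
      Subtype.ext (by rw [SubgroupClass.coe_pow]; exact g3_pow hp5 h hn x.2)
    set A := Z.subgroupOf G3
    set B := Z2.subgroupOf G3
    let K0 : Submonoid (MulAut G3) :=
      { carrier := {α | w.Aut G3 α ∧ (∀ a ∈ A, α a = a) ∧ (∀ b ∈ B, disp α b ∈ A) ∧ ∀ x, disp α x ∈ B}
        one_mem' := ⟨w.aut_one G3, fun _ _ => rfl, fun b _ => by
          rw [show disp (1 : MulAut G3) b = 1 from mul_inv_cancel b]; exact one_mem _, fun b => by
          rw [show disp (1 : MulAut G3) b = 1 from mul_inv_cancel b]; exact one_mem _⟩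
        mul_mem' := fun {α β} ha hb => by
          have hd : ∀ x, disp (α * β) x = disp α (disp β x) * disp β x * disp α x := fun x => by
            rw [disp_apply, MulAut.mul_apply, TvEmb.apply_eq β x, map_mul, TvEmb.apply_eq α x,
              TvEmb.apply_eq α (disp β x)]
            simp only [mul_assoc, mul_inv_cancel, mul_one]
          have hAB : A ≤ B := fun a ha => hZZ2 ha
          refine ⟨w.aut_mul ha.1 hb.1, fun a haA => by
            rw [MulAut.mul_apply, hb.2.1 a haA, ha.2.1 a haA], fun b hbB => ?_, fun x => ?_⟩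
          · rw [hd]
            exact mul_mem (mul_mem (ha.2.2.1 _ (hAB (hb.2.2.1 b hbB))) (hb.2.2.1 b hbB)) (ha.2.2.1 b hbB)
          · rw [hd]
            exact mul_mem (mul_mem (hAB (ha.2.2.1 _ (hb.2.2.2 x))) (hb.2.2.2 x)) (ha.2.2.2 x) }
    have hK0 : ∀ α ∈ K0, α ^ p = 1 := fun α ha => TvEmb.stab_pow (by omega) hexp3 ha.2.1 ha.2.2.1 ha.2.2.2
    let K : Subgroup (MulAut G3) :=
      { K0 with
        inv_mem' := fun {α} ha => by
          rw [show α⁻¹ = α ^ (p - 1) from inv_eq_of_mul_eq_one_right (by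
            rw [← pow_succ', Nat.sub_add_cancel hp.out.one_le, hK0 α ha])]
          exact K0.pow_mem ha _ }
    have hKp : IsPGroup p K := fun a => ⟨1, Subtype.ext (by rw [pow_one, Subgroup.coe_pow, hK0 _ a.2]; rfl)⟩
    have hKc : ∀ g : normalizer (G3 : Set G), G3.normalizerMonoidHom g ∈ K := by
      intro g
      have hd : ∀ x : G3, ((disp (G3.normalizerMonoidHom g) x : G3) : G) = ⁅(g : G), (x : G)⁆ := fun x => by
        rw [disp_apply, Subgroup.coe_mul, Subgroup.coe_inv, commutatorElement_def]; rfl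
      refine ⟨?_, fun a ha => Subtype.ext ?_, fun b hb => ?_, fun x => ?_⟩
      · have := w.conj G3 (g : G)
        exact this
      · show (g : G) * (a : G) * (g : G)⁻¹ = a
        have ha' : (a : G) ∈ Z := ha
        rw [mem_center_iff.1 (h.lcs_pred_le_center ha') g, mul_inv_cancel_right]
      · show ((disp (G3.normalizerMonoidHom g) b : G3) : G) ∈ Z
        rw [hd, ← commutatorElement_inv]
        have := H34.commutator_mem_lcs_succ hb (g : G)
        rw [show n - 3 + 1 = n - 2 by omega] at this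
        exact inv_mem this
      · show ((disp (G3.normalizerMonoidHom g) x : G3) : G) ∈ Z2
        rw [hd, ← commutatorElement_inv]
        have := H34.commutator_mem_lcs_succ x.2 (g : G)
        rw [show n - 4 + 1 = n - 3 by omega] at this
        exact inv_mem this
    -- `σ` permutes the stabiliser
    have hσA' : ∀ a : G3, a ∈ A → σ a ∈ A := fun a ha => by
      show ((σ a : G3) : G) ∈ Z
      rw [h0 a ha]; exact zpow_mem ha _
    have hσB' : ∀ b : G3, b ∈ B → σ b ∈ B := fun b hb => by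
      show _ ∈ Z2
      have := mul_mem (zpow_mem (show (b : G) ∈ Z2 from hb) e) (hZZ2 (h1 b hb))
      rwa [mul_inv_cancel_left] at this
    have hord : σ ^ (orderOf σ - 1) = σ⁻¹ := (inv_eq_of_mul_eq_one_right (by
      rw [← pow_succ', Nat.sub_add_cancel (orderOf_pos σ), pow_orderOf_eq_one])).symm
    have hpres : ∀ P : Subgroup G3, (∀ a ∈ P, σ a ∈ P) → ∀ a ∈ P, σ⁻¹ a ∈ P := by
      intro P hP a ha
      rw [← hord]
      generalize orderOf σ - 1 = k
      induction k with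
      | zero => exact ha
      | succ k ih => rw [pow_succ', MulAut.mul_apply]; exact hP _ ih
    have hσinv : w.Aut G3 σ⁻¹ := by rw [← hord, hσdef, ← pow_mul]; exact hσA _
    have hconjK : ∀ g : normalizer (G3 : Set G), σ * G3.normalizerMonoidHom g * σ⁻¹ ∈ K := by
      intro g
      obtain ⟨hc1, hc2, hc3, hc4⟩ := hKc g
      set γ := G3.normalizerMonoidHom g
      have hd : ∀ x, disp (σ * γ * σ⁻¹) x = σ (disp γ (σ⁻¹ x)) := fun x => by
        rw [disp_apply, disp_apply, map_mul, map_inv, MulAut.mul_apply, MulAut.mul_apply,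
          MulAut.apply_inv_self]
      refine ⟨w.aut_mul (w.aut_mul hσAut hc1) hσinv, fun a ha => ?_, fun b hb => ?_, fun x => ?_⟩
      · rw [MulAut.mul_apply, MulAut.mul_apply, hc2 _ (hpres A hσA' a ha), MulAut.apply_inv_self]
      · rw [hd]; exact hσA' _ (hc3 _ (hpres B hσB' b hb))
      · rw [hd]; exact hσB' _ (hc4 _)
    have hσr : (G3.subtype.comp σ.toMonoidHom).range = G3 := by
      ext u
      exact ⟨fun ⟨x, hx⟩ => hx ▸ (σ x).2, fun hu => ⟨σ⁻¹ ⟨u, hu⟩, congrArg Subtype.val (MulAut.apply_inv_self G3 σ _)⟩⟩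
    have hG3n : normalizer (G3 : Set G) = ⊤ := normalizer_eq_top_iff.2 inferInstance
    obtain ⟨f', hf', hf'x⟩ := w.ext hσAut hσr (Or.inl inferInstance) ⊤ le_top fun k _ => by
      refine ⟨hG3n.ge (mem_top k), ?_⟩
      obtain ⟨c, hc⟩ := w.sylow G3 (Or.inl inferInstance) K hKp (fun α hα => hα.1) hKc _
        (hconjK ⟨k, hG3n.ge (mem_top k)⟩)
      refine ⟨c, fun x hx => ?_⟩
      have h4 := hc (σ x)
      rw [MulAut.mul_apply, MulAut.mul_apply, MulAut.inv_apply_self] at h4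
      exact h4
    set F : G →* G := f'.comp (Subgroup.topEquiv (G := G)).symm.toMonoidHom
    have hFinj : Function.Injective F := (w.inj hf').comp (Subgroup.topEquiv (G := G)).symm.injective
    set α : MulAut G := MulEquiv.ofBijective F (Finite.injective_iff_bijective.1 hFinj)
    have hα : ∀ x : G3, α (x : G) = ((σ x : G3) : G) := fun x => by
      show f' _ = _
      exact hf'x x
    refine MaxSgn.no_auto hp5 h hn α e he (fun x hx => ?_) (fun x hx => ?_) (fun x hx => ?_) hCM'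
    · show (x ^ (1 : ℤ))⁻¹ * α x ∈ _
      rw [zpow_one, hα ⟨x, hx⟩]
      exact h2 ⟨x, hx⟩
    · show (x ^ e)⁻¹ * α x ∈ _
      rw [hα ⟨x, hZ2G3 hx⟩]
      exact h1 ⟨x, hZ2G3 hx⟩ hx
    · rw [hα ⟨x, hZ2G3 (hZZ2 hx)⟩]
      exact h0 ⟨x, hZ2G3 (hZZ2 hx)⟩ hx
  have hflip : ∀ x : G3, (x : G)⁻¹ * ((σ x : G3) : G) ∈ V := fun x => by
    rw [g3_comm h hn (inv_mem x.2) (σ x).2]
    exact hσd x
  by_cases hVeq : V = Z
  · refine hfin 1 (Or.inl rfl) (fun x hx => ?_) (fun x _ => ?_) (fun x => ?_) (fun _ => rfl)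
    · rw [zpow_neg_one]; exact hσV x (hVeq ▸ hx)
    · rw [zpow_one]; exact hVeq ▸ hflip x
    · exact hZZ2 (hVeq ▸ hflip x)
  -- the exceptional case
  have hZ2E : Z2 ≤ E := by by_contra hh; exact hVeq (hVZ (Or.inl hh))
  have hEC : ¬ E ≤ C := fun hh => hVeq (hVZ (Or.inr hh))
  have hEM' : E ≤ M := hCM.resolve_left hEC
  have hCM' : C ≠ M := fun he => hEC (he ▸ hEM')
  have hVZ2 : V ≤ Z2 := by rw [← hWZ2 hZ2E]; exact hVW
  have hVZbot : ∀ u, u ∈ V → u ∈ Z → u = 1 := by
    intro u hu huZ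
    by_contra hu1
    haveI : Fact (Nat.card V).Prime := ⟨hcV.symm ▸ hp.out⟩
    rcases (Z.subgroupOf V).eq_bot_or_eq_top_of_prime_card with hh | hh
    · exact hu1 (congrArg Subtype.val ((Subgroup.eq_bot_iff_forall _).1 hh ⟨u, hu⟩ huZ))
    · exact hVeq (Subgroup.eq_of_le_of_card_ge (subgroupOf_eq_top.1 hh) (by rw [hcV, hcZ]))
  obtain ⟨⟨z0, hz0⟩, hz01'⟩ := Subgroup.ne_bot_iff_exists_ne_one.1 (show Z ≠ ⊥ by
    intro h0; rw [h0, card_bot] at hcZ; exact hp.out.one_lt.ne hcZ)
  have hz01 : z0 ≠ 1 := fun h' => hz01' (Subtype.ext h')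
  haveI : Fact (Nat.card Z).Prime := ⟨hcZ.symm ▸ hp.out⟩
  have hZgen : zpowers z0 = Z := by
    rcases ((zpowers z0).subgroupOf Z).eq_bot_or_eq_top_of_prime_card with hh | hh
    · exact absurd (congrArg Subtype.val ((Subgroup.eq_bot_iff_forall _).1 hh ⟨z0, hz0⟩ (mem_zpowers z0))) hz01
    · exact le_antisymm (zpowers_le.2 hz0) (subgroupOf_eq_top.1 hh)
  have hZ2sup : V ⊔ zpowers z0 = Z2 := card_sup_eq h hVZ2 (hZZ2 hz0) (fun hh => hz01 (hVZbot _ hh hz0))
    (by rw [hcZ2, hcV, pow_two])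
  set z0' : G3 := ⟨z0, hZ2G3 (hZZ2 hz0)⟩
  by_cases hfix : σ z0' = z0'
  · refine hfin (-1) (Or.inr rfl) (fun x hx => ?_) (fun x hx => ?_) (fun x => hVZ2 (hflip x))
      (fun he => absurd he hCM')
    · rw [neg_neg, zpow_one]
      obtain ⟨i, hi⟩ := mem_zpowers_iff.1 (hZgen.ge hx)
      rw [show x = z0' ^ i from Subtype.ext (by simpa [z0'] using hi.symm), map_zpow, hfix]
    · rw [zpow_neg_one, inv_inv]
      have hx' := hZ2sup.ge hx
      rw [sup_comm, mem_sup_of_normalizer_mem (zpowers_le.2 (H85.mem_normalizer_of_conj fun u hu => by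
        rw [g3_comm h hn (hZ2G3 (hZZ2 hz0)) (hZ2G3 (hVZ2 hu)), mul_inv_cancel_right]; exact hu))] at hx'
      obtain ⟨a, ha, b, hb, hab⟩ := hx'
      obtain ⟨i, rfl⟩ := mem_zpowers_iff.1 ha
      rw [show x = z0' ^ i * ⟨b, hZ2G3 (hVZ2 hb)⟩ from Subtype.ext (by simpa [z0'] using hab.symm),
        map_mul, map_zpow, hfix, Subgroup.coe_mul, Subgroup.coe_mul, hσV _ hb, SubgroupClass.coe_zpow]
      show z0 ^ i * b * (z0 ^ i * b⁻¹) ∈ Z
      have hzb : b * z0 ^ i = z0 ^ i * b := g3_comm h hn (hZ2G3 (hVZ2 hb)) (zpow_mem (hZ2G3 (hZZ2 hz0)) i)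
      rw [show z0 ^ i * b * (z0 ^ i * b⁻¹) = z0 ^ i * (b * z0 ^ i) * b⁻¹ by group, hzb,
        ← mul_assoc, mul_inv_cancel_right]
      exact mul_mem (zpow_mem hz0 i) (zpow_mem hz0 i)
  -- otherwise a map carries `Z` into `V`
  set v0 := ((σ z0' : G3) : G) * z0⁻¹ with hv0def
  have hv0 : v0 ∈ V := hσd z0'
  have hv01 : v0 ≠ 1 := fun hh => hfix (Subtype.ext (mul_inv_eq_one.1 hh))
  set y0 := ((σ z0' : G3) : G)
  have hy0e : y0 = v0 * z0 := by rw [hv0def, inv_mul_cancel_right]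
  have hy0Z2 : y0 ∈ Z2 := by rw [hy0e]; exact mul_mem (hVZ2 hv0) (hZZ2 hz0)
  have hy0Z : y0 ∉ Z := fun hh => hv01 (hVZbot _ hv0 (mul_mem hh (inv_mem hz0)))
  obtain ⟨s, hs⟩ := H34.exists_avoid n h (by omega)
  have hsM : s ∉ M := hs (n - 3) (by omega)
  have hsy : ⁅s, y0⁆ ≠ 1 := fun hh => hsM (H34.twoStep_of_commute h (by omega) (by omega) hy0Z2
    (by rwa [show n - 3 + 1 = n - 2 by omega]) (by
      rw [← commutatorElement_inv, hh, inv_one]; exact one_mem _))
  obtain ⟨g, hg⟩ : ∃ g : G, ⁅g, y0⁆ = z0⁻¹ := by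
    have hmem : ∀ g : G, ⁅g, y0⁆ ∈ Z := fun g => by
      rw [← commutatorElement_inv]
      have := H34.commutator_mem_lcs_succ hy0Z2 g
      rw [show n - 3 + 1 = n - 2 by omega] at this
      exact inv_mem this
    let χ : G →* G := MonoidHom.mk' (fun g => ⁅g, y0⁆) fun a b => by
      rw [show ⁅a * b, y0⁆ = a * ⁅b, y0⁆ * a⁻¹ * ⁅a, y0⁆ by simp only [commutatorElement_def]; group,
        mem_center_iff.1 (h.lcs_pred_le_center (hmem b)) a, mul_inv_cancel_right,
        mem_center_iff.1 (h.lcs_pred_le_center (hmem b)) ⁅a, y0⁆]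
    have hr : χ.range = Z := by
      refine Subgroup.eq_of_le_of_card_ge (by rintro _ ⟨g, rfl⟩; exact hmem g) ?_
      rcases (χ.range.subgroupOf Z).eq_bot_or_eq_top_of_prime_card with hh | hh
      · exact absurd (congrArg Subtype.val ((Subgroup.eq_bot_iff_forall _).1 hh ⟨_, hmem s⟩ ⟨s, rfl⟩)) hsy
      · exact Subgroup.card_le_of_le (subgroupOf_eq_top.1 hh)
    exact hr.ge (inv_mem hz0)
  have hG3n : normalizer (G3 : Set G) = ⊤ := normalizer_eq_top_iff.2 inferInstance
  set ψ : MulAut G3 := G3.normalizerMonoidHom ⟨g, hG3n.ge (mem_top g)⟩ * σ with hψdef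
  have hψA : w.Aut G3 ψ := w.aut_mul (w.conj G3 g) hσAut
  have hψapp : ∀ x : G3, ((ψ x : G3) : G) = g * ((σ x : G3) : G) * g⁻¹ := fun x => rfl
  have hψz : ∀ x : G3, (x : G) ∈ Z → ((ψ x : G3) : G) ∈ V := by
    intro x hx
    obtain ⟨i, hi⟩ := mem_zpowers_iff.1 (hZgen.ge hx)
    rw [show x = z0' ^ i from Subtype.ext (by simpa [z0'] using hi.symm), map_zpow, SubgroupClass.coe_zpow]
    refine zpow_mem ?_ i
    rw [hψapp, show g * y0 * g⁻¹ = ⁅g, y0⁆ * y0 by rw [commutatorElement_def]; group, hg, hy0e,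
      g3_comm h hn (hZ2G3 (hVZ2 hv0)) (hZ2G3 (hZZ2 hz0)), inv_mul_cancel_left]
    exact hv0
  have hσZ2 : ∀ x : G3, (x : G) ∈ Z2 → ((σ x : G3) : G) ∈ Z2 := fun x hx => by
    have := mul_mem (hVZ2 (hσd x)) hx
    rwa [inv_mul_cancel_right] at this
  have hψZ2 : ∀ x : G3, (x : G) ∈ Z2 → ((ψ x : G3) : G) ∈ Z2 := fun x hx =>
    (inferInstance : Z2.Normal).conj_mem _ (hσZ2 x hx) g
  have hψsymm : ∀ x : G3, (x : G) ∈ Z2 → (((ψ⁻¹ x : G3)) : G) ∈ Z2 := by
    intro x hx
    let P := Z2.subgroupOf G3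
    have hle : P.map ψ.toMonoidHom ≤ P := by rintro _ ⟨u, hu, rfl⟩; exact hψZ2 u hu
    have heq := Subgroup.eq_of_le_of_card_ge hle (by rw [Subgroup.card_map_of_injective ψ.injective])
    obtain ⟨u, hu, hue⟩ := heq.ge (show x ∈ P from hx)
    rw [← hue]
    show ((ψ⁻¹ (ψ u) : G3) : G) ∈ Z2
    rw [MulAut.inv_apply_self]
    exact hu
  obtain ⟨ee, hee, heeW⟩ : ∃ ee ∈ E, ee ∉ W := by
    refine SetLike.not_le_iff_exists.1 fun hle => ?_
    have := Subgroup.card_le_of_le hle
    rw [hcW, hcard] at this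
    have := (Nat.pow_le_pow_iff_right hp.out.one_lt).1 this
    omega
  set v1 := ⁅ee, l⁆ with hv1def
  have hv1 : v1 ∈ V := by rw [hv1def, ← commutatorElement_inv]; exact inv_mem (hVmem ee hee)
  have hv11 : v1 ≠ 1 := fun hh => heeW (hkerW ⟨ee, hee⟩ (Subtype.ext (by
    rw [hdz]; show ⁅l, ee⁆ = 1
    rw [← commutatorElement_inv, ← hv1def, hh, inv_one])))
  have hVgen : zpowers v1 = V := by
    haveI : Fact (Nat.card V).Prime := ⟨hcV.symm ▸ hp.out⟩
    rcases ((zpowers v1).subgroupOf V).eq_bot_or_eq_top_of_prime_card with hh | hh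
    · exact absurd (congrArg Subtype.val ((Subgroup.eq_bot_iff_forall _).1 hh ⟨v1, hv1⟩ (mem_zpowers v1))) hv11
    · exact le_antisymm (zpowers_le.2 hv1) (subgroupOf_eq_top.1 hh)
  have heM : ∀ (i : ℤ), ee ^ i ∈ M := fun i => zpow_mem (hEM' hee) i
  have heel : ∀ i : ℤ, ⁅ee ^ i, l⁆ = v1 ^ i := by
    intro i
    have hc : Commute ee v1 := hMc ee (hEM' hee) v1 (hVZ2 hv1)
    have h1 : ∀ k : ℕ, ee ^ k * l * (ee ^ k)⁻¹ = v1 ^ k * l := by
      intro k
      induction k with
      | zero => simp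
      | succ k ih =>
        rw [show ee ^ (k + 1) * l * (ee ^ (k + 1))⁻¹ = ee * (ee ^ k * l * (ee ^ k)⁻¹) * ee⁻¹ by
          rw [pow_succ' ee k]; group, ih,
          show ee * (v1 ^ k * l) * ee⁻¹ = (ee * v1 ^ k) * ee⁻¹ * (ee * l * ee⁻¹) by group,
          (hc.pow_right k).eq, mul_inv_cancel_right, show ee * l * ee⁻¹ = v1 * l by
            rw [hv1def, commutatorElement_def]; group, pow_succ, mul_assoc]
    obtain ⟨k, rfl | rfl⟩ := i.eq_nat_or_neg
    · rw [zpow_natCast, zpow_natCast, commutatorElement_def, h1, mul_inv_cancel_right]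
    · rw [zpow_neg, zpow_natCast, zpow_neg, zpow_natCast]
      have hck : Commute (ee ^ k) (v1 ^ k) := hc.pow_pow k k
      rw [commutatorElement_def, inv_inv]
      have h2 : (ee ^ k)⁻¹ * l * ee ^ k = (v1 ^ k)⁻¹ * l := by
        calc (ee ^ k)⁻¹ * l * ee ^ k = (ee ^ k)⁻¹ * ((v1 ^ k)⁻¹ * (v1 ^ k * l)) * ee ^ k := by group
          _ = (ee ^ k)⁻¹ * ((v1 ^ k)⁻¹ * (ee ^ k * l * (ee ^ k)⁻¹)) * ee ^ k := by rw [h1]
          _ = (ee ^ k)⁻¹ * ((v1 ^ k)⁻¹ * ee ^ k) * l := by group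
          _ = (v1 ^ k)⁻¹ * l := by rw [hck.symm.inv_left.eq, inv_mul_cancel_left]
      rw [h2, mul_inv_cancel_right]
  have hG3sup' : Z2 ⊔ zpowers l = G3 := by rw [← hWZ2 hZ2E]; exact hG3sup
  -- extend `ψ` to `γ₁`
  have hψr : (G3.subtype.comp ψ.toMonoidHom).range = G3 := by
    ext u
    exact ⟨fun ⟨x, hx⟩ => hx ▸ (ψ x).2, fun hu => ⟨ψ⁻¹ ⟨u, hu⟩, congrArg Subtype.val (MulAut.apply_inv_self G3 ψ _)⟩⟩
  obtain ⟨f', hf', hf'x⟩ := w.ext hψA hψr (Or.inl inferInstance) (lcsT G 1) hG31 fun k hk => by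
    refine ⟨hG3n.ge (mem_top k), ?_⟩
    have hkC : k ∈ C := H34.lcs_one_le_twoStep 1 hk
    have hkM : k ∈ M := H34.lcs_one_le_twoStep _ hk
    set l' : G3 := ψ⁻¹ ⟨l, hlG3⟩
    have hkl : ⁅k, (l' : G)⁆ ∈ Z := by
      rw [← commutatorElement_inv]; exact inv_mem (hC3 k hkC _ l'.2)
    set t : G3 := ⟨⁅k, (l' : G)⁆, hZ2G3 (hZZ2 hkl)⟩
    obtain ⟨i, hi⟩ := mem_zpowers_iff.1 (hVgen.ge (hψz t hkl))
    refine ⟨ee ^ i, fun x hx => ?_⟩
    set θ1 := ψ * G3.normalizerMonoidHom ⟨k, hG3n.ge (mem_top k)⟩ * ψ⁻¹ with hθ1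
    set θ2 := G3.normalizerMonoidHom ⟨ee ^ i, hG3n.ge (mem_top _)⟩ with hθ2
    have hθ : θ1 = θ2 := by
      have hle : G3 ≤ (MonoidHom.eqLocus θ1.toMonoidHom θ2.toMonoidHom).map G3.subtype := by
        refine hG3sup'.ge.trans (sup_le (fun u hu => ⟨⟨u, hZ2G3 hu⟩, ?_, rfl⟩)
          (zpowers_le.2 ⟨⟨l, hlG3⟩, ?_, rfl⟩))
        · show θ1 _ = θ2 _
          have h1 : θ2 ⟨u, hZ2G3 hu⟩ = ⟨u, hZ2G3 hu⟩ := Subtype.ext (by
            show ee ^ i * u * (ee ^ i)⁻¹ = u
            rw [hMc _ (heM i) u hu, mul_inv_cancel_right])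
          have h2 : G3.normalizerMonoidHom ⟨k, hG3n.ge (mem_top k)⟩ (ψ⁻¹ ⟨u, hZ2G3 hu⟩) =
              ψ⁻¹ ⟨u, hZ2G3 hu⟩ := Subtype.ext (by
            show k * _ * k⁻¹ = _
            rw [hMc k hkM _ (hψsymm _ hu), mul_inv_cancel_right])
          rw [h1, hθ1, MulAut.mul_apply, MulAut.mul_apply, h2, MulAut.apply_inv_self]
        · show θ1 _ = θ2 _
          have h1 : G3.normalizerMonoidHom ⟨k, hG3n.ge (mem_top k)⟩ l' = t * l' := Subtype.ext (by
            show k * (l' : G) * k⁻¹ = ⁅k, (l' : G)⁆ * (l' : G)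
            rw [commutatorElement_def]; group)
          rw [hθ1, MulAut.mul_apply, MulAut.mul_apply, show ψ⁻¹ ⟨l, hlG3⟩ = l' from rfl, h1, map_mul,
            show ψ l' = ⟨l, hlG3⟩ from MulAut.apply_inv_self G3 ψ _]
          refine Subtype.ext ?_
          show ((ψ t : G3) : G) * l = ee ^ i * l * (ee ^ i)⁻¹
          rw [← hi, ← heel, commutatorElement_def, inv_mul_cancel_right]
      refine MulEquiv.ext fun u => ?_
      obtain ⟨u', hu', he⟩ := hle u.2
      obtain rfl : u' = u := Subtype.ext he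
      exact hu'
    have h4 := congrArg (fun u : G3 => (u : G)) (DFunLike.congr_fun hθ (ψ x))
    rw [hθ1, MulAut.mul_apply, MulAut.mul_apply, MulAut.inv_apply_self] at h4
    exact h4
  have hf'inj := w.inj hf'
  -- the image
  let R0 : Subgroup G :=
    { carrier := {u | (∀ x ∈ Z2, u * x = x * u) ∧ ∀ x ∈ G3, ⁅u, x⁆ ∈ V}
      one_mem' := ⟨fun x _ => by simp, fun x _ => by simp⟩
      mul_mem' := fun {a b} ha hb => ⟨fun x hx => by
        rw [mul_assoc, hb.1 x hx, ← mul_assoc, ha.1 x hx, mul_assoc], fun x hx => by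
        rw [show ⁅a * b, x⁆ = a * ⁅b, x⁆ * a⁻¹ * ⁅a, x⁆ by simp only [commutatorElement_def]; group,
          ha.1 _ (hVZ2 (hb.2 x hx)), mul_inv_cancel_right]
        exact mul_mem (hb.2 x hx) (ha.2 x hx)⟩
      inv_mem' := fun {a} ha => ⟨fun x hx => (Commute.inv_left (ha.1 x hx)).eq, fun x hx => by
        rw [show ⁅a⁻¹, x⁆ = a⁻¹ * ⁅a, x⁆⁻¹ * a by simp only [commutatorElement_def]; group]
        have hc := inv_mem (ha.2 x hx)
        rw [(Commute.inv_left (ha.1 _ (hVZ2 hc))).eq, inv_mul_cancel_right]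
        exact hc⟩ }
  have hrange' : ∀ u, f' u ∈ R0 := by
    intro u
    have hxe : ∀ x : G3, ∀ hx : (u : G) * (x : G) * (u : G)⁻¹ ∈ G3,
        f' u * ((ψ x : G3) : G) * (f' u)⁻¹ = ((ψ ⟨_, hx⟩ : G3) : G) := fun x hx => by
      rw [show ((ψ x : G3) : G) = f' (Subgroup.inclusion hG31 x) from (hf'x x).symm,
        show ((ψ ⟨_, hx⟩ : G3) : G) = f' (Subgroup.inclusion hG31 ⟨_, hx⟩) from (hf'x _).symm,
        ← map_mul, ← map_inv, ← map_mul]
      rfl
    have hun : ∀ x : G3, (u : G) * (x : G) * (u : G)⁻¹ ∈ G3 := fun x =>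
      (inferInstance : G3.Normal).conj_mem _ x.2 _
    refine ⟨fun x hx => ?_, fun x hx => ?_⟩
    · set x' := ψ⁻¹ ⟨x, hZ2G3 hx⟩
      have hx' : (x' : G) ∈ Z2 := hψsymm _ hx
      have h1 := hxe x' (hun x')
      have h2 : (⟨_, hun x'⟩ : G3) = x' := Subtype.ext (by
        show (u : G) * (x' : G) * (u : G)⁻¹ = x'
        rw [hMc _ (H34.lcs_one_le_twoStep _ u.2) _ hx', mul_inv_cancel_right])
      rw [h2, show ((ψ x' : G3) : G) = x from congrArg Subtype.val (MulAut.apply_inv_self G3 ψ _)] at h1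
      exact mul_inv_eq_iff_eq_mul.1 h1
    · set x' := ψ⁻¹ ⟨x, hx⟩
      have h1 := hxe x' (hun x')
      have hc : ⁅(u : G), (x' : G)⁆ ∈ Z := by
        rw [← commutatorElement_inv]; exact inv_mem (hC3 _ (H34.lcs_one_le_twoStep 1 u.2) _ x'.2)
      have h2 : (⟨_, hun x'⟩ : G3) = ⟨_, hZ2G3 (hZZ2 hc)⟩ * x' := Subtype.ext (by
        show (u : G) * (x' : G) * (u : G)⁻¹ = ⁅(u : G), (x' : G)⁆ * (x' : G)
        rw [commutatorElement_def]; group)
      rw [h2, map_mul, Subgroup.coe_mul,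
        show ((ψ x' : G3) : G) = x from congrArg Subtype.val (MulAut.apply_inv_self G3 ψ _)] at h1
      rw [commutatorElement_def, h1, mul_inv_cancel_right]
      exact hψz _ hc
  have hR0M : R0 ≤ M := fun u hu => mem_twoStep.2 fun x hx => by
    rw [commutatorElement_eq_one_iff_mul_comm.2 (hu.1 x hx).symm]; exact one_mem _
  obtain ⟨k0, hk0, hk0c⟩ : ∃ k ∈ lcsT G 1, ⁅k, l⁆ ≠ 1 := by
    by_contra! hall
    set k := ⁅ee, s⁆ with hkdef
    have hk : k ∈ lcsT G 1 := by
      rw [lcsT, Subgroup.lowerCentralSeries_succ, Subgroup.lowerCentralSeries_zero]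
      exact commutator_mem_commutator (mem_top _) (mem_top _)
    have hkl : k * l = l * k := commutatorElement_eq_one_iff_mul_comm.1 (hall k hk)
    have hkZ2 : ∀ x ∈ Z2, k * x = x * k := hMc k (H34.lcs_one_le_twoStep _ hk)
    have hkG3 : ∀ x ∈ G3, k * x = x * k := fun x hx => by
      have hle : Z2 ⊔ zpowers l ≤ centralizer ({k} : Set G) := sup_le
        (fun u hu => mem_centralizer_singleton_iff.2 (hkZ2 u hu).symm)
        (zpowers_le.2 (mem_centralizer_singleton_iff.2 hkl.symm))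
      exact (mem_centralizer_singleton_iff.1 (hle (hG3sup'.ge hx))).symm
    set u := ⁅s, l⁆
    have hu : u ∈ Z2 := by
      rw [show u = ⁅s, l⁆ from rfl, ← commutatorElement_inv]
      have := H34.commutator_mem_lcs_succ hlG3 s
      rw [show n - 4 + 1 = n - 3 by omega] at this
      exact inv_mem this
    have hvv : s * v1 * s⁻¹ ∈ Z2 := (inferInstance : Z2.Normal).conj_mem _ (hVZ2 hv1) _
    have e1 : ee * s * l * (ee * s)⁻¹ = u * (v1 * l) := by
      rw [show ee * s * l * (ee * s)⁻¹ = (ee * u * ee⁻¹) * (ee * l * ee⁻¹) by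
        simp only [u, commutatorElement_def]; group, hMc ee (hEM' hee) u hu, mul_inv_cancel_right,
        hv1def, show ee * l * ee⁻¹ = ⁅ee, l⁆ * l by rw [commutatorElement_def]; group]
    have e2 : ee * s * l * (ee * s)⁻¹ = s * v1 * s⁻¹ * (u * l) := by
      have hm : s * ee * l * (s * ee)⁻¹ ∈ G3 := (inferInstance : G3.Normal).conj_mem _ hlG3 _
      rw [show ee * s * l * (ee * s)⁻¹ = k * (s * ee * l * (s * ee)⁻¹) * k⁻¹ by
        simp only [hkdef, commutatorElement_def]; group, hkG3 _ hm, mul_inv_cancel_right,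
        show s * ee * l * (s * ee)⁻¹ = s * v1 * s⁻¹ * (u * l) by
          simp only [hv1def, u, commutatorElement_def]; group]
    have e3 : s * v1 * s⁻¹ = v1 := by
      have h3 := e2.symm.trans e1
      rw [← mul_assoc, ← mul_assoc, mul_left_inj, g3_comm h hn (hZ2G3 hu) (hZ2G3 (hVZ2 hv1)),
        mul_left_inj] at h3
      exact h3
    refine hsM (mem_twoStep.2 fun x hx => ?_)
    have hle : V ⊔ zpowers z0 ≤ centralizer ({s} : Set G) := sup_le
      (hVgen ▸ zpowers_le.2 (mem_centralizer_singleton_iff.2 (mul_inv_eq_iff_eq_mul.1 e3).symm))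
      (zpowers_le.2 (mem_centralizer_singleton_iff.2 (mem_center_iff.1 (h.lcs_pred_le_center hz0) s).symm))
    rw [commutatorElement_eq_one_iff_mul_comm.2 (mem_centralizer_singleton_iff.1 (hle (hZ2sup.ge hx)))]
    exact one_mem _
  have hR0ne : R0 ≠ M := by
    intro he
    have hk : k0 ∈ R0 := he.ge (H34.lcs_one_le_twoStep _ hk0)
    refine hk0c (hVZbot _ (hk.2 l hlG3) ?_)
    rw [← commutatorElement_inv]
    exact inv_mem (hC3 k0 (H34.lcs_one_le_twoStep 1 hk0) l hlG3)
  have hR0 : f'.range = R0 := by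
    refine Subgroup.eq_of_le_of_card_ge (by rintro _ ⟨u, rfl⟩; exact hrange' u) ?_
    rw [Nat.card_congr (MonoidHom.ofInjective hf'inj).symm.toEquiv, h.lcs_card le_rfl (by omega)]
    have h1 := H30.card_mul_le_of_lt h.isPGroup (lt_of_le_of_ne hR0M hR0ne)
    have h2 := H30.card_mul_le_of_lt h.isPGroup (lt_top_iff_ne_top.2 (h.twoStep_ne_top (i := n - 3) (by omega)))
    rw [card_top, h.card] at h2
    have h3 := (Nat.mul_le_mul_left p h1).trans h2
    rw [← mul_assoc, show p ^ n = p * p * p ^ (n - 2) by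
      rw [← pow_two, ← pow_add]; congr 1; omega] at h3
    exact Nat.le_of_mul_le_mul_left h3 (Nat.mul_pos hp.out.pos hp.out.pos)
  have hER0 : E ≤ R0 := fun u hu => ⟨hMc u (hEM' hu), fun x hx => by
    have hle : Z2 ⊔ zpowers l ≤ centralizer ({u} : Set G) ⊔ zpowers l := sup_le_sup_right
      (fun v hv => mem_centralizer_singleton_iff.2 (hMc u (hEM' hu) v hv).symm) _
    have hx' := hG3sup'.ge hx
    rw [sup_comm, mem_sup_of_normalizer_mem (zpowers_le.2 (H85.mem_normalizer_of_conj fun v hv =>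
      (inferInstance : Z2.Normal).conj_mem v hv l))] at hx'
    obtain ⟨a, ha, b, hb, rfl⟩ := hx'
    obtain ⟨i, rfl⟩ := mem_zpowers_iff.1 ha
    have h5 : ⁅u, l ^ i⁆ ∈ V := by
      have hle' : zpowers l ≤ ({ carrier := {a | a ∈ G3 ∧ ⁅u, a⁆ ∈ V}
                                 one_mem' := ⟨one_mem _, by simp⟩
                                 mul_mem' := fun {a b} ha hb => ⟨mul_mem ha.1 hb.1, by
                                   rw [show ⁅u, a * b⁆ = ⁅u, a⁆ * (a * ⁅u, b⁆ * a⁻¹) by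
                                     simp only [commutatorElement_def]; group,
                                     g3_comm h hn ha.1 (hZ2G3 (hVZ2 hb.2)), mul_inv_cancel_right]
                                   exact mul_mem ha.2 hb.2⟩
                                 inv_mem' := fun {a} ha => ⟨inv_mem ha.1, by
                                   rw [show ⁅u, a⁻¹⁆ = a⁻¹ * ⁅u, a⁆⁻¹ * a by
                                     simp only [commutatorElement_def]; group,
                                     g3_comm h hn (inv_mem ha.1) (inv_mem (hZ2G3 (hVZ2 ha.2))),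
                                     inv_mul_cancel_right]
                                   exact inv_mem ha.2⟩ } : Subgroup G) :=
        zpowers_le.2 ⟨hlG3, by rw [← commutatorElement_inv]; exact inv_mem (hVmem u hu)⟩
      exact (hle' (zpow_mem (mem_zpowers l) i)).2
    rw [show ⁅u, l ^ i * b⁆ = ⁅u, l ^ i⁆ * (l ^ i * ⁅u, b⁆ * (l ^ i)⁻¹) by
      simp only [commutatorElement_def]; group,
      commutatorElement_eq_one_iff_mul_comm.2 (hMc u (hEM' hu) b hb), mul_one, mul_inv_cancel, mul_one]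
    exact h5⟩
  set H := (E.comap f').map (lcsT G 1).subtype with hHdef
  have hH1 : H ≤ lcsT G 1 := Subgroup.map_subtype_le _
  set fH := f'.comp (Subgroup.inclusion hH1)
  have hfH : fH.range = E := by
    ext u
    constructor
    · rintro ⟨⟨x, v, hv, rfl⟩, rfl⟩
      show f' ⟨(v : G), _⟩ ∈ E
      exact hv
    · intro hu
      obtain ⟨v, rfl⟩ := hR0.ge (hER0 hu)
      exact ⟨⟨(v : G), v, hu, rfl⟩, rfl⟩
  exact not_le_one h hn hcard w hN4 (w.restr hf' hH1) hfH hH1

end Main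

end H60.Cube
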