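import Cfsg.Agent.H34.Blackburn
import Cfsg.Agent.H31.MaxClassPowers

/-!
Blackburn's parity theorem: in a `p`-group of maximal class of order `p ^ n` (`p` odd) all two-step
centralizers below the last one agree, and for odd `n` the last one agrees as well.
-/

set_option autoImplicit false
set_option linter.unusedSectionVars false

open Subgroup
open scoped commutatorElement
open H30 (lcsT twoStep mem_twoStep)

namespace H60.MaxPar

universe u

variable {G : Type u} [Group G] {p n : ℕ}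

theorem comm_lcs_mem {i j k : ℕ} {a b : G} (ha : a ∈ lcsT G i) (hb : b ∈ lcsT G j)
    (hk : k ≤ i + j + 1) : ⁅a, b⁆ ∈ lcsT G k :=
  Subgroup.lowerCentralSeries_antitone _ hk (H30.commutator_lcsT_le i j (commutator_mem_commutator ha hb))

/-- The derivation rule for commuting with `s`, one weight up. -/
theorem deriv_rule {i j : ℕ} (a b s : G) (ha : a ∈ lcsT G i) (hb : b ∈ lcsT G j) :
    ⁅⁅a, b⁆, s⁆ * (⁅⁅a, s⁆, b⁆ * ⁅a, ⁅b, s⁆⁆)⁻¹ ∈ lcsT G (i + j + 3) := by
  set N := lcsT G (i + j + 3)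
  set q := QuotientGroup.mk' N with hq
  have hs : s ∈ lcsT G 0 := by rw [lcsT, Subgroup.lowerCentralSeries_zero]; trivial
  have hkill : ∀ {m : ℕ} {c : G}, c ∈ lcsT G m → i + j + 3 ≤ m → q c = 1 := fun hc hm =>
    (QuotientGroup.eq_one_iff _).2 (Subgroup.lowerCentralSeries_antitone _ hm hc)
  have hcen : ∀ {m : ℕ} {c : G}, c ∈ lcsT G m → i + j + 2 ≤ m → ∀ y : G, Commute (q c) (q y) := by
    intro m c hc hm y
    rw [← commutatorElement_eq_one_iff_commute, ← map_commutatorElement]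
    exact hkill (H34.commutator_mem_lcs_succ hc y) (by omega)
  set α := ⁅a, s⁆⁻¹ with hαdef
  set β := ⁅b, s⁆⁻¹ with hβdef
  have hα : α ∈ lcsT G (i + 1) := inv_mem (H34.commutator_mem_lcs_succ ha s)
  have hβ : β ∈ lcsT G (j + 1) := inv_mem (H34.commutator_mem_lcs_succ hb s)
  have e0 : ⁅⁅a, b⁆, s⁆ = ⁅a, b⁆ * ⁅α * a, β * b⁆⁻¹ := by
    simp only [hαdef, hβdef, commutatorElement_def]; group
  have e1 : ⁅α * a, β * b⁆ = α * (⁅a, β⁆ * (β * ⁅a, b⁆ * β⁻¹)) * α⁻¹ * (⁅α, β⁆ * (β * ⁅α, b⁆ * β⁻¹)) := by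
    simp only [commutatorElement_def]; group
  have hab : ⁅a, b⁆ ∈ lcsT G (i + j + 1) := comm_lcs_mem ha hb le_rfl
  have haβ : ⁅a, β⁆ ∈ lcsT G (i + j + 2) := comm_lcs_mem ha hβ (by omega)
  have hαb : ⁅α, b⁆ ∈ lcsT G (i + j + 2) := comm_lcs_mem hα hb (by omega)
  have hαβ : q ⁅α, β⁆ = 1 := hkill (comm_lcs_mem hα hβ le_rfl) (by omega)
  have habβ : Commute (q ⁅a, b⁆) (q β) := by
    rw [← commutatorElement_eq_one_iff_commute, ← map_commutatorElement]
    exact hkill (comm_lcs_mem hab hβ le_rfl) (by omega)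
  have habα : Commute (q ⁅a, b⁆) (q α) := by
    rw [← commutatorElement_eq_one_iff_commute, ← map_commutatorElement]
    exact hkill (comm_lcs_mem hab hα le_rfl) (by omega)
  have e2 : q ⁅α * a, β * b⁆ = q ⁅a, β⁆ * q ⁅a, b⁆ * q ⁅α, b⁆ := by
    rw [e1]
    simp only [map_mul, map_inv]
    rw [hαβ, one_mul, habβ.symm.eq, mul_inv_cancel_right,
      ((hcen haβ le_rfl α).symm.mul_right habα.symm).eq, mul_inv_cancel_right,
      ((hcen hαb le_rfl β).symm).eq, mul_inv_cancel_right]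
  -- the two outer factors are inverse to the terms on the right
  have hsa : q ⁅a, ⁅b, s⁆⁆ = (q ⁅a, β⁆)⁻¹ := by
    have h1 : ⁅a, β⁆ = (⁅b, s⁆⁻¹ * ⁅a, ⁅b, s⁆⁆ * ⁅b, s⁆)⁻¹ := by
      simp only [hβdef, commutatorElement_def]; group
    have hc : ⁅a, ⁅b, s⁆⁆ ∈ lcsT G (i + j + 2) :=
      comm_lcs_mem ha (H34.commutator_mem_lcs_succ hb s) (by omega)
    rw [h1, map_inv, inv_inv, map_mul, map_mul, map_inv, mul_assoc, (hcen hc le_rfl ⁅b, s⁆).eq,
      inv_mul_cancel_left]
  have hsb : q ⁅⁅a, s⁆, b⁆ = (q ⁅α, b⁆)⁻¹ := by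
    have h1 : ⁅α, b⁆ = (⁅a, s⁆⁻¹ * ⁅⁅a, s⁆, b⁆ * ⁅a, s⁆)⁻¹ := by
      simp only [hαdef, commutatorElement_def]; group
    have hc : ⁅⁅a, s⁆, b⁆ ∈ lcsT G (i + j + 2) :=
      comm_lcs_mem (H34.commutator_mem_lcs_succ ha s) hb (by omega)
    rw [h1, map_inv, inv_inv, map_mul, map_mul, map_inv, mul_assoc, (hcen hc le_rfl ⁅a, s⁆).eq,
      inv_mul_cancel_left]
  rw [← QuotientGroup.eq_one_iff]
  show q _ = 1
  rw [map_mul, map_inv, map_mul, e0, map_mul, map_inv, e2, hsa, hsb,
    (hcen haβ le_rfl ⁅a, b⁆).eq]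
  have hc1 := (hcen haβ le_rfl ⁅a, b⁆).symm.mul_right (hcen hαb le_rfl ⁅a, b⁆).symm
  generalize q ⁅a, β⁆ = x at hc1
  generalize q ⁅a, b⁆ = y at hc1
  generalize q ⁅α, b⁆ = z at hc1
  calc y * (y * x * z)⁻¹ * (z⁻¹ * x⁻¹)⁻¹ = y * (x * z)⁻¹ * y⁻¹ * (x * z) := by group
    _ = 1 := by rw [hc1.inv_right.eq, mul_inv_cancel_right, inv_mul_cancel]

variable [Finite G] [hp : Fact p.Prime]

/-- The sequence `x, [x, s], [x, s, s], ...`. -/
def seq (x s : G) : ℕ → G
  | 0 => x
  | i + 1 => ⁅seq x s i, s⁆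

theorem seq_mem (x s : G) : ∀ i, seq x s i ∈ lcsT G i
  | 0 => by rw [lcsT, Subgroup.lowerCentralSeries_zero]; trivial
  | i + 1 => H34.commutator_mem_lcs_succ (seq_mem x s i) s

theorem seq_notMem (h : H30.MaxCls G p n) (hn : 4 ≤ n) {x s : G} (hs : H34.Avoid G n s)
    (hx : x ∈ twoStep G 1) (hx1 : x ∉ lcsT G 1) :
    ∀ i, i + 2 ≤ n → seq x s i ∉ lcsT G (i + 1) := by
  intro i
  induction i with
  | zero => exact fun _ => hx1
  | succ i ih =>
    intro hi hc
    rcases i.eq_zero_or_pos with rfl | hi0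
    · have hxs : x ∉ lcsT G 1 ⊔ zpowers s := by
        intro hh
        rw [H30.mem_sup_zpowers (by rw [normalizer_eq_top_iff.2 inferInstance]; trivial)] at hh
        obtain ⟨a, ha, t, rfl⟩ := hh
        have ht : s ^ t ∈ twoStep G 1 :=
          ((twoStep G 1).mul_mem_cancel_left (H34.lcs_one_le_twoStep 1 ha)).1 hx
        rcases em ((p : ℤ) ∣ t) with ⟨m, rfl⟩ | hpt
        · exact hx1 (mul_mem ha (by
            rw [zpow_mul, zpow_natCast]; exact zpow_mem (h.pow_mem_lcs_one (by omega) s) m))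
        · obtain ⟨u, v, huv⟩ := ((Nat.prime_iff_prime_int.1 hp.out).coprime_iff_not_dvd).2 hpt
          refine hs 1 (by omega) ?_
          have : s ^ (u * p + v * t : ℤ) ∈ twoStep G 1 := by
            rw [zpow_add, mul_comm u, mul_comm v, zpow_mul, zpow_mul, zpow_natCast]
            exact mul_mem (zpow_mem (H34.lcs_one_le_twoStep 1 (h.pow_mem_lcs_one (by omega) s)) u)
              (zpow_mem ht v)
          rwa [huv, zpow_one] at this
      have hcl := H34.closure_pair_eq_of_notMem (H := ⊤) h (mem_top s) (mem_top x)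
        (H34.notMem_of_avoid h (by omega) hs) hxs (by omega)
      refine hs 0 (by omega) (mem_twoStep.2 fun y _ => ?_)
      set q := QuotientGroup.mk' (lcsT G (0 + 2))
      have hle : closure ({s, x} : Set G) ≤ (centralizer ({q s} : Set _)).comap q := by
        rw [closure_le]
        rintro y (rfl | rfl)
        · exact mem_centralizer_singleton_iff.2 rfl
        · refine mem_centralizer_singleton_iff.2 (commutatorElement_eq_one_iff_mul_comm.1 ?_)
          rw [← map_commutatorElement]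
          exact (QuotientGroup.eq_one_iff _).2 hc
      rw [← QuotientGroup.eq_one_iff, ← QuotientGroup.mk'_apply, map_commutatorElement,
        commutatorElement_eq_one_iff_mul_comm]
      exact mem_centralizer_singleton_iff.1 (hle (hcl.ge (mem_top y)))
    · exact hs i (by omega) (H34.twoStep_of_commute h hi0 (by omega) (seq_mem x s i) (ih (by omega)) hc)

theorem seq_low (h : H30.MaxCls G p n) {x s : G}
    (hG1 : ∀ j, 1 ≤ j → j + 5 ≤ n → x ∈ twoStep G j) :
    ∀ i j, i + j + 5 ≤ n → ⁅seq x s i, seq x s j⁆ ∈ lcsT G (i + j + 2) := by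
  intro i
  induction i with
  | zero =>
    intro j hj
    rcases j.eq_zero_or_pos with rfl | hj0
    · rw [commutatorElement_self]; exact one_mem _
    rw [zero_add, ← commutatorElement_inv]
    exact inv_mem (mem_twoStep.1 (hG1 j hj0 (by omega)) _ (seq_mem x s j))
  | succ i ih =>
    intro j hj
    have hd := deriv_rule (seq x s i) (seq x s j) s (seq_mem x s i) (seq_mem x s j)
    have h1 : ⁅⁅seq x s i, seq x s j⁆, s⁆ ∈ lcsT G (i + j + 3) :=
      H34.commutator_mem_lcs_succ (ih j (by omega)) s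
    have h2 := ih (j + 1) (by omega)
    rw [show i + (j + 1) + 2 = i + j + 3 by omega] at h2
    rw [show i + 1 + j + 2 = i + j + 3 by omega]
    have h3 : (⁅seq x s (i + 1), seq x s j⁆ * ⁅seq x s i, seq x s (j + 1)⁆)⁻¹ ∈ lcsT G (i + j + 3) :=
      ((lcsT G _).mul_mem_cancel_left h1).1 hd
    exact ((lcsT G _).mul_mem_cancel_right h2).1 (inv_mem_iff.1 h3)

theorem deriv_eq (h : H30.MaxCls G p n) {i j : ℕ} (hij : n ≤ i + j + 4) (a b s : G)
    (ha : a ∈ lcsT G i) (hb : b ∈ lcsT G j) : ⁅⁅a, b⁆, s⁆ = ⁅⁅a, s⁆, b⁆ * ⁅a, ⁅b, s⁆⁆ := by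
  have h1 := deriv_rule a b s ha hb
  rwa [h.lcs_bot (by omega), Subgroup.mem_bot, mul_inv_eq_one] at h1

theorem comm_eq_one (h : H30.MaxCls G p n) {i j : ℕ} (hij : n ≤ i + j + 2) {a b : G}
    (ha : a ∈ lcsT G i) (hb : b ∈ lcsT G j) : ⁅a, b⁆ = 1 := by
  have h1 := comm_lcs_mem ha hb (k := i + j + 1) le_rfl
  rwa [h.lcs_bot (by omega), Subgroup.mem_bot] at h1

/-- The top level and the one below, for odd `n` close to `p`. -/
theorem top_levels (h : H30.MaxCls G p n) {r : ℕ} (hr : 1 ≤ r) (hnr : n = 2 * r + 3) (hrp : r < p)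
    {x s : G} (hs : H34.Avoid G n s) (hx : x ∈ twoStep G 1) (hx1 : x ∉ lcsT G 1)
    (hG1 : ∀ j, 1 ≤ j → j + 5 ≤ n → x ∈ twoStep G j) :
    x ∈ twoStep G (n - 4) ∧ x ∈ twoStep G (n - 3) := by
  set y := seq x s with hy
  have hym : ∀ i, y i ∈ lcsT G i := seq_mem x s
  have hyn := seq_notMem h (by omega) hs hx hx1
  have hZ := h.lcs_pred_le_center
  have hcen : ∀ {i j : ℕ}, n ≤ i + j + 3 → ⁅y i, y j⁆ ∈ center G := fun {i j} hij =>
    hZ (comm_lcs_mem (hym i) (hym j) (by omega))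
  have hdm : ∀ {i j : ℕ}, n ≤ i + j + 4 → ⁅⁅y i, y j⁆, s⁆ ∈ center G := fun {i j} hij =>
    hZ (Subgroup.lowerCentralSeries_antitone _ (show n - 2 ≤ i + j + 1 + 1 by omega)
      (H34.commutator_mem_lcs_succ (comm_lcs_mem (hym i) (hym j) le_rfl) s))
  let b : ℕ → center G := fun i =>
    if hi : i + 3 ≤ n then ⟨⁅y i, y (n - 3 - i)⁆, hcen (by omega)⟩ else 1
  let e : ℕ → center G := fun i =>
    if hi : i + 4 ≤ n then ⟨⁅⁅y i, y (n - 4 - i)⁆, s⁆, hdm (by omega)⟩ else 1
  have hb : ∀ i, i + 3 ≤ n → (b i : G) = ⁅y i, y (n - 3 - i)⁆ := fun i hi => by simp [b, hi]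
  have he : ∀ i, i + 4 ≤ n → (e i : G) = ⁅⁅y i, y (n - 4 - i)⁆, s⁆ := fun i hi => by simp [e, hi]
  have heb : ∀ i, i + 4 ≤ n → e i = b (i + 1) * b i := by
    intro i hi
    apply Subtype.ext
    rw [Subgroup.coe_mul, he i hi, hb (i + 1) (by omega), hb i (by omega),
      deriv_eq h (by omega) _ _ s (hym i) (hym _), show n - 3 - (i + 1) = n - 4 - i by omega,
      show n - 3 - i = n - 4 - i + 1 by omega]
    rfl
  have hee : ∀ i, i + 5 ≤ n → e (i + 1) * e i = 1 := by
    intro i hi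
    apply Subtype.ext
    rw [Subgroup.coe_mul, he (i + 1) (by omega), he i (by omega),
      show n - 4 - (i + 1) = n - 5 - i by omega, show n - 4 - i = n - 5 - i + 1 by omega,
      Subgroup.coe_one]
    set A := ⁅y (i + 1), y (n - 5 - i)⁆
    set B := ⁅y i, y (n - 5 - i + 1)⁆
    have hlow := seq_low h hG1 i (n - 5 - i) (by omega) (s := s)
    rw [show i + (n - 5 - i) + 2 = n - 3 by omega] at hlow
    have hd := deriv_rule (y i) (y (n - 5 - i)) s (hym i) (hym _)
    rw [show i + (n - 5 - i) + 3 = n - 2 by omega] at hd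
    have h1 : ⁅⁅y i, y (n - 5 - i)⁆, s⁆ ∈ lcsT G (n - 2) := by
      have := H34.commutator_mem_lcs_succ hlow s
      rwa [show n - 3 + 1 = n - 2 by omega] at this
    have hAB : A * B ∈ center G :=
      hZ (inv_mem_iff.1 (((lcsT G (n - 2)).mul_mem_cancel_left h1).1 hd))
    have hAs : ⁅A, s⁆ ∈ center G := hdm (by omega)
    have hBs : ⁅B, s⁆ ∈ center G := hdm (by omega)
    have h2 : ⁅A * B, s⁆ = 1 := commutatorElement_eq_one_iff_mul_comm.2 (mem_center_iff.1 hAB s).symm
    rw [show ⁅A * B, s⁆ = A * ⁅B, s⁆ * A⁻¹ * ⁅A, s⁆ by simp only [commutatorElement_def]; group,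
      mem_center_iff.1 hBs A, mul_inv_cancel_right, ← mem_center_iff.1 hBs ⁅A, s⁆] at h2
    exact h2
  have hpow : ∀ i, i + 4 ≤ n → (e i = e 0 ^ ((-1 : ℤ) ^ i)) ∧
      b (i + 1) = (b 0 * (e 0 ^ (i + 1))⁻¹) ^ ((-1 : ℤ) ^ (i + 1)) := by
    intro i
    induction i with
    | zero =>
      intro hi
      refine ⟨by simp, ?_⟩
      rw [show ((-1 : ℤ) ^ (0 + 1)) = -1 by norm_num, zpow_neg_one, pow_one, heb 0 hi]
      simp
    | succ i ih =>
      intro hi
      obtain ⟨h1, h2⟩ := ih (by omega)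
      have h3 : e (i + 1) = e 0 ^ ((-1 : ℤ) ^ (i + 1)) := by
        rw [eq_inv_of_mul_eq_one_left (hee i (by omega)), h1, ← zpow_neg, pow_succ, mul_neg_one]
      refine ⟨h3, ?_⟩
      rw [eq_mul_inv_of_mul_eq (heb (i + 1) hi).symm, h3, h2, ← zpow_neg,
        pow_succ (-1 : ℤ) (i + 1), pow_succ (e 0) (i + 1), mul_neg_one]
      generalize ((-1 : ℤ) ^ (i + 1)) = m
      generalize b 0 = B
      generalize e 0 ^ (i + 1) = P
      generalize e 0 = E
      have hc : ∀ u v : center G, Commute u v := fun u v => Subtype.ext (mem_center_iff.1 v.2 u)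
      rw [show B * (P * E)⁻¹ = B * P⁻¹ * E⁻¹ by rw [mul_inv_rev, (hc E⁻¹ P⁻¹).eq, mul_assoc],
        zpow_neg, zpow_neg, (hc _ E⁻¹).mul_zpow, inv_zpow, mul_inv_rev, inv_inv, (hc (E ^ m) _).eq]
  -- the middle pairing is trivial
  have hb0 : b 0 = e 0 ^ r := by
    obtain ⟨r', rfl⟩ : ∃ r', r = r' + 1 := ⟨r - 1, by omega⟩
    have h1 := (hpow r' (by omega)).2
    have h2 : b (r' + 1) = 1 := by
      apply Subtype.ext
      rw [hb _ (by omega), show n - 3 - (r' + 1) = r' + 1 by omega, commutatorElement_self]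
      rfl
    rw [h2] at h1
    refine mul_inv_eq_one.1 ?_
    rcases neg_one_pow_eq_or ℤ (r' + 1) with h' | h'
    · rw [h', zpow_one] at h1
      exact h1.symm
    · rw [h', zpow_neg_one, eq_comm, inv_eq_one] at h1
      exact h1
  -- one of the two is trivial
  have hor : e 0 = 1 ∨ b 0 = 1 := by
    rcases (show n = 5 ∨ 7 ≤ n by omega) with rfl | h7
    · left
      apply Subtype.ext
      rw [he 0 (by omega)]
      refine commutatorElement_eq_one_iff_mul_comm.2 ?_
      have h1 : ⁅y 0, y 1⁆ ∈ lcsT G 3 := by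
        rw [← commutatorElement_inv]; exact inv_mem (mem_twoStep.1 hx _ (hym 1))
      exact (mem_center_iff.1 (hZ h1) s).symm
    by_contra! hne
    obtain ⟨he0, hb0'⟩ := hne
    have hd1 : ⁅y 1, y (n - 5)⁆ ∉ lcsT G (n - 2) := by
      intro hc
      apply he0
      have h1 : e 1 = 1 := by
        apply Subtype.ext
        rw [he 1 (by omega), show n - 4 - 1 = n - 5 by omega]
        exact commutatorElement_eq_one_iff_mul_comm.2 (mem_center_iff.1 (hZ hc) s).symm
      have := hee 0 (by omega)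
      rwa [zero_add, h1, one_mul] at this
    have hdx : ⁅⁅y 1, y (n - 5)⁆, x⁆ = 1 := by
      rw [deriv_eq h (by omega) _ _ x (hym 1) (hym _),
        comm_eq_one h (by omega) (mem_twoStep.1 hx _ (hym 1)) (hym (n - 5)),
        comm_eq_one h (by omega) (hym 1) (mem_twoStep.1 (hG1 (n - 5) (by omega) (by omega)) _ (hym _)),
        one_mul]
    have hx3 : x ∈ twoStep G (n - 3) :=
      H34.twoStep_of_commute h (by omega) (by omega) (comm_lcs_mem (k := n - 3) (hym 1) (hym (n - 5)) (by omega))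
        (by rwa [show n - 3 + 1 = n - 2 by omega]) (by rw [hdx]; exact one_mem _)
    apply hb0'
    apply Subtype.ext
    rw [hb 0 (by omega), Nat.sub_zero, ← commutatorElement_inv, Subgroup.coe_one, inv_eq_one]
    have h2 : ⁅y (n - 3), x⁆ ∈ lcsT G (n - 3 + 2) := mem_twoStep.1 hx3 _ (hym _)
    rw [h.lcs_bot (by omega), Subgroup.mem_bot] at h2
    exact h2
  have hp1 : ∀ c : center G, (c : G) ∈ lcsT G (n - 2) → c ^ p = 1 := by
    intro c hc
    apply Subtype.ext
    have h2 := congrArg Subtype.val (pow_card_eq_one' (x := (⟨(c : G), hc⟩ : lcsT G (n - 2))))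
    rwa [h.lcs_card (by omega) (by omega), show n - 1 - (n - 2) = 1 by omega, pow_one] at h2
  have he0 : e 0 = 1 := by
    rcases hor with h' | h'
    · exact h'
    rw [h'] at hb0
    have hord : orderOf (e 0) ∣ p := orderOf_dvd_of_pow_eq_one (hp1 _ (by
      rw [he 0 (by omega)]
      exact Subgroup.lowerCentralSeries_antitone _ (show n - 2 ≤ 0 + (n - 4 - 0) + 1 + 1 by omega)
        (H34.commutator_mem_lcs_succ (comm_lcs_mem (hym 0) (hym _) le_rfl) s)))
    rcases (Nat.dvd_prime hp.out).1 hord with h1 | h1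
    · exact orderOf_eq_one_iff.1 h1
    · have h2 : p ∣ r := h1 ▸ orderOf_dvd_of_pow_eq_one hb0.symm
      exact absurd (Nat.le_of_dvd (by omega) h2) (by omega)
  refine ⟨?_, ?_⟩
  · refine H34.twoStep_of_commute h (by omega) (by omega) (hym (n - 4)) (hyn _ (by omega)) ?_
    rw [show n - 4 + 2 = n - 2 by omega, ← inv_mem_iff, commutatorElement_inv]
    by_contra hc
    refine hs (n - 3) (by omega) (H34.twoStep_of_commute h (by omega) (by omega)
      (comm_lcs_mem (k := n - 3) (hym 0) (hym (n - 4)) (by omega)) (by rwa [show n - 3 + 1 = n - 2 by omega]) ?_)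
    have h2 := congrArg Subtype.val he0
    rw [he 0 (by omega), Nat.sub_zero] at h2
    rw [h2]
    exact one_mem _
  · refine H34.twoStep_of_commute h (by omega) (by omega) (hym (n - 3)) (hyn _ (by omega)) ?_
    rw [h.lcs_bot (by omega), Subgroup.mem_bot, ← inv_eq_one, commutatorElement_inv]
    rw [he0, one_pow] at hb0
    have h2 := congrArg Subtype.val hb0
    rw [hb 0 (by omega), Nat.sub_zero] at h2
    exact h2

/-- A two-step centralizer containing the first one equals it. -/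
theorem eq_one_of_le (h : H30.MaxCls G p n) (hn : 4 ≤ n) {s : G} (hs : H34.Avoid G n s) {i : ℕ}
    (hi : i + 3 ≤ n) (hle : twoStep G 1 ≤ twoStep G i) : twoStep G i = twoStep G 1 := by
  refine le_antisymm (fun g hg => ?_) hle
  obtain ⟨k, hk⟩ := H34.exists_mul_mem_twoStep h le_rfl (by omega) (hs 1 (by omega)) g
  have hsk : s ^ k ∈ twoStep G i := ((twoStep G i).mul_mem_cancel_left hg).1 (hle hk)
  have hp1 : (s ^ k : G) ∈ twoStep G 1 := by
    rcases em ((p : ℤ) ∣ k) with ⟨m, rfl⟩ | hpk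
    · rw [zpow_mul, zpow_natCast]
      exact zpow_mem (H34.lcs_one_le_twoStep 1 (h.pow_mem_lcs_one (by omega) s)) m
    · obtain ⟨u, v, huv⟩ := ((Nat.prime_iff_prime_int.1 hp.out).coprime_iff_not_dvd).2 hpk
      refine absurd ?_ (hs i hi)
      have : s ^ (u * p + v * k : ℤ) ∈ twoStep G i := by
        rw [zpow_add, mul_comm u, mul_comm v, zpow_mul, zpow_mul, zpow_natCast]
        exact mul_mem (zpow_mem (H34.lcs_one_le_twoStep i (h.pow_mem_lcs_one (by omega) s)) u)
          (zpow_mem hsk v)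
      rwa [huv, zpow_one] at this
  exact ((twoStep G 1).mul_mem_cancel_right hp1).1 hk

/-- For odd `n` all two-step centralizers agree. -/
theorem twoStep_eq_odd (hp3 : 3 ≤ p) : ∀ (n : ℕ) {G : Type u} [Group G] [Finite G],
    H30.MaxCls G p n → Odd n → 5 ≤ n → ∀ i, 1 ≤ i → i + 3 ≤ n → twoStep G i = twoStep G 1 := by
  intro n
  induction n using Nat.strong_induction_on with
  | _ n ih =>
    intro G _ _ h hodd h5
    obtain ⟨s, hs⟩ := H34.exists_avoid n h (by omega)
    have hlow : ∀ i, 1 ≤ i → i + 5 ≤ n → twoStep G i = twoStep G 1 := by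
      intro i hi hin
      have h7 : 7 ≤ n := by obtain ⟨m, rfl⟩ := hodd; omega
      have hq := ih (n - 2) (by omega) (h.quotient (r := n - 2) (by omega) (by omega))
        (by obtain ⟨m, rfl⟩ := hodd; exact ⟨m - 1, by omega⟩) (by omega) i hi (by omega)
      ext g
      rw [← H31.MaxPow.twoStep_quotient (f := n - 2 - 1) (by omega : i + 2 ≤ n - 2 - 1), hq,
        H31.MaxPow.twoStep_quotient (f := n - 2 - 1) (by omega)]
    suffices hle : twoStep G 1 ≤ twoStep G (n - 4) ∧ twoStep G 1 ≤ twoStep G (n - 3) by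
      intro i hi hin
      refine eq_one_of_le h (by omega) hs hin ?_
      rcases (show i + 5 ≤ n ∨ i = n - 4 ∨ i = n - 3 by omega) with h' | rfl | rfl
      exacts [(hlow i hi h').ge, hle.1, hle.2]
    by_cases hper : p + 4 ≤ n
    · have hpr : ∀ i, 1 ≤ i → i + (p - 1) + 3 ≤ n → twoStep G (i + (p - 1)) = twoStep G i :=
        fun i hi hin => H34.twoStep_period h (i₀ := 1) le_rfl (fun j hj => hs j (by omega))
          (fun a ha => H34.mul_pow_eq_of_avoid h (by omega) hs ha) hi hin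
      have h4 := hpr (n - 4 - (p - 1)) (by omega) (by omega)
      have h3 := hpr (n - 3 - (p - 1)) (by omega) (by omega)
      rw [Nat.sub_add_cancel (by omega)] at h4 h3
      rw [h4, h3, hlow (n - 4 - (p - 1)) (by omega) (by omega),
        hlow (n - 3 - (p - 1)) (by omega) (by omega)]
      exact ⟨le_rfl, le_rfl⟩
    obtain ⟨r, hr⟩ : ∃ r, n = 2 * r + 3 := by
      obtain ⟨m, rfl⟩ := hodd; exact ⟨m - 1, by omega⟩
    refine forall_and.1 fun g => forall_and.1 fun hg => ?_
    by_cases hg1 : g ∈ lcsT G 1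
    · exact ⟨H34.lcs_one_le_twoStep _ hg1, H34.lcs_one_le_twoStep _ hg1⟩
    exact top_levels h (r := r) (by omega) hr (by omega) hs hg hg1 fun j hj hjn =>
      (hlow j hj hjn).ge hg

/-- All two-step centralizers below the last one agree. -/
theorem twoStep_eq (hp3 : 3 ≤ p) (h : H30.MaxCls G p n) (h5 : 5 ≤ n) {i : ℕ} (hi : 1 ≤ i)
    (hin : i + 4 ≤ n) : twoStep G i = twoStep G 1 := by
  rcases Nat.even_or_odd n with he | ho
  · have h6 : 6 ≤ n := by rcases he with ⟨m, rfl⟩; omega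
    have hodd : Odd (n - 1) := Nat.Even.sub_odd (by omega) he odd_one
    have hq := twoStep_eq_odd hp3 (n - 1) (h.quotient (r := n - 1) (by omega) (by omega)) hodd
      (by omega) i hi (by omega)
    ext g
    rw [← H31.MaxPow.twoStep_quotient (f := n - 1 - 1) (by omega : i + 2 ≤ n - 1 - 1), hq,
      H31.MaxPow.twoStep_quotient (f := n - 1 - 1) (by omega)]
  · exact twoStep_eq_odd hp3 n h ho h5 i hi (by omega)

/-- An element outside the first and the last two-step centralizer has centralizer of order `p ^ 2`. -/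
theorem cent_card (hp3 : 3 ≤ p) (h : H30.MaxCls G p n) (h5 : 5 ≤ n) {g : G}
    (h1 : g ∉ twoStep G 1) (h2 : g ∉ twoStep G (n - 3)) :
    Nat.card (centralizer ({g} : Set G)) = p ^ 2 := by
  refine H34.cent_card_of_avoid h (by omega) fun j hj => ?_
  rcases j.eq_zero_or_pos with rfl | hj0
  · rw [H34.twoStep_zero h (by omega)]
    exact fun hc => h1 (H34.lcs_one_le_twoStep 1 hc)
  rcases (show j + 4 ≤ n ∨ j = n - 3 by omega) with h' | rfl
  · rw [twoStep_eq hp3 h h5 hj0 h']; exact h1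
  · exact h2

end H60.MaxPar
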