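import Mathlib

/-!
Small commutator representations in alternating groups used for the double cover.
-/

set_option autoImplicit false

namespace H60.OreB

open Equiv

/-- First factor of the base `c7`. -/
def c7A : Perm (Fin 7) :=
  ⟨![2, 5, 0, 6, 1, 4, 3], ![2, 4, 0, 6, 5, 1, 3], by decide, by decide⟩

/-- Second factor of the base `c7`. -/
def c7G : Perm (Fin 7) :=
  ⟨![2, 1, 6, 3, 0, 4, 5], ![4, 1, 0, 3, 5, 6, 2], by decide, by decide⟩

/-- First factor of the base `c11`. -/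
def c11A : Perm (Fin 11) :=
  ⟨![0, 5, 9, 8, 7, 6, 10, 4, 3, 2, 1], ![0, 10, 9, 8, 7, 1, 5, 4, 3, 2, 6], by decide, by decide⟩

/-- Second factor of the base `c11`. -/
def c11G : Perm (Fin 11) :=
  ⟨![5, 6, 8, 0, 3, 9, 1, 7, 10, 2, 4], ![3, 6, 9, 4, 10, 0, 1, 7, 2, 5, 8], by decide, by decide⟩

/-- First factor of the base `p22`. -/
def p22A : Perm (Fin 4) :=
  ⟨![2, 3, 0, 1], ![2, 3, 0, 1], by decide, by decide⟩

/-- Second factor of the base `p22`. -/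
def p22G : Perm (Fin 4) :=
  ⟨![3, 2, 0, 1], ![2, 3, 1, 0], by decide, by decide⟩

/-- First factor of the base `p26`. -/
def p26A : Perm (Fin 8) :=
  ⟨![0, 6, 3, 2, 7, 1, 5, 4], ![0, 5, 3, 2, 7, 6, 1, 4], by decide, by decide⟩

/-- Second factor of the base `p26`. -/
def p26G : Perm (Fin 8) :=
  ⟨![2, 0, 4, 6, 3, 5, 1, 7], ![1, 6, 0, 4, 2, 5, 3, 7], by decide, by decide⟩

/-- First factor of the base `p44`. -/
def p44A : Perm (Fin 8) :=
  ⟨![0, 3, 7, 1, 5, 4, 2, 6], ![0, 3, 6, 1, 5, 4, 7, 2], by decide, by decide⟩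

/-- Second factor of the base `p44`. -/
def p44G : Perm (Fin 8) :=
  ⟨![4, 5, 1, 7, 0, 3, 6, 2], ![4, 2, 7, 5, 0, 1, 6, 3], by decide, by decide⟩

/-- First factor of the base `c53`. -/
def c53A : Perm (Fin 8) :=
  ⟨![0, 4, 7, 2, 1, 6, 5, 3], ![0, 4, 3, 7, 1, 6, 5, 2], by decide, by decide⟩

/-- Second factor of the base `c53`. -/
def c53G : Perm (Fin 8) :=
  ⟨![5, 3, 2, 7, 1, 4, 0, 6], ![6, 4, 2, 1, 5, 0, 7, 3], by decide, by decide⟩

/-- First factor of the base `c243`. -/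
def c243A : Perm (Fin 9) :=
  ⟨![0, 6, 3, 2, 5, 4, 8, 7, 1], ![0, 8, 3, 2, 5, 4, 1, 7, 6], by decide, by decide⟩

/-- Second factor of the base `c243`. -/
def c243G : Perm (Fin 9) :=
  ⟨![4, 8, 3, 5, 6, 7, 0, 2, 1], ![6, 8, 7, 2, 0, 3, 4, 5, 1], by decide, by decide⟩

/-- First factor of the base `c333`. -/
def c333A : Perm (Fin 9) :=
  ⟨![8, 7, 6, 4, 3, 5, 2, 1, 0], ![8, 7, 6, 4, 3, 5, 2, 1, 0], by decide, by decide⟩

/-- Second factor of the base `c333`. -/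
def c333G : Perm (Fin 9) :=
  ⟨![0, 4, 6, 8, 2, 3, 1, 5, 7], ![0, 6, 4, 5, 1, 7, 2, 8, 3], by decide, by decide⟩

/-- First factor of the base `c311`. -/
def c311A : Perm (Fin 5) :=
  ⟨![2, 1, 0, 4, 3], ![2, 1, 0, 4, 3], by decide, by decide⟩

/-- Second factor of the base `c311`. -/
def c311G : Perm (Fin 5) :=
  ⟨![0, 2, 1, 4, 3], ![0, 2, 1, 4, 3], by decide, by decide⟩

end H60.OreB
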