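import Cfsg.Agent.H60.OreBase

/-!
Every even permutation of at least five points is a commutator `⁅a, g⁆` of even permutations in which `a` has two
cycles of length two.
-/

set_option autoImplicit false

namespace H60.OreC

open Equiv Finset
open scoped commutatorElement

variable {α : Type*} [Fintype α] [DecidableEq α]

/-- The permutation moves only points of the set. -/
def Sup (S : Finset α) (π : Perm α) : Prop := ∀ x, x ∉ S → π x = x

theorem Sup.one (S : Finset α) : Sup S 1 := fun _ _ => rfl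

theorem Sup.mono {S T : Finset α} {π : Perm α} (h : Sup S π) (hST : S ⊆ T) : Sup T π :=
  fun x hx => h x fun hS => hx (hST hS)

theorem Sup.mul {S : Finset α} {π ρ : Perm α} (h : Sup S π) (k : Sup S ρ) : Sup S (π * ρ) := by
  intro x hx; rw [Perm.mul_apply, k x hx, h x hx]

theorem Sup.inv {S : Finset α} {π : Perm α} (h : Sup S π) : Sup S π⁻¹ :=
  fun x hx => by rw [Perm.inv_eq_iff_eq, h x hx]

theorem Sup.mem {S : Finset α} {π : Perm α} (h : Sup S π) {x : α} (hx : x ∈ S) : π x ∈ S := by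
  by_contra hn
  exact hn (by rw [π.injective (h _ hn)]; exact hx)

theorem Sup.commute {S T : Finset α} {π ρ : Perm α} (h : Sup S π) (k : Sup T ρ) (hd : _root_.Disjoint S T) :
    Commute π ρ := by
  refine Perm.Disjoint.commute fun x => ?_
  by_cases hx : x ∈ S
  · exact Or.inr (k x (Finset.disjoint_left.mp hd hx))
  · exact Or.inl (h x hx)

/-- The points in cycles of length two. -/
def two (a : Perm α) : Finset α := univ.filter fun x => a x ≠ x ∧ a (a x) = x

theorem mem_two {a : Perm α} {x : α} : x ∈ two a ↔ a x ≠ x ∧ a (a x) = x := by simp [two]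

/-- A commutator representation with marked points fixed by one of the two factors. -/
def Good (S : Finset α) (σ : Perm α) (e : ℤˣ) (j : ℕ) (A B : Set α) : Prop :=
  ∃ a g : Perm α, Sup S a ∧ Sup S g ∧ ⁅a, g⁆ = σ ∧ Perm.sign a = e ∧ 2 * j ≤ (two a).card ∧
    (∀ p ∈ A, p ∈ S ∧ a p = p) ∧ (∀ p ∈ B, p ∈ S ∧ σ p = a p)

theorem Good.sup {S : Finset α} {σ : Perm α} {e : ℤˣ} {j : ℕ} {A B : Set α} (h : Good S σ e j A B) :
    Sup S σ := by
  obtain ⟨a, g, ha, hg, rfl, -⟩ := h
  exact ((ha.mul hg).mul ha.inv).mul hg.inv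

theorem Good.mono {S : Finset α} {σ : Perm α} {e : ℤˣ} {j j' : ℕ} {A A' B B' : Set α} (h : Good S σ e j A B)
    (hj : j' ≤ j) (hA : A' ⊆ A) (hB : B' ⊆ B) : Good S σ e j' A' B' := by
  obtain ⟨a, g, ha, hg, h1, h2, h3, h4, h5⟩ := h
  exact ⟨a, g, ha, hg, h1, h2, by omega, fun p hp => h4 p (hA hp), fun p hp => h5 p (hB hp)⟩

theorem Good.inv {S : Finset α} {σ : Perm α} {e : ℤˣ} {j : ℕ} {A B : Set α} (h : Good S σ e j A B) :
    Good S σ⁻¹ e j B A := by
  obtain ⟨a, g, ha, hg, h1, h2, h3, h4, h5⟩ := h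
  have e1 : g * a * g⁻¹ = σ⁻¹ * a := by rw [← h1, commutatorElement_def]; group
  refine ⟨g * a * g⁻¹, g⁻¹, (hg.mul ha).mul hg.inv, hg.inv, ?_, ?_, ?_, fun p hp => ⟨(h5 p hp).1, ?_⟩,
    fun p hp => ⟨(h4 p hp).1, ?_⟩⟩
  · rw [← h1]; simp only [commutatorElement_def]; group
  · rw [map_mul, map_mul, map_inv, mul_comm (Perm.sign g), mul_inv_cancel_right, h2]
  · refine h3.trans ?_
    rw [← Finset.card_map g.toEmbedding]
    refine Finset.card_le_card fun y hy => ?_
    rw [Finset.mem_map] at hy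
    obtain ⟨x, hx, rfl⟩ := hy
    rw [mem_two] at hx ⊢
    simp [hx.1, hx.2]
  · rw [e1, Perm.mul_apply, ← (h5 p hp).2, Perm.inv_eq_iff_eq]
  · rw [e1, Perm.mul_apply, (h4 p hp).2]

theorem Good.union {S T : Finset α} {σ τ : Perm α} {e e' : ℤˣ} {i j : ℕ} {A B : Set α}
    (h : Good S σ e i A B) (k : Good T τ e' j ∅ ∅) (hd : _root_.Disjoint S T) :
    Good (S ∪ T) (σ * τ) (e * e') (i + j) A B := by
  obtain ⟨a, g, ha, hg, h1, h2, h3, h4, h5⟩ := h
  obtain ⟨c, d, hc, hd', k1, k2, k3, -, -⟩ := k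
  refine ⟨a * c, g * d, (ha.mono subset_union_left).mul (hc.mono subset_union_right),
    (hg.mono subset_union_left).mul (hd'.mono subset_union_right), ?_, by rw [map_mul, h2, k2], ?_, ?_, ?_⟩
  · have cag : Commute c g := (hg.commute hc hd).symm
    have cga : Commute (a * g) c := (ha.mul hg).commute hc hd
    rw [← h1, ← k1, commutatorElement_def, commutatorElement_def, commutatorElement_def]
    have x1 : a * c * (g * d) = a * g * (c * d) := cag.mul_mul_mul_comm a d
    have x2 : (a * c)⁻¹ = a⁻¹ * c⁻¹ := by rw [(ha.commute hc hd).eq, mul_inv_rev]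
    have x3 : (g * d)⁻¹ = g⁻¹ * d⁻¹ := by rw [(hg.commute hd' hd).eq, mul_inv_rev]
    have y1 : Commute (c * d) a⁻¹ := (ha.inv.commute (hc.mul hd') hd).symm
    have y2 : Commute (c * d * c⁻¹) g⁻¹ := (hg.inv.commute ((hc.mul hd').mul hc.inv) hd).symm
    rw [x1, x2, x3, y1.mul_mul_mul_comm (a * g) c⁻¹, y2.mul_mul_mul_comm (a * g * a⁻¹) d⁻¹]
  · have hsub : two a ∪ two c ⊆ two (a * c) := by
      intro x hx
      rw [mem_union, mem_two, mem_two] at hx
      rw [mem_two]
      rcases hx with ⟨hx1, hx2⟩ | ⟨hx1, hx2⟩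
      · have hxS : x ∈ S := by by_contra hn; exact hx1 (ha x hn)
        have e1 : c x = x := hc x (Finset.disjoint_left.mp hd hxS)
        have e2 : c (a x) = a x := hc _ (Finset.disjoint_left.mp hd (ha.mem hxS))
        simp [Perm.mul_apply, e1, e2, hx1, hx2]
      · have hxT : x ∈ T := by by_contra hn; exact hx1 (hc x hn)
        have e1 : a (c x) = c x := ha _ (Finset.disjoint_right.mp hd (hc.mem hxT))
        simp [Perm.mul_apply, e1, hx1, hx2, ha x (Finset.disjoint_right.mp hd hxT)]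
    have hdis : _root_.Disjoint (two a) (two c) := by
      rw [Finset.disjoint_left]
      intro x hx hx'
      rw [mem_two] at hx hx'
      by_cases hxS : x ∈ S
      · exact hx'.1 (hc x (Finset.disjoint_left.mp hd hxS))
      · exact hx.1 (ha x hxS)
    have := Finset.card_le_card hsub
    rw [Finset.card_union_of_disjoint hdis] at this
    omega
  · intro p hp
    refine ⟨mem_union_left _ (h4 p hp).1, ?_⟩
    rw [Perm.mul_apply, hc p (Finset.disjoint_left.mp hd (h4 p hp).1), (h4 p hp).2]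
  · intro p hp
    have hpS := (h5 p hp).1
    have hτ : Sup T τ := k1 ▸ ((hc.mul hd').mul hc.inv).mul hd'.inv
    refine ⟨mem_union_left _ hpS, ?_⟩
    rw [Perm.mul_apply, Perm.mul_apply, hτ p (Finset.disjoint_left.mp hd hpS),
      hc p (Finset.disjoint_left.mp hd hpS), (h5 p hp).2]

/-- Lengthen the cycle through a point fixed by the first factor by two new points. -/
theorem Good.extend {S : Finset α} {σ : Perm α} {e : ℤˣ} {j : ℕ} {A B A' B' : Set α} (h : Good S σ e j A B)
    {p q r : α} (hp : p ∈ A) (hq : q ∉ S) (hr : r ∉ S) (hqr : q ≠ r)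
    (hA : ∀ x ∈ A', x = r ∨ (x ∈ A ∧ x ≠ p)) (hB : ∀ x ∈ B', x ∈ B ∧ x ≠ p) :
    Good (S ∪ {q, r}) (swap r p * swap q p * σ) (-e) (j + 1) A' B' := by
  obtain ⟨a, g, ha, hg, h1, h2, h3, h4, h5⟩ := h
  obtain ⟨hpS, hap⟩ := h4 p hp
  have hpq : p ≠ q := fun e => hq (e ▸ hpS)
  have hpr : p ≠ r := fun e => hr (e ▸ hpS)
  have haq : a q = q := ha q hq
  have har : a r = r := ha r hr
  set π := swap r p * swap q p with hπ
  have hpqS : Sup (S ∪ {q, r}) (swap p q) := fun x hx => by
    simp only [mem_union, mem_insert, mem_singleton, not_or] at hx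
    exact swap_apply_of_ne_of_ne (fun e => hx.1 (e ▸ hpS)) hx.2.1
  have hπS : Sup (S ∪ {q, r}) π := fun x hx => by
    simp only [mem_union, mem_insert, mem_singleton, not_or] at hx
    have : x ≠ p := fun e => hx.1 (e ▸ hpS)
    rw [hπ, Perm.mul_apply, swap_apply_of_ne_of_ne hx.2.1 this, swap_apply_of_ne_of_ne hx.2.2 this]
  have hπp : π p = q := by
    rw [hπ, Perm.mul_apply, swap_apply_right, swap_apply_of_ne_of_ne hqr hpq.symm]
  have hπq : π q = r := by rw [hπ, Perm.mul_apply, swap_apply_left, swap_apply_right]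
  have hπr : π r = p := by
    rw [hπ, Perm.mul_apply, swap_apply_of_ne_of_ne hqr.symm hpr.symm, swap_apply_left]
  have hcswap : ∀ u v : α, a u = u → a v = v → a * swap u v = swap u v * a := fun u v hu hv => by
    rw [Equiv.mul_swap_eq_swap_mul, hu, hv]
  have hcπ : a * π = π * a := by
    rw [hπ, ← mul_assoc, hcswap r p har hap, mul_assoc, hcswap q p haq hap, mul_assoc]
  have hgqr : g * swap q r = swap q r * g := by rw [Equiv.mul_swap_eq_swap_mul, hg q hq, hg r hr]
  have hconj : π * swap p q * π⁻¹ = swap q r := by rw [← swap_apply_apply, hπp, hπq]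
  have h3c : swap p q * swap q r = π := by
    refine Equiv.ext fun x => ?_
    simp only [hπ, Perm.mul_apply, swap_apply_def]
    grind
  have hsq : swap p q * swap p q = 1 := swap_mul_self p q
  refine ⟨a * swap p q, g * π, (ha.mono subset_union_left).mul hpqS,
    (hg.mono subset_union_left).mul hπS, ?_, ?_, ?_, ?_, ?_⟩
  · rw [← h1, commutatorElement_def, commutatorElement_def, mul_inv_rev, swap_inv, mul_inv_rev]
    calc a * swap p q * (g * π) * (swap p q * a⁻¹) * (π⁻¹ * g⁻¹)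
        = a * swap p q * g * (π * swap p q) * (a⁻¹ * π⁻¹) * g⁻¹ := by group
      _ = a * swap p q * g * (π * swap p q) * (π⁻¹ * a⁻¹) * g⁻¹ := by
          rw [show a⁻¹ * π⁻¹ = π⁻¹ * a⁻¹ by rw [← mul_inv_rev, ← hcπ, mul_inv_rev]]
      _ = a * swap p q * g * (π * swap p q * π⁻¹) * a⁻¹ * g⁻¹ := by group
      _ = a * swap p q * (g * swap q r) * a⁻¹ * g⁻¹ := by rw [hconj]; group
      _ = a * (swap p q * swap q r) * g * a⁻¹ * g⁻¹ := by rw [hgqr]; group
      _ = π * (a * g * a⁻¹ * g⁻¹) := by rw [h3c, hcπ]; group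
  · rw [map_mul, Perm.sign_swap hpq, h2, mul_neg_one]
  · have hsub : two a ∪ {p, q} ⊆ two (a * swap p q) := by
      intro x hx
      rw [mem_union, mem_two, mem_insert, mem_singleton] at hx
      rw [mem_two]
      rcases hx with ⟨hx1, hx2⟩ | rfl | rfl
      · have n1 : x ≠ p := fun e => hx1 (by rw [e]; exact hap)
        have n2 : x ≠ q := fun e => hx1 (by rw [e]; exact haq)
        have n3 : a x ≠ p := fun e => n1 (a.injective (e.trans hap.symm))
        have n4 : a x ≠ q := fun e => n2 (a.injective (e.trans haq.symm))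
        simp [Perm.mul_apply, swap_apply_of_ne_of_ne n1 n2, swap_apply_of_ne_of_ne n3 n4, hx1, hx2]
      · simp [Perm.mul_apply, haq, hap, hpq.symm]
      · simp [Perm.mul_apply, haq, hap, hpq]
    have hdis : _root_.Disjoint (two a) {p, q} := by
      rw [Finset.disjoint_left]
      intro x hx hx'
      rw [mem_two] at hx
      rw [mem_insert, mem_singleton] at hx'
      rcases hx' with rfl | rfl
      · exact hx.1 hap
      · exact hx.1 haq
    have := Finset.card_le_card hsub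
    rw [Finset.card_union_of_disjoint hdis, Finset.card_pair hpq] at this
    omega
  · intro x hx
    rcases hA x hx with rfl | ⟨hxA, hxp⟩
    · refine ⟨by simp, ?_⟩
      rw [Perm.mul_apply, swap_apply_of_ne_of_ne hpr.symm hqr.symm, har]
    · obtain ⟨hxS, hax⟩ := h4 x hxA
      refine ⟨mem_union_left _ hxS, ?_⟩
      rw [Perm.mul_apply, swap_apply_of_ne_of_ne hxp (fun e : x = q => hq (e ▸ hxS)), hax]
  · intro x hx
    obtain ⟨hxB, hxp⟩ := hB x hx
    obtain ⟨hxS, hax⟩ := h5 x hxB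
    refine ⟨mem_union_left _ hxS, ?_⟩
    have n3 : a x ≠ p := fun e => hxp (a.injective (e.trans hap.symm))
    have n4 : a x ≠ q := fun e => hq (e ▸ ha.mem hxS)
    have n5 : a x ≠ r := fun e => hr (e ▸ ha.mem hxS)
    rw [Perm.mul_apply, hax, Perm.mul_apply (a : Perm α) (swap p q),
      swap_apply_of_ne_of_ne hxp (fun e : x = q => hq (e ▸ hxS)), hπ, Perm.mul_apply,
      swap_apply_of_ne_of_ne n4 n3, swap_apply_of_ne_of_ne n5 n3]

/-! ### Families of cycle shapes -/

/-- Three cycles with given lengths, the heads of the first two marked. -/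
def F (n₁ n₂ n₃ : ℕ) (e : ℤˣ) (j : ℕ) (β : Type*) [Fintype β] [DecidableEq β] : Prop :=
  ∀ l₁ l₂ l₃ : List β, l₁.length = n₁ → l₂.length = n₂ → l₃.length = n₃ → (l₁ ++ l₂ ++ l₃).Nodup →
    Good (l₁ ++ l₂ ++ l₃).toFinset (l₁.formPerm * l₂.formPerm * l₃.formPerm) e j
      {x | x ∈ l₁.take 1} {x | x ∈ l₂.take 1}

/-- Three cycles with given lengths, nothing marked. -/
def F0 (n₁ n₂ n₃ : ℕ) (e : ℤˣ) (j : ℕ) (β : Type*) [Fintype β] [DecidableEq β] : Prop :=
  ∀ l₁ l₂ l₃ : List β, l₁.length = n₁ → l₂.length = n₂ → l₃.length = n₃ → (l₁ ++ l₂ ++ l₃).Nodup →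
    Good (l₁ ++ l₂ ++ l₃).toFinset (l₁.formPerm * l₂.formPerm * l₃.formPerm) e j ∅ ∅

theorem F.f0 {n₁ n₂ n₃ : ℕ} {e : ℤˣ} {j : ℕ} (h : F n₁ n₂ n₃ e j α) : F0 n₁ n₂ n₃ e j α :=
  fun l₁ l₂ l₃ a b c d => (h l₁ l₂ l₃ a b c d).mono le_rfl (Set.empty_subset _) (Set.empty_subset _)

theorem F.step {n₁ n₂ n₃ : ℕ} {e : ℤˣ} {j : ℕ} (h : F n₁ n₂ n₃ e j α) (h1 : 1 ≤ n₁) :
    F (n₁ + 2) n₂ n₃ (-e) (j + 1) α := by
  intro l₁ l₂ l₃ e₁ e₂ e₃ hnd
  obtain ⟨r, x, t, rfl⟩ : ∃ r x t, l₁ = r :: x :: t := by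
    match l₁, e₁ with
    | r :: x :: t, _ => exact ⟨r, x, t, rfl⟩
  have ht : t ≠ [] := by rintro rfl; simp at e₁; omega
  obtain ⟨mid, q, rfl⟩ : ∃ mid q, t = mid ++ [q] := ⟨t.dropLast, t.getLast ht, (List.dropLast_append_getLast ht).symm⟩
  simp only [List.cons_append, List.nodup_cons, List.mem_cons, List.mem_append, List.not_mem_nil, or_false,
    List.nodup_append, not_or] at hnd
  have hlen : (x :: mid).length = n₁ := by simp at e₁ ⊢; omega
  have hnd' : ((x :: mid) ++ l₂ ++ l₃).Nodup := by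
    simp only [List.cons_append, List.nodup_cons, List.mem_append, List.nodup_append, not_or]
    grind
  have hG := h _ _ _ hlen e₂ e₃ hnd'
  have hqS : q ∉ ((x :: mid) ++ l₂ ++ l₃).toFinset := by
    simp only [List.mem_toFinset, List.cons_append, List.mem_cons, List.mem_append, not_or]
    grind
  have hrS : r ∉ ((x :: mid) ++ l₂ ++ l₃).toFinset := by
    simp only [List.mem_toFinset, List.cons_append, List.mem_cons, List.mem_append, not_or]
    grind
  have hS : (r :: x :: (mid ++ [q]) ++ l₂ ++ l₃).toFinset = ((x :: mid) ++ l₂ ++ l₃).toFinset ∪ {q, r} := by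
    ext y
    simp only [List.mem_toFinset, List.cons_append, List.mem_cons, List.mem_append, Finset.mem_union,
      Finset.mem_insert, Finset.mem_singleton, List.not_mem_nil, or_false]
    tauto
  have hσ : (r :: x :: (mid ++ [q])).formPerm = swap r x * swap q x * (x :: mid).formPerm := by
    have hrot : (x :: (mid ++ [q])).formPerm = (q :: x :: mid).formPerm := by
      have := List.formPerm_rotate (q :: x :: mid) (by
        simp only [List.nodup_cons, List.mem_cons, not_or]; grind) 1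
      simpa using this
    rw [List.formPerm_cons_cons, hrot, List.formPerm_cons_cons, mul_assoc]
  have hqr : q ≠ r := by grind
  have hxA : x ∈ {y | y ∈ (x :: mid).take 1} := by simp
  have := hG.extend (A' := {y | y ∈ (r :: x :: (mid ++ [q])).take 1}) (B' := {y | y ∈ l₂.take 1}) hxA hqS hrS hqr
    (fun y hy => Or.inl (by simpa using hy))
    (fun y hy => ⟨hy, fun e => by
      subst e
      have := List.mem_of_mem_take hy
      grind⟩)
  rw [hS, hσ]
  simpa only [mul_assoc] using this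

theorem F.steps {n₁ n₂ n₃ : ℕ} {e : ℤˣ} {j : ℕ} (h : F n₁ n₂ n₃ e j α) (h1 : 1 ≤ n₁) (i : ℕ) :
    F (n₁ + 2 * i) n₂ n₃ ((-1) ^ i * e) (j + i) α := by
  induction i with
  | zero => simpa using h
  | succ i ih =>
    have := ih.step (by omega)
    rwa [show n₁ + 2 * i + 2 = n₁ + 2 * (i + 1) by ring, show -((-1) ^ i * e) = (-1 : ℤˣ) ^ (i + 1) * e by
      rw [pow_succ, mul_neg_one, neg_mul], show j + i + 1 = j + (i + 1) by ring] at this

/-- Reverse a list keeping its head. -/
def rv : List α → List α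
  | [] => []
  | x :: t => x :: t.reverse

omit [Fintype α] in
theorem rv_formPerm {l : List α} (h : l.Nodup) : (rv l).formPerm = l.formPerm⁻¹ := by
  cases l with
  | nil => simp [rv]
  | cons x t =>
    rw [← List.formPerm_reverse, rv, List.reverse_cons]
    have h' : (x :: t.reverse).Nodup := by
      rw [List.nodup_cons] at h ⊢
      exact ⟨by simpa using h.1, List.nodup_reverse.mpr h.2⟩
    have := List.formPerm_rotate (x :: t.reverse) h' 1
    simp at this
    exact this.symm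

omit [Fintype α] [DecidableEq α] in
theorem rv_perm (l : List α) : (rv l).Perm l := by
  cases l with
  | nil => exact List.Perm.refl _
  | cons x t => exact (List.reverse_perm t).cons x

omit [Fintype α] [DecidableEq α] in
theorem rv_take (l : List α) : (rv l).take 1 = l.take 1 := by cases l <;> simp [rv]

theorem sup_formPerm {S : Finset α} {l : List α} (h : ∀ x ∈ l, x ∈ S) : Sup S l.formPerm :=
  fun x hx => List.formPerm_apply_of_notMem fun hl => hx (h x hl)

theorem F.swap {n₁ n₂ n₃ : ℕ} {e : ℤˣ} {j : ℕ} (h : F n₁ n₂ n₃ e j α) : F n₂ n₁ n₃ e j α := by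
  intro l₁ l₂ l₃ e₁ e₂ e₃ hnd
  have hp : ((rv l₂) ++ (rv l₁) ++ (rv l₃)).Perm (l₁ ++ l₂ ++ l₃) :=
    (((rv_perm l₂).append (rv_perm l₁)).append (rv_perm l₃)).trans (List.perm_append_comm.append_right l₃)
  have hG := (h (rv l₂) (rv l₁) (rv l₃) ((rv_perm l₂).length_eq.trans e₂) ((rv_perm l₁).length_eq.trans e₁)
    ((rv_perm l₃).length_eq.trans e₃) (hp.nodup_iff.mpr hnd)).inv
  rw [rv_take, rv_take, List.toFinset_eq_of_perm _ _ hp] at hG
  simp only [List.nodup_append, List.mem_append] at hnd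
  rw [rv_formPerm hnd.1.2.1, rv_formPerm hnd.1.1, rv_formPerm hnd.2.1, mul_inv_rev, mul_inv_rev, inv_inv, inv_inv,
    inv_inv] at hG
  have c : Commute l₃.formPerm (l₁.formPerm * l₂.formPerm) := by
    refine Sup.commute (S := l₃.toFinset) (T := (l₁ ++ l₂).toFinset) (sup_formPerm fun x hx => by simpa using hx)
      ((sup_formPerm fun x hx => by simp [hx]).mul (sup_formPerm fun x hx => by simp [hx])) ?_
    rw [Finset.disjoint_left]
    intro x hx hx'
    simp only [List.mem_toFinset, List.mem_append] at hx hx'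
    exact hnd.2.2 x hx' x hx rfl
  rwa [c.eq] at hG

/-! ### Transporting bases -/

section base

variable {γ : Type*} [Fintype γ] [DecidableEq γ]

omit [Fintype α] [Fintype γ] in
theorem via_swap (f : γ ↪ α) (x y : γ) :
    Perm.viaEmbeddingHom f (Equiv.swap x y) = Equiv.swap (f x) (f y) := by
  refine Equiv.ext fun z => ?_
  rw [Perm.viaEmbeddingHom_apply]
  by_cases hz : z ∈ Set.range f
  · obtain ⟨w, rfl⟩ := hz
    rw [Perm.viaEmbedding_apply]
    simp only [Equiv.swap_apply_def, f.injective.eq_iff, apply_ite f]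
  · rw [Perm.viaEmbedding_apply_of_notMem _ _ _ hz, Equiv.swap_apply_of_ne_of_ne]
    · exact fun e => hz ⟨x, e.symm⟩
    · exact fun e => hz ⟨y, e.symm⟩

omit [Fintype α] [Fintype γ] in
theorem via_formPerm (f : γ ↪ α) (l : List γ) :
    Perm.viaEmbeddingHom f l.formPerm = (l.map f).formPerm := by
  induction l with
  | nil => simp
  | cons x t ih =>
    cases t with
    | nil => simp
    | cons y u =>
      rw [List.formPerm_cons_cons, map_mul, via_swap, ih]
      simp only [List.map_cons]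
      rw [List.formPerm_cons_cons]

theorem Good.via {σ : Perm γ} {e : ℤˣ} {j : ℕ} {A B : Set γ} (h : Good Finset.univ σ e j A B) (f : γ ↪ α) :
    Good (Finset.univ.map f) (Perm.viaEmbeddingHom f σ) e j (f '' A) (f '' B) := by
  obtain ⟨a, g, -, -, h1, h2, h3, h4, h5⟩ := h
  have hs : ∀ π : Perm γ, Sup (Finset.univ.map f) (Perm.viaEmbeddingHom f π) := fun π x hx => by
    rw [Perm.viaEmbeddingHom_apply]
    exact Perm.viaEmbedding_apply_of_notMem _ _ _ fun ⟨w, hw⟩ => hx (by simp [← hw])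
  have hap : ∀ (π : Perm γ) (x : γ), Perm.viaEmbeddingHom f π (f x) = f (π x) := fun π x => by
    rw [Perm.viaEmbeddingHom_apply, Perm.viaEmbedding_apply]
  refine ⟨Perm.viaEmbeddingHom f a, Perm.viaEmbeddingHom f g, hs a, hs g, by rw [← map_commutatorElement, h1],
    ?_, ?_, ?_, ?_⟩
  · rw [← h2, Perm.viaEmbeddingHom_apply, Perm.viaEmbedding]
    letI : DecidablePred fun b => b ∈ Set.range f.1 := fun b => Classical.propDecidable _
    exact Perm.sign_extendDomain a _
  · refine h3.trans ?_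
    rw [← Finset.card_map f]
    refine Finset.card_le_card fun y hy => ?_
    rw [Finset.mem_map] at hy
    obtain ⟨x, hx, rfl⟩ := hy
    rw [mem_two] at hx ⊢
    rw [hap, hap]
    exact ⟨fun e => hx.1 (f.injective e), by rw [hx.2]⟩
  · rintro _ ⟨x, hx, rfl⟩
    exact ⟨by simp, by rw [hap, (h4 x hx).2]⟩
  · rintro _ ⟨x, hx, rfl⟩
    exact ⟨by simp, by rw [hap, hap, (h5 x hx).2]⟩

theorem exists_embedding {N : ℕ} (L : List α) (hL : L.length = N) (hnd : L.Nodup) :
    ∃ f : Fin N ↪ α, (List.finRange N).map f = L := by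
  subst hL
  exact ⟨⟨L.get, List.nodup_iff_injective_get.mp hnd⟩, List.map_getElem_finRange L⟩

theorem split_embedding {N : ℕ} (c₁ c₂ c₃ : List (Fin N)) (hc : c₁ ++ c₂ ++ c₃ = List.finRange N)
    (l₁ l₂ l₃ : List α) (e₁ : l₁.length = c₁.length) (e₂ : l₂.length = c₂.length) (e₃ : l₃.length = c₃.length)
    (hnd : (l₁ ++ l₂ ++ l₃).Nodup) :
    ∃ f : Fin N ↪ α, c₁.map f = l₁ ∧ c₂.map f = l₂ ∧ c₃.map f = l₃ ∧
      Finset.univ.map f = (l₁ ++ l₂ ++ l₃).toFinset := by
  have hlen : (l₁ ++ l₂ ++ l₃).length = N := by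
    have h0 := congrArg List.length hc
    rw [List.length_finRange] at h0
    simp only [List.length_append] at h0 ⊢
    omega
  obtain ⟨f, hf⟩ := exists_embedding _ hlen hnd
  have h2 := hf
  rw [← hc, List.map_append, List.map_append] at h2
  obtain ⟨h3, h4⟩ := List.append_inj h2 (by simp [e₁, e₂])
  obtain ⟨h5, h6⟩ := List.append_inj h3 (by simp [e₁])
  refine ⟨f, h5, h6, h4, ?_⟩
  ext y
  rw [← hf]
  simp

theorem F_of_base {N : ℕ} (c₁ c₂ c₃ : List (Fin N)) (hc : c₁ ++ c₂ ++ c₃ = List.finRange N) {e : ℤˣ} {j : ℕ}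
    (h : Good Finset.univ (c₁.formPerm * c₂.formPerm * c₃.formPerm) e j {x | x ∈ c₁.take 1} {x | x ∈ c₂.take 1}) :
    F c₁.length c₂.length c₃.length e j α := by
  intro l₁ l₂ l₃ e₁ e₂ e₃ hnd
  obtain ⟨f, rfl, rfl, rfl, hf⟩ := split_embedding c₁ c₂ c₃ hc l₁ l₂ l₃ e₁ e₂ e₃ hnd
  have := h.via f
  rw [map_mul, map_mul, via_formPerm, via_formPerm, via_formPerm, hf] at this
  refine this.mono le_rfl ?_ ?_ <;> intro y hy <;>
    simpa [← List.map_take] using hy

theorem F0_of_base {N : ℕ} (c₁ c₂ c₃ : List (Fin N)) (hc : c₁ ++ c₂ ++ c₃ = List.finRange N) {e : ℤˣ} {j : ℕ}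
    (h : Good Finset.univ (c₁.formPerm * c₂.formPerm * c₃.formPerm) e j ∅ ∅) :
    F0 c₁.length c₂.length c₃.length e j α := by
  intro l₁ l₂ l₃ e₁ e₂ e₃ hnd
  obtain ⟨f, rfl, rfl, rfl, hf⟩ := split_embedding c₁ c₂ c₃ hc l₁ l₂ l₃ e₁ e₂ e₃ hnd
  have := h.via f
  rw [map_mul, map_mul, via_formPerm, via_formPerm, via_formPerm, hf, Set.image_empty] at this
  exact this

end base

theorem sup_univ {N : ℕ} (π : Perm (Fin N)) : Sup Finset.univ π := fun x hx => absurd (Finset.mem_univ x) hx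

theorem base_one : F 1 0 0 1 0 α :=
  F_of_base (N := 1) [0] [] [] (by decide)
    ⟨1, 1, sup_univ _, sup_univ _, by simp, by simp, by simp, by simp, by simp⟩

theorem base_two : F 2 2 0 (-1) 1 α :=
  F_of_base (N := 4) [0, 1] [2, 3] [] (by decide)
    ⟨Equiv.swap 2 3, Equiv.swap 0 2 * Equiv.swap 1 3, sup_univ _, sup_univ _, by decide +kernel, by decide +kernel,
      by decide +kernel, by simp [Equiv.swap_apply_def], by simp; decide +kernel⟩

theorem base11 : F 11 0 0 1 2 α :=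
  F_of_base (N := 11) [0, 1, 2, 3, 4, 5, 6, 7, 8, 9, 10] [] [] (by decide)
    ⟨OreB.c11A, OreB.c11G, sup_univ _, sup_univ _, by decide +kernel, by decide +kernel,
      by decide +kernel, by simp; decide +kernel, by simp⟩

theorem base26 : F 2 6 0 1 2 α :=
  F_of_base (N := 8) [0, 1] [2, 3, 4, 5, 6, 7] [] (by decide)
    ⟨OreB.p26A, OreB.p26G, sup_univ _, sup_univ _, by decide +kernel, by decide +kernel,
      by decide +kernel, by simp; decide +kernel, by simp; decide +kernel⟩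

theorem base44 : F 4 4 0 1 2 α :=
  F_of_base (N := 8) [0, 1, 2, 3] [4, 5, 6, 7] [] (by decide)
    ⟨OreB.p44A, OreB.p44G, sup_univ _, sup_univ _, by decide +kernel, by decide +kernel,
      by decide +kernel, by simp; decide +kernel, by simp; decide +kernel⟩

theorem base53 : F 5 0 3 1 2 α :=
  F_of_base (N := 8) [0, 1, 2, 3, 4] [] [5, 6, 7] (by decide)
    ⟨OreB.c53A, OreB.c53G, sup_univ _, sup_univ _, by decide +kernel, by decide +kernel,
      by decide +kernel, by simp; decide +kernel, by simp⟩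

theorem base243 : F 2 4 3 1 2 α :=
  F_of_base (N := 9) [0, 1] [2, 3, 4, 5] [6, 7, 8] (by decide)
    ⟨OreB.c243A, OreB.c243G, sup_univ _, sup_univ _, by decide +kernel, by decide +kernel,
      by decide +kernel, by simp; decide +kernel, by simp; decide +kernel⟩

theorem base7 : F0 7 0 0 1 2 α :=
  F0_of_base (N := 7) [0, 1, 2, 3, 4, 5, 6] [] [] (by decide)
    ⟨OreB.c7A, OreB.c7G, sup_univ _, sup_univ _, by decide +kernel, by decide +kernel,
      by decide +kernel, by simp, by simp⟩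

theorem base22 : F0 2 2 0 1 2 α :=
  F0_of_base (N := 4) [0, 1] [2, 3] [] (by decide)
    ⟨OreB.p22A, OreB.p22G, sup_univ _, sup_univ _, by decide +kernel, by decide +kernel,
      by decide +kernel, by simp, by simp⟩

theorem base333 : F0 3 3 3 1 2 α :=
  F0_of_base (N := 9) [0, 1, 2] [3, 4, 5] [6, 7, 8] (by decide)
    ⟨OreB.c333A, OreB.c333G, sup_univ _, sup_univ _, by decide +kernel, by decide +kernel,
      by decide +kernel, by simp, by simp⟩

theorem base311 : F0 3 1 1 1 2 α :=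
  F0_of_base (N := 5) [0, 1, 2] [3] [4] (by decide)
    ⟨OreB.c311A, OreB.c311G, sup_univ _, sup_univ _, by decide +kernel, by decide +kernel,
      by decide +kernel, by simp, by simp⟩

/-- Regular family: one odd cycle. -/
theorem odd_cycle (l : ℕ) (h : l % 2 = 1) : F l 0 0 ((-1) ^ (l / 2)) (l / 2) α := by
  have := (base_one (α := α)).steps le_rfl (l / 2)
  rwa [show 1 + 2 * (l / 2) = l by omega, mul_one, Nat.zero_add] at this

/-- Regular family: a pair of even cycles. -/
theorem even_pair (l l' : ℕ) (h : l % 2 = 0) (h' : l' % 2 = 0) (hl : 2 ≤ l) (hl' : 2 ≤ l') :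
    F0 l l' 0 ((-1) ^ (l / 2 + l' / 2 - 1)) (l / 2 + l' / 2 - 1) α := by
  obtain ⟨m, rfl⟩ : ∃ m, l = 2 + 2 * m := ⟨l / 2 - 1, by omega⟩
  obtain ⟨k, rfl⟩ : ∃ k, l' = 2 + 2 * k := ⟨l' / 2 - 1, by omega⟩
  have := (((base_two (α := α)).steps (by omega) k).swap.steps (by omega) m).f0
  rwa [show (2 + 2 * m) / 2 + (2 + 2 * k) / 2 - 1 = 1 + k + m by omega,
    show (-1 : ℤˣ) ^ (1 + k + m) = (-1) ^ m * ((-1) ^ k * -1) by simp [pow_add, mul_comm]]

/-- Special family: an odd cycle of length 3 mod 4. -/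
theorem spec_odd (l : ℕ) (h : l % 4 = 3) (hl : 7 ≤ l) : ∃ j, 2 ≤ j ∧ F0 l 0 0 1 j α := by
  by_cases h7 : l = 7
  · exact ⟨2, le_rfl, h7 ▸ base7⟩
  obtain ⟨i, rfl⟩ : ∃ i, l = 11 + 2 * (2 * i) := ⟨(l - 11) / 4, by omega⟩
  have := ((base11 (α := α)).steps (by omega) (2 * i)).f0
  rw [(even_two_mul i).neg_one_pow, one_mul] at this
  exact ⟨_, by omega, this⟩

/-- Special family: two even cycles congruent mod 4, the second at least as long. -/
theorem spec_pair (l l' : ℕ) (h : l % 2 = 0) (hl : 2 ≤ l) (hll : l ≤ l') (h4 : l % 4 = l' % 4) :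
    ∃ j, 2 ≤ j ∧ F0 l l' 0 1 j α := by
  by_cases h2 : l % 4 = 2
  · by_cases he : l' = 2
    · subst he
      obtain rfl : l = 2 := by omega
      exact ⟨2, le_rfl, base22⟩
    obtain ⟨i, rfl⟩ : ∃ i, l = 2 + 2 * (2 * i) := ⟨(l - 2) / 4, by omega⟩
    obtain ⟨k, rfl⟩ : ∃ k, l' = 6 + 2 * (2 * k) := ⟨(l' - 6) / 4, by omega⟩
    have := ((((base26 (α := α)).swap.steps (by omega) (2 * k)).swap).steps (by omega) (2 * i)).f0
    rw [(even_two_mul i).neg_one_pow, (even_two_mul k).neg_one_pow, one_mul, one_mul] at this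
    exact ⟨_, by omega, this⟩
  · obtain ⟨i, rfl⟩ : ∃ i, l = 4 + 2 * (2 * i) := ⟨(l - 4) / 4, by omega⟩
    obtain ⟨k, rfl⟩ : ∃ k, l' = 4 + 2 * (2 * k) := ⟨(l' - 4) / 4, by omega⟩
    have := ((((base44 (α := α)).swap.steps (by omega) (2 * k)).swap).steps (by omega) (2 * i)).f0
    rw [(even_two_mul i).neg_one_pow, (even_two_mul k).neg_one_pow, one_mul, one_mul] at this
    exact ⟨_, by omega, this⟩

/-- Special family: a three-cycle with a cycle of length 1 mod 4. -/
theorem spec_three_odd (l : ℕ) (h : l % 4 = 1) (hl : 5 ≤ l) : ∃ j, 2 ≤ j ∧ F0 l 0 3 1 j α := by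
  obtain ⟨i, rfl⟩ : ∃ i, l = 5 + 2 * (2 * i) := ⟨(l - 5) / 4, by omega⟩
  have := ((base53 (α := α)).steps (by omega) (2 * i)).f0
  rw [(even_two_mul i).neg_one_pow, one_mul] at this
  exact ⟨_, by omega, this⟩

/-- Special family: a three-cycle with cycles of lengths 2 and 0 mod 4. -/
theorem spec_three_even (l l' : ℕ) (h : l % 4 = 2) (h' : l' % 4 = 0) (hl : 2 ≤ l') :
    ∃ j, 2 ≤ j ∧ F0 l l' 3 1 j α := by
  obtain ⟨i, rfl⟩ : ∃ i, l = 2 + 2 * (2 * i) := ⟨(l - 2) / 4, by omega⟩
  obtain ⟨k, rfl⟩ : ∃ k, l' = 4 + 2 * (2 * k) := ⟨(l' - 4) / 4, by omega⟩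
  have := ((((base243 (α := α)).swap.steps (by omega) (2 * k)).swap).steps (by omega) (2 * i)).f0
  rw [(even_two_mul i).neg_one_pow, (even_two_mul k).neg_one_pow, one_mul, one_mul] at this
  exact ⟨_, by omega, this⟩

end H60.OreC
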