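import Cfsg.Agent.H60.OreComb

/-!
Every even permutation of at least five points is `⁅a, g⁆` with `a`, `g` even and `a` interchanging two pairs of points.
-/

set_option autoImplicit false

namespace H60.OreC

open Equiv Finset
open scoped commutatorElement

variable {α : Type*} [Fintype α] [DecidableEq α]

/-- The parity invariant of a cycle shape. -/
def W (K : Multiset ℕ) : ℕ := (K.map (· / 2)).sum + K.countP Even / 2

/-- Cut off a cycle of the given length. -/
theorem pick {σ : Perm α} {l : ℕ} (h : l ∈ σ.cycleType) :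
    ∃ (L : List α) (τ : Perm α), L.Nodup ∧ L.length = l ∧ σ = L.formPerm * τ ∧
      σ.cycleType = l ::ₘ τ.cycleType ∧ _root_.Disjoint L.toFinset τ.support ∧
      σ.support = L.toFinset ∪ τ.support := by
  obtain ⟨c, τ, rfl, hd, hc, hl⟩ := Perm.mem_cycleType_iff.mp h
  obtain ⟨x, hx⟩ := hc.nonempty_support
  have hco : c.cycleOf x = c := hc.cycleOf_eq (Perm.mem_support.mp hx)
  have hfp : (c.toList x).formPerm = c := (Perm.formPerm_toList c x).trans hco
  have hmem : (c.toList x).toFinset = c.support := by
    ext y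
    rw [List.mem_toFinset, Perm.mem_toList_iff]
    exact ⟨fun ⟨hs, _⟩ => (hs.mem_support_iff).mp hx, fun hy => ⟨hc.sameCycle (Perm.mem_support.mp hx) (Perm.mem_support.mp hy), hx⟩⟩
  refine ⟨c.toList x, τ, Perm.nodup_toList c x, ?_, by rw [hfp], ?_, ?_, ?_⟩
  · rw [Perm.length_toList, hco, hl]
  · rw [hd.cycleType_mul, hc.cycleType, hl]; rfl
  · rw [hmem]; exact hd.disjoint_support
  · rw [hmem, hd.support_mul]

theorem countP_parity (K : Multiset ℕ) : (K.sum + Multiset.card K) % 2 = K.countP Even % 2 := by
  induction K using Multiset.induction with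
  | empty => simp
  | cons a K ih =>
    rw [Multiset.sum_cons, Multiset.card_cons, Multiset.countP_cons]
    by_cases ha : Even a
    · rw [if_pos ha]; rw [Nat.even_iff] at ha; omega
    · rw [if_neg ha]; rw [Nat.even_iff] at ha; omega

theorem even_count {σ : Perm α} (h : Perm.sign σ = 1) : σ.cycleType.countP Even % 2 = 0 := by
  rw [← countP_parity]
  rw [Perm.sign_of_cycleType] at h
  rcases Nat.even_or_odd (σ.cycleType.sum + Multiset.card σ.cycleType) with he | ho
  · exact Nat.even_iff.mp he
  · rw [ho.neg_one_pow] at h; exact absurd h (by decide)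

theorem sign_of_even_count {σ : Perm α} (h : σ.cycleType.countP Even % 2 = 0) : Perm.sign σ = 1 := by
  rw [← countP_parity] at h
  rw [Perm.sign_of_cycleType, (Nat.even_iff.mpr h).neg_one_pow]

theorem W_cons_odd {a : ℕ} (K : Multiset ℕ) (ha : a % 2 = 1) : W (a ::ₘ K) = a / 2 + W K := by
  have : ¬ Even a := by rw [Nat.even_iff]; omega
  simp only [W, Multiset.map_cons, Multiset.sum_cons, Multiset.countP_cons, if_neg this]
  omega

theorem W_cons_even {a b : ℕ} (K : Multiset ℕ) (ha : a % 2 = 0) (hb : b % 2 = 0) :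
    W (a ::ₘ b ::ₘ K) = a / 2 + b / 2 + 1 + W K := by
  have h1 : Even a := Nat.even_iff.mpr ha
  have h2 : Even b := Nat.even_iff.mpr hb
  simp only [W, Multiset.map_cons, Multiset.sum_cons, Multiset.countP_cons, if_pos h1, if_pos h2]
  omega

theorem good_id (S : Finset α) : Good S 1 1 0 ∅ ∅ :=
  ⟨1, 1, Sup.one S, Sup.one S, by simp, by simp, by simp, by simp, by simp⟩

/-- The regular representation. -/
theorem regular (σ : Perm α) (hσ : Perm.sign σ = 1) :
    ∃ j, Good σ.support σ ((-1) ^ j) j ∅ ∅ ∧ j % 2 = W σ.cycleType % 2 ∧ (σ ≠ 1 → 1 ≤ j) := by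
  induction hn : Multiset.card σ.cycleType using Nat.strong_induction_on generalizing σ with
  | _ n ih =>
    subst hn
    by_cases h1 : σ = 1
    · subst h1
      refine ⟨0, ?_, by simp [W], fun h => absurd rfl h⟩
      simpa using good_id (∅ : Finset α)
    have hc := even_count hσ
    by_cases hodd : ∃ l ∈ σ.cycleType, l % 2 = 1
    · obtain ⟨l, hl, hl2⟩ := hodd
      obtain ⟨L, τ, hnd, hlen, rfl, hct, hd, hsupp⟩ := pick hl
      have hl3 : 2 ≤ l := Perm.two_le_of_mem_cycleType hl
      rw [hct, Multiset.countP_cons, if_neg (by rw [Nat.even_iff]; omega)] at hc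
      obtain ⟨j, hj, hjW, -⟩ := ih (Multiset.card τ.cycleType) (by rw [hct, Multiset.card_cons]; omega) τ
        (sign_of_even_count (by simpa using hc)) rfl
      have hb := ((odd_cycle (α := α) l hl2).f0 L [] [] hlen rfl rfl (by simpa using hnd))
      simp only [List.append_nil, List.formPerm_nil, mul_one] at hb
      refine ⟨l / 2 + j, ?_, ?_, fun _ => by omega⟩
      · have := hb.union hj hd
        rw [← pow_add, ← hsupp] at this
        exact this
      · rw [hct, W_cons_odd _ hl2]; omega
    · push Not at hodd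
      have hne : σ.cycleType ≠ 0 := fun e => h1 (Perm.cycleType_eq_zero.mp e)
      obtain ⟨l, hl⟩ := Multiset.exists_mem_of_ne_zero hne
      obtain ⟨L, τ, hnd, hlen, rfl, hct, hd, hsupp⟩ := pick hl
      have hlE : l % 2 = 0 := by have := hodd l hl; omega
      have hl3 : 2 ≤ l := Perm.two_le_of_mem_cycleType hl
      rw [hct, Multiset.countP_cons, if_pos (Nat.even_iff.mpr hlE)] at hc
      obtain ⟨l', hl'⟩ := Multiset.exists_mem_of_ne_zero (s := τ.cycleType) (fun e => by simp [e] at hc)
      have hlE' : l' % 2 = 0 := by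
        have := hodd l' (by rw [hct]; exact Multiset.mem_cons_of_mem hl'); omega
      have hl3' : 2 ≤ l' := Perm.two_le_of_mem_cycleType hl'
      obtain ⟨L', ρ, hnd', hlen', rfl, hct', hd', hsupp'⟩ := pick hl'
      rw [hct', Multiset.countP_cons, if_pos (Nat.even_iff.mpr hlE')] at hc
      obtain ⟨j, hj, hjW, -⟩ := ih (Multiset.card ρ.cycleType)
        (by rw [hct, hct', Multiset.card_cons, Multiset.card_cons]; omega) ρ (sign_of_even_count (by omega)) rfl
      rw [hsupp'] at hd hsupp
      rw [Finset.disjoint_union_right] at hd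
      have hLL : ∀ x ∈ L, ∀ y ∈ L', x ≠ y := fun x hx y hy e =>
        Finset.disjoint_left.mp hd.1 (List.mem_toFinset.mpr hx) (List.mem_toFinset.mpr (e ▸ hy))
      have hb := even_pair (α := α) l l' hlE hlE' hl3 hl3' L L' [] hlen hlen' rfl
        (by simp only [List.append_nil, List.nodup_append]; exact ⟨hnd, hnd', hLL⟩)
      simp only [List.append_nil, List.formPerm_nil, mul_one, List.toFinset_append] at hb
      refine ⟨l / 2 + l' / 2 - 1 + j, ?_, ?_, fun _ => by omega⟩
      · have := hb.union hj (Finset.disjoint_union_left.mpr ⟨hd.2, hd'⟩)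
        rw [← pow_add, Finset.union_assoc, ← hsupp, mul_assoc] at this
        exact this
      · rw [hct, hct', W_cons_even _ hlE hlE']; omega

/-- A block with positive sign and two swapped pairs, together with a regular rest. -/
theorem assemble {τ : Perm α} {S : Finset α} {β : Perm α} {i : ℕ} (hi : 2 ≤ i) (hb : Good S β 1 i ∅ ∅)
    (hd : _root_.Disjoint S τ.support) (hτ : Perm.sign τ = 1) (hW : W τ.cycleType % 2 = 0) :
    ∃ T, Good T (β * τ) 1 2 ∅ ∅ := by
  obtain ⟨j, hj, hjW, -⟩ := regular τ hτ
  have := hb.union hj hd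
  rw [(Nat.even_iff.mpr (show j % 2 = 0 by omega)).neg_one_pow, one_mul] at this
  exact ⟨_, this.mono (by omega) (Set.empty_subset _) (Set.empty_subset _)⟩

theorem no_three_parity (K : Multiset ℕ) (h : ∀ l ∈ K, l % 2 = 1 ∧ l ≠ 3 ∧ ¬ (l % 4 = 3 ∧ 7 ≤ l)) :
    W K % 2 = 0 := by
  induction K using Multiset.induction with
  | empty => simp [W]
  | cons a K ih =>
    obtain ⟨h1, h2, h3⟩ := h a (Multiset.mem_cons_self a K)
    rw [W_cons_odd _ h1]
    have := ih fun l hl => h l (Multiset.mem_cons_of_mem hl)
    omega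

/-- Good representations with two swapped pairs exist for all even permutations of at least five points. -/
theorem exists_good (hα : 5 ≤ Fintype.card α) (σ : Perm α) (hσ : Perm.sign σ = 1) :
    ∃ T, Good T σ 1 2 ∅ ∅ := by
  obtain ⟨j, hj, hjW, hjpos⟩ := regular σ hσ
  by_cases hW : W σ.cycleType % 2 = 0
  · by_cases h1 : σ = 1
    · subst h1
      obtain ⟨L, hL, hLnd⟩ : ∃ L : List α, L.length = 4 ∧ L.Nodup :=
        ⟨(Finset.univ : Finset α).toList.take 4, by simp; omega, (Finset.nodup_toList _).sublist (List.take_sublist _ _)⟩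
      obtain ⟨p, q, r, s, rfl⟩ : ∃ p q r s, L = [p, q, r, s] := by
        match L, hL with
        | [p, q, r, s], _ => exact ⟨p, q, r, s, rfl⟩
      simp only [List.nodup_cons, List.mem_cons, List.not_mem_nil, or_false, not_or] at hLnd
      obtain ⟨⟨hpq, hpr, hps⟩, ⟨hqr, hqs⟩, hrs, -⟩ := hLnd
      refine ⟨{p, q, r, s}, swap p q * swap r s, 1, ?_, Sup.one _, by simp, by simp [Perm.sign_swap hpq, Perm.sign_swap hrs],
        ?_, by simp, by simp⟩
      · intro x hx
        simp only [Finset.mem_insert, Finset.mem_singleton, not_or] at hx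
        rw [Perm.mul_apply, swap_apply_of_ne_of_ne hx.2.2.1 hx.2.2.2, swap_apply_of_ne_of_ne hx.1 hx.2.1]
      · have hsub : ({p, q, r, s} : Finset α) ⊆ two (swap p q * swap r s) := by
          intro x hx
          simp only [Finset.mem_insert, Finset.mem_singleton] at hx
          rw [mem_two]
          simp only [Perm.mul_apply, swap_apply_def]
          rcases hx with rfl | rfl | rfl | rfl <;> grind
        have h4 : ({p, q, r, s} : Finset α).card = 4 := by simp [*]
        have := Finset.card_le_card hsub
        omega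
    · rw [(Nat.even_iff.mpr (show j % 2 = 0 by omega)).neg_one_pow] at hj
      have := hjpos h1
      exact ⟨_, hj.mono (by omega) (Set.empty_subset _) (Set.empty_subset _)⟩
  have hc := even_count hσ
  by_cases ha : ∃ l ∈ σ.cycleType, l % 4 = 3 ∧ 7 ≤ l
  · obtain ⟨l, hl, h4, h7⟩ := ha
    obtain ⟨L, τ, hnd, hlen, rfl, hct, hd, -⟩ := pick hl
    obtain ⟨i, hi, hF⟩ := spec_odd (α := α) l h4 h7
    have hb := hF L [] [] hlen rfl rfl (by simpa using hnd)
    simp only [List.append_nil, List.formPerm_nil, mul_one] at hb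
    rw [hct, Multiset.countP_cons, if_neg (by rw [Nat.even_iff]; omega)] at hc
    rw [hct, W_cons_odd _ (by omega)] at hW
    exact assemble hi hb hd (sign_of_even_count (by simpa using hc)) (by omega)
  by_cases hb4 : ∃ l ∈ σ.cycleType, ∃ l' ∈ σ.cycleType.erase l, l % 2 = 0 ∧ l % 4 = l' % 4
  · obtain ⟨l, l', hl, hl', he, h4, hll⟩ : ∃ l l', l ∈ σ.cycleType ∧ l' ∈ σ.cycleType.erase l ∧ l % 2 = 0 ∧
        l % 4 = l' % 4 ∧ l ≤ l' := by
      obtain ⟨l, hl, l', hl', he, h4⟩ := hb4
      rcases le_total l l' with h | h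
      · exact ⟨l, l', hl, hl', he, h4, h⟩
      · rcases eq_or_ne l l' with e | e
        · exact ⟨l, l', hl, hl', he, h4, e.le⟩
        · exact ⟨l', l, Multiset.mem_of_mem_erase hl', (Multiset.mem_erase_of_ne e).mpr hl, by omega, h4.symm, h⟩
    obtain ⟨L, τ, hnd, hlen, rfl, hct, hd, -⟩ := pick hl
    rw [hct, Multiset.erase_cons_head] at hl'
    obtain ⟨L', ρ, hnd', hlen', rfl, hct', hd', hsupp'⟩ := pick hl'
    obtain ⟨i, hi, hF⟩ := spec_pair (α := α) l l' he (Perm.two_le_of_mem_cycleType hl) hll h4
    rw [hsupp', Finset.disjoint_union_right] at hd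
    have hb := hF L L' [] hlen hlen' rfl (by
      simp only [List.append_nil, List.nodup_append]
      exact ⟨hnd, hnd', fun x hx y hy e => Finset.disjoint_left.mp hd.1 (List.mem_toFinset.mpr hx) (List.mem_toFinset.mpr (e ▸ hy))⟩)
    simp only [List.append_nil, List.formPerm_nil, mul_one, List.toFinset_append] at hb
    rw [hct, hct', Multiset.countP_cons, Multiset.countP_cons, if_pos (Nat.even_iff.mpr he),
      if_pos (Nat.even_iff.mpr (by omega : l' % 2 = 0))] at hc
    rw [hct, hct', W_cons_even _ he (by omega)] at hW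
    rw [← mul_assoc]
    exact assemble hi hb (Finset.disjoint_union_left.mpr ⟨hd.2, hd'⟩) (sign_of_even_count (by omega)) (by omega)
  push Not at ha hb4
  have h3 : 3 ∈ σ.cycleType := by
    by_contra h3
    apply hW
    by_cases hev : ∃ l ∈ σ.cycleType, l % 2 = 0
    · obtain ⟨l, hl, he⟩ := hev
      obtain ⟨K, hK⟩ := Multiset.exists_cons_of_mem hl
      rw [hK, Multiset.countP_cons, if_pos (Nat.even_iff.mpr he)] at hc
      obtain ⟨l', hl', he'⟩ := Multiset.countP_pos.mp (show 0 < K.countP Even by omega)
      rw [Nat.even_iff] at he'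
      obtain ⟨M, hM⟩ := Multiset.exists_cons_of_mem hl'
      have h4 : l % 4 ≠ l' % 4 := hb4 l hl l' (by rw [hK, Multiset.erase_cons_head]; exact hl') he
      rw [hK, hM, W_cons_even _ he he']
      have := no_three_parity M fun m hm => by
        have hmσ : m ∈ σ.cycleType := by rw [hK, hM]; simp [hm]
        refine ⟨?_, fun e => h3 (e ▸ hmσ), fun e => by have := ha m hmσ e.1; omega⟩
        by_contra hm2
        have hne : l' % 4 ≠ m % 4 := hb4 l' (by rw [hK, hM]; simp) m (by
          rw [hK, hM, Multiset.cons_swap, Multiset.erase_cons_head]; simp [hm]) he'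
        have hne2 : l % 4 ≠ m % 4 := hb4 l hl m (by rw [hK, hM, Multiset.erase_cons_head]; simp [hm]) he
        omega
      omega
    · push Not at hev
      exact no_three_parity _ fun m hm => ⟨by have := hev m hm; omega, fun e => h3 (e ▸ hm),
        fun e => by have := ha m hm e.1; omega⟩
  obtain ⟨L, τ, hnd, hlen, rfl, hct, hd, hsupp⟩ := pick h3
  rw [hct, W_cons_odd _ (by omega)] at hW
  rw [hct, Multiset.countP_cons, if_neg (by decide)] at hc
  by_cases h33 : 3 ∈ τ.cycleType
  · obtain ⟨L', ρ, hnd', hlen', rfl, hct', hd', hsupp'⟩ := pick h33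
    rw [hct', W_cons_odd _ (by omega)] at hW
    rw [hct', Multiset.countP_cons, if_neg (by decide)] at hc
    by_cases h333 : 3 ∈ ρ.cycleType
    · obtain ⟨L'', π, hnd'', hlen'', rfl, hct'', hd'', hsupp''⟩ := pick h333
      rw [hct'', W_cons_odd _ (by omega)] at hW
      rw [hct'', Multiset.countP_cons, if_neg (by decide)] at hc
      rw [hsupp', hsupp'', Finset.disjoint_union_right, Finset.disjoint_union_right] at hd
      rw [hsupp'', Finset.disjoint_union_right] at hd'
      have hb := base333 (α := α) L L' L'' hlen hlen' hlen'' (by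
        simp only [List.nodup_append, List.mem_append]
        refine ⟨⟨hnd, hnd', fun x hx y hy e => Finset.disjoint_left.mp hd.1 (List.mem_toFinset.mpr hx) (List.mem_toFinset.mpr (e ▸ hy))⟩, hnd'', fun x hx y hy e => ?_⟩
        rcases hx with hx | hx
        · exact Finset.disjoint_left.mp hd.2.1 (List.mem_toFinset.mpr hx) (List.mem_toFinset.mpr (e ▸ hy))
        · exact Finset.disjoint_left.mp hd'.1 (List.mem_toFinset.mpr hx) (List.mem_toFinset.mpr (e ▸ hy)))
      rw [List.toFinset_append, List.toFinset_append] at hb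
      rw [← mul_assoc, ← mul_assoc]
      exact assemble le_rfl hb (Finset.disjoint_union_left.mpr ⟨Finset.disjoint_union_left.mpr ⟨hd.2.2, hd'.2⟩, hd''⟩)
        (sign_of_even_count (by omega)) (by omega)
    · -- two three-cycles only: another cycle is present
      exfalso
      apply hW
      by_cases hev : ∃ l ∈ ρ.cycleType, l % 2 = 0
      · obtain ⟨l, hl, he⟩ := hev
        obtain ⟨K, hK⟩ := Multiset.exists_cons_of_mem hl
        rw [hK, Multiset.countP_cons, if_pos (Nat.even_iff.mpr he)] at hc
        obtain ⟨l', hl', he'⟩ := Multiset.countP_pos.mp (show 0 < K.countP Even by omega)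
        rw [Nat.even_iff] at he'
        obtain ⟨M, hM⟩ := Multiset.exists_cons_of_mem hl'
        have hin : ∀ m ∈ ρ.cycleType, m ∈ (L.formPerm * (L'.formPerm * ρ)).cycleType := fun m hm => by
          rw [hct, hct']; simp [hm]
        have hpair : ∀ (a b : ℕ) (R : Multiset ℕ), ρ.cycleType = a ::ₘ R → b ∈ R → a % 2 = 0 → a % 4 ≠ b % 4 := by
          intro a b R hR hb' ha'
          refine hb4 a (hin a (by rw [hR]; simp)) b ?_ ha'
          rw [hct, hct', hR, Multiset.cons_swap 3 a, Multiset.cons_swap 3 a, Multiset.erase_cons_head]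
          simp [hb']
        have h4 := hpair l l' K hK hl' he
        rw [hK, hM, W_cons_even _ he he']
        have := no_three_parity M fun m hm => by
          have hmρ : m ∈ ρ.cycleType := by rw [hK, hM]; simp [hm]
          refine ⟨?_, fun e => h333 (e ▸ hmρ), fun e => by have := ha m (hin m hmρ) e.1; omega⟩
          by_contra hm2
          have hne : l' % 4 ≠ m % 4 := hpair l' m (l ::ₘ M) (by rw [hK, hM, Multiset.cons_swap]) (by simp [hm]) he'
          have hne2 : l % 4 ≠ m % 4 := hpair l m K hK (by rw [hM]; simp [hm]) he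
          omega
        omega
      · push Not at hev
        have := no_three_parity ρ.cycleType fun m hm => ⟨by have := hev m hm; omega, fun e => h333 (e ▸ hm),
          fun e => by
            have := ha m (by rw [hct, hct']; simp [hm]) e.1
            omega⟩
        omega
  · by_cases hodd : ∃ l ∈ τ.cycleType, l % 2 = 1
    · obtain ⟨l, hl, hl2⟩ := hodd
      have hl4 : l % 4 = 1 ∧ 5 ≤ l := by
        have := ha l (by rw [hct]; simp [hl])
        have hne : l ≠ 3 := fun e => h33 (e ▸ hl)
        have := Perm.two_le_of_mem_cycleType hl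
        omega
      obtain ⟨L', ρ, hnd', hlen', rfl, hct', hd', hsupp'⟩ := pick hl
      obtain ⟨i, hi, hF⟩ := spec_three_odd (α := α) l hl4.1 hl4.2
      rw [hsupp', Finset.disjoint_union_right] at hd
      have hLL : ∀ x ∈ L', ∀ y ∈ L, x ≠ y := fun x hx y hy e =>
        Finset.disjoint_left.mp hd.1 (List.mem_toFinset.mpr hy) (List.mem_toFinset.mpr (e ▸ hx))
      have hb := hF L' [] L hlen' rfl hlen (by
        simp only [List.append_nil, List.nodup_append]; exact ⟨hnd', hnd, hLL⟩)
      simp only [List.append_nil, List.formPerm_nil, mul_one, List.toFinset_append] at hb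
      rw [hct', W_cons_odd _ hl2] at hW
      rw [hct', Multiset.countP_cons, if_neg (by rw [Nat.even_iff]; omega)] at hc
      have hcm : L.formPerm * L'.formPerm = L'.formPerm * L.formPerm :=
        (Sup.commute (sup_formPerm (S := L.toFinset) fun x hx => List.mem_toFinset.mpr hx)
          (sup_formPerm (S := L'.toFinset) fun x hx => List.mem_toFinset.mpr hx) hd.1).eq
      rw [← mul_assoc, hcm]
      exact assemble hi hb (Finset.disjoint_union_left.mpr ⟨hd', hd.2⟩) (sign_of_even_count (by omega)) (by omega)
    · push Not at hodd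
      by_cases hτ : τ.cycleType = 0
      · have hτ1 : τ = 1 := Perm.cycleType_eq_zero.mp hτ
        subst hτ1
        have hcard : 2 ≤ (L.toFinsetᶜ).card := by
          rw [Finset.card_compl, List.toFinset_card_of_nodup hnd, hlen]; omega
        obtain ⟨q, hq, r, hr, hqr⟩ := Finset.one_lt_card.mp hcard
        rw [Finset.mem_compl, List.mem_toFinset] at hq hr
        have hb := base311 (α := α) L [q] [r] hlen rfl rfl (by
          simp only [List.nodup_append, List.nodup_cons, List.mem_append, List.mem_cons, List.not_mem_nil,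
            not_false_eq_true, List.nodup_nil, and_self, or_false]
          refine ⟨⟨hnd, trivial, ?_⟩, trivial, ?_⟩
          · intro x hx y hy e; exact hq (hy ▸ e ▸ hx)
          · intro x hx y hy e; rcases hx with hx | hx
            · exact hr (hy ▸ e ▸ hx)
            · exact hqr (hx ▸ e ▸ hy))
        simp only [List.formPerm_singleton, mul_one] at hb
        exact assemble le_rfl hb (by simp) (map_one _) (by simp [W])
      · obtain ⟨l, hl⟩ := Multiset.exists_mem_of_ne_zero hτ
        have he : l % 2 = 0 := by have := hodd l hl; omega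
        obtain ⟨L', ρ, hnd', hlen', rfl, hct', hd', hsupp'⟩ := pick hl
        rw [hct', Multiset.countP_cons, if_pos (Nat.even_iff.mpr he)] at hc
        obtain ⟨l', hl', he'⟩ := Multiset.countP_pos.mp (show 0 < ρ.cycleType.countP Even by omega)
        rw [Nat.even_iff] at he'
        obtain ⟨L'', π, hnd'', hlen'', rfl, hct'', hd'', hsupp''⟩ := pick hl'
        have h4 : l % 4 ≠ l' % 4 := hb4 l (by rw [hct, hct']; simp) l'
          (by rw [hct, hct', Multiset.cons_swap, Multiset.erase_cons_head]; simp [hl']) he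
        rw [hsupp', hsupp'', Finset.disjoint_union_right, Finset.disjoint_union_right] at hd
        rw [hsupp'', Finset.disjoint_union_right] at hd'
        rw [hct'', Multiset.countP_cons, if_pos (Nat.even_iff.mpr he')] at hc
        rw [hct', hct'', W_cons_even _ he he'] at hW
        have s1 := sup_formPerm (S := L.toFinset) (l := L) fun x hx => List.mem_toFinset.mpr hx
        have s2 := sup_formPerm (S := L'.toFinset) (l := L') fun x hx => List.mem_toFinset.mpr hx
        have s3 := sup_formPerm (S := L''.toFinset) (l := L'') fun x hx => List.mem_toFinset.mpr hx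
        have c12 := s1.commute s2 hd.1
        have c13 := s1.commute s3 hd.2.1
        have c23 := s2.commute s3 hd'.1
        have hlt := Perm.two_le_of_mem_cycleType hl
        have hlt' := Perm.two_le_of_mem_cycleType hl'
        have key : ∀ (A B : List α) (a b : ℕ), A.length = a → B.length = b → a % 4 = 2 → b % 4 = 0 → 2 ≤ b →
            A.Nodup → B.Nodup → _root_.Disjoint A.toFinset B.toFinset → _root_.Disjoint L.toFinset A.toFinset →
            _root_.Disjoint L.toFinset B.toFinset →
            ∃ i, 2 ≤ i ∧ Good (A ++ B ++ L).toFinset (A.formPerm * B.formPerm * L.formPerm) 1 i ∅ ∅ := by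
          intro A B a b eA eB h2 h0 hb2 nA nB dAB dLA dLB
          obtain ⟨i, hi, hF⟩ := spec_three_even (α := α) a b h2 h0 hb2
          refine ⟨i, hi, hF A B L eA eB hlen ?_⟩
          simp only [List.nodup_append, List.mem_append]
          refine ⟨⟨nA, nB, fun x hx y hy e => Finset.disjoint_left.mp dAB (List.mem_toFinset.mpr hx)
            (List.mem_toFinset.mpr (e ▸ hy))⟩, hnd, fun x hx y hy e => ?_⟩
          rcases hx with hx | hx
          · exact Finset.disjoint_left.mp dLA (List.mem_toFinset.mpr hy) (List.mem_toFinset.mpr (e ▸ hx))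
          · exact Finset.disjoint_left.mp dLB (List.mem_toFinset.mpr hy) (List.mem_toFinset.mpr (e ▸ hx))
        by_cases h2 : l % 4 = 2
        · obtain ⟨i, hi, hb⟩ := key L' L'' l l' hlen' hlen'' h2 (by omega) hlt' hnd' hnd'' hd'.1 hd.1 hd.2.1
          have e : L.formPerm * (L'.formPerm * (L''.formPerm * π)) = L'.formPerm * L''.formPerm * L.formPerm * π := by
            rw [← (c12.mul_right c13).eq]; simp only [mul_assoc]
          rw [e]
          rw [List.toFinset_append, List.toFinset_append] at hb
          exact assemble hi hb (Finset.disjoint_union_left.mpr ⟨Finset.disjoint_union_left.mpr ⟨hd'.2, hd''⟩, hd.2.2⟩)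
            (sign_of_even_count (by omega)) (by omega)
        · obtain ⟨i, hi, hb⟩ := key L'' L' l' l hlen'' hlen' (by omega) (by omega) hlt hnd'' hnd' hd'.1.symm hd.2.1 hd.1
          have e : L.formPerm * (L'.formPerm * (L''.formPerm * π)) = L''.formPerm * L'.formPerm * L.formPerm * π := by
            rw [← c23.eq, ← (c12.mul_right c13).eq]; simp only [mul_assoc]
          rw [e]
          rw [List.toFinset_append, List.toFinset_append] at hb
          exact assemble hi hb (Finset.disjoint_union_left.mpr ⟨Finset.disjoint_union_left.mpr ⟨hd'', hd'.2⟩, hd.2.2⟩)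
            (sign_of_even_count (by omega)) (by omega)

/-- Final form. -/
theorem exists_flexible (hα : 5 ≤ Fintype.card α) (σ : Perm α) (hσ : Perm.sign σ = 1) :
    ∃ (a g : Perm α) (p q r s : α), Perm.sign a = 1 ∧ Perm.sign g = 1 ∧ ⁅a, g⁆ = σ ∧
      [p, q, r, s].Nodup ∧ a p = q ∧ a q = p ∧ a r = s ∧ a s = r := by
  obtain ⟨T, a, g, -, -, h1, h2, h3, -, -⟩ := exists_good hα σ hσ
  obtain ⟨p, hp⟩ : (two a).Nonempty := Finset.card_pos.mp (by omega)
  rw [mem_two] at hp
  obtain ⟨r, hr, hrne⟩ : ∃ r ∈ two a, r ∉ ({p, a p} : Finset α) := by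
    by_contra hn
    push Not at hn
    have := Finset.card_le_card hn
    have := Finset.card_le_two (a := p) (b := a p)
    omega
  rw [mem_two] at hr
  simp only [Finset.mem_insert, Finset.mem_singleton, not_or] at hrne
  have hnd : [p, a p, r, a r].Nodup := by
    have n1 : a r ≠ p := fun e => hrne.2 (by rw [← e, hr.2])
    have n2 : a r ≠ a p := fun e => hrne.1 (a.injective e)
    simp only [List.nodup_cons, List.mem_cons, List.not_mem_nil, or_false, not_or, not_false_eq_true,
      List.nodup_nil, and_true]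
    exact ⟨⟨fun e => hp.1 e.symm, fun e => hrne.1 e.symm, fun e => n1 e.symm⟩,
      ⟨fun e => hrne.2 e.symm, fun e => n2 e.symm⟩, fun e => hr.1 e.symm⟩
  rcases Int.units_eq_one_or (Perm.sign g) with hg | hg
  · exact ⟨a, g, p, a p, r, a r, h2, hg, h1, hnd, rfl, hp.2, rfl, hr.2⟩
  · refine ⟨a, g * swap p (a p), p, a p, r, a r, h2, ?_, ?_, hnd, rfl, hp.2, rfl, hr.2⟩
    · rw [map_mul, hg, Perm.sign_swap (fun e => hp.1 e.symm)]; decide
    · have hc : swap p (a p) * a⁻¹ * (swap p (a p))⁻¹ = a⁻¹ := by
        have hsw : a * swap p (a p) = swap p (a p) * a := by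
          rw [Equiv.mul_swap_eq_swap_mul, hp.2, swap_comm]
        have : swap p (a p) * a⁻¹ = a⁻¹ * swap p (a p) := by
          rw [eq_inv_mul_iff_mul_eq, ← mul_assoc, hsw, mul_inv_cancel_right]
        rw [this, mul_inv_cancel_right]
      rw [← h1, commutatorElement_def, commutatorElement_def, mul_inv_rev]
      calc a * (g * swap p (a p)) * a⁻¹ * ((swap p (a p))⁻¹ * g⁻¹)
          = a * g * (swap p (a p) * a⁻¹ * (swap p (a p))⁻¹) * g⁻¹ := by group
        _ = a * g * a⁻¹ * g⁻¹ := by rw [hc]

end H60.OreC
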