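import Mathlib

/-!
Products of sparse 78 × 78 matrices modulo thirteen with dense ones packed into one natural number,
in fields of 32 bits, reduced all at once.
-/

set_option autoImplicit false
set_option maxRecDepth 100000
set_option maxHeartbeats 200000

namespace H60.PackMat

/-- The number with the given first `n` digits to base `2 ^ 32`. -/
def pk : ℕ → (ℕ → ℕ) → ℕ
  | 0, _ => 0
  | n + 1, f => f 0 + 2 ^ 32 * pk n fun k => f (k + 1)

theorem pk_congr : ∀ (n : ℕ) {f g : ℕ → ℕ}, (∀ k < n, f k = g k) → pk n f = pk n g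
  | 0, _, _, _ => rfl
  | n + 1, _, _, h => by
    rw [pk, pk, h 0 (by omega), pk_congr n fun k hk => h (k + 1) (by omega)]

theorem pk_lt : ∀ (n : ℕ) {f : ℕ → ℕ}, (∀ k < n, f k < 2 ^ 32) → pk n f < 2 ^ (32 * n)
  | 0, _, _ => by rw [pk]; exact Nat.two_pow_pos _
  | n + 1, f, h => by
    have h1 := pk_lt n (f := fun k => f (k + 1)) fun k hk => h (k + 1) (by omega)
    have h0 := h 0 (by omega)
    rw [pk, Nat.mul_add, mul_one, add_comm (32 * n), pow_add]
    calc f 0 + 2 ^ 32 * pk n (fun k => f (k + 1))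
        < 2 ^ 32 * (pk n (fun k => f (k + 1)) + 1) := by rw [Nat.mul_add]; omega
      _ ≤ 2 ^ 32 * 2 ^ (32 * n) := Nat.mul_le_mul_left _ h1

theorem pk_append : ∀ (a b : ℕ) (f : ℕ → ℕ),
    pk (a + b) f = pk a f + 2 ^ (32 * a) * pk b fun k => f (a + k)
  | 0, b, f => by simp [pk]
  | a + 1, b, f => by
    rw [Nat.add_right_comm, pk, pk, pk_append a b, show 32 * (a + 1) = 32 + 32 * a by ring, pow_add, Nat.mul_add,
      pk_congr b (f := fun k => f (a + k + 1)) (g := fun k => f (a + 1 + k))
        fun k _ => by rw [Nat.add_right_comm]]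
    ring

theorem pk_add : ∀ (n : ℕ) (f g : ℕ → ℕ), pk n (fun k => f k + g k) = pk n f + pk n g
  | 0, _, _ => rfl
  | n + 1, f, g => by rw [pk, pk, pk, pk_add n]; ring

theorem pk_mul : ∀ (n c : ℕ) (f : ℕ → ℕ), pk n (fun k => c * f k) = c * pk n f
  | 0, _, _ => rfl
  | n + 1, c, f => by rw [pk, pk, pk_mul n]; ring

theorem pk_zero : ∀ n : ℕ, pk n (fun _ => 0) = 0
  | 0 => rfl
  | n + 1 => by rw [pk, pk_zero n, mul_zero, zero_add]

theorem pk_inj : ∀ (n : ℕ) {f g : ℕ → ℕ}, (∀ k < n, f k < 2 ^ 32) → (∀ k < n, g k < 2 ^ 32) →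
    pk n f = pk n g → ∀ k < n, f k = g k
  | 0, _, _, _, _, _ => fun k hk => absurd hk (by omega)
  | n + 1, f, g, hf, hg, h => by
    have h0 := hf 0 (by omega)
    have h0' := hg 0 (by omega)
    rw [pk, pk] at h
    have e0 : f 0 = g 0 := by
      omega
    have e1 := pk_inj n (f := fun k => f (k + 1)) (g := fun k => g (k + 1))
      (fun k hk => hf (k + 1) (by omega)) (fun k hk => hg (k + 1) (by omega))
      (Nat.eq_of_mul_eq_mul_left (Nat.two_pow_pos 32) (by omega))
    intro k hk
    match k with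
    | 0 => exact e0
    | k + 1 => exact e1 k (by omega)

theorem pk_sub (n : ℕ) {f g : ℕ → ℕ} (h : ∀ k < n, g k ≤ f k) :
    pk n f - pk n g = pk n fun k => f k - g k := by
  rw [← pk_congr n (f := fun k => g k + (f k - g k)) (g := f)
    (fun k hk => Nat.add_sub_cancel' (h k hk)), pk_add, Nat.add_sub_cancel_left]

/-- All `n` digits equal to `m`. -/
def rep (n m : ℕ) : ℕ := m * ((2 ^ (32 * n) - 1) / (2 ^ 32 - 1))

theorem rep_eq (n m : ℕ) : rep n m = pk n fun _ => m := by
  have h : ∀ n, pk n (fun _ => 1) * (2 ^ 32 - 1) + 1 = 2 ^ (32 * n) := by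
    intro n
    induction n with
    | zero => rfl
    | succ n ih =>
      rw [pk, Nat.mul_add 32, mul_one, pow_add, ← ih]
      ring_nf
  rw [rep, ← h n, Nat.add_sub_cancel, Nat.mul_div_cancel _ (by norm_num), ← pk_mul]
  simp

theorem pk_shift_and {s m : ℕ} (hs : s ≤ 32) (hm : m < 2 ^ (32 - s)) :
    ∀ (n : ℕ) {d : ℕ → ℕ}, (∀ k < n, d k < 2 ^ 32) →
      (pk n d >>> s) &&& pk n (fun _ => m) = pk n fun k => (d k / 2 ^ s) &&& m
  | 0, _, _ => by simp [pk]
  | n + 1, d, hd => by
    have ih := pk_shift_and hs hm n (d := fun k => d (k + 1)) fun k hk => hd (k + 1) (by omega)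
    have hd0 := hd 0 (by omega)
    rw [Nat.shiftRight_eq_div_pow] at ih ⊢
    rw [pk, pk, pk]
    set a := d 0
    set b := pk n fun k => d (k + 1)
    set M := pk n fun _ => m
    rw [← ih]
    have e32 : (2 : ℕ) ^ 32 = 2 ^ s * 2 ^ (32 - s) := by rw [← pow_add]; congr 1; omega
    have hlt : a / 2 ^ s < 2 ^ (32 - s) :=
      Nat.div_lt_of_lt_mul (by rw [← e32]; exact hd0)
    have hm32 : m < 2 ^ 32 := lt_of_lt_of_le hm (Nat.pow_le_pow_right (by norm_num) (by omega))
    set u := (a + 2 ^ 32 * b) / 2 ^ s with hu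
    set v := m + 2 ^ 32 * M with hv
    have hu' : u = a / 2 ^ s + 2 ^ (32 - s) * b := by
      rw [hu, e32, mul_assoc, Nat.add_mul_div_left _ _ (Nat.two_pow_pos s)]
    have hlow : u % 2 ^ 32 % 2 ^ (32 - s) = a / 2 ^ s := by
      rw [Nat.mod_mod_of_dvd _ (Nat.pow_dvd_pow 2 (by omega)), hu', Nat.add_mul_mod_self_left,
        Nat.mod_eq_of_lt hlt]
    have hhigh : u / 2 ^ 32 = b / 2 ^ s := by
      rw [hu, Nat.div_div_eq_div_mul, mul_comm (2 ^ s) (2 ^ 32), ← Nat.div_div_eq_div_mul,
        Nat.add_mul_div_left _ _ (Nat.two_pow_pos 32), Nat.div_eq_of_lt hd0, zero_add]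
    have hand : ∀ x, x &&& m = (x % 2 ^ (32 - s)) &&& m := fun x => by
      rw [← Nat.mod_eq_of_lt (lt_of_le_of_lt (Nat.and_le_right : x &&& m ≤ m) hm),
        Nat.and_mod_two_pow, Nat.mod_eq_of_lt hm]
    conv_lhs => rw [← Nat.mod_add_div (u &&& v) (2 ^ 32)]
    rw [Nat.and_mod_two_pow, Nat.and_div_two_pow, hhigh, hv, Nat.add_mul_mod_self_left,
      Nat.add_mul_div_left _ _ (Nat.two_pow_pos 32), Nat.mod_eq_of_lt hm32, Nat.div_eq_of_lt hm32,
      zero_add, hand, hlow]

/-- The `j`-th row. -/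
def row (Y j : ℕ) : ℕ := (Y >>> (2496 * j)) % 2 ^ 2496

/-- A combination of rows. -/
def rowC (Y : ℕ) (es : List (ℕ × ℕ)) : ℕ := es.foldr (fun e s => e.2 * row Y e.1 + s) 0

/-- Rows into a matrix. -/
def asm (l : List ℕ) : ℕ := l.foldr (fun r a => r + (a <<< 2496)) 0

/-- Reduction of every field to below twenty-six. -/
def red (Y : ℕ) : ℕ := Y - 13 * (((5041 * Y) >>> 16) &&& rep 6084 65535)

/-- Reduction of fields below twenty-six to below thirteen. -/
def can (Y : ℕ) : ℕ := Y - 13 * (((Y + rep 6084 19) >>> 5) &&& rep 6084 1)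

/-- Multiplication by a sparse matrix on the left. -/
def step (S : List (List (ℕ × ℕ))) (Y : ℕ) : ℕ := red (asm (S.map (rowC Y)))

/-- The identity matrix. -/
def idP : ℕ := asm ((List.range 78).map fun i => 1 <<< (32 * i))

/-- The tables are in range. -/
def rowsOK (S : List (List (ℕ × ℕ))) : Bool :=
  S.length == 78 && S.all fun es =>
    decide (es.length ≤ 100) && es.all fun e => decide (e.1 < 78) && decide (e.2 < 13)

abbrev Mat : Type := Matrix (Fin 78) (Fin 78) (ZMod 13)

/-- The matrix of a table. -/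
def toM (S : List (List (ℕ × ℕ))) : Mat := Matrix.of fun i j =>
  ((S.getD i.val []).map fun e => if e.1 = j.val then (e.2 : ZMod 13) else 0).sum

/-- The packed number stands for the matrix. -/
def Rep (Y : ℕ) (M : Mat) : Prop :=
  ∃ f : ℕ → ℕ, (∀ k, f k < 26) ∧ Y = pk 6084 f ∧
    ∀ i j : Fin 78, (f (78 * i.val + j.val) : ZMod 13) = M i j

attribute [local irreducible] pk rep

theorem pk_row {f : ℕ → ℕ} (hf : ∀ k, f k < 26) {j : ℕ} (hj : j < 78) :
    row (pk 6084 f) j = pk 78 fun k => f (78 * j + k) := by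
  have e : 6084 = 78 * j + (78 + (6084 - 78 * j - 78)) := by omega
  rw [row, Nat.shiftRight_eq_div_pow, e, pk_append, pk_append, show 2496 * j = 32 * (78 * j) by omega,
    Nat.add_mul_div_left _ _ (Nat.two_pow_pos _),
    Nat.div_eq_of_lt (pk_lt _ fun k _ => (hf k).trans (by norm_num)), zero_add,
    show (2496 : ℕ) = 32 * 78 from rfl, Nat.add_mul_mod_self_left,
    Nat.mod_eq_of_lt (pk_lt _ fun k _ => (hf _).trans (by norm_num))]

theorem rowC_eq {f : ℕ → ℕ} (hf : ∀ k, f k < 26) :
    ∀ es : List (ℕ × ℕ), (∀ e ∈ es, e.1 < 78) →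
      rowC (pk 6084 f) es = pk 78 fun k => (es.map fun e => e.2 * f (78 * e.1 + k)).sum := by
  intro es
  induction es with
  | nil => intro _; simp [rowC, pk_zero]
  | cons e es ih =>
    intro h
    have e' : rowC (pk 6084 f) (e :: es) =
        e.2 * row (pk 6084 f) e.1 + rowC (pk 6084 f) es := rfl
    rw [e', ih fun x hx => h x (List.mem_cons_of_mem _ hx), pk_row hf (h e List.mem_cons_self),
      ← pk_mul, ← pk_add]
    simp

theorem asm_eq : ∀ (m : ℕ) (g : ℕ → ℕ → ℕ),
    asm ((List.range m).map fun i => pk 78 (g i)) = pk (78 * m) fun k => g (k / 78) (k % 78) := by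
  intro m
  induction m with
  | zero => intro g; simp [asm, pk]
  | succ m ih =>
    intro g
    have e : asm ((List.range (m + 1)).map fun i => pk 78 (g i)) =
        pk 78 (g 0) + (asm ((List.range m).map fun i => pk 78 (g (i + 1))) <<< 2496) := by
      rw [List.range_succ_eq_map, List.map_cons, List.map_map]; rfl
    rw [e, ih fun i => g (i + 1), Nat.shiftLeft_eq, show 78 * (m + 1) = 78 + 78 * m by ring,
      pk_append, show (2496 : ℕ) = 32 * 78 from rfl, mul_comm (pk (78 * m) _),
      pk_congr 78 (f := g 0) (g := fun k => g (k / 78) (k % 78)) fun k hk => by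
        rw [Nat.div_eq_of_lt hk, Nat.mod_eq_of_lt hk]]
    congr 1
    congr 1
    exact pk_congr _ fun k _ => by
      rw [Nat.add_div_left _ (by norm_num), Nat.add_mod_left]

theorem red_eq {f : ℕ → ℕ} (hf : ∀ k, f k ≤ 31200) :
    red (pk 6084 f) = pk 6084 fun k => f k - 13 * (5041 * f k / 65536) := by
  have hq : ∀ k, (5041 * f k / 2 ^ 16) &&& 65535 = 5041 * f k / 65536 := fun k => by
    have := hf k
    rw [show (65535 : ℕ) = 2 ^ 16 - 1 from rfl, Nat.and_two_pow_sub_one_eq_mod,
      show (2 : ℕ) ^ 16 = 65536 from rfl]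
    omega
  rw [red, rep_eq, ← pk_mul 6084 5041,
    pk_shift_and (by norm_num) (by norm_num) _ fun k _ => by have := hf k; omega, ← pk_mul,
    pk_sub _ fun k _ => by rw [hq]; have := hf k; omega]
  exact pk_congr _ fun k _ => by rw [hq]

theorem sum_rowC {n : ℕ} {R : Type*} [CommSemiring R] (f : ℕ → ℕ) (M : Matrix (Fin n) (Fin n) R)
    (hM : ∀ i j : Fin n, (f (n * i.val + j.val) : R) = M i j) (j : Fin n) :
    ∀ es : List (ℕ × ℕ), (∀ e ∈ es, e.1 < n) →
      (((es.map fun e => e.2 * f (n * e.1 + j.val)).sum : ℕ) : R) =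
        ∑ l : Fin n, (es.map fun e => if e.1 = l.val then (e.2 : R) else 0).sum * M l j := by
  intro es
  induction es with
  | nil => simp
  | cons e es ih =>
    intro he
    obtain ⟨x, hx⟩ : ∃ x : Fin n, x.val = e.1 := ⟨⟨e.1, he e List.mem_cons_self⟩, rfl⟩
    simp only [List.map_cons, List.sum_cons, Nat.cast_add, Nat.cast_mul, add_mul,
      Finset.sum_add_distrib]
    rw [ih fun y hy => he y (List.mem_cons_of_mem _ hy), ← hx, hM x j]
    congr 1
    rw [Finset.sum_eq_single x (fun y _ hy => by rw [if_neg fun h => hy (Fin.ext h.symm), zero_mul])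
      (fun h => absurd (Finset.mem_univ x) h), if_pos rfl]

theorem thirteen_mul_le {a : ℕ} (h : a ≤ 31200) : 13 * (5041 * a / 65536) ≤ a := by omega

theorem thirteen_sub_lt {a : ℕ} (h : a ≤ 31200) : a - 13 * (5041 * a / 65536) < 26 := by omega

theorem step_rep {S : List (List (ℕ × ℕ))} (hS : rowsOK S = true) {Y : ℕ} {M : Mat}
    (h : Rep Y M) : Rep (step S Y) (toM S * M) := by
  obtain ⟨f, hf, rfl, hM⟩ := h
  simp only [rowsOK, Bool.and_eq_true, beq_iff_eq, List.all_eq_true, decide_eq_true_eq] at hS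
  obtain ⟨hlen, hrow⟩ := hS
  have hgd : ∀ i, ((S.getD i []).length ≤ 100) ∧ ∀ e ∈ S.getD i [], e.1 < 78 ∧ e.2 < 13 := by
    intro i
    by_cases hi : i < S.length
    · rw [List.getD_eq_getElem _ _ hi]
      exact hrow _ (List.getElem_mem hi)
    · rw [List.getD_eq_default _ _ (Nat.le_of_not_lt hi)]
      simp
  let g : ℕ → ℕ → ℕ := fun i k => ((S.getD i []).map fun e => e.2 * f (78 * e.1 + k)).sum
  have hg : ∀ i k, g i k ≤ 31200 := by
    intro i k
    have h1 : ∀ es : List (ℕ × ℕ), (∀ e ∈ es, e.2 < 13) →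
        (es.map fun e => e.2 * f (78 * e.1 + k)).sum ≤ 312 * es.length := by
      intro es
      induction es with
      | nil => simp
      | cons e es ih =>
        intro he
        have h2 : e.2 * f (78 * e.1 + k) ≤ 12 * 26 :=
          Nat.mul_le_mul (by have := he e List.mem_cons_self; omega) (hf _).le
        have h3 := ih fun x hx => he x (List.mem_cons_of_mem _ hx)
        simp only [List.map_cons, List.sum_cons, List.length_cons]
        omega
    have := h1 _ fun e he => ((hgd i).2 e he).2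
    have := (hgd i).1
    show ((S.getD i []).map fun e => e.2 * f (78 * e.1 + k)).sum ≤ 31200
    omega
  have hmap : S.map (rowC (pk 6084 f)) = (List.range 78).map fun i => pk 78 (g i) := by
    refine List.ext_getElem (by simp [hlen]) fun i hi hi' => ?_
    simp only [List.getElem_map, List.getElem_range, g]
    have hi2 : i < S.length := by simpa using hi
    rw [List.getD_eq_getElem _ _ hi2]
    exact rowC_eq hf _ fun e he => (hrow _ (List.getElem_mem hi2) |>.2 e he).1
  let F : ℕ → ℕ := fun k => g (k / 78) (k % 78) - 13 * (5041 * g (k / 78) (k % 78) / 65536)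
  refine ⟨F, fun k => ?_, ?_, fun i j => ?_⟩
  · exact thirteen_sub_lt (hg (k / 78) (k % 78))
  · rw [step, hmap, asm_eq]
    exact red_eq fun k => hg _ _
  · have hkey : g i.val j.val = F (78 * i.val + j.val) + 13 * (5041 * g i.val j.val / 65536) := by
      have := hg i.val j.val
      show _ = g ((78 * i.val + j.val) / 78) ((78 * i.val + j.val) % 78) -
        13 * (5041 * g ((78 * i.val + j.val) / 78) ((78 * i.val + j.val) % 78) / 65536) + _
      rw [show (78 * i.val + j.val) / 78 = i.val by omega,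
        show (78 * i.val + j.val) % 78 = j.val by omega]
      exact (Nat.sub_add_cancel (thirteen_mul_le this)).symm
    have hz : (F (78 * i.val + j.val) : ZMod 13) = (g i.val j.val : ZMod 13) := by
      rw [hkey, Nat.cast_add, Nat.cast_mul, show ((13 : ℕ) : ZMod 13) = 0 from ZMod.natCast_self 13,
        zero_mul, add_zero]
    rw [hz, Matrix.mul_apply]
    exact sum_rowC f M hM j _ fun e he => ((hgd i.val).2 e he).1

theorem idP_rep : Rep idP 1 := by
  have hu : ∀ (n i : ℕ), i < n → pk n (fun k => if k = i then 1 else 0) = 1 <<< (32 * i) := by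
    intro n
    induction n with
    | zero => intro i hi; omega
    | succ n ih =>
      intro i hi
      match i with
      | 0 =>
        rw [pk, pk_congr n (g := fun _ => 0) fun k _ => if_neg (by omega), pk_zero, if_pos rfl]
        simp
      | i + 1 =>
        rw [pk, if_neg (by omega),
          pk_congr n (g := fun k => if k = i then 1 else 0) fun k _ => by simp [Nat.add_right_cancel_iff],
          ih i (by omega), Nat.shiftLeft_eq, Nat.shiftLeft_eq, Nat.mul_add, mul_one (32 : ℕ),
          pow_add, one_mul, one_mul, zero_add]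
        exact mul_comm _ _
  refine ⟨fun k => if k % 78 = k / 78 then 1 else 0, fun k => by dsimp only; split <;> norm_num, ?_,
    fun i j => ?_⟩
  · have e : (List.range 78).map (fun i => 1 <<< (32 * i)) =
        (List.range 78).map fun i => pk 78 fun k => if k = i then 1 else 0 :=
      List.map_congr_left fun i hi => (hu 78 i (List.mem_range.1 hi)).symm
    rw [idP, e, asm_eq]
  · dsimp only
    rw [show (78 * i.val + j.val) / 78 = i.val by omega,
      show (78 * i.val + j.val) % 78 = j.val by omega, Matrix.one_apply]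
    by_cases h : i = j
    · subst h; simp
    · rw [if_neg h, if_neg (fun e => h (Fin.ext e.symm)), Nat.cast_zero]

theorem eq_one_of_can {Y : ℕ} {M : Mat} (h : Rep Y M) (he : can Y = idP) : M = 1 := by
  obtain ⟨f, hf, rfl, hM⟩ := h
  obtain ⟨g, hg, hgY, hg1⟩ := idP_rep
  let t : ℕ → ℕ := fun k => ((f k + 19) / 2 ^ 5) &&& 1
  have ht : ∀ k, 13 * t k ≤ f k := fun k => by
    have := hf k
    show 13 * (((f k + 19) / 2 ^ 5) &&& 1) ≤ f k
    rw [Nat.and_one_is_mod]
    omega
  have hc : can (pk 6084 f) = pk 6084 fun k => f k - 13 * t k := by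
    rw [can, rep_eq, rep_eq, ← pk_add,
      pk_shift_and (by norm_num) (by norm_num) _ (fun k _ => by have := hf k; omega), ← pk_mul,
      pk_sub _ fun k _ => ht k]
  rw [hc, hgY] at he
  have hd := pk_inj 6084 (fun k _ => by have := hf k; omega) (fun k _ => by have := hg k; omega) he
  funext i j
  have hk := hd (78 * i.val + j.val) (by omega)
  rw [← hM i j, ← hg1 i j, ← hk, Nat.cast_sub (ht _), Nat.cast_mul,
    show ((13 : ℕ) : ZMod 13) = 0 from ZMod.natCast_self 13, zero_mul, sub_zero]

end H60.PackMat
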