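import Mathlib
import Cfsg.Agent.H60.LargePPD

/-! The primitive part of `q^n - 1` is at least `3n+1` outside thirteen pairs. -/

set_option autoImplicit false
set_option linter.style.haveILetI false

open Polynomial Finset

namespace H60.PrimitivePart

open H60.LargePPD

/-- The exceptional pairs. -/
def excl : List (ℕ × ℕ) :=
  [(2, 6), (2, 4), (2, 10), (2, 12), (2, 18), (3, 4), (3, 6), (5, 6), (2, 3), (2, 8), (2, 20),
    (4, 3), (4, 6)]

/-- A primitive divisor at least `3n+1`. -/
def Big (q n : ℕ) : Prop :=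
  ∃ m : ℕ, m ∣ q ^ n - 1 ∧ (∀ i : ℕ, 1 ≤ i → i < n → Nat.Coprime m (q ^ i - 1)) ∧ 3 * n + 1 ≤ m

/-- Check a witness. -/
def wit (q n m : ℕ) : Bool :=
  decide ((q ^ n - 1) % m = 0) && decide (3 * n + 1 ≤ m) &&
    (List.range n).all fun i => i == 0 || Nat.gcd m (q ^ i - 1) == 1

theorem big_of_wit {q n m : ℕ} (h : wit q n m = true) : Big q n := by
  simp only [wit, Bool.and_eq_true, decide_eq_true_eq, List.all_eq_true, List.mem_range,
    Bool.or_eq_true, beq_iff_eq] at h
  exact ⟨m, Nat.dvd_of_mod_eq_zero h.1.1,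
    fun i h1 h2 => (h.2 i h2).resolve_left (by omega), h.1.2⟩

theorem mul_le_pow_five {A B j : ℕ} (hA : 1 ≤ A) (hB : B * 5 ≤ 2 ^ (5 * A)) (hj : 5 ≤ j) :
    B * j ≤ 2 ^ (A * j) := by
  induction j, hj using Nat.le_induction with
  | base => rwa [mul_comm A 5]
  | succ i hi ih =>
    rw [mul_add_one A, pow_add]
    have h2 : 2 ≤ 2 ^ A := Nat.le_self_pow (by omega) 2
    nlinarith [Nat.mul_le_mul_left B hi]

theorem grow_nine : ∀ j : ℕ, 8 ≤ j → 9 * j ≤ 2 ^ j := fun j h => by
  induction j, h using Nat.le_induction with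
  | base => norm_num
  | succ i hi ih => rw [pow_succ]; omega

theorem grow_double : ∀ j : ℕ, 3 ≤ j → 2 * j + 1 ≤ 2 ^ j := fun j h => by
  induction j, h using Nat.le_induction with
  | base => norm_num
  | succ i hi ih => rw [pow_succ]; omega

theorem grow_five : ∀ s : ℕ, 11 ≤ s → 5 * (s + 2) ^ 2 ≤ 2 ^ s := fun s h => by
  induction s, h using Nat.le_induction with
  | base => norm_num
  | succ i hi ih => rw [pow_succ 2 i]; nlinarith

theorem grow_five_two : ∀ s : ℕ, 5 ≤ s → 20 * (s + 2) ^ 2 ≤ 2 ^ (s * 2) := fun s h => by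
  induction s, h using Nat.le_induction with
  | base => norm_num
  | succ i hi ih => rw [add_mul, pow_add]; norm_num; nlinarith

theorem grow_five_even : ∀ f : ℕ, 4 ≤ f → 125 * f ^ 2 ≤ 2 ^ (3 * f) := fun f h => by
  induction f, h using Nat.le_induction with
  | base => norm_num
  | succ i hi ih => rw [mul_add_one, pow_add]; nlinarith

theorem grow_five_gen : ∀ s f : ℕ, 5 ≤ s → 2 ≤ f → 5 * f ^ 2 * (s + 2) ^ 2 ≤ 2 ^ (s * f) :=
  fun s f hs hf => by
  induction f, hf using Nat.le_induction with
  | base => have := grow_five_two s hs; linarith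
  | succ i hi ih =>
    rw [mul_add_one, pow_add]
    have h32 : 32 ≤ 2 ^ s := le_trans (by norm_num) (Nat.pow_le_pow_right two_pos hs)
    have : (i + 1) ^ 2 ≤ 32 * i ^ 2 := by nlinarith
    calc 5 * (i + 1) ^ 2 * (s + 2) ^ 2 ≤ 5 * (32 * i ^ 2) * (s + 2) ^ 2 := by gcongr
      _ = 5 * i ^ 2 * (s + 2) ^ 2 * 32 := by ring
      _ ≤ 2 ^ (s * i) * 2 ^ s := Nat.mul_le_mul ih h32

/-- Without a big primitive divisor, `Φ_n(q)` divides `P·c` with `c ≤ 2n+1`. -/
theorem dvd_small {q n P : ℕ} (hq : 2 ≤ q) (hn : 3 ≤ n) (hP : P.Prime) (hPn : P ∣ n)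
    (hPmax : ∀ l : ℕ, l.Prime → l ∣ n → l ≤ P) (hcon : ¬ Big q n) :
    ∃ c, 1 ≤ c ∧ c ≤ 2 * n + 1 ∧ cyclVal n q ∣ P * c := by
  classical
  set Φ := cyclVal n q with hΦ
  have hprim : ∀ r : ℕ, r.Prime → r ∣ Φ → ¬ r ∣ n →
      (∀ i : ℕ, 1 ≤ i → i < n → Nat.Coprime r (q ^ i - 1)) ∧ n + 1 ≤ r := by
    intro r hr hrΦ hrn
    haveI : Fact r.Prime := ⟨hr⟩
    haveI : NeZero (n : ZMod r) := ⟨by rwa [Ne, ZMod.natCast_eq_zero_iff]⟩
    have hp := isRoot_cyclotomic_iff.1 (root_of_dvd hrΦ)
    refine ⟨fun i hi1 hi2 => (hr.coprime_iff_not_dvd).mpr fun hdi => ?_, ?_⟩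
    · rw [← ZMod.natCast_eq_zero_iff, Nat.cast_sub (Nat.one_le_pow _ _ (by omega)), sub_eq_zero] at hdi
      push_cast at hdi
      have := Nat.le_of_dvd (by omega) (hp.dvd_of_pow_eq_one i hdi)
      omega
    · have hq0 : (q : ZMod r) ≠ 0 := by
        intro h0
        have h1 := hp.pow_eq_one
        rw [h0, zero_pow (by omega)] at h1
        exact zero_ne_one h1
      have := Nat.le_of_dvd (by have := hr.two_le; omega)
        (hp.dvd_of_pow_eq_one _ (ZMod.pow_card_sub_one_eq_one hq0))
      omega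
  have hΦd : Φ ∣ q ^ n - 1 := cyclVal_dvd (by omega)
  have hsq : (n + 1) * (n + 1) ≥ 3 * n + 1 := by nlinarith
  have hfree : ∀ r : ℕ, r.Prime → r ∣ Φ → ¬ r ^ 2 ∣ Φ := by
    intro r hr hrΦ h2
    by_cases hrn : r ∣ n
    · exact (of_dvd_index hq hn hr hrΦ hrn).2 h2
    · obtain ⟨hc, hle⟩ := hprim r hr hrΦ hrn
      exact hcon ⟨r ^ 2, h2.trans hΦd, fun i h1 h2' => (hc i h1 h2').pow_left 2,
        hsq.trans (by rw [sq]; exact Nat.mul_le_mul hle hle)⟩
  obtain ⟨c, hc1, hc, hcP⟩ : ∃ c, 1 ≤ c ∧ c ≤ 2 * n + 1 ∧ ∀ r : ℕ, r.Prime → r ∣ Φ → r ∣ P * c := by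
    by_cases h : ∃ r, r.Prime ∧ r ∣ Φ ∧ ¬ r ∣ n
    · obtain ⟨c, hcp, hcΦ, hcn⟩ := h
      refine ⟨c, hcp.one_lt.le, ?_, fun r hr hrΦ => ?_⟩
      · by_contra hgt
        haveI : Fact c.Prime := ⟨hcp⟩
        haveI : NeZero (n : ZMod c) := ⟨by rwa [Ne, ZMod.natCast_eq_zero_iff]⟩
        have hp := isRoot_cyclotomic_iff.1 (root_of_dvd hcΦ)
        have hq0 : (q : ZMod c) ≠ 0 := by
          intro h0
          have h1 := hp.pow_eq_one
          rw [h0, zero_pow (by omega)] at h1
          exact zero_ne_one h1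
        obtain ⟨t, ht⟩ := hp.dvd_of_pow_eq_one _ (ZMod.pow_card_sub_one_eq_one hq0)
        have ht3 : 3 ≤ t := by
          by_contra ht3
          have := Nat.mul_le_mul_left n (show t ≤ 2 by omega)
          omega
        have := Nat.mul_le_mul_left n ht3
        exact hcon ⟨c, hcΦ.trans hΦd, (hprim c hcp hcΦ hcn).1, by omega⟩
      · by_cases hrn : r ∣ n
        · exact dvd_mul_of_dvd_left
            ((le_antisymm (hPmax r hr hrn) ((of_dvd_index hq hn hr hrΦ hrn).1 P hP hPn)) ▸ dvd_rfl) _
        · rcases eq_or_ne r c with rfl | hne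
          · exact dvd_mul_left _ _
          · exfalso
            obtain ⟨h1, h1'⟩ := hprim r hr hrΦ hrn
            obtain ⟨h2, h2'⟩ := hprim c hcp hcΦ hcn
            exact hcon ⟨r * c, (((Nat.coprime_primes hr hcp).mpr hne).mul_dvd_of_dvd_of_dvd hrΦ hcΦ).trans hΦd,
              fun i a b => (h1 i a b).mul_left (h2 i a b),
              hsq.trans (Nat.mul_le_mul h1' h2')⟩
    · push Not at h
      refine ⟨1, le_rfl, by omega, fun r hr hrΦ => ?_⟩
      have hrn := h r hr hrΦ
      exact dvd_mul_of_dvd_left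
        ((le_antisymm (hPmax r hr hrn) ((of_dvd_index hq hn hr hrΦ hrn).1 P hP hPn)) ▸ dvd_rfl) _
  refine ⟨c, hc1, hc, ?_⟩
  rw [Nat.dvd_iff_prime_pow_dvd_dvd]
  intro r k hr hrk
  match k, hrk with
  | 0, _ => simp
  | 1, h => rw [pow_one] at h ⊢; exact hcP r hr h
  | k + 2, h =>
    exact absurd ((pow_dvd_pow r (by omega : 2 ≤ k + 2)).trans h)
      (hfree r hr ((dvd_pow_self r (by omega)).trans h))

/-- Largest prime at least five, small cofactor. -/
theorem small_one {q s j f m n : ℕ} (hq : 2 ≤ q) (hs : 3 ≤ s) (hP : (s + 2).Prime)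
    (hn : n = m * (s + 2) * j) (hj : j = 1 ∨ 5 ≤ j)
    (hm : m < 3 ∧ f = 1 ∧ 1 ≤ m ∨ (m = 3 ∨ m = 4 ∨ m = 6) ∧ f = 2 ∨ 7 ≤ s ∧ 2 ≤ f ∨ 4 ≤ f)
    (hlt : q ^ (s * f * j) < 5 * f ^ 2 * (s + 2) ^ 2 * j) (hx : (q, n) ∉ excl) : Big q n := by
  have hq' : 2 ^ (s * f * j) ≤ q ^ (s * f * j) := Nat.pow_le_pow_left hq _
  rcases hm with ⟨hm3, rfl, hm1⟩ | ⟨hm, rfl⟩ | ⟨hs7, hf⟩ | hf
  · have hs9 : s < 11 := by
      by_contra h
      have h1 := grow_five s (by omega)
      have := mul_le_pow hq (A := s) (B := 5 * (s + 2) ^ 2) (by omega) (j := j) (by omega)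
        (h1.trans (Nat.pow_le_pow_left hq s))
      simp only [mul_one, one_pow] at hlt
      omega
    have hj1 : j = 1 := by
      rcases hj with h | h
      · exact h
      exfalso
      interval_cases s <;> first
        | (revert hP; norm_num; done)
        | (have e := mul_le_pow_five (A := 3) (B := 125) (by norm_num) (by norm_num) h; norm_num at hlt hq' e; omega)
        | (have e := mul_le_pow_five (A := 5) (B := 245) (by norm_num) (by norm_num) h; norm_num at hlt hq' e; omega)
        | (have e := mul_le_pow_five (A := 9) (B := 605) (by norm_num) (by norm_num) h; norm_num at hlt hq' e; omega)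
    subst hj1
    simp only [mul_one, one_pow] at hlt hn
    have hq5 : q < 5 := by
      by_contra h
      have h1 : 5 ^ s ≤ q ^ s := Nat.pow_le_pow_left (by omega) s
      interval_cases s <;> omega
    interval_cases s <;> first
      | (revert hP; norm_num; done)
      | (interval_cases m <;> subst hn <;> interval_cases q <;> first
          | omega
          | (exact absurd (by decide) hx)
          | exact big_of_wit (m := 31) (by decide +kernel)
          | exact big_of_wit (m := 41) (by decide +kernel)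
          | exact big_of_wit (m := 121) (by decide +kernel)
          | exact big_of_wit (m := 61) (by decide +kernel)
          | exact big_of_wit (m := 205) (by decide +kernel)
          | exact big_of_wit (m := 341) (by decide +kernel)
          | exact big_of_wit (m := 127) (by decide +kernel)
          | exact big_of_wit (m := 43) (by decide +kernel)
          | exact big_of_wit (m := 1093) (by decide +kernel)
          | exact big_of_wit (m := 547) (by decide +kernel)
          | exact big_of_wit (m := 2047) (by decide +kernel)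
          | exact big_of_wit (m := 683) (by decide +kernel))
  · have hs5 : s < 5 := by
      by_contra h
      have h1 := grow_five_gen s 2 (by omega) le_rfl
      have := mul_le_pow hq (A := s * 2) (B := 5 * 2 ^ 2 * (s + 2) ^ 2) (by omega) (j := j) (by omega)
        (h1.trans (Nat.pow_le_pow_left hq _))
      omega
    obtain rfl : s = 3 := by
      interval_cases s
      · rfl
      · exact absurd hP (by norm_num)
    have hj1 : j = 1 := by
      rcases hj with h | h
      · exact h
      exfalso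
      have := mul_le_pow_five (A := 6) (B := 500) (by norm_num) (by norm_num) h
      simp at hlt hq'
      omega
    subst hj1
    have hq3 : q = 2 := by
      by_contra h
      have h1 : 3 ^ 6 ≤ q ^ 6 := Nat.pow_le_pow_left (by omega) 6
      simp at hlt
      omega
    subst hq3
    rcases hm with rfl | rfl | rfl <;> subst hn <;> first
      | (exact absurd (by decide) hx)
      | exact big_of_wit (m := 151) (by decide +kernel)
      | exact big_of_wit (m := 331) (by decide +kernel)
  · exfalso
    have h1 := grow_five_gen s f (by omega) hf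
    have := mul_le_pow hq (A := s * f) (B := 5 * f ^ 2 * (s + 2) ^ 2) (Nat.mul_pos (by omega) (by omega))
      (j := j) (by omega) (h1.trans (Nat.pow_le_pow_left hq _))
    omega
  · exfalso
    rcases Nat.lt_or_ge s 5 with h | h
    · obtain rfl : s = 3 := by
        interval_cases s
        · rfl
        · exact absurd hP (by norm_num)
      have h1 := grow_five_even f hf
      have := mul_le_pow hq (A := 3 * f) (B := 5 * f ^ 2 * (3 + 2) ^ 2) (by omega)
        (j := j) (by omega) (le_trans (by linarith) (Nat.pow_le_pow_left hq _))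
      omega
    · have h1 := grow_five_gen s f h (by omega)
      have := mul_le_pow hq (A := s * f) (B := 5 * f ^ 2 * (s + 2) ^ 2) (Nat.mul_pos (by omega) (by omega))
        (j := j) (by omega) (h1.trans (Nat.pow_le_pow_left hq _))
      omega

theorem big_of_not_mem {q n : ℕ} (hq : 2 ≤ q) (hn : 3 ≤ n) (hx : (q, n) ∉ excl) : Big q n := by
  classical
  by_contra hcon
  obtain ⟨P, hP, hPn, hPmax⟩ : ∃ P, P.Prime ∧ P ∣ n ∧ ∀ l : ℕ, l.Prime → l ∣ n → l ≤ P := by
    have hne : n.primeFactors.Nonempty := by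
      obtain ⟨l, hl, hld⟩ := Nat.exists_prime_and_dvd (show n ≠ 1 by omega)
      exact ⟨l, Nat.mem_primeFactors.mpr ⟨hl, hld, by omega⟩⟩
    refine ⟨n.primeFactors.max' hne, ?_, ?_, fun l hl hld => ?_⟩
    · exact (Nat.mem_primeFactors.mp (Finset.max'_mem _ hne)).1
    · exact (Nat.mem_primeFactors.mp (Finset.max'_mem _ hne)).2.1
    · exact Finset.le_max' _ _ (Nat.mem_primeFactors.mpr ⟨hl, hld, by omega⟩)
  obtain ⟨c, hc1, hc, hdvd⟩ := dvd_small hq hn hP hPn hPmax hcon
  set Φ := cyclVal n q with hΦ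
  obtain ⟨k, m, hm, hnkm⟩ := Nat.exists_eq_pow_mul_and_not_dvd (show n ≠ 0 by omega) P hP.ne_one
  obtain ⟨k, rfl⟩ : ∃ j, k = j + 1 := by
    rcases Nat.eq_zero_or_pos k with h | h
    · subst h; simp at hnkm; exact absurd (hnkm ▸ hPn) hm
    · exact ⟨k - 1, by omega⟩
  set j := P ^ k with hj
  have hj1 : 1 ≤ j := Nat.one_le_pow _ _ hP.pos
  have hnj : n = m * P * j := by rw [hnkm, pow_succ, hj]; ring
  have hform : Φ * cyclVal m (q ^ j) = cyclVal m ((q ^ j) ^ P) := by
    rw [hΦ, hnj, hj, cyclVal_pow_expand hP (dvd_mul_left _ _), cyclVal_mul hP hm]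
  have hQ : 2 ≤ q ^ j := le_trans hq (Nat.le_self_pow (by omega) q)
  have hm0 : m ≠ 0 := fun h => hm (h ▸ dvd_zero P)
  have hle : Φ ≤ P * (2 * n + 1) :=
    (Nat.le_of_dvd (Nat.mul_pos hP.pos hc1) hdvd).trans (Nat.mul_le_mul_left _ hc)
  rcases Nat.lt_or_ge P 3 with hP3 | hP3
  · obtain rfl : P = 2 := by have := hP.two_le; omega
    have hm1 : m = 1 := by
      by_contra hne
      obtain ⟨l, hl, hlm⟩ := Nat.exists_prime_and_dvd hne
      have := hPmax l hl (hnj ▸ dvd_mul_of_dvd_left (dvd_mul_of_dvd_left hlm _) _)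
      obtain rfl : l = 2 := by have := hl.two_le; omega
      exact hm hlm
    subst hm1
    have hval : Φ = q ^ j + 1 := by
      rw [hΦ, hnj, one_mul, hj, cyclVal_pow_expand Nat.prime_two dvd_rfl, cyclVal_two]
    rw [hval, hnj] at hle
    have h2j : 2 ^ j ≤ q ^ j := Nat.pow_le_pow_left hq j
    rcases k with _ | _ | _ | k
    · simp [hj] at hnj; omega
    · simp [hj] at hnj hle
      subst hnj
      have : q ≤ 4 := by nlinarith
      interval_cases q
      · exact hx (by decide)
      · exact hx (by decide)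
      · exact hcon (big_of_wit (m := 17) (by decide +kernel))
    · simp [hj] at hnj hle
      subst hnj
      have : q ≤ 2 := by
        by_contra h
        have : 3 ^ 4 ≤ q ^ 4 := Nat.pow_le_pow_left (by omega) 4
        omega
      interval_cases q
      exact hx (by decide)
    · have h8 : 8 ≤ j := le_trans (by norm_num) (Nat.pow_le_pow_right two_pos (show 3 ≤ k + 3 by omega))
      have h4 := grow4' j (by omega)
      have h9 : 2 ^ 8 ≤ 2 ^ j := Nat.pow_le_pow_right two_pos h8
      have h10 : 9 * j ≤ 2 ^ j := grow_nine j h8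
      omega
  rcases Nat.lt_or_ge P 5 with hP5 | hP5
  · obtain rfl : P = 3 := by
      rcases (show P = 3 ∨ P = 4 by omega) with h | h
      · exact h
      · subst h; norm_num at hP
    have hm2 : ∃ a, m = 2 ^ a := by
      refine ⟨_, Nat.eq_prime_pow_of_unique_prime_dvd hm0 fun {l} hl hlm => ?_⟩
      have := hPmax l hl (hnj ▸ dvd_mul_of_dvd_left (dvd_mul_of_dvd_left hlm _) _)
      rcases (show l = 2 ∨ l = 3 by have := hl.two_le; omega) with e | e
      · exact e
      · exact absurd (e ▸ hlm) hm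
    obtain ⟨a, rfl⟩ := hm2
    rcases a with _ | a
    · set X := q ^ j with hX
      have hval : Φ = X ^ 2 + X + 1 := by
        rw [hΦ, hnj, pow_zero, one_mul, hj, cyclVal_pow_expand Nat.prime_three dvd_rfl, cyclVal_three]
      rw [hval, hnj] at hle
      rcases k with _ | k
      · have hXq : X = q := by rw [hX, hj, pow_zero, pow_one]
        rw [hXq] at hle
        simp [hj] at hnj hle
        subst hnj
        have : q ≤ 4 := by nlinarith
        interval_cases q
        · exact hx (by decide)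
        · exact hcon (big_of_wit (m := 13) (by decide +kernel))
        · exact hx (by decide)
      · have h3 : 3 ≤ j := le_trans (by norm_num) (Nat.pow_le_pow_right (by norm_num) (show 1 ≤ k + 1 by omega))
        have h2j : 2 ^ j ≤ X := Nat.pow_le_pow_left hq j
        have h5 := grow_double j h3
        have h8 : 2 ^ 3 ≤ 2 ^ j := Nat.pow_le_pow_right two_pos h3
        nlinarith
    · set E := 2 ^ a * j with hE
      have hnE : n = 6 * E := by rw [hnj, hE, pow_succ]; ring
      have hval : Φ * (q ^ E + 1) = (q ^ E) ^ 3 + 1 := by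
        have h6 : cyclVal n q = cyclVal 6 (q ^ E) := by
          rw [hnE, hE, ← mul_assoc, hj, cyclVal_pow_expand Nat.prime_three (dvd_mul_of_dvd_left (by norm_num) _),
            cyclVal_pow_expand Nat.prime_two (by norm_num), ← pow_mul, mul_comm]
        rw [hΦ, h6]
        exact cyclVal_six _
      have hE1 : 1 ≤ E := Nat.mul_pos (pow_pos two_pos a) hj1
      set X := q ^ E with hX
      have hX2 : 2 ≤ X := le_trans hq (Nat.le_self_pow (by omega) q)
      have hval2 : Φ + X = X * X + 1 := by
        refine Nat.eq_of_mul_eq_mul_right (show 0 < X + 1 by omega) ?_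
        rw [add_mul, hval]; ring
      rcases Nat.lt_or_ge E 4 with hE4 | hE4
      · clear_value E
        interval_cases E
        · have hXq : X = q := by rw [hX, pow_one]
          rw [hXq] at hval2
          subst hnE
          have : q ≤ 6 := by nlinarith
          interval_cases q
          · exact hx (by decide)
          · exact hx (by decide)
          · exact hx (by decide)
          · exact hx (by decide)
          · exact hcon (big_of_wit (m := 31) (by decide +kernel))
        · subst hnE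
          have : q ≤ 3 := by
            by_contra h
            have : 4 ^ 2 ≤ X := by rw [hX]; exact Nat.pow_le_pow_left (by omega) 2
            nlinarith
          interval_cases q
          · exact hx (by decide)
          · exact hcon (big_of_wit (m := 73) (by decide +kernel))
        · subst hnE
          have : q ≤ 2 := by
            by_contra h
            have : 3 ^ 3 ≤ X := by rw [hX]; exact Nat.pow_le_pow_left (by omega) 3
            nlinarith
          interval_cases q
          exact hx (by decide)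
      · have h1 := grow4 E hE4
        have h5 : 2 ^ E ≤ X := Nat.pow_le_pow_left hq E
        nlinarith
  obtain ⟨s, rfl⟩ : ∃ s, P = s + 2 := ⟨P - 2, by omega⟩
  set Q := q ^ j with hQdef
  have hQp : Q ^ s * (Q + 1) ≤ Q ^ (s + 2) - 1 := by
    have h1 : 1 ≤ Q ^ s := Nat.one_le_pow _ _ (by omega)
    have h2' : 2 * Q ^ (s + 1) ≤ Q ^ (s + 2) := by
      rw [pow_succ Q (s + 1), mul_comm 2]; exact Nat.mul_le_mul_left _ hQ
    have h3' : Q ^ s + 1 ≤ Q ^ (s + 1) := by rw [pow_succ]; nlinarith
    rw [mul_add, mul_one, ← pow_succ]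
    omega
  have hj5 : j = 1 ∨ 5 ≤ j := by
    rcases k with _ | k
    · exact Or.inl (by rw [hj, pow_zero])
    · exact Or.inr (le_trans hP5 (Nat.le_self_pow (by omega) _))
  have hmain : ∃ f, (Q ^ s) ^ f < Φ ∧ m ≤ 2 * f ^ 2 ∧
      (m < 3 ∧ f = 1 ∧ 1 ≤ m ∨ (m = 3 ∨ m = 4 ∨ m = 6) ∧ f = 2 ∨ 7 ≤ s ∧ 2 ≤ f ∨ 4 ≤ f) := by
    rcases Nat.lt_or_ge m 3 with hm3 | hm3
    · refine ⟨1, ?_, by omega, Or.inl ⟨hm3, rfl, by omega⟩⟩
      rw [pow_one]
      interval_cases m
      · simp at hm0
      · rw [cyclVal_one (by omega), cyclVal_one (Nat.one_le_pow _ _ (by omega))] at hform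
        refine Nat.lt_of_mul_lt_mul_right (a := Q - 1) ?_
        rw [hform]
        have : Q ^ s * (Q - 1) < Q ^ s * (Q + 1) :=
          Nat.mul_lt_mul_of_pos_left (by omega) (Nat.one_le_pow _ _ (by omega))
        omega
      · rw [cyclVal_two, cyclVal_two] at hform
        refine Nat.lt_of_mul_lt_mul_right (a := Q + 1) ?_
        rw [hform]
        omega
    · refine ⟨m.totient, ?_, (le_two_mul_totient_sq m).1, ?_⟩
      · have hu := cyclVal_lt hm3 hQ
        have hl := lt_cyclVal (m := m) (x := Q ^ (s + 2)) (by omega) (le_trans hQ (Nat.le_self_pow (by omega) Q))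
        rw [← hform] at hl
        by_contra hc'
        have : Φ * cyclVal m Q ≤ (Q ^ (s + 2) - 1) ^ m.totient := by
          calc Φ * cyclVal m Q ≤ (Q ^ s) ^ m.totient * (Q + 1) ^ m.totient := Nat.mul_le_mul (by omega) hu.le
            _ = (Q ^ s * (Q + 1)) ^ m.totient := (mul_pow _ _ _).symm
            _ ≤ _ := Nat.pow_le_pow_left hQp _
        omega
      · have h1 := Nat.totient_even (n := m) (by omega)
        rw [Nat.even_iff] at h1
        have h2' : 0 < m.totient := Nat.totient_pos.2 (by omega)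
        by_cases hf : m.totient = 2
        · have hm8 : m ≤ 8 := by
            have := (le_two_mul_totient_sq m).1
            rw [hf] at this
            omega
          refine Or.inr (Or.inl ⟨?_, hf⟩)
          interval_cases m <;> first | omega | (revert hf; decide)
        · exact Or.inr (Or.inr (Or.inr (by omega)))
  obtain ⟨f, hlt, hmf, hcase⟩ := hmain
  refine hcon (small_one hq (by omega) hP hnj hj5 hcase ?_ hx)
  rw [show q ^ (s * f * j) = (Q ^ s) ^ f by rw [hQdef, ← pow_mul, ← pow_mul]; congr 1; ring]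
  refine lt_of_lt_of_le hlt (hle.trans ?_)
  rw [hnj]
  have h1' : 1 ≤ f ^ 2 * ((s + 2) * j) := by
    have : 1 ≤ f := by rcases Nat.eq_zero_or_pos f with rfl | h <;> [(simp at hmf; omega); exact h]
    exact Nat.mul_pos (pow_pos this 2) (Nat.mul_pos (by omega) hj1)
  have h2' : m * ((s + 2) * j) ≤ 2 * f ^ 2 * ((s + 2) * j) := Nat.mul_le_mul_right _ hmf
  calc (s + 2) * (2 * (m * (s + 2) * j) + 1)
      ≤ (s + 2) * (4 * f ^ 2 * ((s + 2) * j) + f ^ 2 * ((s + 2) * j)) :=
        Nat.mul_le_mul_left _ (by rw [mul_assoc m]; linarith)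
    _ = 5 * f ^ 2 * (s + 2) ^ 2 * j := by ring

end H60.PrimitivePart
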