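import Cfsg.Agent.H20.BlockApps
import Cfsg.Agent.H24.PrincipalQuot
import Cfsg.Agent.H10.PSolvable
import Cfsg.Agent.H6.Basic
import Cfsg.Agent.H12.Induction
import Cfsg.Agent.H12.Linear
import Cfsg.Agent.H22.CentralInt

/-!
If the principal blocks for two primes have the same characters of degree prime to the
respective prime, the primes coincide (for groups solvable at both primes).
-/

set_option autoImplicit false
set_option linter.unusedSectionVars false
set_option linter.style.haveILetI false

open Cfsg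
open scoped ComplexConjugate

namespace H60.PrinDeg

universe u

variable {X : Type u} [Group X] [Finite X] {p : ℕ} [Fact p.Prime]

theorem card_mul_rel {H K : Subgroup X} (h : H ≤ K) :
    Nat.card H * H.relIndex K = Nat.card K := by
  rw [← Subgroup.relIndex_bot_left, ← Subgroup.relIndex_bot_left,
    Subgroup.relIndex_mul_relIndex ⊥ H K bot_le h]

/-- A `p`-subgroup inside `U` lies in every normal subgroup of `U` of index prime to `p`. -/
theorem le_of_coprime_relIndex {V U Q : Subgroup X} [V.Normal] (hQ : IsPGroup p Q)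
    (hQU : Q ≤ U) (hcop : (V.relIndex U).Coprime p) : Q ≤ V := by
  have h1 : V.relIndex Q ∣ V.relIndex U := H10.relIndex_dvd_relIndex_of_le_right V hQU
  obtain ⟨k, hk⟩ := hQ.index ((V ⊓ Q).subgroupOf Q)
  rw [← Subgroup.relIndex, Subgroup.inf_relIndex_right] at hk
  have h2 : V.relIndex Q = 1 := by
    rw [hk] at h1 ⊢
    rcases Nat.eq_zero_or_pos k with rfl | hpos
    · rfl
    · exact absurd (Nat.dvd_gcd ((dvd_pow_self p hpos.ne').trans h1) (dvd_refl p))
        (by rw [hcop]; exact (Fact.out : p.Prime).not_dvd_one)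
  exact Subgroup.relIndex_eq_one.1 h2

/-- The derived subgroup is a non-generating subgroup of a `p`-group. -/
theorem eq_of_sup_derived {P Q : Subgroup X} (hP : IsPGroup p P) (hQ : Q ≤ P)
    (h : P ≤ Q ⊔ ⁅P, P⁆) : Q = P := by
  have h1 : Q.subgroupOf P ⊔ commutator P = ⊤ := by
    have h0 : (Q.subgroupOf P ⊔ commutator P).map P.subtype = Q ⊔ ⁅P, P⁆ := by
      rw [Subgroup.map_sup, Subgroup.subgroupOf_map_subtype, inf_of_le_left hQ]
      congr 1
      rw [commutator_def, Subgroup.map_commutator, ← MonoidHom.range_eq_map, Subgroup.range_subtype]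
    rw [eq_top_iff]
    intro x _
    have hx : (x : X) ∈ (Q.subgroupOf P ⊔ commutator P).map P.subtype := h0.symm ▸ h x.2
    obtain ⟨y, hy, hyx⟩ := hx
    rwa [← Subtype.ext hyx]
  have h2 : Q.subgroupOf P = ⊤ :=
    frattini_nongenerating (top_le_iff.1 (h1 ▸ sup_le_sup_left
      (H6.commutator_le_frattini hP) _))
  exact le_antisymm hQ (Subgroup.subgroupOf_eq_top.1 h2)

/-- The one-step case. -/
theorem step_isPGroup (hcore : pPrimeCore p X = ⊥) (P : Sylow p X) (U V : Subgroup X)
    [U.Normal] [V.Normal] (hVU : V ≤ U) (hV : IsPGroup p V) (hcop : (V.relIndex U).Coprime p)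
    (hUP : U ⊓ (P : Subgroup X) ≤ ⁅(P : Subgroup X), (P : Subgroup X)⁆) : IsPGroup p U := by
  classical
  have hp : p.Prime := Fact.out
  have hVP : ∀ P1 : Sylow p X, V ≤ ⁅(P1 : Subgroup X), (P1 : Subgroup X)⁆ := by
    intro P1
    obtain ⟨g, hg⟩ := MulAction.exists_smul_eq X P P1
    have hmap : (P1 : Subgroup X) = (P : Subgroup X).map (MulAut.conj g).toMonoidHom := by
      rw [← hg]; rfl
    rw [hmap, ← Subgroup.map_commutator]
    have hV' : V ≤ ⁅(P : Subgroup X), (P : Subgroup X)⁆ :=
      (le_inf hVU (hV.le_sylow_of_normal P)).trans hUP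
    intro v hv
    refine ⟨g⁻¹ * v * g, hV' (by simpa using Subgroup.Normal.conj_mem inferInstance v hv g⁻¹), ?_⟩
    simp [MulAut.conj_apply, mul_assoc]
  -- every Sylow subgroup of `U` for another prime centralizes `V`
  have hcent : ∀ (r : ℕ) [Fact r.Prime], r ≠ p → ∀ R : Sylow r U,
      (R : Subgroup U).map U.subtype ≤ Subgroup.centralizer (V : Set X) := by
    intro r _ hr R
    set R' := (R : Subgroup U).map U.subtype with hR'
    set N := Subgroup.normalizer (R' : Set X) with hN
    have hsup : N ⊔ U = ⊤ := Sylow.normalizer_sup_eq_top R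
    obtain ⟨P2⟩ : Nonempty (Sylow p N) := inferInstance
    set P2' := (P2 : Subgroup N).map N.subtype with hP2'
    have hP2p : IsPGroup p P2' := P2.isPGroup'.map _
    have hjoin : IsPGroup p (V ⊔ P2' : Subgroup X) := hV.to_sup_of_normal_left hP2p
    obtain ⟨P1, hP1⟩ := hjoin.exists_le_sylow
    have hle : (P1 : Subgroup X) ≤ V ⊔ P2' := by
      -- `p`-parts of orders
      have e1 : Nat.card X * Nat.card (N ⊓ U : Subgroup X) = Nat.card N * Nat.card U := by
        have hNU : U.relIndex N = U.index := by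
          rw [← Subgroup.relIndex_top_right, ← hsup, Subgroup.relIndex_sup_right]
        have h1 : U.relIndex N * Nat.card (N ⊓ U : Subgroup X) = Nat.card N := by
          rw [← Subgroup.inf_relIndex_right, mul_comm, inf_comm U N]
          exact card_mul_rel (inf_le_left : N ⊓ U ≤ N)
        calc Nat.card X * Nat.card (N ⊓ U : Subgroup X)
            = (Nat.card U * U.index) * Nat.card (N ⊓ U : Subgroup X) := by
              rw [Subgroup.card_mul_index]
          _ = Nat.card N * Nat.card U := by rw [← h1, hNU]; ring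
      have e2 : Nat.card (V ⊔ P2' : Subgroup X) * Nat.card (V ⊓ P2' : Subgroup X) =
          Nat.card V * Nat.card P2' := by
        have h1 : V.relIndex P2' * Nat.card (V ⊓ P2' : Subgroup X) = Nat.card P2' := by
          rw [← Subgroup.inf_relIndex_right, mul_comm]
          exact card_mul_rel (inf_le_right : V ⊓ P2' ≤ P2')
        have h2 : Nat.card V * V.relIndex (V ⊔ P2') = Nat.card (V ⊔ P2' : Subgroup X) :=
          card_mul_rel le_sup_left
        have h3 : V.relIndex (V ⊔ P2') = V.relIndex P2' := by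
          rw [sup_comm, Subgroup.relIndex_sup_right]
        rw [← h1, ← h2, h3]; ring
      have hdvd : Nat.card (V ⊓ P2' : Subgroup X) ∣ Nat.card (N ⊓ U : Subgroup X) :=
        Subgroup.card_dvd_of_le (le_inf (inf_le_right.trans (Subgroup.map_subtype_le _))
          (inf_le_left.trans hVU))
      have hUc : Nat.card V * V.relIndex U = Nat.card U :=
        card_mul_rel hVU
      -- take `p`-parts
      have f1 := congrArg (fun n : ℕ => n.factorization p) e1
      have f2 := congrArg (fun n : ℕ => n.factorization p) e2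
      have f3 := congrArg (fun n : ℕ => n.factorization p) hUc
      have nz : ∀ H : Subgroup X, Nat.card H ≠ 0 := fun H => Nat.card_pos.ne'
      have hri : V.relIndex U ≠ 0 := fun h0 => by
        rw [h0, mul_zero] at hUc; exact (nz U) hUc.symm
      simp only [Nat.factorization_mul Nat.card_pos.ne' (nz _), Nat.factorization_mul (nz _) (nz _),
        Nat.factorization_mul (nz _) hri, Finsupp.coe_add, Pi.add_apply] at f1 f2 f3
      have f4 : (V.relIndex U).factorization p = 0 :=
        Nat.factorization_eq_zero_of_not_dvd fun hd =>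
          hp.not_dvd_one (hcop ▸ Nat.dvd_gcd hd (dvd_refl p))
      have f5 := (Nat.factorization_le_iff_dvd (nz _) (nz _)).2 hdvd p
      have f6 : (Nat.card P2').factorization p = (Nat.card N).factorization p := by
        rw [hP2', Subgroup.card_map_of_injective N.subtype_injective, P2.card_eq_multiplicity,
          Nat.Prime.factorization_pow hp, Finsupp.single_eq_same]
      obtain ⟨j, hj⟩ := IsPGroup.iff_card.1 hjoin
      have f7 : (Nat.card (V ⊔ P2' : Subgroup X)).factorization p = j := by
        rw [hj, Nat.Prime.factorization_pow hp, Finsupp.single_eq_same]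
      refine (Subgroup.eq_of_le_of_card_ge hP1 ?_).ge
      rw [P1.card_eq_multiplicity, hj]
      exact Nat.pow_le_pow_right hp.pos (by omega)
    have hP2N : P2' ≤ N := Subgroup.map_subtype_le _
    have heq : P2' = (P1 : Subgroup X) := eq_of_sup_derived P1.isPGroup' (le_sup_right.trans hP1)
      (hle.trans (sup_le ((hVP P1).trans le_sup_right) le_sup_left))
    have hVN : V ≤ N := (le_sup_left.trans hP1).trans (heq ▸ hP2N)
    have hdis : Disjoint R' V :=
      IsPGroup.disjoint_of_ne r p hr _ _ (R.isPGroup'.map _) hV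
    intro x hx
    rw [Subgroup.mem_centralizer_iff_commutator_eq_one]
    intro v hv
    have h1 : v * x * v⁻¹ * x⁻¹ ∈ R' :=
      mul_mem ((Subgroup.mem_normalizer_iff.1 (hVN hv) x).1 hx) (inv_mem hx)
    have h2 : v * x * v⁻¹ * x⁻¹ ∈ V := by
      rw [show v * x * v⁻¹ * x⁻¹ = v * (x * v⁻¹ * x⁻¹) by group]
      exact mul_mem hv (Subgroup.Normal.conj_mem inferInstance _ (inv_mem hv) x)
    simpa [commutatorElement_def] using Subgroup.disjoint_def.1 hdis h1 h2
  -- Burnside's transfer theorem in the centralizer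
  set C := U ⊓ Subgroup.centralizer (V : Set X) with hC
  haveI : (Subgroup.centralizer (V : Set X)).Normal := inferInstance
  haveI : C.Normal := Subgroup.normal_inf_normal _ _
  obtain ⟨Q⟩ : Nonempty (Sylow p C) := inferInstance
  have hQV : (Q : Subgroup C).map C.subtype ≤ V :=
    le_of_coprime_relIndex (Q.isPGroup'.map _) ((Subgroup.map_subtype_le _).trans inf_le_left) hcop
  have hQc : ∀ x ∈ (Q : Subgroup C), ∀ c : C, c * x = x * c := fun x hx c => Subtype.ext
    ((Subgroup.mem_centralizer_iff.1 c.2.2 _ (hQV ⟨x, hx, rfl⟩)).symm)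
  have hNQ : Subgroup.normalizer ((Q : Subgroup C) : Set C) ≤ Subgroup.centralizer (Q : Set C) :=
    fun c _ => Subgroup.mem_centralizer_iff.2 fun x hx => (hQc x hx c).symm
  have hcompl := MonoidHom.ker_transferSylow_isComplement' Q hNQ
  set K := (MonoidHom.transferSylow Q hNQ).ker with hK
  have hKcop : (Nat.card K).Coprime p := by
    refine (hp.coprime_iff_not_dvd.2 fun hd => ?_).symm
    have hcard := hcompl.card_mul
    have hnd : ¬ p ∣ (Q : Subgroup C).index := Q.not_dvd_index
    apply hnd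
    rw [Subgroup.IsComplement'.index_eq_card hcompl]
    exact hd
  have hmem : ∀ c : C, (orderOf c).Coprime p → c ∈ K := by
    intro c hc
    rw [hK, MonoidHom.mem_ker]
    refine orderOf_eq_one_iff.1 (Nat.eq_one_of_dvd_coprimes ?_ (orderOf_map_dvd _ c) (dvd_refl _))
    obtain ⟨k, hk⟩ := IsPGroup.iff_orderOf.1 Q.isPGroup' ((MonoidHom.transferSylow Q hNQ) c)
    rw [hk]
    exact hc.pow_right k
  haveI hKn : (K.map C.subtype).Normal := ⟨fun x hx g => by
    obtain ⟨k, hk, rfl⟩ := hx
    have hgk : g * (k : X) * g⁻¹ ∈ C := Subgroup.Normal.conj_mem inferInstance _ k.2 g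
    refine ⟨⟨_, hgk⟩, hmem _ ?_, rfl⟩
    rw [← Subgroup.orderOf_coe]
    show (orderOf (MulAut.conj g (k : X))).Coprime p
    rw [MulEquiv.orderOf_eq, Subgroup.orderOf_coe]
    exact Nat.Coprime.coprime_dvd_left (Subgroup.orderOf_dvd_natCard K hk) hKcop⟩
  have hKbot : K.map C.subtype = ⊥ := le_bot_iff.1 (hcore ▸ le_sSup ⟨hKn, by
    rw [Subgroup.card_map_of_injective C.subtype_injective]; exact hKcop⟩)
  have hCp : IsPGroup p C := by
    have hK1 : K = ⊥ := (Subgroup.map_eq_bot_iff_of_injective _ C.subtype_injective).1 hKbot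
    have hcard := hcompl.card_mul
    rw [hK1, Subgroup.card_bot, one_mul] at hcard
    exact IsPGroup.of_card (hcard.symm.trans Q.card_eq_multiplicity)
  have hne : Nat.card U ≠ 0 := Nat.card_pos.ne'
  have hone : ∀ r : ℕ, r.Prime → r ∣ Nat.card U → r = p := by
    intro r hr hd
    by_contra hrp
    haveI := Fact.mk hr
    obtain ⟨R⟩ : Nonempty (Sylow r U) := inferInstance
    have hRC : (R : Subgroup U).map U.subtype ≤ C :=
      le_inf (Subgroup.map_subtype_le _) (hcent r hrp R)
    have hdis : Disjoint ((R : Subgroup U).map U.subtype) C :=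
      IsPGroup.disjoint_of_ne r p hrp _ _ (R.isPGroup'.map _) hCp
    have hbot : (R : Subgroup U).map U.subtype = ⊥ := hdis.eq_bot_of_le hRC
    rw [Subgroup.map_eq_bot_iff_of_injective _ U.subtype_injective] at hbot
    exact R.ne_bot_of_dvd_card hd hbot
  exact IsPGroup.of_card (Nat.eq_prime_pow_of_unique_prime_dvd hne fun {d} hd hdd => hone d hd hdd)

/-- A normal subgroup of a `p`-solvable group with trivial `p'`-core which meets a Sylow
`p`-subgroup inside its derived subgroup is a `p`-group. -/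
theorem isPGroup_of_inf_le (hps : IsPSolvable p X) (hcore : pPrimeCore p X = ⊥) (P : Sylow p X)
    (U : Subgroup X) [U.Normal]
    (hUP : U ⊓ (P : Subgroup X) ≤ ⁅(P : Subgroup X), (P : Subgroup X)⁆) : IsPGroup p U := by
  obtain ⟨n, H, h0, hlast, hmono, hnorm, hstep⟩ := hps
  have key : ∀ i : Fin (n + 1), IsPGroup p (H i ⊓ U : Subgroup X) := by
    intro i
    induction i using Fin.induction with
    | zero => rw [h0, bot_inf_eq]; exact IsPGroup.of_bot
    | succ i ih =>
      haveI := hnorm i.castSucc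
      haveI := hnorm i.succ
      have hle : H i.castSucc ⊓ U ≤ H i.succ ⊓ U :=
        inf_le_inf_right U (hmono (Fin.castSucc_lt_succ (i := i)).le)
      have hrel : (H i.castSucc ⊓ U).relIndex (H i.succ ⊓ U) ∣
          (H i.castSucc).relIndex (H i.succ) := by
        have : H i.castSucc ⊓ U ⊓ (H i.succ ⊓ U) = H i.castSucc ⊓ (H i.succ ⊓ U) := by
          rw [inf_assoc]; congr 1; exact inf_eq_right.2 inf_le_right
        rw [← Subgroup.inf_relIndex_right, this, Subgroup.inf_relIndex_right]
        exact H10.relIndex_dvd_relIndex_of_le_right _ inf_le_left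
      rcases H10.IsPorP'.of_dvd (hstep i) hrel with ⟨m, hm⟩ | hcop
      · obtain ⟨a, ha⟩ := IsPGroup.iff_card.1 ih
        refine IsPGroup.of_card (n := a + m) ?_
        rw [← card_mul_rel hle, ha, hm, pow_add]
      · exact step_isPGroup hcore P _ _ hle ih hcop ((inf_le_inf_right _ inf_le_right).trans hUP)
  have h := key (Fin.last n)
  rwa [hlast, top_inf_eq] at h

/-- A Sylow subgroup which is inside its derived subgroup is trivial. -/
theorem sylow_eq_bot_of_le_derived (P : Sylow p X)
    (h : (P : Subgroup X) ≤ ⁅(P : Subgroup X), (P : Subgroup X)⁆) : (P : Subgroup X) = ⊥ :=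
  (eq_of_sup_derived P.isPGroup' bot_le (h.trans le_sup_right)).symm

/-- If all principal characters of degree prime to `p` kill `m`, then the image of `m` in a
Sylow subgroup of `G / O_{p'}(G)` lies in the derived subgroup. -/
theorem mem_derived {G : Type u} [Group G] [Finite G] (hps : IsPSolvable p G)
    {M : Ideal AlgInt} (hM : IsPModular p M) [(pPrimeCore p G).Normal] (m : G)
    (hker : ∀ χ : IrrCharacter G, χ ∈ principalBlock M G → ¬ p ∣ charDegree (χ : G → ℂ) →
      (χ : G → ℂ) m = (χ : G → ℂ) 1)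
    (P : Sylow p (G ⧸ pPrimeCore p G)) (hm : (m : G ⧸ pPrimeCore p G) ∈ P) :
    (m : G ⧸ pPrimeCore p G) ∈
      ⁅(P : Subgroup (G ⧸ pPrimeCore p G)), (P : Subgroup (G ⧸ pPrimeCore p G))⁆ := by
  classical
  haveI := Fintype.ofFinite G
  haveI := H20.isPrime_of_modular hM
  set N := pPrimeCore p G with hNdef
  haveI := Fintype.ofFinite (G ⧸ N)
  set S : Subgroup (G ⧸ N) := (P : Subgroup (G ⧸ N)) with hS
  haveI := Fintype.ofFinite S
  set x : S := ⟨(m : G ⧸ N), hm⟩ with hx
  suffices hxc : x ∈ commutator S by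
    rw [← Subgroup.range_subtype S, MonoidHom.range_eq_map, ← Subgroup.map_commutator,
      ← commutator_def]
    exact ⟨x, hxc, rfl⟩
  by_contra hxc
  -- a linear character not trivial at `x`
  have hne : (Abelianization.of x) ≠ 1 := fun h => hxc ((QuotientGroup.eq_one_iff x).1 h)
  obtain ⟨f, hf⟩ := CommGroup.exists_apply_ne_one_of_hasEnoughRootsOfUnity (Abelianization S) ℂ hne
  set lam : S →* ℂˣ := f.comp Abelianization.of with hlam
  set θ : S → ℂ := (H12.linIrr lam : S → ℂ) with hθ
  have hθc : IsCharacter S θ := H12.isCharacter_irr _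
  have hind : IsCharacter (G ⧸ N) (indFun S θ) := H12.IsCharacter.indFun hθc
  obtain ⟨c, hc⟩ := H12.IsCharacter.exists_mult hind
  have hdeg : ∑ χ : IrrCharacter (G ⧸ N), c χ * charDegree (χ : G ⧸ N → ℂ) = S.index := by
    have h1 := congrFun hc 1
    rw [H12.indFun_one, hθ, H12.linIrr_apply, map_one, Units.val_one, mul_one,
      Finset.sum_apply] at h1
    simp only [Pi.smul_apply, smul_eq_mul, H22.irr_one_eq_charDegree] at h1
    exact_mod_cast h1.symm
  obtain ⟨χ, hcχ, hχd⟩ : ∃ χ : IrrCharacter (G ⧸ N), c χ ≠ 0 ∧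
      ¬ p ∣ charDegree (χ : G ⧸ N → ℂ) := by
    by_contra! hall
    refine P.not_dvd_index ?_
    show p ∣ S.index
    rw [← hdeg]
    refine Finset.dvd_sum fun χ _ => ?_
    by_cases h : c χ = 0
    · simp [h]
    · exact dvd_mul_of_dvd_right (hall χ h) _
  have hinner : classInner θ (fun h : S => (χ : G ⧸ N → ℂ) h) = (c χ : ℂ) := by
    rw [← H12.classInner_indFun S θ (H12.irr_isClassFunction χ), hc, H12.classInner_sum_smul_irr]
  -- the lifted character kills `m`
  have hXcore : pPrimeCore p (G ⧸ N) = ⊥ := H1.pPrimeCore_quotient_pPrimeCore p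
  have hXs : IsPSolvable p (G ⧸ N) := H10.isPSolvable_quotient hps N
  have hmem : χ ∈ principalBlock M (G ⧸ N) :=
    H20.single_block hM hXs hXcore (H12.oneIrr (G ⧸ N)) χ
  have hmem' : H21.inflate N χ ∈ principalBlock M G :=
    (H24.inflate_mem_principalBlock_iff N hM (H24.not_dvd_card_pPrimeCore hM.1) χ).2 hmem
  have hd : charDegree (H21.inflate N χ : G → ℂ) = charDegree (χ : G ⧸ N → ℂ) := by
    have h1 := H22.irr_one_eq_charDegree (H21.inflate N χ)
    rw [H21.inflate_apply, QuotientGroup.mk_one, H22.irr_one_eq_charDegree] at h1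
    exact_mod_cast h1.symm
  have hval := hker _ hmem' (by rwa [hd])
  rw [H21.inflate_apply, H21.inflate_apply, QuotientGroup.mk_one] at hval
  obtain ⟨n, ρ, hρirr, hρ⟩ := χ.2
  have hρ1 : ρ (m : G ⧸ N) = LinearMap.id := by
    refine (H12.character_eq_finrank_iff ρ _).1 ?_
    rw [hρ, hval, ← hρ, Representation.char_one]
  have htrans : ∀ h : S, (χ : G ⧸ N → ℂ) ((h * x : S) : G ⧸ N) = (χ : G ⧸ N → ℂ) (h : G ⧸ N) := by
    intro h
    rw [← hρ]
    simp only [Representation.character, Subgroup.coe_mul, map_mul]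
    rw [show ρ ((x : S) : G ⧸ N) = LinearMap.id from hρ1]
    rfl
  have hshift : classInner θ (fun h : S => (χ : G ⧸ N → ℂ) h) =
      θ x * classInner θ (fun h : S => (χ : G ⧸ N → ℂ) h) := by
    rw [H12.classInner_def, mul_left_comm, Finset.mul_sum (a := θ x)]
    congr 1
    refine (Fintype.sum_equiv (Equiv.mulRight x) _ _ fun h => ?_).symm
    simp only [Equiv.coe_mulRight, htrans, hθ, H12.linIrr_apply, map_mul, Units.val_mul]
    ring
  rw [hinner] at hshift
  have hθx : θ x = 1 := by
    have hcne : (c χ : ℂ) ≠ 0 := by exact_mod_cast hcχ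
    exact mul_right_cancel₀ hcne (hshift.symm.trans (one_mul _).symm)
  apply hf
  apply Units.ext
  simpa [hθ, hlam, H12.linIrr_apply] using hθx

/-- A normal subgroup with index prime to `p` over `O_{p'}(G) O_{q'}(G)` is trivial over it. -/
theorem le_of_coprime_step {G : Type u} [Group G] [Finite G] {q : ℕ} (hps : IsPSolvable p G)
    {M : Ideal AlgInt} (hM : IsPModular p M)
    (hker : ∀ χ : IrrCharacter G, χ ∈ principalBlock M G → ¬ p ∣ charDegree (χ : G → ℂ) →
      ∀ m ∈ pPrimeCore q G, (χ : G → ℂ) m = (χ : G → ℂ) 1)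
    (U : Subgroup G) [U.Normal] (hDU : pPrimeCore q G ⊔ pPrimeCore p G ≤ U)
    (hcop : ((pPrimeCore q G ⊔ pPrimeCore p G).relIndex U).Coprime p) :
    U ≤ pPrimeCore q G ⊔ pPrimeCore p G := by
  haveI hNn := H1.pPrimeCore_normal' p G
  haveI hMn := H1.pPrimeCore_normal' q G
  set N := pPrimeCore p G with hNdef
  set f := QuotientGroup.mk' N with hf
  set A := (pPrimeCore q G).map f with hA
  haveI : A.Normal := hMn.map f (QuotientGroup.mk'_surjective N)
  haveI : (U.map f).Normal := Subgroup.Normal.map inferInstance f (QuotientGroup.mk'_surjective N)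
  have hcomap : A.comap f = pPrimeCore q G ⊔ N := by
    rw [hA, Subgroup.comap_map_eq, hf, QuotientGroup.ker_mk']
  have hrel : A.relIndex (U.map f) = (pPrimeCore q G ⊔ N).relIndex U := by
    rw [← hcomap, Subgroup.relIndex_comap]
  obtain ⟨P⟩ : Nonempty (Sylow p (G ⧸ N)) := inferInstance
  have hUA : U.map f ⊓ (P : Subgroup (G ⧸ N)) ≤ A :=
    le_of_coprime_relIndex (U := U.map f) (P.isPGroup'.to_le inf_le_right) inf_le_left
      (hrel.symm ▸ hcop)
  have hUP : U.map f ⊓ (P : Subgroup (G ⧸ N)) ≤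
      ⁅(P : Subgroup (G ⧸ N)), (P : Subgroup (G ⧸ N))⁆ := by
    intro x hx
    obtain ⟨m, hm, rfl⟩ := hUA hx
    exact mem_derived hps hM m (fun χ h1 h2 => hker χ h1 h2 m hm) P hx.2
  have hU := isPGroup_of_inf_le (H10.isPSolvable_quotient hps N)
    (H1.pPrimeCore_quotient_pPrimeCore p) P (U.map f) hUP
  have hle : U.map f ≤ A := le_of_coprime_relIndex hU le_rfl (hrel.symm ▸ hcop)
  intro u hu
  rw [← hcomap]
  exact hle ⟨u, hu, rfl⟩

/-- The two principal blocks determine the prime. -/
theorem eq_of_degree_sets {G : Type u} [Group G] [Finite G] {q : ℕ} [Fact q.Prime]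
    (hpd : p ∣ Nat.card G) (hps : IsPSolvable p G) (hqs : IsPSolvable q G)
    {Mp Mq : Ideal AlgInt} (hMp : IsPModular p Mp) (hMq : IsPModular q Mq)
    (h : ∀ χ : IrrCharacter G,
      (χ ∈ principalBlock Mp G ∧ ¬ p ∣ charDegree (χ : G → ℂ)) ↔
        (χ ∈ principalBlock Mq G ∧ ¬ q ∣ charDegree (χ : G → ℂ))) : p = q := by
  classical
  haveI := Fintype.ofFinite G
  haveI := H20.isPrime_of_modular hMp
  haveI := H20.isPrime_of_modular hMq
  by_contra hpq
  haveI hNn := H1.pPrimeCore_normal' p G
  haveI hMn := H1.pPrimeCore_normal' q G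
  have hkp : ∀ χ : IrrCharacter G, χ ∈ principalBlock Mp G → ¬ p ∣ charDegree (χ : G → ℂ) →
      ∀ m ∈ pPrimeCore q G, (χ : G → ℂ) m = (χ : G → ℂ) 1 := fun χ h1 h2 _ hm =>
    H20.principal_pPrimeCore_ker hMq ((h χ).1 ⟨h1, h2⟩).1 hm
  have hkq : ∀ χ : IrrCharacter G, χ ∈ principalBlock Mq G → ¬ q ∣ charDegree (χ : G → ℂ) →
      ∀ m ∈ pPrimeCore p G, (χ : G → ℂ) m = (χ : G → ℂ) 1 := fun χ h1 h2 _ hm =>
    H20.principal_pPrimeCore_ker hMp ((h χ).2 ⟨h1, h2⟩).1 hm
  set N := pPrimeCore p G with hN
  set D := pPrimeCore q G ⊔ N with hD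
  haveI : D.Normal := Subgroup.sup_normal _ _
  obtain ⟨n, H, h0, hlast, hmono, hnorm, hstep⟩ := id hps
  have key : ∀ i, H i ≤ D := by
    intro i
    induction i using Fin.induction with
    | zero => rw [h0]; exact bot_le
    | succ i ih =>
      haveI := hnorm i.succ
      have hd : D.relIndex (H i.succ ⊔ D) ∣ (H i.castSucc).relIndex (H i.succ) := by
        rw [Subgroup.relIndex_sup_right]
        exact Subgroup.relIndex_dvd_of_le_left _ ih
      have hle : H i.succ ⊔ D ≤ D := by
        rcases H10.IsPorP'.of_dvd (hstep i) hd with ⟨m, hm⟩ | hcop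
        · have := le_of_coprime_step (p := q) (q := p) hqs hMq hkq (H i.succ ⊔ D)
            (by rw [sup_comm N]; exact le_sup_right) (by
              rw [sup_comm N, ← hD, hm]
              exact ((Nat.coprime_primes Fact.out Fact.out).2 hpq).pow_left m)
          rwa [sup_comm N] at this
        · exact le_of_coprime_step hps hMp hkp (H i.succ ⊔ D) le_sup_right hcop
      exact le_sup_left.trans hle
  have htop : D = ⊤ := top_le_iff.1 (hlast ▸ key (Fin.last n))
  obtain ⟨P⟩ : Nonempty (Sylow p (G ⧸ N)) := inferInstance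
  have hPbot : (P : Subgroup (G ⧸ N)) = ⊥ := sylow_eq_bot_of_le_derived P fun x hx => by
    obtain ⟨g, rfl⟩ := QuotientGroup.mk_surjective x
    have hg : g ∈ pPrimeCore q G ⊔ N := by rw [← hD, htop]; trivial
    obtain ⟨a, ha, b, hb, rfl⟩ := Subgroup.mem_sup_of_normal_right.1 hg
    have hab : ((a * b : G) : G ⧸ N) = (a : G ⧸ N) := by
      rw [QuotientGroup.mk_mul, (QuotientGroup.eq_one_iff b).2 hb, mul_one]
    rw [hab] at hx ⊢
    exact mem_derived hps hMp a (fun χ h1 h2 => hkp χ h1 h2 a ha) P hx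
  have hnd : ¬ p ∣ Nat.card (G ⧸ N) := fun hd => P.ne_bot_of_dvd_card hd hPbot
  rw [Subgroup.card_eq_card_quotient_mul_card_subgroup N] at hpd
  exact ((Fact.out : p.Prime).dvd_mul.1 hpd).elim hnd
    (H24.not_dvd_card_pPrimeCore (p := p) Fact.out)

end H60.PrinDeg
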