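import Cfsg.Agent.H60.QQSelfCentral

/-! Finite checks in the model of `Q8 ∘ Q8`. -/

set_option autoImplicit false

namespace H60.QQ

def tauF : QuaternionGroup 2 → QuaternionGroup 2
  | .a i => QuaternionGroup.xa 0 ^ i.val
  | .xa i => QuaternionGroup.a 1 * QuaternionGroup.xa 0 ^ i.val
def tauH : QuaternionGroup 2 →* QuaternionGroup 2 := MonoidHom.mk' tauF (by decide +kernel)
def six : Fin 6 → (QuaternionGroup 2 →* QuaternionGroup 2)
  | 0 => MonoidHom.id _ | 1 => cycHom | 2 => cycHom.comp cycHom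
  | 3 => tauH | 4 => tauH.comp cycHom | 5 => tauH.comp (cycHom.comp cycHom)
theorem six_inj : ∀ k, ∀ u v, six k u = six k v → u = v := by decide +kernel
theorem six_two : ∀ k, six k (QuaternionGroup.a 2) = QuaternionGroup.a 2 := by decide +kernel
def Ok (k : Fin 6) (θ : QuaternionGroup 2 →* QuaternionGroup 2) (p q : W) : Prop :=
  ∀ d : W, d ∈ Diag θ → ¬ Zc (p⁻¹ * (d.1, six k d.2)) ∧
    (Kc (p * (d.1, six k d.2) * ((d.1, six k d.2) * p)⁻¹) → ¬ Zc d →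
      ¬ Zc (((d.1, six k d.2))⁻¹ * q) ∧ ¬ Zc (((d.1, six k d.2) * p)⁻¹ * q))
instance (k θ p q) : Decidable (Ok k θ p q) := by unfold Ok; infer_instance
def reps : List (QuaternionGroup 2) :=
  [1, QuaternionGroup.a 1, QuaternionGroup.xa 0, QuaternionGroup.a 1 * QuaternionGroup.xa 0]

def repW : List W := reps.flatMap fun u => reps.map fun v => (u, v)

theorem exists_rep : ∀ p : W, ∃ r ∈ repW, Zc (r⁻¹ * p) := by decide +kernel

theorem choice_reps : ∀ p ∈ repW, Kc (p * p) → ¬ Zc p → ∀ q ∈ repW, Kc (p * q * (q * p)⁻¹) → ∃ k : Fin 6,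
    Ok k (MonoidHom.id _) p q ∧ Ok k cycHom p q := by decide +kernel

theorem zc_facts : ∀ d : W, Zc d → d * d = 1 := by decide +kernel

theorem zc_iff_mul (x : W) {d : W} (hd : Zc d) : Zc (x * d) ↔ Zc x := by
  refine ⟨fun h => ?_, fun h => zc_mul _ _ h hd⟩
  have := zc_mul _ _ h (zc_inv _ hd)
  rwa [mul_inv_cancel_right] at this

theorem comm_shift (p e : W) {d : W} (hd : Zc d) : p * d * e * (e * (p * d))⁻¹ = p * e * (e * p)⁻¹ := by
  rw [mul_inv_rev, mul_inv_rev, mul_inv_rev, mul_assoc p d e, ← zc_central e d hd, mul_assoc d⁻¹ p⁻¹ e⁻¹,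
    ← zc_central (p⁻¹ * e⁻¹) d⁻¹ (zc_inv _ hd)]
  rw [show p * (e * d) * (p⁻¹ * e⁻¹ * d⁻¹) = p * e * (d * (p⁻¹ * e⁻¹)) * d⁻¹ by group,
    ← zc_central (p⁻¹ * e⁻¹) d hd]
  group

theorem choice_spec (p : W) (hp : Kc (p * p)) (hpZ : ¬ Zc p) (q : W) (hpq : Kc (p * q * (q * p)⁻¹)) :
    ∃ k : Fin 6, Ok k (MonoidHom.id _) p q ∧ Ok k cycHom p q := by
  obtain ⟨r, hr, hz⟩ := exists_rep p
  obtain ⟨s, hs, hw⟩ := exists_rep q
  obtain ⟨d, hd, rfl⟩ : ∃ d, Zc d ∧ p = r * d := ⟨r⁻¹ * p, hz, (mul_inv_cancel_left r p).symm⟩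
  obtain ⟨d', hd', rfl⟩ : ∃ d, Zc d ∧ q = s * d := ⟨s⁻¹ * q, hw, (mul_inv_cancel_left s q).symm⟩
  have e1 : r * d * (r * d) = r * r := by
    rw [Commute.mul_mul_mul_comm (zc_central r d hd).symm, zc_facts d hd, mul_one]
  have e2 : ∀ x y : W, x * y * (y * x)⁻¹ = (y * x * (x * y)⁻¹)⁻¹ := fun x y => by group
  have e3 : r * d * (s * d') * (s * d' * (r * d))⁻¹ = r * s * (s * r)⁻¹ := by
    rw [comm_shift r (s * d') hd, e2, comm_shift s r hd', ← e2]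
  rw [e1] at hp
  rw [e3] at hpq
  obtain ⟨k, h1, h2⟩ := choice_reps r hr hp (fun h => hpZ ((zc_iff_mul r hd).mpr h)) s hs hpq
  have key : ∀ θ, Ok k θ r s → Ok k θ (r * d) (s * d') := by
    intro θ h x hx
    obtain ⟨f1, f2⟩ := h x hx
    set e : W := (x.1, six k x.2)
    refine ⟨fun hz' => f1 ?_, fun hc hxz => ?_⟩
    · rw [mul_inv_rev, mul_assoc, ← zc_central _ _ (zc_inv _ hd)] at hz'
      exact (zc_iff_mul _ (zc_inv _ hd)).mp hz'
    rw [comm_shift r e hd] at hc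
    obtain ⟨g1, g2⟩ := f2 hc hxz
    refine ⟨fun hz' => g1 ?_, fun hz' => g2 ?_⟩
    · rw [← mul_assoc] at hz'
      exact (zc_iff_mul _ hd').mp hz'
    · rw [← mul_assoc e r d, mul_inv_rev (e * r) d, ← zc_central _ _ (zc_inv _ hd), mul_assoc, ← mul_assoc d⁻¹,
        ← zc_central s _ (zc_inv _ hd), mul_assoc s, ← mul_assoc] at hz'
      exact (zc_iff_mul _ (zc_mul _ _ (zc_inv _ hd) hd')).mp hz'
  exact ⟨k, key _ h1, key _ h2⟩

theorem inner4 : ∀ d1 : W, Zc d1 → ∀ d2 : W, Zc d2 → ∀ d3 : W, Zc d3 → ∀ d4 : W, Zc d4 → ∃ w : W,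
    Kc (w * gi * w⁻¹ * (gi * d1)⁻¹) ∧ Kc (w * gj * w⁻¹ * (gj * d2)⁻¹) ∧
    Kc (w * ga * w⁻¹ * (ga * d3)⁻¹) ∧ Kc (w * gb * w⁻¹ * (gb * d4)⁻¹) := by decide +kernel
theorem cen4 : ∀ p : W, Kc (p * gi * (gi * p)⁻¹) → Kc (p * gj * (gj * p)⁻¹) →
    Kc (p * ga * (ga * p)⁻¹) → Kc (p * gb * (gb * p)⁻¹) → Zc p := by decide +kernel
theorem gen4 : ∀ p : W, ∃ k l m n : Fin 4, p = gi ^ k.val * gj ^ l.val * ga ^ m.val * gb ^ n.val := by decide +kernel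

end H60.QQ
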