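import Mathlib
import Cfsg.Agent.H60.QQChoice
import Cfsg.Agent.H60.FixedFourGen
import Cfsg.Agent.H31.SmallCentralizer
import Cfsg.Agent.H65.RankThree

/-! A 2-group with a subgroup `Q8 ∘ Q8` containing its centraliser has sectional rank at most four. -/

set_option autoImplicit false
set_option linter.style.haveILetI false
set_option linter.unusedSectionVars false

namespace H60.QQ

open H31.SR
open scoped commutatorElement

universe u

variable {S : Type u} [Group S] [Finite S]

theorem exists_central_mod (h2 : IsPGroup 2 S) (A : Subgroup S) [A.Normal] (K : Subgroup S) [K.Normal]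
    (hne : ¬ K ≤ A) : ∃ x ∈ K, x ∉ A ∧ x * x ∈ A ∧ ∀ g : S, ⁅g, x⁆ ∈ A := by
  haveI : Fact (Nat.Prime 2) := ⟨Nat.prime_two⟩
  set π := QuotientGroup.mk' A
  haveI : (K.map π).Normal := Subgroup.Normal.map inferInstance π (QuotientGroup.mk'_surjective A)
  have hnb : K.map π ≠ ⊥ := fun e => hne fun k hk => (QuotientGroup.eq_one_iff k).mp
    (Subgroup.mem_bot.mp (e ▸ ⟨k, hk, rfl⟩ : π k ∈ (⊥ : Subgroup (S ⧸ A))))
  have hinf := H6.inf_center_ne_bot (h2.to_quotient A) hnb
  obtain ⟨⟨q, hq⟩, hqo⟩ := exists_prime_orderOf_dvd_card' (G := ↥(K.map π ⊓ Subgroup.center (S ⧸ A))) 2 (by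
    obtain ⟨n, hn⟩ := IsPGroup.iff_card.mp ((h2.to_quotient A).to_subgroup (K.map π ⊓ Subgroup.center (S ⧸ A)))
    rcases n with - | n
    · exact absurd (Subgroup.card_eq_one.mp (by simpa using hn)) hinf
    · exact ⟨2 ^ n, by rw [hn, pow_succ']⟩)
  rw [Subgroup.orderOf_mk] at hqo
  obtain ⟨⟨x, hx, hxq⟩, hqc⟩ := Subgroup.mem_inf.mp hq
  refine ⟨x, hx, fun hxA => ?_, ?_, fun g => ?_⟩
  · have h1 : q = 1 := hxq ▸ (QuotientGroup.eq_one_iff x).mpr hxA
    rw [h1, orderOf_one] at hqo
    omega
  · refine (QuotientGroup.eq_one_iff _).mp ?_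
    show π (x * x) = 1
    rw [map_mul, hxq, ← pow_two, ← hqo, pow_orderOf_eq_one]
  · refine (QuotientGroup.eq_one_iff _).mp ?_
    show π ⁅g, x⁆ = 1
    rw [map_commutatorElement, hxq, commutatorElement_eq_one_iff_mul_comm]
    exact Subgroup.mem_center_iff.mp hqc (π g)

theorem card_pair_le (p q : S) : Nat.card ({p, q} : Set S) ≤ 2 := by
  rw [Nat.card_coe_set_eq]
  refine le_trans (Set.ncard_insert_le _ _) ?_
  rw [Set.ncard_singleton]

/-- The configuration. -/
structure Conf (z t y a b : S) : Prop where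
  zc : ∀ g : S, g * z = z * g
  zz : z * z = 1
  z1 : z ≠ 1
  tt : t * t = 1
  t1 : t ≠ 1
  tz : t ≠ z
  hcomm : ∀ g : S, ⁅g, t⁆ = 1 ∨ ⁅g, t⁆ = z
  aa : a * a = 1
  bb : b * b = 1
  ab : a * b = b * a
  hat : ⁅a, t⁆ = z
  bt : b * t = t * b
  fixab : ∀ x : S, x * t = t * x → x * a = a * x → x * b = b * x → x = 1 ∨ x = z ∨ x = b ∨ x = z * b
  bW : ¬ InW z t b
  yt : y * t = t * y
  yW : ¬ InW z t y
  ysq : InW z t (y * y)
  ycomm : ∀ g : S, InW z t ⁅g, y⁆
  ya : y * a = a * y
  yb : ¬ InW z t (b⁻¹ * y)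

/-- Big sections of a group with an element with a small centraliser. -/
theorem big_section (h2 : IsPGroup 2 S) {H N M : Subgroup S} (hH : H ≤ M) (hs : Sec H N) {b : S} (hbM : b ∈ M)
    (hM : Nat.card M ≤ 64) (hC : Nat.card ↥(Subgroup.centralizer ({b} : Set S)) ≤ 16)
    (hgt : 2 ^ 4 < N.relIndex H) : Nat.card H = 32 ∧ N = ⊥ ∧ Nat.card M = 64 ∧ b ∉ H := by
  obtain ⟨k, hk⟩ := Sec.two_pow (H := H) (N := N) h2
  rw [hk] at hgt
  have hk5 : 4 < k := (Nat.pow_lt_pow_iff_right one_lt_two).mp hgt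
  have h32 : 32 ≤ N.relIndex H := by
    rw [hk]; exact le_trans (by norm_num) (Nat.pow_le_pow_right two_pos hk5)
  have hHN := relIndex_mul_card hs.le
  have hN0 := Nat.card_pos (α := N)
  have hbH : b ∉ H := by
    intro hbH
    have h1 := card_le_mul b ((fun n => n * b) '' (N : Set S)) (M := H) fun g hg =>
      ⟨⁅g, b⁆, hs.comm g hg b hbH, (conj_eq g b).symm⟩
    have himg : Nat.card ((fun n => n * b) '' (N : Set S)) ≤ Nat.card N := by
      rw [Nat.card_coe_set_eq]
      exact le_trans (Set.ncard_image_le (Set.toFinite _)) (Nat.card_coe_set_eq _).symm.le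
    have h3 : Nat.card ↥(H ⊓ Subgroup.centralizer ({b} : Set S)) ≤ 16 :=
      (Subgroup.card_le_of_le inf_le_right).trans hC
    have h4 := h1.trans (Nat.mul_le_mul h3 himg)
    rw [← hHN] at h4
    have := Nat.le_of_mul_le_mul_right h4 hN0
    omega
  obtain ⟨d, hd⟩ := Subgroup.card_dvd_of_le hH
  have hd2 : 2 ≤ d := by
    by_contra hd2
    have hd1 : d = 1 := by
      rcases Nat.eq_zero_or_pos d with h | h
      · rw [h, mul_zero] at hd; exact absurd hd (Nat.card_pos (α := M)).ne'
      · omega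
    rw [hd1, mul_one] at hd
    exact hbH (by rw [Subgroup.eq_of_le_of_card_ge hH hd.le]; exact hbM)
  have hle : Nat.card H * 2 ≤ Nat.card M := hd ▸ Nat.mul_le_mul_left _ hd2
  have h5 : 32 * Nat.card N ≤ Nat.card H := hHN ▸ Nat.mul_le_mul_right _ h32
  exact ⟨by omega, Subgroup.card_eq_one.mp (by omega), by omega, hbH⟩

theorem bd_of_conf (h2 : IsPGroup 2 S) {z t y a b : S} (h : Conf z t y a b) : Bd 4 (⊤ : Subgroup S) := by
  classical
  haveI : Fact (Nat.Prime 2) := ⟨Nat.prime_two⟩
  set M := Subgroup.centralizer ({t} : Set S) with hMdef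
  set Cs := Subgroup.centralizer ({b} : Set S) with hCsdef
  set K := M ⊓ Subgroup.centralizer ({y} : Set S) with hKdef
  have hzt : z * t = t * z := (h.zc t).symm
  set W := four z t h.zz h.tt hzt with hWdef
  have hmemW : ∀ x, x ∈ W ↔ InW z t x := fun x => Iff.rfl
  have hM' : ∀ x, x ∈ M ↔ x * t = t * x := fun x => Subgroup.mem_centralizer_singleton_iff
  have hzM : z ∈ M := (hM' z).mpr hzt
  have hWM : ∀ w, InW z t w → ∀ x ∈ M, x * w = w * x := by
    intro w hw x hx
    rcases hw with rfl | rfl | rfl | rfl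
    · rw [one_mul, mul_one]
    · exact h.zc x
    · exact (hM' x).mp hx
    · rw [← mul_assoc, h.zc x, mul_assoc, (hM' x).mp hx, mul_assoc]
  have hWin : ∀ w, InW z t w → w ∈ M := by
    rintro w (rfl | rfl | rfl | rfl)
    exacts [one_mem _, hzM, (hM' _).mpr rfl, mul_mem hzM ((hM' _).mpr rfl)]
  have hWsq : ∀ w, InW z t w → w * w = 1 := by
    rintro w (rfl | rfl | rfl | rfl)
    · exact one_mul 1
    · exact h.zz
    · exact h.tt
    · rw [Commute.mul_mul_mul_comm (h.zc t), h.zz, h.tt, one_mul]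
  have hat' : a * t * a⁻¹ = z * t := by rw [conj_eq, h.hat]
  have hazt : a * (z * t) * a⁻¹ = t := by
    rw [← mul_assoc, h.zc a, mul_assoc z a t, mul_assoc z, hat', ← mul_assoc, h.zz, one_mul]
  have hafix : ∀ w, InW z t w → a * w * a⁻¹ = w → w = 1 ∨ w = z := by
    rintro w (rfl | rfl | rfl | rfl) e
    · exact Or.inl rfl
    · exact Or.inr rfl
    · exact absurd (mul_eq_right.mp (hat'.symm.trans e)) h.z1
    · exact absurd (mul_eq_right.mp (hazt.symm.trans e).symm) h.z1
  have key : ∀ x w, InW z t w → a * x * a⁻¹ = w * x → w = 1 ∨ w = z := by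
    intro x w hw e
    refine hafix w hw ?_
    have h1 : a * (a * x * a⁻¹) * a⁻¹ = x := by
      rw [show a * (a * x * a⁻¹) * a⁻¹ = (a * a) * x * (a * a)⁻¹ by group, h.aa]; group
    rw [e, show a * (w * x) * a⁻¹ = a * w * a⁻¹ * (a * x * a⁻¹) by group, e, ← mul_assoc, mul_eq_right] at h1
    rw [eq_inv_of_mul_eq_one_left h1]
    exact inv_eq_of_mul_eq_one_right (hWsq w hw)
  have hconjM : ∀ g x : S, x ∈ M → g * x * g⁻¹ ∈ M := by
    intro g x hx
    rw [hM'] at hx ⊢
    have h3 : g * x * g⁻¹ * (g * t * g⁻¹) = g * t * g⁻¹ * (g * x * g⁻¹) := by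
      rw [show g * x * g⁻¹ * (g * t * g⁻¹) = g * (x * t) * g⁻¹ by group, hx]; group
    rw [conj_eq g t] at h3
    rcases h.hcomm g with e | e <;> rw [e] at h3
    · rwa [one_mul] at h3
    · rw [← mul_assoc, h.zc (g * x * g⁻¹), mul_assoc, mul_assoc z] at h3
      exact mul_left_cancel h3
  have hyy : y * y = 1 ∨ y * y = z := hafix _ h.ysq (by
    rw [← mul_assoc a y y, ← h.ya, mul_assoc y a y, ← h.ya, ← mul_assoc, mul_inv_cancel_right])
  have hby : ⁅b, y⁆ = z := by
    have hab' : a * b * a⁻¹ = b := by rw [h.ab, mul_inv_cancel_right]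
    have hay' : a * y * a⁻¹ = y := by rw [← h.ya, mul_inv_cancel_right]
    have h1 : a * ⁅b, y⁆ * a⁻¹ = ⁅b, y⁆ := by
      calc a * ⁅b, y⁆ * a⁻¹ = ⁅a * b * a⁻¹, a * y * a⁻¹⁆ := by simp only [commutatorElement_def]; group
        _ = ⁅b, y⁆ := by rw [hab', hay']
    refine (hafix _ (h.ycomm b) h1).resolve_left fun e => ?_
    rcases h.fixab y h.yt h.ya (commutatorElement_eq_one_iff_mul_comm.mp e).symm with e' | e' | e' | e'
    · exact h.yW (Or.inl e')
    · exact h.yW (Or.inr (Or.inl e'))
    · exact h.yb (Or.inl (by rw [e', inv_mul_cancel]))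
    · exact h.yb (Or.inr (Or.inl (by rw [e', ← mul_assoc, h.zc b⁻¹, inv_mul_cancel_right])))
  have hyb : ⁅y, b⁆ = z := by
    rw [← commutatorElement_inv b y, hby]; exact inv_eq_of_mul_eq_one_right h.zz
  have hyzb : ∀ x, (x = b ∨ x = z * b) → y * x ≠ x * y := by
    intro x hx e
    have e' : y * b = b * y := by
      rcases hx with rfl | rfl
      · exact e
      · rw [← mul_assoc, h.zc y, mul_assoc, mul_assoc z] at e
        exact mul_left_cancel e
    exact h.z1 (hyb.symm.trans (commutatorElement_eq_one_iff_mul_comm.mpr e'))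
  have hbM : b ∈ M := (hM' b).mpr h.bt
  have hyM : y ∈ M := (hM' y).mpr h.yt
  -- the fixed points
  have hfix : ∀ x, x ∈ M → x * b = b * x → x * y = y * x → InW z t x := by
    intro x hxM hxb hxy
    by_contra hxW
    set N := M ⊓ Cs ⊓ Subgroup.centralizer ({y} : Set S) with hNdef
    have hN : ∀ n ∈ N, a * n * a⁻¹ ∈ N := by
      rintro n ⟨⟨hn1, hn2⟩, hn3⟩
      refine ⟨⟨hconjM a n hn1, ?_⟩, ?_⟩
      · refine Subgroup.mem_centralizer_singleton_iff.mpr ?_
        replace hn2 : n * b = b * n := Subgroup.mem_centralizer_singleton_iff.mp hn2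
        calc a * n * a⁻¹ * b = a * n * (a⁻¹ * b) := by group
          _ = a * (n * b) * a⁻¹ := by
            rw [(Commute.inv_left (h.ab : Commute a b)).eq]; group
          _ = a * b * (n * a⁻¹) := by rw [hn2]; group
          _ = b * (a * n * a⁻¹) := by rw [h.ab]; group
      · refine Subgroup.mem_centralizer_singleton_iff.mpr ?_
        replace hn3 : n * y = y * n := Subgroup.mem_centralizer_singleton_iff.mp hn3
        calc a * n * a⁻¹ * y = a * n * (a⁻¹ * y) := by group
          _ = a * (n * y) * a⁻¹ := by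
            rw [(Commute.inv_left (h.ya.symm : Commute a y)).eq]; group
          _ = a * y * (n * a⁻¹) := by rw [hn3]; group
          _ = y * (a * n * a⁻¹) := by rw [← h.ya]; group
    obtain ⟨w, ⟨⟨hwM, hwb⟩, hwy⟩, hwW, hw⟩ := SR.exists_fixed_coset h2 (fun g => by rw [h.aa, one_mul, mul_one]) N W hN
      (x := x) ⟨⟨hxM, Subgroup.mem_centralizer_singleton_iff.mpr hxb⟩, Subgroup.mem_centralizer_singleton_iff.mpr hxy⟩
      (fun e => hxW ((hmemW x).mp e))
    replace hwb : w * b = b * w := Subgroup.mem_centralizer_singleton_iff.mp hwb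
    replace hwy : w * y = y * w := Subgroup.mem_centralizer_singleton_iff.mp hwy
    rcases key w _ ((hmemW _).mp hw) (conj_eq a w) with e | e
    · have hwa : w * a = a * w := (commutatorElement_eq_one_iff_mul_comm.mp e).symm
      rcases h.fixab w ((hM' w).mp hwM) hwa hwb with e' | e' | e' | e'
      · exact hwW (e' ▸ W.one_mem)
      · exact hwW ((hmemW w).mpr (Or.inr (Or.inl e')))
      · exact hyzb w (Or.inl e') hwy.symm
      · exact hyzb w (Or.inr e') hwy.symm
    · have htM : t ∈ M := (hM' t).mpr rfl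
      have hwt : (w * t) * a = a * (w * t) := by
        have h1 : a * (w * t) * a⁻¹ = w * t := by
          rw [show a * (w * t) * a⁻¹ = a * w * a⁻¹ * (a * t * a⁻¹) by group, conj_eq a w, e, hat',
            ← mul_assoc (z * w), mul_assoc z w z, h.zc w, ← mul_assoc z, h.zz, one_mul]
        calc w * t * a = a * (w * t) * a⁻¹ * a := by rw [h1]
          _ = _ := by group
      have hwtb : (w * t) * b = b * (w * t) := (Commute.mul_left (hwb : Commute w b) (h.bt.symm : Commute t b)).eq
      have hwty : (w * t) * y = y * (w * t) := (Commute.mul_left (hwy : Commute w y) (h.yt.symm : Commute t y)).eq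
      have hback : ∀ s, InW z t s → w * t = s → False := fun s hs e' => hwW (by
        have : w = s * t := by rw [← e', mul_assoc, h.tt, mul_one]
        rw [this]
        exact mul_mem ((hmemW s).mpr hs) ((hmemW t).mpr (Or.inr (Or.inr (Or.inl rfl)))))
      rcases h.fixab (w * t) ((hM' _).mp (mul_mem hwM htM)) hwt hwtb with e' | e' | e' | e'
      · exact hback 1 (Or.inl rfl) e'
      · exact hback z (Or.inr (Or.inl rfl)) e'
      · exact hyzb _ (Or.inl e') hwty.symm
      · exact hyzb _ (Or.inr e') hwty.symm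
  -- the centraliser of `b`
  have hCs2 : Nat.card Cs ≤ Nat.card ↥(M ⊓ Cs) * 2 := by
    refine le_trans (card_le_mul t ({t, z * t} : Set S) (M := Cs) fun g _ => ?_) ?_
    · rw [conj_eq]
      rcases h.hcomm g with e | e <;> rw [e]
      · rw [one_mul]; exact Or.inl rfl
      · exact Or.inr rfl
    · rw [inf_comm]
      exact Nat.mul_le_mul_left _ (card_pair_le _ _)
  have hLfix : Nat.card ↥(M ⊓ Cs ⊓ Subgroup.centralizer ({y} : Set S)) ≤ 4 := by
    refine le_trans (Subgroup.card_le_of_le (K := W) fun x hx => (hmemW x).mpr (hfix x hx.1.1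
      (Subgroup.mem_centralizer_singleton_iff.mp hx.1.2) (Subgroup.mem_centralizer_singleton_iff.mp hx.2))) ?_
    exact (card_four h.z1 h.t1 (Ne.symm h.tz)).le
  have hWset : Nat.card ((fun w => w * y) '' (W : Set S)) ≤ 4 := by
    rw [Nat.card_coe_set_eq]
    refine le_trans (Set.ncard_image_le (Set.toFinite _)) ?_
    rw [← Nat.card_coe_set_eq]
    exact (card_four h.z1 h.t1 (Ne.symm h.tz)).le
  have hL16 : Nat.card ↥(M ⊓ Cs) ≤ 4 * 4 :=
    (card_le_mul y ((fun w => w * y) '' (W : Set S)) fun g _ => ⟨⁅g, y⁆, (hmemW _).mpr (h.ycomm g), (conj_eq g y).symm⟩).trans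
      (Nat.mul_le_mul hLfix hWset)
  by_cases hx : ∃ x ∈ M ⊓ Cs, ⁅y, x⁆ = t ∨ ⁅y, x⁆ = z * t
  · obtain ⟨x, ⟨hxM, hxb⟩, hxy⟩ := hx
    set e := ⁅a, x⁆ with he
    have haCs : a ∈ Cs := Subgroup.mem_centralizer_singleton_iff.mpr h.ab
    have heM : e ∈ M := mul_mem (hconjM a x hxM) (inv_mem hxM)
    have heCs : e ∈ Cs := by
      rw [he, commutatorElement_def]
      exact mul_mem (mul_mem (mul_mem haCs hxb) (inv_mem haCs)) (inv_mem hxb)
    have hay' : a * y * a⁻¹ = y := by rw [← h.ya, mul_inv_cancel_right]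
    have hye : ⁅y, e⁆ = z := by
      have h1 : a * ⁅y, x⁆ * a⁻¹ = ⁅y, e⁆ * ⁅y, x⁆ := by
        calc a * ⁅y, x⁆ * a⁻¹ = ⁅a * y * a⁻¹, a * x * a⁻¹⁆ := by simp only [commutatorElement_def]; group
          _ = ⁅y, e * x⁆ := by rw [hay', conj_eq a x]
          _ = ⁅y, e⁆ * ⁅y, x⁆ := by
            have hyxW : InW z t ⁅y, x⁆ := by
              rcases hxy with e' | e' <;> rw [e']
              exacts [Or.inr (Or.inr (Or.inl rfl)), Or.inr (Or.inr (Or.inr rfl))]
            rw [conj_mul_right, hWM ⁅y, x⁆ hyxW e heM, mul_inv_cancel_right]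
      rcases hxy with e' | e' <;> rw [e'] at h1
      · rw [hat'] at h1; exact (mul_right_cancel h1).symm
      · rw [hazt] at h1
        refine (mul_right_cancel (b := z * t) ?_).symm
        rw [← h1, ← mul_assoc, h.zz, one_mul]
    have hebc : e * b = b * e := Subgroup.mem_centralizer_singleton_iff.mp heCs
    have heb : InW z t (e * b) := by
      refine hfix _ (mul_mem heM hbM) ?_ ?_
      · exact (Commute.mul_left (hebc : Commute e b) (Commute.refl b)).eq
      · refine (commutatorElement_eq_one_iff_mul_comm.mp ?_).symm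
        rw [conj_mul_right, hye, hyb, h.zc e, mul_inv_cancel_right, h.zz]
    have hainv : a * e * a⁻¹ = e⁻¹ := by
      refine eq_inv_of_mul_eq_one_left ?_
      rw [he, show a * ⁅a, x⁆ * a⁻¹ * ⁅a, x⁆ = (a * a) * x * (a * a)⁻¹ * x⁻¹ by
        simp only [commutatorElement_def]; group, h.aa]
      group
    have hebe : e = e * b * b := by rw [mul_assoc, h.bb, mul_one]
    have hw : e * b = 1 ∨ e * b = z := by
      refine hafix _ heb ?_
      have hab' : a * b * a⁻¹ = b := by rw [h.ab, mul_inv_cancel_right]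
      rw [show a * (e * b) * a⁻¹ = a * e * a⁻¹ * (a * b * a⁻¹) by group, hainv, hab']
      have hee : e * e = 1 := by
        have h1 := hWsq _ heb
        rwa [Commute.mul_mul_mul_comm (hebc.symm : Commute b e), h.bb, mul_one] at h1
      rw [inv_eq_of_mul_eq_one_right hee]
    have hev : e = b ∨ e = z * b := by
      rw [hebe]
      rcases hw with e' | e' <;> rw [e']
      · exact Or.inl (one_mul b)
      · exact Or.inr rfl
    have hCe : Subgroup.centralizer ({e} : Set S) = Cs := by
      ext g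
      rw [hCsdef, Subgroup.mem_centralizer_singleton_iff, Subgroup.mem_centralizer_singleton_iff]
      rcases hev with e' | e' <;> rw [e']
      rw [← mul_assoc, h.zc g, mul_assoc, mul_assoc z]
      exact mul_right_inj z
    refine bd_four _ h2 e rfl ?_ (by rw [hCe]; omega) ?_
    · rcases hev with e' | e' <;> rw [e']
      · exact fun e'' => h.bW (Or.inl e'')
      · exact fun e'' => h.bW (Or.inr (Or.inl ((eq_inv_of_mul_eq_one_right e'').trans
          (inv_eq_of_mul_eq_one_right h.zz))))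
    · rw [hCe, he]
      exact Subgroup.commutator_mem_commutator haCs hxb
  push Not at hx
  have hL8 : Nat.card ↥(M ⊓ Cs) ≤ 4 * 2 := by
    refine le_trans (card_le_mul y ({y, z * y} : Set S) fun g hg => ?_)
      (Nat.mul_le_mul hLfix (card_pair_le _ _))
    rw [conj_eq]
    have hg' := hx g hg
    rcases h.ycomm g with e | e | e | e
    · rw [e, one_mul]; exact Or.inl rfl
    · rw [e]; exact Or.inr rfl
    all_goals exfalso
    · refine hg'.1 ?_
      rw [← commutatorElement_inv g y, e]; exact inv_eq_of_mul_eq_one_right h.tt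
    · refine hg'.2 ?_
      rw [← commutatorElement_inv g y, e]; exact inv_eq_of_mul_eq_one_right (hWsq _ (Or.inr (Or.inr (Or.inr rfl))))
  have hCs16 : Nat.card Cs ≤ 16 := by omega
  -- the kernel
  have hKn : ∀ g : S, ∀ k ∈ K, g * k * g⁻¹ ∈ K := by
    rintro g k ⟨hk1, hk2⟩
    refine ⟨hconjM g k hk1, ?_⟩
    refine Subgroup.mem_centralizer_singleton_iff.mpr ?_
    replace hk2 : k * y = y * k := Subgroup.mem_centralizer_singleton_iff.mp hk2
    have h3 : g * k * g⁻¹ * (g * y * g⁻¹) = g * y * g⁻¹ * (g * k * g⁻¹) := by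
      rw [show g * k * g⁻¹ * (g * y * g⁻¹) = g * (k * y) * g⁻¹ by group, hk2]; group
    rw [conj_eq g y, ← mul_assoc, hWM _ (h.ycomm g) _ (hconjM g k hk1), mul_assoc, mul_assoc ⁅g, y⁆] at h3
    exact mul_left_cancel h3
  haveI : K.Normal := ⟨fun k hk g => hKn g k hk⟩
  have hzK : z ∈ K := ⟨hzM, Subgroup.mem_centralizer_singleton_iff.mpr (h.zc y).symm⟩
  have htK : t ∈ K := ⟨(hM' t).mpr rfl, Subgroup.mem_centralizer_singleton_iff.mpr h.yt.symm⟩
  have hyK : y ∈ K := ⟨hyM, Subgroup.mem_centralizer_singleton_iff.mpr rfl⟩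
  have hS2 : Nat.card S ≤ 2 * Nat.card M := by
    rw [← Subgroup.card_top (G := S), mul_comm 2]
    refine le_trans (card_le_mul t ({t, z * t} : Set S) (M := (⊤ : Subgroup S)) fun g _ => ?_) ?_
    · rw [conj_eq]
      rcases h.hcomm g with e | e <;> rw [e]
      · rw [one_mul]; exact Or.inl rfl
      · exact Or.inr rfl
    · rw [top_inf_eq]
      exact Nat.mul_le_mul_left _ (card_pair_le _ _)
  have hMK : Nat.card M ≤ Nat.card K * 4 :=
    (card_le_mul y ((fun w => w * y) '' (W : Set S)) fun g _ => ⟨⁅g, y⁆, (hmemW _).mpr (h.ycomm g), (conj_eq g y).symm⟩).trans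
      (Nat.mul_le_mul_left _ hWset)
  have hMK2 : (∀ g ∈ M, ⁅g, y⁆ = 1 ∨ ⁅g, y⁆ = z) → Nat.card M ≤ Nat.card K * 2 := by
    intro hall
    refine le_trans (card_le_mul y ({y, z * y} : Set S) fun g hg => ?_) (Nat.mul_le_mul_left _ (card_pair_le _ _))
    rw [conj_eq]
    rcases hall g hg with e | e <;> rw [e]
    · rw [one_mul]; exact Or.inl rfl
    · exact Or.inr rfl
  -- the recursion inside the generated subgroup
  set G := K ⊔ Subgroup.zpowers b ⊔ Subgroup.zpowers a with hGdef
  have hKG : K ≤ G := le_sup_left.trans le_sup_left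
  have hbG : b ∈ G := Subgroup.mem_sup_left (Subgroup.mem_sup_right (Subgroup.mem_zpowers b))
  have haG : a ∈ G := Subgroup.mem_sup_right (Subgroup.mem_zpowers a)
  have hCfg : SR.Cfg (K.subgroupOf G) (⟨b, hbG⟩ : G) ⟨a, haG⟩ ⟨z, hKG hzK⟩ ⟨t, hKG htK⟩ ⟨y, hKG hyK⟩ := by
    refine
      { normal := fun g k hk => Subgroup.mem_subgroupOf.mpr (hKn g k hk)
        gen := ?_
        usq := fun g => Subtype.ext (by show (g : S) * (b * b) = b * b * g; rw [h.bb, mul_one, one_mul])
        cu := Subtype.ext h.ab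
        zc := fun g => Subtype.ext (h.zc g)
        zsq := Subtype.ext h.zz
        z2sq := Subtype.ext h.tt
        zne := fun e => h.z1 (congrArg Subtype.val e)
        z2ne := fun e => h.t1 (congrArg Subtype.val e)
        z2nz := fun e => h.tz (congrArg Subtype.val e)
        zK := Subgroup.mem_subgroupOf.mpr hzK
        z2K := Subgroup.mem_subgroupOf.mpr htK
        z4K := Subgroup.mem_subgroupOf.mpr hyK
        z2c := fun k hk => Subtype.ext ((hM' k).mp (Subgroup.mem_subgroupOf.mp hk).1)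
        z4c := fun k hk => Subtype.ext (Subgroup.mem_centralizer_singleton_iff.mp (Subgroup.mem_subgroupOf.mp hk).2)
        hz2 := fun g => (h.hcomm g).imp (fun e => Subtype.ext e) (fun e => Subtype.ext e)
        cz2 := Subtype.ext h.hat
        uz2 := Subtype.ext (commutatorElement_eq_one_iff_mul_comm.mpr h.bt)
        fix := ?_
        uz4 := Subtype.ext hby
        hz4 := ?_
        z4sq := ?_ }
    · intro L hK hb ha
      refine eq_top_iff.mpr fun x _ => ?_
      have hle : G ≤ L.map G.subtype := by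
        refine sup_le (sup_le ?_ ?_) ?_
        · exact fun k hk => ⟨⟨k, hKG hk⟩, hK (Subgroup.mem_subgroupOf.mpr hk), rfl⟩
        · exact Subgroup.zpowers_le.mpr ⟨_, hb, rfl⟩
        · exact Subgroup.zpowers_le.mpr ⟨_, ha, rfl⟩
      obtain ⟨x', hx', e⟩ := hle x.2
      rwa [← show x' = x from Subtype.ext e]
    · intro k hk e
      have e' : ⁅b, (k : S)⁆ = 1 := congrArg Subtype.val e
      obtain ⟨hk1, hk2⟩ := Subgroup.mem_subgroupOf.mp hk
      rcases hfix k hk1 (commutatorElement_eq_one_iff_mul_comm.mp e').symm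
          (Subgroup.mem_centralizer_singleton_iff.mp hk2) with h' | h' | h' | h'
      exacts [Or.inl (Subtype.ext h'), Or.inr (Or.inl (Subtype.ext h')), Or.inr (Or.inr (Or.inl (Subtype.ext h'))),
        Or.inr (Or.inr (Or.inr (Subtype.ext h')))]
    · intro g
      rcases h.ycomm g with h' | h' | h' | h'
      exacts [Or.inl (Subtype.ext h'), Or.inr (Or.inl (Subtype.ext h')), Or.inr (Or.inr (Or.inl (Subtype.ext h'))),
        Or.inr (Or.inr (Or.inr (Subtype.ext h')))]
    · rcases h.ysq with h' | h' | h' | h'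
      exacts [Or.inl (Subtype.ext h'), Or.inr (Or.inl (Subtype.ext h')), Or.inr (Or.inr (Or.inl (Subtype.ext h'))),
        Or.inr (Or.inr (Or.inr (Subtype.ext h')))]
  rcases hyy with hyy | hyy
  swap
  · have hgood := SR.good_of_cfg _ (h2.to_subgroup G) _ _ _ _ _ _ rfl hCfg (Subtype.ext hyy)
    have hBK : Bd 2 K := by
      intro H N hH hs
      have hs' : Sec (H.subgroupOf G) (N.subgroupOf G) :=
        ⟨fun x hx => hs.le hx, fun x hx y hy => Subgroup.mem_subgroupOf.mpr (hs.comm _ hx _ hy),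
          fun x hx => Subgroup.mem_subgroupOf.mpr (hs.sq _ hx)⟩
      have h1 := hgood.bd _ _ (fun x hx => Subgroup.mem_subgroupOf.mpr (hH (Subgroup.mem_subgroupOf.mp hx))) hs'
      rwa [← Subgroup.relIndex_map_map_of_injective (f := G.subtype) _ _ G.subtype_injective,
        Subgroup.map_subgroupOf_eq_of_le (hs.le.trans (hH.trans hKG)),
        Subgroup.map_subgroupOf_eq_of_le (hH.trans hKG)] at h1
    intro H N hH hs
    refine bd_of_map_ker (QuotientGroup.mk' K) (r := 2) (s := 2) (K := ⊤) ?_ ?_ H N hH hs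
    swap
    · rw [QuotientGroup.ker_mk', top_inf_eq]; exact hBK
    rw [Subgroup.map_top_of_surjective _ (QuotientGroup.mk'_surjective _)]
    have hcard := Subgroup.card_eq_card_quotient_mul_card_subgroup K
    have hKpos := Nat.card_pos (α := K)
    have h8 : Nat.card (S ⧸ K) ≤ 2 ^ (2 + 1) := by
      refine Nat.le_of_mul_le_mul_right ?_ hKpos
      rw [← hcard]
      omega
    by_cases hall : ∀ g ∈ M, ⁅g, y⁆ = 1 ∨ ⁅g, y⁆ = z
    · refine bd_of_card_le ?_
      rw [Subgroup.card_top]
      refine Nat.le_of_mul_le_mul_right ?_ hKpos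
      rw [← hcard]
      have := hMK2 hall
      omega
    push Not at hall
    obtain ⟨m, hmM, hm1, hmz⟩ := hall
    refine bd_of_whole (h2.to_quotient K) h8 (v := QuotientGroup.mk' K ⁅a, m⁆) ?_ ?_
    · rw [map_commutatorElement]
      exact Subgroup.commutator_mem_commutator (Subgroup.mem_top _) (Subgroup.mem_top _)
    · intro e
      have heK : ⁅a, m⁆ ∈ K := (QuotientGroup.eq_one_iff _).mp e
      obtain ⟨he1, he2⟩ := heK
      replace he2 : ⁅a, m⁆ * y = y * ⁅a, m⁆ := Subgroup.mem_centralizer_singleton_iff.mp he2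
      have hay' : a * y * a⁻¹ = y := by rw [← h.ya, mul_inv_cancel_right]
      have h1 : a * ⁅m, y⁆ * a⁻¹ = ⁅m, y⁆ := by
        calc a * ⁅m, y⁆ * a⁻¹ = ⁅a * m * a⁻¹, a * y * a⁻¹⁆ := by simp only [commutatorElement_def]; group
          _ = ⁅⁅a, m⁆ * m, y⁆ := by rw [hay', conj_eq a m]
          _ = ⁅m, y⁆ := by
            rw [mul_conj, hWM _ (h.ycomm m) _ he1, mul_inv_cancel_right,
              commutatorElement_eq_one_iff_mul_comm.mpr he2, mul_one]
      rcases hafix _ (h.ycomm m) h1 with e' | e'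
      exacts [hm1 e', hmz e']
  -- small group
  have hK16 : Nat.card K ≤ 16 := by
    rcases SR.Cfg.card_le_or hCfg (h2.to_subgroup G) with h16 | h16
    · rwa [Nat.card_congr (Subgroup.subgroupOfEquivOfLe hKG).toEquiv] at h16
    · exact absurd (hyy.symm.trans (congrArg Subtype.val h16)) (Ne.symm h.z1)
  haveI := zpowers_normal h.zc
  have hZ2 := card_pair h.zz h.z1
  refine bd_step z t h.zc h.zz ?_ (fun e => ?_) (fun g => ?_) (by rw [h.tt]; exact one_mem _) fun _ => ?_
  rotate_left
  · rcases (mem_pair h.zz).mp e with e' | e'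
    exacts [h.t1 e', h.tz e']
  · exact (mem_pair h.zz).mpr (h.hcomm g)
  · -- sections of `M`
    intro H N hH hs
    replace hH : H ≤ M := hH
    by_contra hgt
    push Not at hgt
    obtain ⟨hH32, hN, hM64, hbH⟩ := big_section h2 hH hs hbM (by omega) hCs16 hgt
    have hab : ∀ p ∈ H, ∀ q ∈ H, p * q = q * p := fun p hp q hq => commutatorElement_eq_one_iff_mul_comm.mp (by
      have := hs.comm p hp q hq
      rwa [hN, Subgroup.mem_bot] at this)
    have hsq : ∀ p ∈ H, p * p = 1 := fun p hp => by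
      have := hs.sq p hp
      rwa [hN, Subgroup.mem_bot] at this
    have hidx : (H.subgroupOf M).index = 2 := by
      have h1 := relIndex_mul_card hH
      rw [hH32, hM64] at h1
      change H.relIndex M = 2
      omega
    have hbn : ∀ p ∈ H, b * p * b⁻¹ ∈ H := fun p hp => by
      haveI := Subgroup.normal_of_index_eq_two hidx
      exact Subgroup.Normal.conj_mem (inferInstance : (H.subgroupOf M).Normal) ⟨p, hH hp⟩ hp ⟨b, hbM⟩
    have hbi : b⁻¹ = b := inv_eq_of_mul_eq_one_right h.bb
    have h1 := card_le_mul b ((fun e => e * b) '' ((H ⊓ Cs : Subgroup S) : Set S)) (M := H) fun p hp => by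
      refine ⟨⁅p, b⁆, ⟨?_, ?_⟩, (conj_eq p b).symm⟩
      · rw [commutatorElement_def, show p * b * p⁻¹ * b⁻¹ = p * (b * p⁻¹ * b⁻¹) by group]
        exact H.mul_mem hp (hbn _ (H.inv_mem hp))
      · refine Subgroup.mem_centralizer_singleton_iff.mpr ?_
        have hpi : p⁻¹ = p := inv_eq_of_mul_eq_one_right (hsq p hp)
        have hc := hab p hp _ (hbn p hp)
        rw [hbi] at hc
        rw [commutatorElement_def, hpi, hbi]
        calc p * b * p * b * b = p * (b * p * b) * b := by group
          _ = (b * p * b) * p * b := by rw [hc]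
          _ = b * (p * b * p * b) := by group
    have h3 : Nat.card ↥(H ⊓ Cs) ≤ 4 := by
      have h4 : Nat.card ↥(H ⊓ Cs) < Nat.card ↥(M ⊓ Cs) := by
        refine lt_of_le_of_ne (Subgroup.card_le_of_le (inf_le_inf_right _ hH)) fun e => hbH ?_
        have h5 := Subgroup.eq_of_le_of_card_ge (inf_le_inf_right Cs hH) e.ge
        exact (h5.symm ▸ ⟨hbM, Subgroup.mem_centralizer_singleton_iff.mpr rfl⟩ : b ∈ H ⊓ Cs).1
      obtain ⟨j, hj⟩ := IsPGroup.iff_card.mp (h2.to_subgroup (H ⊓ Cs))
      rw [hj] at h4 ⊢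
      rcases Nat.lt_or_ge j 3 with hj3 | hj3
      · exact le_trans (Nat.pow_le_pow_right two_pos (show j ≤ 2 by omega)) (by norm_num)
      · have : 2 ^ 3 ≤ 2 ^ j := Nat.pow_le_pow_right two_pos hj3
        omega
    have himg : Nat.card ((fun e => e * b) '' ((H ⊓ Cs : Subgroup S) : Set S)) ≤ 4 := by
      rw [Nat.card_coe_set_eq]
      refine le_trans (Set.ncard_image_le (Set.toFinite _)) ?_
      rw [← Nat.card_coe_set_eq]
      exact h3
    have := h1.trans (Nat.mul_le_mul h3 himg)
    omega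
  -- sections of `S / z`
  set π := QuotientGroup.mk' (Subgroup.zpowers z) with hπ
  have hπ1 : ∀ x, π x = 1 ↔ (x = 1 ∨ x = z) := fun x => (QuotientGroup.eq_one_iff x).trans (mem_pair h.zz)
  have hcq := Subgroup.card_eq_card_quotient_mul_card_subgroup (Subgroup.zpowers z)
  rw [hZ2] at hcq
  intro H N _ hs
  by_contra hgt
  push Not at hgt
  have hker : ∀ D : Subgroup (S ⧸ Subgroup.zpowers z), Nat.card (D.comap π) = Nat.card D * 2 := by
    intro D
    have h1 := card_eq_map_mul π (D.comap π)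
    rw [Subgroup.map_comap_eq_self_of_surjective (QuotientGroup.mk'_surjective _)] at h1
    have h3 : D.comap π ⊓ π.ker = Subgroup.zpowers z := by
      rw [QuotientGroup.ker_mk']
      refine inf_eq_right.mpr fun x hx => ?_
      show π x ∈ D
      rw [show π x = 1 from (QuotientGroup.eq_one_iff x).mpr hx]
      exact one_mem D
    rw [h1, h3, hZ2]
  have hC' : Nat.card ↥(Subgroup.centralizer ({π b} : Set (S ⧸ Subgroup.zpowers z))) ≤ 16 := by
    have h1 := card_le_mul b ({b, z * b} : Set S)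
      (M := (Subgroup.centralizer ({π b} : Set (S ⧸ Subgroup.zpowers z))).comap π) fun g hg => by
      rw [conj_eq]
      have : π ⁅g, b⁆ = 1 := by
        rw [map_commutatorElement, commutatorElement_eq_one_iff_mul_comm]
        exact Subgroup.mem_centralizer_singleton_iff.mp hg
      rcases (hπ1 _).mp this with e | e <;> rw [e]
      · rw [one_mul]; exact Or.inl rfl
      · exact Or.inr rfl
    rw [hker] at h1
    have h3 : Nat.card ↥((Subgroup.centralizer ({π b} : Set (S ⧸ Subgroup.zpowers z))).comap π ⊓ Cs) ≤ 16 :=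
      (Subgroup.card_le_of_le inf_le_right).trans hCs16
    have := h1.trans (Nat.mul_le_mul h3 (card_pair_le _ _))
    omega
  obtain ⟨hH32, hN, hX64, hbH⟩ := big_section (h2.to_quotient _) (le_top : H ≤ ⊤) hs
    (Subgroup.mem_top (π b)) (by rw [Subgroup.card_top]; omega) hC' hgt
  rw [Subgroup.card_top] at hX64
  have hab : ∀ p ∈ H, ∀ q ∈ H, p * q = q * p := fun p hp q hq => commutatorElement_eq_one_iff_mul_comm.mp (by
    have := hs.comm p hp q hq
    rwa [hN, Subgroup.mem_bot] at this)
  have hidx : H.index = 2 := by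
    have h1 := Subgroup.card_mul_index H
    rw [hH32, hX64] at h1
    omega
  have hby' : π b * π y = π y * π b := by
    rw [← commutatorElement_eq_one_iff_mul_comm, ← map_commutatorElement]
    exact (hπ1 _).mpr (Or.inr hby)
  have hdec : ∀ x, x ∈ H ∨ x * π b ∈ H := fun x => by
    by_cases hx' : x ∈ H
    · exact Or.inl hx'
    · exact Or.inr ((Subgroup.mul_mem_iff_of_index_two hidx).mpr (iff_of_false hx' hbH))
  by_cases hyH : π y ∈ H
  · -- `y` would be central modulo `z`
    have hall : ∀ g : S, ⁅g, y⁆ = 1 ∨ ⁅g, y⁆ = z := by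
      intro g
      refine (hπ1 _).mp ?_
      rw [map_commutatorElement, commutatorElement_eq_one_iff_mul_comm]
      rcases hdec (π g) with h' | h'
      · exact hab _ h' _ hyH
      · have h1 := hab _ h' _ hyH
        rw [mul_assoc, hby', ← mul_assoc, ← mul_assoc (π y)] at h1
        exact mul_right_cancel h1
    have := hMK2 fun g _ => hall g
    omega
  · have hh : π y * π b ∈ H := (Subgroup.mul_mem_iff_of_index_two hidx).mpr (iff_of_false hyH hbH)
    have hcen : ∀ x, x * (π y * π b) = π y * π b * x := by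
      intro x
      rcases hdec x with h' | h'
      · exact hab _ h' _ hh
      · have h1 := hab _ h' _ hh
        have hc : Commute (π b) (π y * π b) := Commute.mul_right (hby' : Commute (π b) (π y)) (Commute.refl _)
        rw [mul_assoc, hc.eq, ← mul_assoc, ← mul_assoc (π y * π b)] at h1
        exact mul_right_cancel h1
    have hle : Subgroup.centralizer ({π y} : Set (S ⧸ Subgroup.zpowers z)) ≤
        Subgroup.centralizer ({π b} : Set (S ⧸ Subgroup.zpowers z)) := by
      intro x hx'
      rw [Subgroup.mem_centralizer_singleton_iff] at hx' ⊢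
      have h1 := hcen x
      rw [← mul_assoc, hx', mul_assoc, mul_assoc (π y) (π b) x] at h1
      exact mul_left_cancel h1
    have h1 := card_le_mul (π y) ({π y, π t * π y} : Set (S ⧸ Subgroup.zpowers z))
      (M := (⊤ : Subgroup (S ⧸ Subgroup.zpowers z))) fun q _ => by
      obtain ⟨g, rfl⟩ := QuotientGroup.mk'_surjective _ q
      show π g * π y * (π g)⁻¹ ∈ _
      rw [show π g * π y * (π g)⁻¹ = π (g * y * g⁻¹) by simp only [map_mul, map_inv], conj_eq, map_mul]
      rcases h.ycomm g with e | e | e | e <;> rw [e]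
      · rw [map_one, one_mul]; exact Or.inl rfl
      · rw [(hπ1 z).mpr (Or.inr rfl), one_mul]; exact Or.inl rfl
      · exact Or.inr rfl
      · rw [map_mul, (hπ1 z).mpr (Or.inr rfl), one_mul]; exact Or.inr rfl
    rw [Subgroup.card_top, top_inf_eq, hX64] at h1
    have := h1.trans (Nat.mul_le_mul ((Subgroup.card_le_of_le hle).trans hC') (card_pair_le _ _))
    omega

end H60.QQ
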