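import Mathlib
import Cfsg.Agent.H60.QQRank

/-! Choosing the configuration for a subgroup `Q8 ∘ Q8` containing its centraliser. -/

set_option autoImplicit false
set_option linter.style.haveILetI false
set_option linter.unusedSectionVars false

namespace H60.QQ

open H31.SR
open scoped commutatorElement

universe u

variable {S : Type u} [Group S] [Finite S]

theorem exists_perp : ∀ p : W, Kc (p * p) → ¬ Zc p → ∃ q : W,
    Kc (p * q * (q * p)⁻¹) ∧ ¬ Zc q ∧ ¬ Zc (p⁻¹ * q) := by decide +kernel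

theorem six_kc : ∀ k : Fin 6, ∀ p : W, Kc (p.1, six k p.2) ↔ Kc p := by decide +kernel

theorem kc_zc : ∀ p : W, Kc p ∨ Kc (p * zz) → Zc p := by decide +kernel

theorem diag_image (μ : W →* S) (hker : ∀ p, μ p = 1 ↔ Kc p)
    {θ : QuaternionGroup 2 →* QuaternionGroup 2} (hθ : Twist θ) :
    Nat.card ((Diag θ).map μ) = 8 ∧ ∀ e ∈ (Diag θ).map μ, e ^ 2 = 1 := by
  refine ⟨?_, ?_⟩
  · have h1 := Subgroup.card_mul_index ((μ.ker).subgroupOf (Diag θ))
    rw [← Subgroup.relIndex, Subgroup.relIndex_ker, hθ.card] at h1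
    have hle : μ.ker ≤ Diag θ := by
      intro p hp
      rcases (hker p).mp hp with rfl | rfl
      exacts [one_mem _, hθ.ker]
    have hk2 : Nat.card μ.ker = 2 := by
      rw [Nat.card_eq_two_iff' (1 : μ.ker)]
      refine ⟨⟨(QuaternionGroup.a 2, QuaternionGroup.a 2), (hker _).mpr (Or.inr rfl)⟩, ?_, ?_⟩
      · intro e
        exact absurd (congrArg Subtype.val e) (show ((QuaternionGroup.a 2, QuaternionGroup.a 2) : W) ≠ 1 by decide)
      · rintro ⟨q, hq⟩ hne
        rcases (hker q).mp hq with rfl | rfl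
        · exact absurd rfl hne
        · rfl
    rw [Nat.card_congr (Subgroup.subgroupOfEquivOfLe hle).toEquiv, hk2] at h1
    omega
  · rintro _ ⟨p, hp, rfl⟩
    rw [pow_two, ← map_mul, hker]
    exact hθ.sq p hp

theorem bd_top (h2 : IsPGroup 2 S) {μ : W →* S} (hker : ∀ p, μ p = 1 ↔ Kc p)
    (hC : Subgroup.centralizer (μ.range : Set S) ≤ μ.range) : Bd 4 (⊤ : Subgroup S) := by
  classical
  haveI : Fact (Nat.Prime 2) := ⟨Nat.prime_two⟩
  set z := μ zz with hzdef
  have hzz : z * z = 1 := by rw [hzdef, ← map_mul, hker]; decide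
  have hz1 : z ≠ 1 := fun e => absurd ((hker _).mp e) (by decide)
  have hZc : ∀ p, Zc p → μ p = 1 ∨ μ p = z := by
    intro p hp
    rcases zc_cases p hp with h | h
    · exact Or.inl ((hker p).mpr h)
    · right
      have h1 := (hker _).mpr h
      rw [map_mul] at h1
      exact (eq_inv_of_mul_eq_one_left h1).trans (inv_eq_of_mul_eq_one_right hzz)
  have hZc' : ∀ p, (μ p = 1 ∨ μ p = z) → Zc p := by
    intro p hp
    refine kc_zc p ?_
    rcases hp with e | e
    · exact Or.inl ((hker p).mp e)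
    · exact Or.inr ((hker _).mp (by rw [map_mul, e, ← hzdef, hzz]))
  have hcen : ∀ x : S, Commute x (μ gi) → Commute x (μ gj) → Commute x (μ ga) → Commute x (μ gb) →
      x = 1 ∨ x = z := by
    intro x h1 h2' h3 h4
    have hx : x ∈ μ.range := hC (by
      rw [Subgroup.mem_centralizer_iff]
      rintro _ ⟨p, rfl⟩
      obtain ⟨k, l, m, n, rfl⟩ := gen4 p
      simp only [map_mul, map_pow]
      exact ((((h1.pow_right _).mul_right (h2'.pow_right _)).mul_right (h3.pow_right _)).mul_right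
        (h4.pow_right _)).eq.symm)
    obtain ⟨p, rfl⟩ := hx
    have hcv : ∀ g, Commute (μ p) (μ g) → Kc (p * g * (g * p)⁻¹) := fun g hg => by
      rw [← hker, map_mul, map_inv, map_mul, map_mul, mul_inv_eq_one]
      exact hg
    exact hZc p (cen4 p (hcv _ h1) (hcv _ h2') (hcv _ h3) (hcv _ h4))
  have hcenter : ∀ x : S, (∀ g : S, g * x = x * g) → x = 1 ∨ x = z := fun x hx =>
    hcen x (hx _).symm (hx _).symm (hx _).symm (hx _).symm
  have hzc : ∀ g : S, g * z = z * g := by
    obtain ⟨z0, h0c, -, h01⟩ := exists_central h2 hz1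
    rcases hcenter z0 h0c with e | e
    · exact absurd e h01
    · exact e ▸ h0c
  -- a normal four-group
  obtain ⟨hE8, hE2⟩ := diag_image μ hker twist_id
  obtain ⟨V, hVn, hV4, hV2⟩ := H65.exists_normal_four h2 _ hE8 hE2
  haveI := hVn
  have hzV : z ∈ V := by
    have hVne : V ≠ ⊥ := fun e => by rw [e, Subgroup.card_bot] at hV4; omega
    have h1 := H6.inf_center_ne_bot h2 hVne
    obtain ⟨x, hx, hx1⟩ := SetLike.exists_of_lt (bot_lt_iff_ne_bot.mpr h1)
    rw [Subgroup.mem_bot] at hx1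
    rcases hcenter x (Subgroup.mem_center_iff.mp hx.2) with e | e
    · exact absurd e hx1
    · exact e ▸ hx.1
  obtain ⟨t, htV, htn⟩ : ∃ t ∈ V, t ∉ Subgroup.zpowers z := by
    apply SetLike.not_le_iff_exists.mp
    intro hle
    have := Subgroup.card_le_of_le hle
    rw [hV4, card_pair hzz hz1] at this
    omega
  have ht1 : t ≠ 1 := fun e => htn (e ▸ one_mem _)
  have htz : t ≠ z := fun e => htn (e ▸ Subgroup.mem_zpowers z)
  have htt : t * t = 1 := by rw [← pow_two]; exact hV2 t htV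
  have hzt : z * t = t * z := (hzc t).symm
  have hVW : ∀ x, x ∈ V ↔ InW z t x := by
    have hle : four z t hzz htt hzt ≤ V := fun x hx => by
      rcases mem_four.mp hx with rfl | rfl | rfl | rfl
      exacts [one_mem _, hzV, htV, mul_mem hzV htV]
    have heq := Subgroup.eq_of_le_of_card_ge hle (by rw [hV4, card_four hz1 ht1 htz.symm])
    exact fun x => heq ▸ Iff.rfl
  have hcomm : ∀ g : S, ⁅g, t⁆ = 1 ∨ ⁅g, t⁆ = z := by
    intro g
    have h1 : ⁅g, t⁆ ∈ V := mul_mem (hVn.conj_mem t htV g) (inv_mem htV)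
    rcases (hVW _).mp h1 with e | e | e | e
    · exact Or.inl e
    · exact Or.inr e
    · exfalso
      have h3 : g * t * g⁻¹ = 1 := by rw [conj_eq, e, htt]
      exact ht1 (conj_eq_one_iff.mp h3)
    · exfalso
      have h3 : g * t * g⁻¹ = z := by rw [conj_eq, e, mul_assoc, htt, mul_one]
      refine htz ?_
      calc t = g⁻¹ * (g * t * g⁻¹) * g := by group
        _ = g⁻¹ * (g * z) := by rw [h3, mul_assoc, hzc g]
        _ = z := inv_mul_cancel_left g z
  -- `t` lies in `Q`
  obtain ⟨p, hpt⟩ : ∃ p, μ p = t := by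
    have hd : ∀ e : W, ∃ d, Zc d ∧ t * μ e * t⁻¹ = μ (e * d) := by
      intro e
      rw [conj_eq, ← commutatorElement_inv (μ e) t]
      rcases hcomm (μ e) with h | h <;> rw [h]
      · exact ⟨1, by decide, by rw [inv_one, one_mul, mul_one]⟩
      · exact ⟨zz, by decide, by rw [inv_eq_of_mul_eq_one_right hzz, map_mul, ← hzdef, hzc]⟩
    obtain ⟨d1, k1, e1⟩ := hd gi
    obtain ⟨d2, k2, e2⟩ := hd gj
    obtain ⟨d3, k3, e3⟩ := hd ga
    obtain ⟨d4, k4, e4⟩ := hd gb
    obtain ⟨w, w1, w2, w3, w4⟩ := inner4 d1 k1 d2 k2 d3 k3 d4 k4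
    have hw : ∀ e d : W, Kc (w * e * w⁻¹ * (e * d)⁻¹) → t * μ e * t⁻¹ = μ (e * d) →
        Commute ((μ w)⁻¹ * t) (μ e) := by
      intro e d hk ht'
      rw [← hker, map_mul, map_inv, map_mul, map_mul, map_inv, mul_inv_eq_one] at hk
      rw [← hk] at ht'
      show (μ w)⁻¹ * t * μ e = μ e * ((μ w)⁻¹ * t)
      calc (μ w)⁻¹ * t * μ e = (μ w)⁻¹ * (t * μ e * t⁻¹) * t := by group
        _ = μ e * ((μ w)⁻¹ * t) := by rw [ht']; group
    rcases hcen _ (hw _ _ w1 e1) (hw _ _ w2 e2) (hw _ _ w3 e3) (hw _ _ w4 e4) with h | h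
    · exact ⟨w, inv_mul_eq_one.mp h⟩
    · exact ⟨w * zz, by rw [map_mul, ← hzdef, ← h, mul_inv_cancel_left]⟩
  have hpp : Kc (p * p) := by rw [← hker, map_mul, hpt, htt]
  have hpZ : ¬ Zc p := fun hp => by
    rcases hZc p hp with e | e <;> rw [hpt] at e
    exacts [ht1 e, htz e]
  set M := Subgroup.centralizer ({t} : Set S) with hMdef
  have hM : ∀ x, x ∈ M ↔ x * t = t * x := fun x => Subgroup.mem_centralizer_singleton_iff
  haveI : M.Normal := by
    refine ⟨fun x hx g => ?_⟩
    rw [hM] at hx ⊢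
    have h3 : g * x * g⁻¹ * (g * t * g⁻¹) = g * t * g⁻¹ * (g * x * g⁻¹) := by
      rw [show g * x * g⁻¹ * (g * t * g⁻¹) = g * (x * t) * g⁻¹ by group, hx]; group
    rw [conj_eq g t] at h3
    rcases hcomm g with e | e <;> rw [e] at h3
    · rwa [one_mul] at h3
    · rw [← mul_assoc, hzc (g * x * g⁻¹), mul_assoc, mul_assoc z] at h3
      exact mul_left_cancel h3
  have hcommM : ∀ q, Kc (p * q * (q * p)⁻¹) ↔ μ q ∈ M := fun q => by
    rw [hM, ← hpt, ← hker, map_mul, map_inv, map_mul, map_mul, mul_inv_eq_one, eq_comm]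
  obtain ⟨y, hyM, hyV, hyy, hyg⟩ := exists_central_mod h2 V M (fun hle => by
    obtain ⟨q, hq1, hq2, hq3⟩ := exists_perp p hpp hpZ
    rcases (hVW _).mp (hle ((hcommM q).mp hq1)) with e | e | e | e
    · exact hq2 (hZc' q (Or.inl e))
    · exact hq2 (hZc' q (Or.inr e))
    · exact hq3 (hZc' _ (Or.inl (by rw [map_mul, map_inv, e, hpt, inv_mul_cancel])))
    · exact hq3 (hZc' _ (Or.inr (by rw [map_mul, map_inv, e, hpt, ← mul_assoc, hzc t⁻¹, inv_mul_cancel_right]))))
  -- choose the coordinates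
  obtain ⟨q, hqp, hqy⟩ : ∃ q, Kc (p * q * (q * p)⁻¹) ∧ (y ∈ μ.range → μ q = y) := by
    by_cases hy : y ∈ μ.range
    · obtain ⟨q, hq⟩ := hy
      exact ⟨q, (hcommM q).mpr (hq ▸ hyM), fun _ => hq⟩
    · exact ⟨1, (hcommM 1).mpr (by rw [map_one]; exact one_mem M), fun h => absurd h hy⟩
  obtain ⟨k, hok1, hok2⟩ := choice_spec p hpp hpZ q hqp
  set φ : W →* W := MonoidHom.prodMap (MonoidHom.id _) (six k) with hφ
  set μ' := μ.comp φ with hμ'
  have hker' : ∀ w, μ' w = 1 ↔ Kc w := fun w => (hker _).trans (six_kc k w)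
  have hrange : μ'.range = μ.range := by
    rw [hμ', MonoidHom.range_comp, MonoidHom.range_eq_top.mpr, ← MonoidHom.range_eq_map]
    refine Finite.surjective_of_injective fun u v e => ?_
    exact Prod.ext (congrArg Prod.fst e : _) (six_inj k _ _ (congrArg Prod.snd e))
  obtain ⟨θ, hθor, hθ, hcenA⟩ := exists_self_central_image h2 hker' (by rw [hrange]; exact hC)
  have hok : Ok k θ p q := by rcases hθor with rfl | rfl <;> assumption
  set A := (Diag θ).map μ' with hAdef
  obtain ⟨hA8, hA2⟩ := diag_image μ' hker' hθ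
  rw [← hAdef] at hA8 hA2
  have hAab : ∀ e ∈ A, ∀ f ∈ A, e * f = f * e := fun e he f hf =>
    Subgroup.mem_centralizer_iff.mp (hcenA.symm ▸ hf : f ∈ Subgroup.centralizer (A : Set S)) e he
  have hAsq : ∀ e ∈ A, e * e = 1 := fun e he => by rw [← pow_two]; exact hA2 e he
  have hzA : z ∈ A := hcenA ▸ Subgroup.mem_centralizer_iff.mpr (fun e _ => hzc e)
  have htA : t ∉ A := by
    rintro ⟨d, hd, e⟩
    refine (hok d hd).1 (hZc' _ (Or.inl ?_))
    rw [map_mul, map_inv, hpt, show μ (d.1, six k d.2) = t from e, inv_mul_cancel]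
  obtain ⟨a, haA, haM⟩ : ∃ a ∈ A, a ∉ M := by
    by_contra hall
    push Not at hall
    refine htA (hcenA ▸ Subgroup.mem_centralizer_iff.mpr fun e he => ?_)
    exact (hM e).mp (hall e he)
  have hzM : z ∈ M := (hM z).mpr hzt
  have hat : ⁅a, t⁆ = z := (hcomm a).resolve_left fun e =>
    haM ((hM a).mpr (commutatorElement_eq_one_iff_mul_comm.mp e))
  have hcoset : ∀ x : S, x ∈ M ∨ x * a ∈ M := by
    intro x
    rcases hcomm x with e | e
    · exact Or.inl ((hM x).mpr (commutatorElement_eq_one_iff_mul_comm.mp e))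
    · refine Or.inr ((hM _).mpr (commutatorElement_eq_one_iff_mul_comm.mp ?_))
      rw [mul_conj, hat, e, hzc x, mul_inv_cancel_right, hzz]
  obtain ⟨b, hbA, hbM, hb1, hbz⟩ : ∃ b ∈ A, b ∈ M ∧ b ≠ 1 ∧ b ≠ z := by
    by_contra hno
    push Not at hno
    have hAM : ∀ x ∈ A, x ∈ M → x = 1 ∨ x = z := fun x hx hxM => or_iff_not_imp_left.mpr (hno x hx hxM)
    have hsub : (A : Set S) ⊆ {1, z, a, z * a} := by
      intro x hx
      rcases hcoset x with h | h
      · rcases hAM x hx h with e | e <;> simp [e]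
      · have hxa : x = x * a * a := by rw [mul_assoc, hAsq a haA, mul_one]
        rcases hAM _ (mul_mem hx haA) h with e | e <;> rw [e] at hxa <;> simp [hxa]
    have h4 : Nat.card A ≤ 4 := by
      calc Nat.card A = (A : Set S).ncard := Nat.card_coe_set_eq _
        _ ≤ ({1, z, a, z * a} : Set S).ncard := Set.ncard_le_ncard hsub (Set.toFinite _)
        _ ≤ 4 := by
          refine le_trans (Set.ncard_insert_le _ _) ?_
          refine Nat.succ_le_succ (le_trans (Set.ncard_insert_le _ _) ?_)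
          refine Nat.succ_le_succ (le_trans (Set.ncard_insert_le _ _) ?_)
          rw [Set.ncard_singleton]
    omega
  have hbt : b * t = t * b := (hM b).mp hbM
  have hAM4 : ∀ x ∈ A, x ∈ M → x = 1 ∨ x = z ∨ x = b ∨ x = z * b := by
    have hzb : z * b = b * z := (hzc b).symm
    have hle : four z b hzz (hAsq b hbA) hzb ≤ A ⊓ M := fun x hx => by
      rcases mem_four.mp hx with rfl | rfl | rfl | rfl
      exacts [one_mem _, ⟨hzA, hzM⟩, ⟨hbA, hbM⟩, ⟨mul_mem hzA hbA, mul_mem hzM hbM⟩]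
    have hlt : Nat.card ↥(A ⊓ M) ≤ 4 := by
      obtain ⟨d, hd⟩ := Subgroup.card_dvd_of_le (inf_le_left : A ⊓ M ≤ A)
      have hne : Nat.card ↥(A ⊓ M) ≠ 8 := fun e => haM (by
        have := Subgroup.eq_of_le_of_card_ge (inf_le_left : A ⊓ M ≤ A) (by rw [e, hA8])
        exact (this.symm ▸ haA : a ∈ A ⊓ M).2)
      rw [hA8] at hd
      rcases Nat.lt_or_ge d 2 with hd' | hd'
      · interval_cases d <;> omega
      · have := Nat.mul_le_mul_left (Nat.card ↥(A ⊓ M)) hd'
        omega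
    have heq := Subgroup.eq_of_le_of_card_ge hle (by rw [card_four hz1 hb1 (Ne.symm hbz)]; exact hlt)
    intro x hx hxM
    exact mem_four.mp (heq ▸ ⟨hx, hxM⟩ : x ∈ four z b hzz (hAsq b hbA) hzb)
  have hfixab : ∀ x : S, x * t = t * x → x * a = a * x → x * b = b * x →
      x = 1 ∨ x = z ∨ x = b ∨ x = z * b := by
    intro x hxt hxa hxb
    refine hAM4 x ?_ ((hM x).mpr hxt)
    rw [← hcenA, Subgroup.mem_centralizer_iff]
    intro e he
    have hfour : ∀ f ∈ A, f ∈ M → f * x = x * f := fun f hf hfM => by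
      rcases hAM4 f hf hfM with h | h | h | h <;> rw [h]
      · rw [one_mul, mul_one]
      · exact (hzc x).symm
      · exact hxb.symm
      · rw [mul_assoc, ← hxb, ← mul_assoc, ← hzc x, mul_assoc]
    rcases hcoset e with h | h
    · exact hfour e he h
    · have h1 := hfour _ (mul_mem he haA) h
      rw [mul_assoc, ← hxa, ← mul_assoc, ← mul_assoc x] at h1
      exact mul_right_cancel h1
  have hbW : ¬ InW z t b := by
    rintro (e | e | e | e)
    · exact hb1 e
    · exact hbz e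
    · exact htA (e ▸ hbA)
    · refine htA ?_
      have := mul_mem hzA hbA
      rwa [e, ← mul_assoc, hzz, one_mul] at this
  have htM : t ∈ M := (hM t).mpr rfl
  have hyt : y * t = t * y := (hM y).mp hyM
  -- `y` avoids the coset of `b`
  have hybV : b⁻¹ * y ∉ V := by
    intro hmem
    obtain ⟨d, hd, hdb⟩ := hbA
    set e : W := (d.1, six k d.2) with he
    have hdb' : μ e = b := hdb
    have hdZ : ¬ Zc d := fun hz' => by
      rcases zc_cases d hz' with h | h
      · exact hb1 (hdb.symm.trans ((hker' d).mpr h))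
      · have h1 := (hker' _).mpr h
        rw [map_mul, hdb, show μ' zz = z from by
          rw [hμ', hzdef, MonoidHom.comp_apply]; congr 1; exact Prod.ext rfl (map_one (six k))] at h1
        exact hbz ((eq_inv_of_mul_eq_one_left h1).trans (inv_eq_of_mul_eq_one_right hzz))
    have hcd : Kc (p * e * (e * p)⁻¹) := (hcommM e).mpr (hdb' ▸ hbM)
    obtain ⟨g1, g2⟩ := (hok d hd).2 hcd hdZ
    have hVQ : V ≤ μ.range := fun x hx => by
      rcases (hVW x).mp hx with rfl | rfl | rfl | rfl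
      exacts [one_mem _, ⟨zz, rfl⟩, ⟨p, hpt⟩, mul_mem ⟨zz, rfl⟩ ⟨p, hpt⟩]
    have hy := hqy (by
      have := mul_mem (⟨e, hdb'⟩ : b ∈ μ.range) (hVQ hmem)
      rwa [mul_inv_cancel_left] at this)
    rcases (hVW _).mp hmem with h | h | h | h
    · exact g1 (hZc' _ (Or.inl (by rw [map_mul, map_inv, hdb', hy, h])))
    · exact g1 (hZc' _ (Or.inr (by rw [map_mul, map_inv, hdb', hy, h])))
    · exact g2 (hZc' _ (Or.inl (by rw [map_mul, map_inv, map_mul, hdb', hpt, hy, mul_inv_rev, mul_assoc, h, inv_mul_cancel])))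
    · exact g2 (hZc' _ (Or.inr (by
        rw [map_mul, map_inv, map_mul, hdb', hpt, hy, mul_inv_rev, mul_assoc, h, ← mul_assoc, hzc t⁻¹,
          inv_mul_cancel_right])))
  -- adjust `y`
  obtain ⟨y', hy'M, hy'V, hy'y, hy'g, hy'a, hy'b⟩ : ∃ y', y' ∈ M ∧ y' ∉ V ∧ y' * y' ∈ V ∧
      (∀ g : S, ⁅g, y'⁆ ∈ V) ∧ y' * a = a * y' ∧ b⁻¹ * y' ∉ V := by
    have hayV := hyg a
    have hfix : ⁅a, y⁆ = 1 ∨ ⁅a, y⁆ = z := by
      have h1 : a * ⁅a, y⁆ * a⁻¹ * ⁅a, y⁆ = 1 := by
        rw [show a * ⁅a, y⁆ * a⁻¹ * ⁅a, y⁆ = (a * a) * y * (a * a)⁻¹ * y⁻¹ by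
          simp only [commutatorElement_def]; group, hAsq a haA]
        group
      have hat' : a * t * a⁻¹ = z * t := by rw [conj_eq, hat]
      rcases (hVW _).mp hayV with e | e | e | e
      · exact Or.inl e
      · exact Or.inr e
      · exfalso
        rw [e, hat', mul_assoc, htt, mul_one] at h1
        exact hz1 h1
      · exfalso
        have hazt : a * (z * t) * a⁻¹ = t := by
          rw [← mul_assoc, hzc a, mul_assoc z a t, mul_assoc z, hat', ← mul_assoc, hzz, one_mul]
        rw [e, hazt, ← mul_assoc, ← hzt, mul_assoc, htt, mul_one] at h1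
        exact hz1 h1
    rcases hfix with e | e
    · exact ⟨y, hyM, hyV, hyy, hyg, (commutatorElement_eq_one_iff_mul_comm.mp e).symm, hybV⟩
    · refine ⟨y * t, mul_mem hyM htM, fun h' => hyV ?_, ?_, fun g => ?_, ?_, fun h' => hybV ?_⟩
      · have := mul_mem h' htV
        rwa [mul_assoc, htt, mul_one] at this
      · rw [Commute.mul_mul_mul_comm (hyt.symm : Commute t y), htt, mul_one]; exact hyy
      · rw [conj_mul_right]
        exact mul_mem (hyg g) (hVn.conj_mem _ (mul_mem (hVn.conj_mem t htV g) (inv_mem htV)) y)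
      · refine (commutatorElement_eq_one_iff_mul_comm.mp ?_).symm
        rw [conj_mul_right, e, hat, hzc y, mul_inv_cancel_right, hzz]
      · have := mul_mem h' htV
        rwa [← mul_assoc, mul_assoc, htt, mul_one] at this
  exact bd_of_conf h2 (z := z) (t := t) (y := y') (a := a) (b := b)
    { zc := hzc, zz := hzz, z1 := hz1, tt := htt, t1 := ht1, tz := htz, hcomm := hcomm
      aa := hAsq a haA, bb := hAsq b hbA, ab := hAab a haA b hbA, hat := hat, bt := hbt
      fixab := hfixab, bW := hbW, yt := (hM y').mp hy'M, yW := fun h => hy'V ((hVW _).mpr h)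
      ysq := (hVW _).mp hy'y, ycomm := fun g => (hVW _).mp (hy'g g), ya := hy'a
      yb := fun h => hy'b ((hVW _).mpr h) }

end H60.QQ
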