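import Mathlib
import Cfsg.Prelude.Def_Transfer

/-! A 2-group with a subgroup `Q8 ∘ Q8` containing its centraliser has a self-centralising
elementary abelian subgroup of order 8. -/

set_option autoImplicit false

open scoped Pointwise

namespace H60.QQ

abbrev W := QuaternionGroup 2 × QuaternionGroup 2

/-- kernel of the model map -/
def Kc (p : W) : Prop := p = 1 ∨ p = (QuaternionGroup.a 2, QuaternionGroup.a 2)

/-- preimage of the centre -/
def Zc (p : W) : Prop :=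
  (p.1 = 1 ∨ p.1 = QuaternionGroup.a 2) ∧ (p.2 = 1 ∨ p.2 = QuaternionGroup.a 2)

instance (p : W) : Decidable (Kc p) := by unfold Kc; infer_instance
instance (p : W) : Decidable (Zc p) := by unfold Zc; infer_instance

def zz : W := (QuaternionGroup.a 2, 1)
def gi : W := (QuaternionGroup.a 1, 1)
def gj : W := (QuaternionGroup.xa 0, 1)
def ga : W := (1, QuaternionGroup.a 1)
def gb : W := (1, QuaternionGroup.xa 0)

/-- the 3-cycle automorphism of the quaternion group -/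
def cyc : QuaternionGroup 2 → QuaternionGroup 2
  | .a i => QuaternionGroup.xa 0 ^ i.val
  | .xa i => (QuaternionGroup.a 1 * QuaternionGroup.xa 0) * QuaternionGroup.xa 0 ^ i.val

def cycHom : QuaternionGroup 2 →* QuaternionGroup 2 := MonoidHom.mk' cyc (by decide +kernel)

/-- twisted diagonal -/
def Diag (θ : QuaternionGroup 2 →* QuaternionGroup 2) : Subgroup W where
  carrier := {p | p.2 * (θ p.1)⁻¹ ∈ Subgroup.center (QuaternionGroup 2)}
  one_mem' := by simp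
  mul_mem' := by
    intro p q hp hq
    simp only [Set.mem_setOf_eq, Prod.snd_mul, Prod.fst_mul, map_mul, mul_inv_rev] at hp hq ⊢
    have h := Subgroup.mem_center_iff.mp hq p.2
    rw [show p.2 * q.2 * ((θ q.1)⁻¹ * (θ p.1)⁻¹) = p.2 * (q.2 * (θ q.1)⁻¹) * (θ p.1)⁻¹ by group, h,
      mul_assoc]
    exact Subgroup.mul_mem _ hq hp
  inv_mem' := by
    intro p hp
    simp only [Set.mem_setOf_eq, Prod.snd_inv, Prod.fst_inv, map_inv, inv_inv] at hp ⊢
    have h := Subgroup.mem_center_iff.mp ((Subgroup.center _).inv_mem hp) p.2⁻¹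
    rw [show (p.2 * (θ p.1)⁻¹)⁻¹ * p.2⁻¹ = θ p.1 * p.2⁻¹ * p.2⁻¹ by group] at h
    have h' : p.2⁻¹ * θ p.1 = θ p.1 * p.2⁻¹ := by
      have := congrArg (fun w => w * p.2) h
      simpa [mul_assoc] using this
    rw [h', ← inv_inv (θ p.1 * p.2⁻¹), mul_inv_rev, inv_inv]
    exact (Subgroup.center _).inv_mem hp

theorem center_iff : ∀ u : QuaternionGroup 2, (∀ v, v * u = u * v) ↔ (u = 1 ∨ u = QuaternionGroup.a 2) := by
  decide

theorem mem_diag {θ : QuaternionGroup 2 →* QuaternionGroup 2} {p : W} :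
    p ∈ Diag θ ↔ (p.2 * (θ p.1)⁻¹ = 1 ∨ p.2 * (θ p.1)⁻¹ = QuaternionGroup.a 2) := by
  show p.2 * (θ p.1)⁻¹ ∈ Subgroup.center (QuaternionGroup 2) ↔ _
  rw [Subgroup.mem_center_iff, center_iff]

instance (θ : QuaternionGroup 2 →* QuaternionGroup 2) (p : W) : Decidable (p ∈ Diag θ) :=
  decidable_of_iff _ mem_diag.symm

/-- the needed properties of a twist -/
structure Twist (θ : QuaternionGroup 2 →* QuaternionGroup 2) : Prop where
  sq : ∀ p ∈ Diag θ, Kc (p * p)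
  comm : ∀ p ∈ Diag θ, ∀ q ∈ Diag θ, Kc (p * q * (q * p)⁻¹)
  cen : ∀ p : W, Kc (p * (gi * (1, θ (.a 1))) * ((gi * (1, θ (.a 1))) * p)⁻¹) →
    Kc (p * (gj * (1, θ (.xa 0))) * ((gj * (1, θ (.xa 0))) * p)⁻¹) → p ∈ Diag θ
  mem : gi * (1, θ (.a 1)) ∈ Diag θ ∧ gj * (1, θ (.xa 0)) ∈ Diag θ ∧ zz ∈ Diag θ
  ker : (QuaternionGroup.a 2, QuaternionGroup.a 2) ∈ Diag θ
  card : Nat.card (Diag θ) = 16
  splitI : ∀ r : W, Kc (r * r * zz) →
    Kc (r⁻¹ * (gi * (1, θ (.a 1))) * (r⁻¹ * (gi * (1, θ (.a 1)))) * zz) →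
    Zc (gi⁻¹ * r) ∨ Zc ((1, θ (.a 1))⁻¹ * r)
  splitJ : ∀ r : W, Kc (r * r * zz) →
    Kc (r⁻¹ * (gj * (1, θ (.xa 0))) * (r⁻¹ * (gj * (1, θ (.xa 0)))) * zz) →
    Zc (gj⁻¹ * r) ∨ Zc ((1, θ (.xa 0))⁻¹ * r)
  mixed : ∀ d d' : W, Zc d → Zc d' →
    ¬ Kc ((gi * d) * ((1, θ (.xa 0)) * d') * ((gi * d)⁻¹ * ((1, θ (.xa 0)) * d')⁻¹) * zz) ∧
    ¬ Kc (((1, θ (.a 1)) * d) * (gj * d') * (((1, θ (.a 1)) * d)⁻¹ * (gj * d')⁻¹) * zz)
  inner : ∀ d d' : W, Zc d → Zc d' → ∃ w ∈ Diag θ,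
    Kc (w * gi * w⁻¹ * (gi * d)⁻¹) ∧ Kc (w * gj * w⁻¹ * (gj * d')⁻¹)
  norm : ∀ p : W, ∀ q ∈ Diag θ, p * q * p⁻¹ ∈ Diag θ
  sqg : Kc ((1, θ (.a 1)) * (1, θ (.a 1)) * zz) ∧ Kc ((1, θ (.xa 0)) * (1, θ (.xa 0)) * zz)
  other : ∀ d : W, Zc d → Zc (gi⁻¹ * (((1, θ (.a 1)) * d)⁻¹ * (gi * (1, θ (.a 1))))) ∧
    Zc (gj⁻¹ * (((1, θ (.xa 0)) * d)⁻¹ * (gj * (1, θ (.xa 0)))))
  gen : ∀ p : W, ∃ k l m n : Fin 4, p =
    gi ^ k.val * gj ^ l.val * (gi * (1, θ (.a 1))) ^ m.val * (gj * (1, θ (.xa 0))) ^ n.val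

theorem twist_id : Twist (MonoidHom.id _) where
  sq := by decide +kernel
  comm := by decide +kernel
  cen := by decide +kernel
  mem := by decide +kernel
  ker := by decide +kernel
  card := by rw [Nat.card_eq_fintype_card]; decide +kernel
  splitI := by decide +kernel
  splitJ := by decide +kernel
  mixed := by decide +kernel
  inner := by decide +kernel
  norm := by decide +kernel
  sqg := by decide +kernel
  other := by decide +kernel
  gen := by decide +kernel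

theorem twist_cyc : Twist cycHom where
  sq := by decide +kernel
  comm := by decide +kernel
  cen := by decide +kernel
  mem := by decide +kernel
  ker := by decide +kernel
  card := by rw [Nat.card_eq_fintype_card]; decide +kernel
  splitI := by decide +kernel
  splitJ := by decide +kernel
  mixed := by decide +kernel
  inner := by decide +kernel
  norm := by decide +kernel
  sqg := by decide +kernel
  other := by decide +kernel
  gen := by decide +kernel

variable {S : Type*} [Group S]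

/-- conjugation by `y` maps `μ p` to `μ q` modulo the centre -/
def Mp (μ : W →* S) (y : S) (p q : W) : Prop := ∃ d, Zc d ∧ y * μ p * y⁻¹ = μ (q * d)

theorem zc_central : ∀ p d : W, Zc d → p * d = d * p := by
  intro p d hd
  obtain ⟨d₁, d₂⟩ := d
  obtain ⟨p₁, p₂⟩ := p
  obtain ⟨h₁, h₂⟩ := hd
  exact Prod.ext ((center_iff d₁).mpr h₁ p₁) ((center_iff d₂).mpr h₂ p₂)

theorem zc_mul : ∀ d d' : W, Zc d → Zc d' → Zc (d * d') := by decide +kernel

theorem zc_inv : ∀ d : W, Zc d → Zc d⁻¹ := by decide +kernel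

theorem zc_cases : ∀ d : W, Zc d → Kc d ∨ Kc (d * zz) := by decide +kernel

section
variable {μ : W →* S} (hker : ∀ p, μ p = 1 ↔ Kc p)

include hker in
theorem eq_iff (p q : W) : μ p = μ q ↔ Kc (p * q⁻¹) := by
  rw [← hker, map_mul, map_inv, mul_inv_eq_one]

include hker in
theorem fix_zc {y : S} (hy : y * μ zz = μ zz * y) {d : W} (hd : Zc d) : y * μ d * y⁻¹ = μ d := by
  rcases zc_cases d hd with h | h
  · rw [(hker d).mpr h]; group
  · have h1 := (hker _).mpr h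
    rw [map_mul, mul_eq_one_iff_eq_inv] at h1
    rw [h1]
    have : y * (μ zz)⁻¹ = (μ zz)⁻¹ * y := Commute.inv_right hy
    rw [this, mul_inv_cancel_right]

include hker in
theorem Mp.comp {y y' : S} {p q r : W} (hy' : y' * μ zz = μ zz * y') (h : Mp μ y p q)
    (h' : Mp μ y' q r) : Mp μ (y' * y) p r := by
  obtain ⟨d, hd, e⟩ := h
  obtain ⟨d', hd', e'⟩ := h'
  refine ⟨d' * d, zc_mul _ _ hd' hd, ?_⟩
  calc y' * y * μ p * (y' * y)⁻¹ = y' * (y * μ p * y⁻¹) * y'⁻¹ := by group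
    _ = (y' * μ q * y'⁻¹) * (y' * μ d * y'⁻¹) := by rw [e, map_mul]; group
    _ = μ (r * (d' * d)) := by rw [e', fix_zc hker hy' hd, ← map_mul, mul_assoc]

theorem Mp.mul {y : S} {p q p' q' : W} (h : Mp μ y p q) (h' : Mp μ y p' q') :
    Mp μ y (p * p') (q * q') := by
  obtain ⟨d, hd, e⟩ := h
  obtain ⟨d', hd', e'⟩ := h'
  refine ⟨d * d', zc_mul _ _ hd hd', ?_⟩
  rw [map_mul μ p, show y * (μ p * μ p') * y⁻¹ = (y * μ p * y⁻¹) * (y * μ p' * y⁻¹) by group, e, e',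
    ← map_mul, show q * q' * (d * d') = q * (q' * d) * d' by group, zc_central q' d hd]
  congr 1
  group

theorem Mp.inv {y : S} {p q : W} (h : Mp μ y p q) : Mp μ y p⁻¹ q⁻¹ := by
  obtain ⟨d, hd, e⟩ := h
  refine ⟨d⁻¹, zc_inv _ hd, ?_⟩
  rw [map_inv, show y * (μ p)⁻¹ * y⁻¹ = (y * μ p * y⁻¹)⁻¹ by group, e, ← map_inv, mul_inv_rev,
    zc_central _ _ (zc_inv _ hd)]

theorem Mp.congr {y : S} {p q q' : W} (h : Mp μ y p q) (hq : Zc (q'⁻¹ * q)) : Mp μ y p q' := by
  obtain ⟨d, hd, e⟩ := h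
  exact ⟨q'⁻¹ * q * d, zc_mul _ _ hq hd, by rw [e]; congr 1; group⟩

theorem Mp.congr' {y : S} {p q p' q' : W} (h : Mp μ y p q) (hp : p' = p) (hq : Zc (q'⁻¹ * q)) :
    Mp μ y p' q' := hp ▸ h.congr hq

end

theorem not_fix : ∀ d d' : W, Zc d → Zc d' → ¬ Kc (gj * gi⁻¹ * d * (gi * d')⁻¹) := by decide +kernel

variable [Finite S]

/-- a nontrivial element centralising the image of a twisted diagonal acts as the swap -/
theorem swap_of_large (hS : IsPGroup 2 S) {μ : W →* S} (hker : ∀ p, μ p = 1 ↔ Kc p)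
    (hC : Subgroup.centralizer (μ.range : Set S) ≤ μ.range)
    {θ : QuaternionGroup 2 →* QuaternionGroup 2} (hθ : Twist θ)
    (hne : Subgroup.centralizer (((Diag θ).map μ : Subgroup S) : Set S) ≠ (Diag θ).map μ) :
    ∃ x : S, x * μ zz = μ zz * x ∧ Mp μ x gi (1, θ (.a 1)) ∧ Mp μ x (1, θ (.a 1)) gi ∧
      Mp μ x gj (1, θ (.xa 0)) ∧ Mp μ x (1, θ (.xa 0)) gj := by
  classical
  set A := (Diag θ).map μ with hA
  set P := Subgroup.centralizer (A : Set S) with hP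
  set Q := μ.range with hQ
  have hmemA : ∀ p ∈ Diag θ, μ p ∈ A := fun p hp => ⟨p, hp, rfl⟩
  have hAP : A ≤ P := by
    rintro _ ⟨p, hp, rfl⟩
    rw [hP, Subgroup.mem_centralizer_iff]
    rintro _ ⟨q, hq, rfl⟩
    rw [← map_mul, ← map_mul, eq_iff hker]
    exact hθ.comm q hq p hp
  have hPQ : ∀ x ∈ P, x ∈ Q → x ∈ A := by
    rintro _ hx ⟨p, rfl⟩
    rw [hP, Subgroup.mem_centralizer_iff] at hx
    refine hmemA p (hθ.cen p ?_ ?_)
    all_goals rw [← eq_iff hker, map_mul, map_mul μ _ p]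
    · exact (hx _ (hmemA _ hθ.mem.1)).symm
    · exact (hx _ (hmemA _ hθ.mem.2.1)).symm
  have hnle : ¬ P ≤ Q := fun hle => hne (le_antisymm (fun x hx => hPQ x hx (hle hx)) hAP)
  have hAn : Q ≤ Subgroup.normalizer (P : Set S) := by
    have hconjA : ∀ g ∈ Q, ∀ a ∈ A, g * a * g⁻¹ ∈ A := by
      rintro _ ⟨p, rfl⟩ _ ⟨q, hq, rfl⟩
      rw [← map_inv, ← map_mul, ← map_mul]
      refine hmemA _ ?_
      exact hθ.norm p q hq
    intro g hg
    rw [Subgroup.mem_normalizer_iff]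
    intro x
    rw [hP, Subgroup.mem_centralizer_iff, Subgroup.mem_centralizer_iff]
    constructor
    · intro hx a ha
      have := congrArg (fun w => g * w * g⁻¹) (hx _ (hconjA g⁻¹ (Q.inv_mem hg) a ha))
      simpa [mul_assoc] using this
    · intro hx a ha
      have := congrArg (fun w => g⁻¹ * w * g) (hx _ (hconjA g hg a ha))
      simpa [mul_assoc] using this
  set T := Q ⊔ P with hT
  haveI : Fact (Nat.Prime 2) := ⟨Nat.prime_two⟩
  haveI : Group.IsNilpotent T := (hS.to_subgroup T).isNilpotent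
  have hlt : Q.subgroupOf T < ⊤ := by
    rw [lt_top_iff_ne_top, Ne, Subgroup.subgroupOf_eq_top]
    exact fun hle => hnle (le_sup_right.trans hle)
  obtain ⟨⟨y, hyT⟩, hyN, hyQ⟩ := SetLike.exists_of_lt (normalizerCondition_of_isNilpotent _ hlt)
  rw [Subgroup.mem_subgroupOf] at hyQ
  have hyN' : ∀ q ∈ Q, y * q * y⁻¹ ∈ Q := by
    intro q hq
    have h := (Subgroup.mem_normalizer_iff.mp hyN (⟨q, le_sup_left (b := P) hq⟩ : T)).mp
      (Subgroup.mem_subgroupOf.mpr hq)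
    exact Subgroup.mem_subgroupOf.mp h
  have hy' : y ∈ (Q : Set S) * (P : Set S) := by
    rw [← Subgroup.coe_mul_of_left_le_normalizer_right Q P hAn]
    exact hyT
  obtain ⟨q₀, hq₀, x, hxP, rfl⟩ := hy'
  have hxQ : x ∉ Q := fun h => hyQ (Q.mul_mem hq₀ h)
  have hxN : ∀ q ∈ Q, x * q * x⁻¹ ∈ Q := by
    intro q hq
    have h1 := Q.mul_mem (Q.mul_mem (Q.inv_mem hq₀) (hyN' q hq)) hq₀
    simpa [mul_assoc] using h1
  have hxA : ∀ p ∈ Diag θ, x * μ p * x⁻¹ = μ p := by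
    intro p hp
    have := Subgroup.mem_centralizer_iff.mp hxP _ (hmemA p hp)
    rw [← this, mul_inv_cancel_right]
  have hxz : x * μ zz = μ zz * x := (Subgroup.mem_centralizer_iff.mp hxP _ (hmemA _ hθ.mem.2.2)).symm
  obtain ⟨r, hr⟩ := hxN (μ gi) ⟨gi, rfl⟩
  obtain ⟨r', hr'⟩ := hxN (μ gj) ⟨gj, rfl⟩
  have hra : x * μ (1, θ (.a 1)) * x⁻¹ = μ (r⁻¹ * (gi * (1, θ (.a 1)))) := by
    rw [map_mul, map_inv, hr, ← hxA _ hθ.mem.1, map_mul]
    group
  have hrb : x * μ (1, θ (.xa 0)) * x⁻¹ = μ (r'⁻¹ * (gj * (1, θ (.xa 0)))) := by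
    rw [map_mul, map_inv, hr', ← hxA _ hθ.mem.2.1, map_mul]
    group
  have hsq : ∀ g s : W, μ s = x * μ g * x⁻¹ → Kc (g * g * zz) → Kc (s * s * zz) := by
    intro g s e hg
    rw [← hker] at hg ⊢
    rw [map_mul, map_mul, e]
    rw [map_mul, map_mul] at hg
    calc x * μ g * x⁻¹ * (x * μ g * x⁻¹) * μ zz = x * (μ g * μ g) * (x⁻¹ * μ zz) := by group
      _ = x * (μ g * μ g) * (μ zz * x⁻¹) := by rw [(Commute.inv_left hxz).eq]
      _ = x * (μ g * μ g * μ zz) * x⁻¹ := by group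
      _ = 1 := by rw [hg]; group
  have hI := hθ.splitI r (hsq gi r hr (by decide))
    (hsq _ _ hra.symm hθ.sqg.1)
  have hJ := hθ.splitJ r' (hsq gj r' hr' (by decide))
    (hsq _ _ hrb.symm hθ.sqg.2)
  have hcomm : Kc (r * r' * (r⁻¹ * r'⁻¹) * zz) := by
    have hg : Kc (gi * gj * (gi⁻¹ * gj⁻¹) * zz) := by decide
    rw [← hker] at hg ⊢
    simp only [map_mul, map_inv] at hg ⊢
    rw [hr, hr']
    calc x * μ gi * x⁻¹ * (x * μ gj * x⁻¹) * ((x * μ gi * x⁻¹)⁻¹ * (x * μ gj * x⁻¹)⁻¹) * μ zz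
        = x * (μ gi * μ gj * ((μ gi)⁻¹ * (μ gj)⁻¹)) * (x⁻¹ * μ zz) := by group
      _ = x * (μ gi * μ gj * ((μ gi)⁻¹ * (μ gj)⁻¹)) * (μ zz * x⁻¹) := by
          rw [(Commute.inv_left hxz).eq]
      _ = x * (μ gi * μ gj * ((μ gi)⁻¹ * (μ gj)⁻¹) * μ zz) * x⁻¹ := by group
      _ = 1 := by rw [hg]; group
  have e1 : ∀ g : W, g * (g⁻¹ * r) = r := fun g => mul_inv_cancel_left g r
  have e2 : ∀ g : W, g * (g⁻¹ * r') = r' := fun g => mul_inv_cancel_left g r'
  rcases hI with hI | hI <;> rcases hJ with hJ | hJ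
  · exfalso
    obtain ⟨w, hw, w1, w2⟩ := hθ.inner _ _ hI hJ
    rw [e1, ← eq_iff hker, map_mul, map_mul, map_inv] at w1
    rw [e2, ← eq_iff hker, map_mul, map_mul, map_inv] at w2
    have hc : x⁻¹ * μ w ∈ Subgroup.centralizer (Q : Set S) := by
      have hgen : ∀ p, (x⁻¹ * μ w) * μ p = μ p * (x⁻¹ * μ w) := by
        have k1 : Commute (x⁻¹ * μ w) (μ gi) := by
          show x⁻¹ * μ w * μ gi = μ gi * (x⁻¹ * μ w)
          calc x⁻¹ * μ w * μ gi = x⁻¹ * (μ w * μ gi * (μ w)⁻¹) * μ w := by group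
            _ = μ gi * (x⁻¹ * μ w) := by rw [w1, hr]; group
        have k2 : Commute (x⁻¹ * μ w) (μ gj) := by
          show x⁻¹ * μ w * μ gj = μ gj * (x⁻¹ * μ w)
          calc x⁻¹ * μ w * μ gj = x⁻¹ * (μ w * μ gj * (μ w)⁻¹) * μ w := by group
            _ = μ gj * (x⁻¹ * μ w) := by rw [w2, hr']; group
        have k3 : ∀ p ∈ Diag θ, Commute (x⁻¹ * μ w) (μ p) := fun p hp =>
          (Commute.inv_left (Subgroup.mem_centralizer_iff.mp hxP _ (hmemA p hp)).symm).mul_left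
            (by show μ w * μ p = μ p * μ w
                rw [← map_mul, ← map_mul, eq_iff hker]
                exact hθ.comm w hw p hp)
        intro p
        obtain ⟨k, l, m, n, rfl⟩ := hθ.gen p
        have hm : ∀ a b : W, Commute (x⁻¹ * μ w) (μ a) → Commute (x⁻¹ * μ w) (μ b) →
            Commute (x⁻¹ * μ w) (μ (a * b)) := fun a b ha hb => by
          rw [map_mul]; exact ha.mul_right hb
        have hp : ∀ (a : W) (n : ℕ), Commute (x⁻¹ * μ w) (μ a) → Commute (x⁻¹ * μ w) (μ (a ^ n)) :=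
          fun a n ha => by rw [map_pow]; exact ha.pow_right n
        exact hm _ _ (hm _ _ (hm _ _ (hp _ _ k1) (hp _ _ k2)) (hp _ _ (k3 _ hθ.mem.1)))
          (hp _ _ (k3 _ hθ.mem.2.1))
      rw [Subgroup.mem_centralizer_iff]
      rintro _ ⟨p, rfl⟩
      exact (hgen p).symm
    apply hxQ
    have h1 := Q.mul_mem (hC hc) (Q.inv_mem ⟨w, rfl⟩)
    rw [mul_inv_cancel_right] at h1
    exact inv_mem_iff.mp h1
  · exfalso
    refine (hθ.mixed _ _ hI hJ).1 ?_
    rwa [e1, e2]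
  · exfalso
    refine (hθ.mixed _ _ hI hJ).2 ?_
    rwa [e1, e2]
  · refine ⟨x, hxz, ⟨_, hI, by rw [e1, hr]⟩, ?_, ⟨_, hJ, by rw [e2, hr']⟩, ?_⟩
    · refine ⟨gi⁻¹ * (r⁻¹ * (gi * (1, θ (.a 1)))), ?_, by rw [mul_inv_cancel_left, hra]⟩
      have := (hθ.other _ hI).1
      rwa [e1] at this
    · refine ⟨gj⁻¹ * (r'⁻¹ * (gj * (1, θ (.xa 0)))), ?_, by rw [mul_inv_cancel_left, hrb]⟩
      have := (hθ.other _ hJ).2
      rwa [e2] at this

/-- some twisted diagonal has self-centralising image -/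
theorem exists_self_central_image (hS : IsPGroup 2 S) {μ : W →* S} (hker : ∀ p, μ p = 1 ↔ Kc p)
    (hC : Subgroup.centralizer (μ.range : Set S) ≤ μ.range) :
    ∃ θ : QuaternionGroup 2 →* QuaternionGroup 2, (θ = MonoidHom.id _ ∨ θ = cycHom) ∧ Twist θ ∧
      Subgroup.centralizer (((Diag θ).map μ : Subgroup S) : Set S) = (Diag θ).map μ := by
  classical
  by_contra hcon
  push Not at hcon
  obtain ⟨x, hxz, x1, x2, x3, x4⟩ := swap_of_large hS hker hC twist_id (hcon _ (Or.inl rfl) twist_id)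
  obtain ⟨x', hxz', y1, y2, y3, y4⟩ := swap_of_large hS hker hC twist_cyc (hcon _ (Or.inr rfl) twist_cyc)
  set y := x' * x with hy
  have hyz : y * μ zz = μ zz * y := (Commute.mul_left hxz' hxz : Commute (x' * x) (μ zz))
  have hI : Mp μ y gi (gj * gi⁻¹) :=
    Mp.comp hker hxz' x1 ((Mp.mul y4 (Mp.inv y2)).congr' (by decide +kernel) (by decide +kernel))
  have hJ : Mp μ y gj gi := Mp.comp hker hxz' x3 (y2.congr' (by decide +kernel) (by decide +kernel))
  have hK : Mp μ y (gj * gi⁻¹) gj := (Mp.mul hJ (Mp.inv hI)).congr (by decide +kernel)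
  have hyy : (y * y) * μ zz = μ zz * (y * y) := (Commute.mul_left hyz hyz : Commute (y * y) (μ zz))
  have hy3 : Mp μ (y * (y * y)) gi gi := by
    rw [← mul_assoc]
    exact Mp.comp hker hyy hI (Mp.comp hker hyz hK hJ)
  have hy3z : (y * (y * y)) * μ zz = μ zz * (y * (y * y)) :=
    (Commute.mul_left hyz hyy : Commute (y * (y * y)) (μ zz))
  have hpow : ∀ n : ℕ, Mp μ ((y * (y * y)) ^ n) gi gi := by
    intro n
    induction n with
    | zero => exact ⟨1, by decide, by simp⟩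
    | succ n ih =>
      rw [pow_succ']
      exact Mp.comp hker hy3z ih hy3
  obtain ⟨k, hk⟩ := IsPGroup.iff_orderOf.mp hS y
  obtain ⟨m, hm⟩ := exists_pow_eq_self_of_coprime (n := 3) (x := y)
    (by rw [hk]; exact Nat.Coprime.pow_right k (by norm_num))
  rw [pow_three] at hm
  obtain ⟨d, hd, e⟩ := hI
  obtain ⟨d', hd', e'⟩ := hpow m
  rw [hm, e, eq_iff hker] at e'
  exact not_fix d d' hd hd' e'

theorem exists_self_centralising {Q Q₁ Q₂ : Subgroup S} (hS : IsPGroup 2 S)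
    (e₁ : Q₁ ≃* QuaternionGroup 2) (e₂ : Q₂ ≃* QuaternionGroup 2)
    (hcomm : ∀ a ∈ Q₁, ∀ b ∈ Q₂, a * b = b * a) (hQ : Q₁ ⊔ Q₂ = Q) (hQ32 : Nat.card Q = 32)
    (hC : Subgroup.centralizer (Q : Set S) ≤ Q) :
    ∃ A : Subgroup S, Cfsg.IsElementaryAbelian 2 A ∧ Nat.card A = 8 ∧
      Subgroup.centralizer (A : Set S) = A := by
  classical
  set f := Q₁.subtype.comp e₁.symm.toMonoidHom with hf
  set g := Q₂.subtype.comp e₂.symm.toMonoidHom with hg
  have hfi : Function.Injective f := Q₁.subtype_injective.comp e₁.symm.injective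
  have hgi : Function.Injective g := Q₂.subtype_injective.comp e₂.symm.injective
  have hfg : ∀ a b, Commute (f a) (g b) := fun a b => hcomm _ (e₁.symm a).2 _ (e₂.symm b).2
  set μ := f.noncommCoprod g hfg with hμ
  have hfr : f.range = Q₁ := by
    rw [hf, MonoidHom.range_comp, MonoidHom.range_eq_top.mpr e₁.symm.surjective, ← MonoidHom.range_eq_map,
      Subgroup.range_subtype]
  have hgr : g.range = Q₂ := by
    rw [hg, MonoidHom.range_comp, MonoidHom.range_eq_top.mpr e₂.symm.surjective, ← MonoidHom.range_eq_map,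
      Subgroup.range_subtype]
  have hr : μ.range = Q := by rw [hμ, MonoidHom.noncommCoprod_range, hfr, hgr, hQ]
  have hk2 : Nat.card μ.ker = 2 := by
    have h := Subgroup.card_mul_index μ.ker
    rw [Subgroup.index_ker, hr, hQ32, Nat.card_prod, Nat.card_eq_fintype_card (α := QuaternionGroup 2),
      QuaternionGroup.card] at h
    omega
  have hkmem : ∀ p : W, μ p = 1 → Kc p := by
    rintro ⟨u, v⟩ hp
    rw [hμ, MonoidHom.noncommCoprod_apply] at hp
    have hfu : f u = (g v)⁻¹ := eq_inv_of_mul_eq_one_left hp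
    have hgv : g v = (f u)⁻¹ := eq_inv_of_mul_eq_one_right hp
    have hu : u = 1 ∨ u = QuaternionGroup.a 2 := (center_iff u).mp fun w => hfi (by
      rw [map_mul, map_mul, hfu]; exact ((hfg w v).inv_right).eq)
    have hv : v = 1 ∨ v = QuaternionGroup.a 2 := (center_iff v).mp fun w => hgi (by
      rw [map_mul, map_mul, hgv]; exact ((hfg u w).inv_left).symm.eq)
    rcases hu with rfl | rfl <;> rcases hv with rfl | rfl
    · exact Or.inl rfl
    · rw [map_one, inv_one] at hgv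
      exact absurd (hgi (hgv.trans (map_one g).symm)) (by decide)
    · rw [map_one, inv_one] at hfu
      exact absurd (hfi (hfu.trans (map_one f).symm)) (by decide)
    · exact Or.inr rfl
  have hc : μ (QuaternionGroup.a 2, QuaternionGroup.a 2) = 1 := by
    by_contra hne
    have hb : μ.ker ≤ ⊥ := fun p hp => Subgroup.mem_bot.mpr
      ((hkmem p hp).resolve_right fun e => hne (e ▸ hp))
    rw [le_bot_iff.mp hb, Subgroup.card_bot] at hk2
    omega
  have hker : ∀ p, μ p = 1 ↔ Kc p := fun p => ⟨hkmem p, by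
    rintro (rfl | rfl)
    · exact map_one μ
    · exact hc⟩
  obtain ⟨θ, -, hθ, hcen⟩ := exists_self_central_image hS hker (by rw [hr]; exact hC)
  refine ⟨(Diag θ).map μ, ⟨⟨⟨?_⟩⟩, ?_⟩, ?_, hcen⟩
  · rintro ⟨_, p, hp, rfl⟩ ⟨_, q, hq, rfl⟩
    apply Subtype.ext
    show μ p * μ q = μ q * μ p
    rw [← map_mul, ← map_mul, eq_iff hker]
    exact hθ.comm p hp q hq
  · rintro _ ⟨p, hp, rfl⟩
    rw [pow_two, ← map_mul, hker]
    exact hθ.sq p hp
  · have h1 := Subgroup.card_mul_index ((μ.ker).subgroupOf (Diag θ))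
    rw [← Subgroup.relIndex, Subgroup.relIndex_ker, hθ.card] at h1
    have hle : μ.ker ≤ Diag θ := by
      intro p hp
      rcases hkmem p hp with rfl | rfl
      exacts [one_mem _, hθ.ker]
    rw [Nat.card_congr (Subgroup.subgroupOfEquivOfLe hle).toEquiv, hk2] at h1
    omega

end H60.QQ
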