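import Cfsg.Agent.H21.ResidualDegree
import Cfsg.Agent.H21.Covering
import Cfsg.Agent.H22.BlockClasses
import Cfsg.Agent.H25.Galois
import Cfsg.Agent.H12.CyclicCorr
import Cfsg.Agent.H12.CoprimeCount

/-!
Galois-fixed characters of degree prime to `p` in the principal block over a cyclic `p`-quotient.
-/

set_option autoImplicit false
set_option linter.unusedSectionVars false
set_option linter.style.haveILetI false

open Cfsg

namespace H60.SigmaFix

universe u

variable {G : Type u} [Group G] [Finite G] {p : ℕ} [Fact p.Prime] {M : Ideal AlgInt}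

theorem one_mem_principal (hM : IsPModular p M) : H12.oneIrr G ∈ principalBlock M G := by
  haveI := H20.isPrime_of_modular hM
  haveI := Fintype.ofFinite G
  exact H20.mem_blockOf_self (H12.oneIrr G)

/-- Constituents of principal characters are principal. -/
theorem constituent_mem (hM : IsPModular p M) (N : Subgroup G) [N.Normal] {χ : IrrCharacter G}
    (hχ : χ ∈ principalBlock M G) {θ : IrrCharacter N} [Fintype N]
    (hc : classInner (fun n : N => (χ : G → ℂ) n) (θ : N → ℂ) ≠ 0) :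
    θ ∈ principalBlock M N := by
  classical
  haveI := Fintype.ofFinite G
  haveI := H20.isPrime_of_modular hM
  have h1 : classInner (fun n : N => ((H12.oneIrr G : IrrCharacter G) : G → ℂ) n)
      (H12.oneIrr N : N → ℂ) ≠ 0 := by
    rw [show (fun n : N => ((H12.oneIrr G : IrrCharacter G) : G → ℂ) n) =
      (H12.oneIrr N : N → ℂ) from rfl, H12.classInner_irr_self]
    exact one_ne_zero
  obtain ⟨g, hg⟩ := H21.covered_conj N (H20.isPBlock_principalBlock (M := M) (G := G))
    (H20.isPBlock_principalBlock (M := M) (G := N)) (H12.oneIrr G) (one_mem_principal hM)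
    (H12.oneIrr N) (one_mem_principal hM) h1 χ hχ θ hc
  have h2 := H21.sameBlock_conjChar N g⁻¹
    (show SameBlock M (H12.oneIrr N : N → ℂ) (H21.conjChar N g θ : N → ℂ) from hg)
  rw [H21.conjChar_inv_cancel, show H21.conjChar N g⁻¹ (H12.oneIrr N) = H12.oneIrr N from
    Subtype.ext (funext fun n => by rw [H21.conjChar_apply]; rfl)] at h2
  exact h2

/-- With a `p`-group quotient, every character over a principal one is principal. -/
theorem mem_principal_of_over (hM : IsPModular p M) (N : Subgroup G) [N.Normal] [Fintype N]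
    (hQ : IsPGroup p (G ⧸ N)) {χ : IrrCharacter G} {θ : IrrCharacter N}
    (hθ : θ ∈ principalBlock M N)
    (hc : classInner (fun n : N => (χ : G → ℂ) n) (θ : N → ℂ) ≠ 0) :
    χ ∈ principalBlock M G := by
  classical
  haveI := Fintype.ofFinite G
  haveI := H20.isPrime_of_modular hM
  haveI : Fintype (ConjClasses G) := Fintype.ofFinite _
  set one := H12.oneIrr G with hone
  have h1c : classInner (fun n : N => (one : G → ℂ) n) (H12.oneIrr N : N → ℂ) ≠ 0 := by
    rw [show (fun n : N => (one : G → ℂ) n) = (H12.oneIrr N : N → ℂ) from rfl,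
      H12.classInner_irr_self]
    exact one_ne_zero
  have hagree : ∀ n : N, H20.redC M (centralChar (one : G → ℂ) (n : G)) =
      H20.redC M (centralChar (χ : G → ℂ) (n : G)) := fun n => by
    rw [H21.centralChar_eq_induced N one _ h1c n, H21.centralChar_eq_induced N χ θ hc n]
    exact (H21.redC_induced_of_sameBlock N
      (show SameBlock M (H12.oneIrr N : N → ℂ) (θ : N → ℂ) from hθ) n).2
  set B := principalBlock M G with hBdef
  have hB : IsPBlock M B := H20.isPBlock_principalBlock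
  have s1 := H22.sum_redC_coeff_mul hB one
  have s2 := H22.sum_redC_coeff_mul hB χ
  rw [if_pos (one_mem_principal hM)] at s1
  by_contra hne
  rw [if_neg hne] at s2
  apply one_ne_zero (α := H20.k M)
  rw [← s1, ← s2]
  refine Finset.sum_congr rfl fun C _ => ?_
  by_cases hreg : p ∣ orderOf C.out
  · rw [H22.blockCoeff_eq_zero_of_dvd (H22.weakOrth_of_block hM hB) hreg, H20.redC_zero,
      zero_mul, zero_mul]
  · have hmem : C.out ∈ N := by
      rw [← QuotientGroup.eq_one_iff, ← orderOf_eq_one_iff]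
      obtain ⟨k, hk⟩ := IsPGroup.iff_orderOf.1 hQ (C.out : G ⧸ N)
      refine Nat.eq_one_of_dvd_coprimes
        (((Fact.out : p.Prime).coprime_iff_not_dvd.2 hreg).pow_left k) hk.dvd ?_
      exact orderOf_map_dvd (QuotientGroup.mk' N) C.out
    exact congrArg (H20.redC M (blockCoeff B C.out) * ·) (hagree ⟨C.out, hmem⟩)

/-- Raising to the power `k` fixes elements of order prime to `p` and `p`-elements are
raised to `1 + p`. -/
theorem coprime_of_pow (k : ℕ) (hk₁ : ∀ g : G, (∃ j : ℕ, orderOf g = p ^ j) → g ^ k = g ^ (1 + p))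
    (hk₂ : ∀ g : G, Nat.Coprime (orderOf g) p → g ^ k = g) : Nat.Coprime k (Nat.card G) := by
  refine Nat.coprime_of_dvd fun r hr hrk hrG => ?_
  haveI := Fact.mk hr
  obtain ⟨x, hx⟩ := exists_prime_orderOf_dvd_card' r hrG
  have h0 : x ^ k = 1 := orderOf_dvd_iff_pow_eq_one.1 (hx ▸ hrk)
  by_cases hrp : r = p
  · subst hrp
    have h1 := hk₁ x ⟨1, by rw [hx, pow_one]⟩
    rw [h0, pow_add, pow_one] at h1
    rw [show x ^ r = 1 from orderOf_dvd_iff_pow_eq_one.1 (hx ▸ dvd_rfl), mul_one] at h1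
    rw [← h1, orderOf_one] at hx
    exact hr.one_lt.ne hx
  · have h1 := hk₂ x (hx ▸ (Nat.coprime_primes hr Fact.out).2 hrp)
    rw [h0] at h1
    rw [← h1, orderOf_one] at hx
    exact hr.one_lt.ne hx

theorem main (hM : IsPModular p M) (P : Sylow p G)
    (hcyc : IsCyclic (G ⧸ pResidual p G)) (hnt : pResidual p G ≠ ⊤) (k : ℕ)
    (hk₁ : ∀ g : G, (∃ j : ℕ, orderOf g = p ^ j) → g ^ k = g ^ (1 + p))
    (hk₂ : ∀ g : G, Nat.Coprime (orderOf g) p → g ^ k = g) :
    Nat.card {χ : IrrCharacter G // χ ∈ principalBlock M G ∧ ¬ p ∣ charDegree (χ : G → ℂ) ∧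
      ∀ g : G, (χ : G → ℂ) (g ^ k) = (χ : G → ℂ) g} =
    p * Nat.card {θ : IrrCharacter (pResidual p G) // θ ∈ principalBlock M (pResidual p G) ∧
      ¬ p ∣ charDegree (θ : pResidual p G → ℂ) ∧
      (∀ x ∈ (P : Subgroup G), ∀ n : pResidual p G, (θ : pResidual p G → ℂ)
        ⟨x * n * x⁻¹, Subgroup.Normal.conj_mem inferInstance (n : G) n.2 x⟩ =
          (θ : pResidual p G → ℂ) n) ∧
      ∀ n : pResidual p G, (θ : pResidual p G → ℂ) (n ^ k) = (θ : pResidual p G → ℂ) n} := by
  classical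
  have hp : p.Prime := Fact.out
  haveI := Fintype.ofFinite G
  haveI := H20.isPrime_of_modular hM
  set N := pResidual p G with hNdef
  haveI : N.Normal := inferInstance
  haveI := Fintype.ofFinite N
  haveI := Fintype.ofFinite (G ⧸ N)
  have hQ : IsPGroup p (G ⧸ N) := H5.isPGroup_quotient_pResidual
  obtain ⟨f, hf⟩ := H5.exists_index_pResidual_eq (G := G) (p := p)
  have hkG : Nat.Coprime k (Nat.card G) := coprime_of_pow k hk₁ hk₂
  -- generation by the Sylow subgroup
  have hgen : (P : Subgroup G) ⊔ N = ⊤ := by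
    refine Subgroup.index_eq_one.1 ?_
    obtain ⟨i, -, hi⟩ := (Nat.dvd_prime_pow hp).1
      (hf ▸ Subgroup.index_dvd_of_le (le_sup_right : N ≤ (P : Subgroup G) ⊔ N))
    rcases Nat.eq_zero_or_pos i with rfl | hpos
    · simpa using hi
    · exact absurd ((hi ▸ dvd_pow_self p hpos.ne').trans
        (Subgroup.index_dvd_of_le (le_sup_left : (P : Subgroup G) ≤ (P : Subgroup G) ⊔ N)))
        P.not_dvd_index
  -- powers in the quotient
  have hpowQ : ∀ x : G ⧸ N, x ^ k = x ^ (1 + p) := by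
    intro x
    obtain ⟨g, rfl⟩ := QuotientGroup.mk_surjective x
    obtain ⟨a, ha, b, hb, rfl⟩ := Subgroup.mem_sup_of_normal_right.1
      (show g ∈ (P : Subgroup G) ⊔ N by rw [hgen]; trivial)
    obtain ⟨j, hj⟩ := IsPGroup.iff_orderOf.1 P.isPGroup' ⟨a, ha⟩
    rw [QuotientGroup.mk_mul, (QuotientGroup.eq_one_iff b).2 hb, mul_one,
      ← QuotientGroup.mk_pow, ← QuotientGroup.mk_pow,
      hk₁ a ⟨j, by rw [← hj, ← Subgroup.orderOf_coe]⟩]
  -- canonical extensions
  set S := {θ : IrrCharacter N // θ ∈ principalBlock M N ∧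
      ¬ p ∣ charDegree (θ : N → ℂ) ∧
      (∀ x ∈ (P : Subgroup G), ∀ n : N, (θ : N → ℂ)
        ⟨x * n * x⁻¹, Subgroup.Normal.conj_mem inferInstance (n : G) n.2 x⟩ = (θ : N → ℂ) n) ∧
      ∀ n : N, (θ : N → ℂ) (n ^ k) = (θ : N → ℂ) n} with hS
  have hinv : ∀ (θ : S) (g : G) (n : N), (θ.1 : N → ℂ)
      ⟨g * n * g⁻¹, Subgroup.Normal.conj_mem inferInstance (n : G) n.2 g⟩ = (θ.1 : N → ℂ) n := by
    intro θ g n
    have hle : ⊤ ≤ H13.inertia N (θ.1 : N → ℂ) := hgen ▸ sup_le
      (fun x hx => (H13.mem_inertia N).2 (funext fun m => θ.2.2.2.1 x hx m))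
      (H13.le_inertia N (H12.irr_isClassFunction θ.1))
    exact congrFun ((H13.mem_inertia N).1 (hle (Subgroup.mem_top g))) n
  have hex : ∀ θ : S, ∃ η : IrrCharacter G, (∀ n : N, (η : G → ℂ) n = (θ.1 : N → ℂ) n) ∧
      ¬ p ∣ charDegree (η : G → ℂ) ∧ ∀ g : G, (η : G → ℂ) (g ^ k) = (η : G → ℂ) g := by
    intro θ
    have hcopd : Nat.Coprime N.index (detOrder (θ.1 : N → ℂ) * charDegree (θ.1 : N → ℂ)) := by
      rw [hf]
      exact Nat.Coprime.pow_left f (hp.coprime_iff_not_dvd.2 fun h =>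
        (hp.dvd_mul.1 h).elim (H21.not_dvd_detOrder_residual θ.1) θ.2.2.1)
    obtain ⟨η, ⟨hη, hres, hord⟩, huniq⟩ := H14.exists_canonical_extension N (θ.1 : N → ℂ) θ.1.2
      (hinv θ) (charDegree (θ.1 : N → ℂ)) (H22.irr_one_eq_charDegree θ.1) hcopd
    have hd : ¬ p ∣ charDegree η := by
      have h1 : (charDegree η : ℂ) = (charDegree (θ.1 : N → ℂ) : ℂ) := by
        rw [← H22.irr_one_eq_charDegree θ.1, ← H22.irr_one_eq_charDegree ⟨η, hη⟩, ← hres 1]
        rfl
      rw [Nat.cast_inj.1 h1]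
      exact θ.2.2.1
    refine ⟨⟨η, hη⟩, hres, hd, fun g => ?_⟩
    have hirr := H25.isIrrCharacter_comp_pow hη hkG
    obtain ⟨σ, hσ⟩ := H25.exists_ringEquiv_pow_rootOfUnity (Nat.card G) k Nat.card_pos hkG
    have heq : (fun x => η (x ^ k)) = (σ : ℂ → ℂ) ∘ η := funext fun x =>
      (H25.map_character_apply (H12.isCharacter_of_isIrrCharacter hη) σ k hσ x).symm
    have hdet : detOrder (fun x => η (x ^ k)) = detOrder η := by
      rw [heq, H12.Cyclic.detOrder_ringEquiv hη]
    have h := huniq _ hirr (fun n => by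
      show η ((n : G) ^ k) = _
      rw [← Subgroup.coe_pow, hres, θ.2.2.2.2]) (by
      rw [hdet, hord]
      exact Nat.Coprime.coprime_dvd_right (Dvd.intro _ rfl) hcopd)
    exact congrFun h g
  choose η hηres hηd hηfix using hex
  -- linear characters of the quotient killed by `p`
  letI : CommGroup (G ⧸ N) := hcyc.commGroup
  set L := {c : G ⧸ N →* ℂˣ // c ^ p = 1} with hL
  have hcardL : Nat.card L = p := by
    obtain ⟨e⟩ := CommGroup.monoidHom_mulEquiv_of_hasEnoughRootsOfUnity (G ⧸ N) ℂ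
    haveI : IsCyclic (G ⧸ N →* ℂˣ) := isCyclic_of_surjective e.symm e.symm.surjective
    haveI : Finite (G ⧸ N →* ℂˣ) := Finite.of_equiv _ e.symm.toEquiv
    have h1 := IsCyclic.card_powMonoidHom_ker (G := G ⧸ N →* ℂˣ) p
    rw [Nat.card_congr e.toEquiv, ← Subgroup.index_eq_card, hf] at h1
    have hfpos : f ≠ 0 := fun h0 => hnt (Subgroup.index_eq_one.1 (by rw [hf, h0, pow_zero]))
    rw [Nat.gcd_eq_right (dvd_pow_self p hfpos)] at h1
    rw [← h1]
    exact Nat.card_congr (Equiv.subtypeEquivRight fun c => by simp [MonoidHom.mem_ker])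
  have hchar : ∀ θ : S, IsCharacter G (η θ : G → ℂ) := fun θ => H12.isCharacter_irr _
  have hresirr : ∀ θ : S, IsIrrCharacter N (fun n : N => (η θ : G → ℂ) n) := fun θ => by
    rw [show (fun n : N => (η θ : G → ℂ) n) = (θ.1 : N → ℂ) from funext (hηres θ)]
    exact θ.1.2
  let mk : S × L → IrrCharacter G := fun t =>
    ⟨(H13.inflateIrr N (H12.linIrr t.2.1) : G → ℂ) * (η t.1 : G → ℂ),
      H13.gallagher_isIrr N (hchar t.1) (hresirr t.1) _⟩
  have hmk : ∀ t g, (mk t : G → ℂ) g = (t.2.1 (g : G ⧸ N) : ℂ) * (η t.1 : G → ℂ) g := fun t g => by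
    show ((H13.inflateIrr N (H12.linIrr t.2.1) : G → ℂ) * (η t.1 : G → ℂ)) g = _
    rw [Pi.mul_apply, H13.inflateIrr_apply, H12.linIrr_apply]
  have hmkres : ∀ t, (fun n : N => (mk t : G → ℂ) n) = (t.1.1 : N → ℂ) := fun t => funext fun n => by
    rw [hmk, (QuotientGroup.eq_one_iff (n : G)).2 n.2, map_one, Units.val_one, one_mul, hηres]
  have hmem : ∀ t, mk t ∈ principalBlock M G ∧ ¬ p ∣ charDegree (mk t : G → ℂ) ∧
      ∀ g : G, (mk t : G → ℂ) (g ^ k) = (mk t : G → ℂ) g := by
    intro t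
    refine ⟨mem_principal_of_over hM N hQ t.1.2.1 ?_, ?_, fun g => ?_⟩
    · rw [hmkres, H12.classInner_irr_self]; exact one_ne_zero
    · have h1 : (charDegree (mk t : G → ℂ) : ℂ) = (charDegree (η t.1 : G → ℂ) : ℂ) := by
        rw [← H22.irr_one_eq_charDegree, ← H22.irr_one_eq_charDegree, hmk, QuotientGroup.mk_one,
          map_one, Units.val_one, one_mul]
      rw [Nat.cast_inj.1 h1]
      exact hηd t.1
    · rw [hmk, hmk, hηfix, QuotientGroup.mk_pow, hpowQ, map_pow, pow_add, pow_one,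
        show (t.2.1 (g : G ⧸ N)) ^ p = 1 from DFunLike.congr_fun t.2.2 (g : G ⧸ N), mul_one]
  let Φ : S × L → {χ : IrrCharacter G // χ ∈ principalBlock M G ∧
      ¬ p ∣ charDegree (χ : G → ℂ) ∧ ∀ g : G, (χ : G → ℂ) (g ^ k) = (χ : G → ℂ) g} :=
    fun t => ⟨mk t, hmem t⟩
  have hbij : Function.Bijective Φ := by
    constructor
    · rintro ⟨θ, c⟩ ⟨θ', c'⟩ h
      have h1 : mk (θ, c) = mk (θ', c') := congrArg Subtype.val h
      have hθ : θ = θ' := Subtype.ext (Subtype.ext (by rw [← hmkres (θ, c), h1, hmkres (θ', c')]))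
      subst hθ
      have h2 := H13.gallagher_injective N (hchar θ) (hresirr θ)
        (β := H12.linIrr c.1) (γ := H12.linIrr c'.1) (congrArg Subtype.val h1)
      exact Prod.ext rfl (Subtype.ext (H12.linIrr_injective h2))
    · rintro ⟨χ, hχB, hχd, hχk⟩
      obtain ⟨θ, hne⟩ := H13.exists_constituent N (H12.isCharacter_irr χ)
        (fun h => H12.irr_apply_one_ne_zero χ (congrFun h 1))
      obtain ⟨m, hm⟩ := H12.IsCharacter.classInner_nat
        (H12.IsCharacter.res (H12.isCharacter_irr χ) N) (H12.isCharacter_irr θ)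
      have hdeg := H13.clifford_degree N χ.2 θ.2 hne
      rw [hm, H22.irr_one_eq_charDegree, H22.irr_one_eq_charDegree θ] at hdeg
      have hdeg' : charDegree (χ : G → ℂ) =
          m * (H13.inertia N (θ : N → ℂ)).index * charDegree (θ : N → ℂ) := by exact_mod_cast hdeg
      have hT : H13.inertia N (θ : N → ℂ) = ⊤ := by
        rw [← Subgroup.index_eq_one]
        obtain ⟨i, -, hi⟩ := (Nat.dvd_prime_pow hp).1
          (hf ▸ Subgroup.index_dvd_of_le (H13.le_inertia N (H12.irr_isClassFunction θ)))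
        rcases Nat.eq_zero_or_pos i with rfl | hpos
        · simpa using hi
        · exact absurd (hdeg' ▸ Dvd.dvd.mul_right (Dvd.dvd.mul_left (hi ▸ dvd_pow_self p hpos.ne') _) _)
            hχd
      have hθd : ¬ p ∣ charDegree (θ : N → ℂ) := fun h => hχd (hdeg' ▸ dvd_mul_of_dvd_right h _)
      have hθB := constituent_mem hM N hχB hne
      have hinvθ : ∀ (x : G) (n : N), (θ : N → ℂ)
          ⟨x * n * x⁻¹, Subgroup.Normal.conj_mem inferInstance (n : G) n.2 x⟩ = (θ : N → ℂ) n :=
        fun x n => congrFun ((H13.mem_inertia N).1 (hT ▸ Subgroup.mem_top x)) n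
      -- restriction is a multiple of a fixed character
      obtain ⟨ext0, ⟨hext0, hext0res, -⟩, -⟩ := H14.exists_canonical_extension N (θ : N → ℂ) θ.2
        hinvθ (charDegree (θ : N → ℂ)) (H22.irr_one_eq_charDegree θ) (by
          rw [hf]
          exact Nat.Coprime.pow_left f (hp.coprime_iff_not_dvd.2 fun h =>
            (hp.dvd_mul.1 h).elim (H21.not_dvd_detOrder_residual θ) hθd))
      obtain ⟨β, hβ⟩ := H13.gallagher_exists N (H12.isCharacter_irr ⟨ext0, hext0⟩)
        (by rw [show (fun n : N => ((⟨ext0, hext0⟩ : IrrCharacter G) : G → ℂ) n) = (θ : N → ℂ)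
          from funext hext0res]; exact θ.2) χ.2
        (by rw [show (fun n : N => ((⟨ext0, hext0⟩ : IrrCharacter G) : G → ℂ) n) = (θ : N → ℂ)
          from funext hext0res]; exact hne)
      have hresχ : ∀ n : N, (χ : G → ℂ) n = (β : G ⧸ N → ℂ) 1 * (θ : N → ℂ) n := fun n => by
        rw [hβ, Pi.mul_apply, H13.inflateIrr_apply, (QuotientGroup.eq_one_iff (n : G)).2 n.2]
        congr 1
        exact hext0res n
      have hβ1 : (β : G ⧸ N → ℂ) 1 = 1 := by
        refine H21.charDegree_eq_one_of_quotient hQ β fun hd => hχd ?_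
        have h3 := congrFun hβ 1
        rw [Pi.mul_apply, H13.inflateIrr_apply, QuotientGroup.mk_one, H22.irr_one_eq_charDegree,
          H22.irr_one_eq_charDegree β, H22.irr_one_eq_charDegree ⟨ext0, hext0⟩, ← Nat.cast_mul,
          Nat.cast_inj] at h3
        exact h3 ▸ Dvd.dvd.mul_right hd _
      have hresχ' : ∀ n : N, (χ : G → ℂ) n = (θ : N → ℂ) n := fun n => by
        rw [hresχ, hβ1, one_mul]
      let θS : S := ⟨θ, hθB, hθd, fun x _ n => hinvθ x n, fun n => by
        rw [← hresχ', ← hresχ', Subgroup.coe_pow, hχk]⟩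
      obtain ⟨γ, hγ⟩ := H13.gallagher_exists N (hchar θS) (hresirr θS) χ.2 (by
        rw [show (fun n : N => (η θS : G → ℂ) n) = (θ : N → ℂ) from funext (hηres θS)]
        exact hne)
      have hγ1 : (γ : G ⧸ N → ℂ) 1 = 1 := by
        have h3 := congrFun hγ ((1 : N) : G)
        rw [hresχ', Pi.mul_apply, H13.inflateIrr_apply, hηres, OneMemClass.coe_one,
          QuotientGroup.mk_one] at h3
        exact mul_right_cancel₀ (H12.irr_apply_one_ne_zero θ) (h3.symm.trans (one_mul _).symm)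
      obtain ⟨c, hc⟩ := H12.exists_monoidHom_of_apply_one_eq_one (H12.isCharacter_irr γ) hγ1
      have hγc : H12.linIrr c = γ := Subtype.ext hc
      have hcp : c ^ p = 1 := by
        have hkk : H12.linIrr (c ^ k) = H12.linIrr c := by
          refine H13.gallagher_injective N (hchar θS) (hresirr θS) (funext fun g => ?_)
          rw [Pi.mul_apply, Pi.mul_apply, H13.inflateIrr_apply, H13.inflateIrr_apply,
            H12.linIrr_apply, H12.linIrr_apply, MonoidHom.pow_apply, ← map_pow,
            ← QuotientGroup.mk_pow]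
          have h4 := hχk g
          rw [hγ, Pi.mul_apply, Pi.mul_apply, H13.inflateIrr_apply, H13.inflateIrr_apply,
            hηfix, ← hγc, H12.linIrr_apply, H12.linIrr_apply] at h4
          exact h4
        have h5 : c ^ k = c := H12.linIrr_injective hkk
        refine MonoidHom.ext fun x => ?_
        have h6 := DFunLike.congr_fun h5 x
        rw [MonoidHom.pow_apply, ← map_pow, hpowQ, map_pow, pow_add, pow_one] at h6
        rw [MonoidHom.pow_apply]
        exact mul_left_cancel (h6.trans (mul_one _).symm)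
      refine ⟨(θS, ⟨c, hcp⟩), Subtype.ext (Subtype.ext ?_)⟩
      show (H13.inflateIrr N (H12.linIrr c) : G → ℂ) * (η θS : G → ℂ) = (χ : G → ℂ)
      rw [hγc, ← hγ]
  rw [← Nat.card_congr (Equiv.ofBijective Φ hbij), Nat.card_prod, hcardL, mul_comm]

end H60.SigmaFix
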