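import Cfsg.Agent.H60.PrimFit
import Cfsg.Agent.H61.CharSimple
import Cfsg.Agent.H27.ConjUnion
import Cfsg.Agent.H33.TwoPrime
import Cfsg.Agent.H60.Derangement
import Cfsg.Agent.H58.SharplyTwo

/-! Primitive groups which are not almost simple: the coarse case division by a minimal normal
subgroup, and derangements inside a non-abelian one. -/

set_option autoImplicit false

namespace H60

open MulAction

variable {G Ω : Type*} [Group G] [MulAction G Ω]

/-- A finite primitive group which is not almost simple has an abelian regular normal subgroup, or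
a non-abelian minimal normal subgroup `S^m` which is regular, or has trivial centraliser and `2 ≤ m`. -/
theorem socle_cases [Finite G] [FaithfulSMul G Ω] [IsPreprimitive G Ω] [Nontrivial Ω]
    (hnas : ¬ ∃ T : Subgroup G, T.Normal ∧ IsSimpleGroup T ∧ ¬ IsMulCommutative T ∧
      Subgroup.centralizer (T : Set G) = ⊥) :
    (∃ N : Subgroup G, N.Normal ∧ N ≠ ⊥ ∧ (∀ M : Subgroup G, M.Normal → M ≤ N → M = ⊥ ∨ M = N) ∧
      (∀ a ∈ N, ∀ b ∈ N, a * b = b * a) ∧ IsPretransitive N Ω ∧
      ∀ n ∈ N, ∀ ω : Ω, n • ω = ω → n = 1) ∨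
    (∃ N : Subgroup G, N.Normal ∧ N ≠ ⊥ ∧ (∀ M : Subgroup G, M.Normal → M ≤ N → M = ⊥ ∨ M = N) ∧
      IsPretransitive N Ω ∧ ∃ (S : Type) (_ : Group S) (_ : IsSimpleGroup S) (m : ℕ),
        1 ≤ m ∧ (¬ ∀ a b : S, a * b = b * a) ∧ Nonempty (N ≃* (Fin m → S)) ∧
        ((∀ n ∈ N, ∀ ω : Ω, n • ω = ω → n = 1) ∨
          (Subgroup.centralizer (N : Set G) = ⊥ ∧ 2 ≤ m))) := by
  classical
  haveI : Finite (Subgroup G) := inferInstance
  haveI : Nontrivial G := by
    by_contra h
    rw [not_nontrivial_iff_subsingleton] at h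
    obtain ⟨x, y, hxy⟩ := exists_pair_ne Ω
    obtain ⟨g, rfl⟩ := exists_smul_eq G x y
    exact hxy (by rw [Subsingleton.elim g 1, one_smul])
  obtain ⟨N, ⟨hNn, hNne⟩, hNmin⟩ := (Set.toFinite {K : Subgroup G | K.Normal ∧ K ≠ ⊥}).exists_minimal
    ⟨⊤, inferInstance, top_ne_bot⟩
  haveI : N.Normal := hNn
  have hmin : ∀ M : Subgroup G, M.Normal → M ≤ N → M = ⊥ ∨ M = N := fun M hM hle => by
    by_cases hb : M = ⊥
    · exact Or.inl hb
    · exact Or.inr (le_antisymm hle (hNmin ⟨hM, hb⟩ hle))
  have hNtr : IsPretransitive N Ω := normal_transitive hNn hNne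
  by_cases hab : ∀ a ∈ N, ∀ b ∈ N, a * b = b * a
  · exact Or.inl ⟨N, hNn, hNne, hmin, hab, hNtr,
      fun n hn ω hω => regular_of_abelian_normal (X := Ω) hNn hNne hab hn hω⟩
  obtain ⟨S, _, _, m, hm, ⟨e⟩⟩ := H61.exists_mulEquiv_pi_of_minimal_normal N hNn hNne hmin
  have hS : ¬ ∀ a b : S, a * b = b * a := by
    intro h
    refine hab fun a ha b hb => ?_
    have h2 : e ⟨a, ha⟩ * e ⟨b, hb⟩ = e ⟨b, hb⟩ * e ⟨a, ha⟩ := funext fun i => h _ _
    rw [← map_mul, ← map_mul] at h2
    exact congrArg Subtype.val (e.injective h2)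
  refine Or.inr ⟨N, hNn, hNne, hmin, hNtr, S, _, inferInstance, m, hm, hS, ⟨e⟩, ?_⟩
  by_cases hC : Subgroup.centralizer (N : Set G) = ⊥
  · refine Or.inr ⟨hC, ?_⟩
    by_contra hm2
    obtain rfl : m = 1 := by omega
    let e1 : N ≃* S := e.trans
      { toEquiv := Equiv.funUnique (Fin 1) S
        map_mul' := fun _ _ => rfl }
    haveI : Nontrivial N := (Subgroup.nontrivial_iff_ne_bot N).mpr hNne
    refine hnas ⟨N, hNn, IsSimpleGroup.isSimpleGroup_of_surjective e1.symm.toMonoidHom e1.symm.surjective,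
      fun h => hab fun a ha b hb => ?_, hC⟩
    exact congrArg Subtype.val (h.is_comm.comm (⟨a, ha⟩ : N) ⟨b, hb⟩)
  · refine Or.inl fun n hn ω hω => ?_
    haveI hCn : (Subgroup.centralizer (N : Set G)).Normal := Subgroup.normal_centralizer
    exact eq_one_of_commute_transitive (A := Subgroup.centralizer (N : Set G))
      (normal_transitive (X := Ω) hCn hC)
      (Subgroup.mem_centralizer_iff.mpr fun c hc => (Subgroup.mem_centralizer_iff.mp hc n hn).symm) hω

/-- In a transitive group `N ≅ S^m`, either some coordinate value forces a derangement, or all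
elements supported on one given factor are derangements. -/
theorem derangement_coord [FaithfulSMul G Ω] [Nonempty Ω] {N : Subgroup G} [IsPretransitive N Ω]
    {S : Type} [Group S] [Finite S] [IsSimpleGroup S] {m : ℕ} (e : N ≃* (Fin m → S)) (i : Fin m) :
    (∃ x : S, x ≠ 1 ∧ ∀ n : N, e n i = x → ∀ ω : Ω, n • ω ≠ ω) ∨
    ((∀ t : S, t ≠ 1 → ∀ ω : Ω, e.symm (Pi.mulSingle i t) • ω ≠ ω) ∧
      ∀ (a : Ω) (r : S), ∃ u : N, u • a = a ∧ e u i = r) := by
  classical
  by_cases hR : ∀ (a : Ω) (r : S), ∃ u : N, u • a = a ∧ e u i = r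
  · refine Or.inr ⟨fun t ht ω hω => ?_, hR⟩
    let K : Subgroup S :=
      (stabilizer N ω).comap ((e.symm.toMonoidHom).comp (MonoidHom.mulSingle (fun _ : Fin m => S) i))
    have hKn : K.Normal := by
      refine ⟨fun k hk r => ?_⟩
      obtain ⟨u, hu, hui⟩ := hR ω r
      have h1 : e.symm (Pi.mulSingle i (r * k * r⁻¹)) = u * e.symm (Pi.mulSingle i k) * u⁻¹ := by
        apply e.injective
        rw [e.apply_symm_apply, map_mul, map_mul, e.apply_symm_apply, map_inv]
        funext j
        rcases eq_or_ne j i with rfl | hj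
        · simp [hui]
        · simp [hj]
      show e.symm (Pi.mulSingle i (r * k * r⁻¹)) ∈ stabilizer N ω
      rw [h1]
      exact mul_mem (mul_mem (mem_stabilizer_iff.mpr hu) hk) (inv_mem (mem_stabilizer_iff.mpr hu))
    have htK : t ∈ K := hω
    rcases hKn.eq_bot_or_eq_top with h | h
    · exact ht (Subgroup.mem_bot.mp (h ▸ htK))
    · -- then the whole factor fixes every point
      apply ht
      have hall : ∀ y : Ω, e.symm (Pi.mulSingle i t) • y = y := by
        intro y
        obtain ⟨g, rfl⟩ := exists_smul_eq N ω y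
        have h1 : e.symm (Pi.mulSingle i t) * g =
            g * e.symm (Pi.mulSingle i ((e g i)⁻¹ * t * e g i)) := by
          apply e.injective
          rw [map_mul, map_mul, e.apply_symm_apply, e.apply_symm_apply]
          funext j
          rcases eq_or_ne j i with rfl | hj
          · simp [mul_assoc]
          · simp [hj]
        rw [← mul_smul, h1, mul_smul]
        congr 1
        exact (h ▸ Subgroup.mem_top _ : (e g i)⁻¹ * t * e g i ∈ K)
      have h2 : e.symm (Pi.mulSingle i t) = 1 := Subtype.ext (eq_one_of_forall_smul_eq hall)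
      rw [MulEquiv.map_eq_one_iff, Pi.mulSingle_eq_one_iff] at h2
      exact h2
  · left
    push Not at hR
    obtain ⟨a, r, hr⟩ := hR
    let R : Subgroup S := (stabilizer N a).map ((Pi.evalMonoidHom (fun _ : Fin m => S) i).comp e.toMonoidHom)
    have hRt : R ≠ ⊤ := fun h => by
      obtain ⟨u, hu, hui⟩ := (h ▸ Subgroup.mem_top r : r ∈ R)
      exact hr u hu hui
    obtain ⟨x, hx⟩ : ∃ x : S, ∀ y : S, y⁻¹ * x * y ∉ R := by
      by_contra h
      push Not at h
      exact hRt (H27.eq_top_of_forall_conj_mem R h)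
    refine ⟨x, fun h1 => hx 1 (by simp [h1]), fun n hn ω hω => ?_⟩
    obtain ⟨g, rfl⟩ := exists_smul_eq N a ω
    refine hx (e g i) ⟨g⁻¹ * n * g, mem_stabilizer_iff.mpr ?_, ?_⟩
    · rw [mul_smul, mul_smul, hω, inv_smul_smul]
    · simp [hn]

/-- The centraliser order in a normal subgroup is invariant under conjugation. -/
theorem card_centralizer_conj {N : Subgroup G} [hN : N.Normal] (g : G) (n n' : N)
    (h : g * n * g⁻¹ = n') :
    Nat.card (Subgroup.centralizer ({n} : Set N)) = Nat.card (Subgroup.centralizer ({n'} : Set N)) := by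
  have e : (MulAut.conjNormal g : MulAut N) n = n' := Subtype.ext (by rw [MulAut.conjNormal_apply, h])
  refine Nat.card_congr
    ((MulAut.conjNormal g : MulAut N).toEquiv.subtypeEquiv fun a => ?_)
  rw [Subgroup.mem_centralizer_singleton_iff, Subgroup.mem_centralizer_singleton_iff, ← e]
  simp only [MulEquiv.toEquiv_eq_coe, EquivLike.coe_coe]
  rw [← map_mul, ← map_mul, EmbeddingLike.apply_eq_iff_eq]

/-- Centralisers in a direct power. -/
theorem card_centralizer_pi {S : Type} [Group S] [Finite S] {m : ℕ} {N : Subgroup G}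
    (e : N ≃* (Fin m → S)) (n : N) :
    Nat.card (Subgroup.centralizer ({n} : Set N)) =
      ∏ k, Nat.card (Subgroup.centralizer ({e n k} : Set S)) := by
  rw [← Nat.card_pi]
  refine Nat.card_congr
    { toFun := fun a k => ⟨e a k, ?_⟩
      invFun := fun f => ⟨e.symm fun k => f k, ?_⟩
      left_inv := fun a => Subtype.ext (e.symm_apply_apply a)
      right_inv := fun f => funext fun k => Subtype.ext (congrFun (e.apply_symm_apply _) k) }
  · have h := Subgroup.mem_centralizer_singleton_iff.mp a.2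
    rw [Subgroup.mem_centralizer_singleton_iff]
    exact congrFun (show e (a : N) * e n = e n * e (a : N) by rw [← map_mul, ← map_mul, h]) k
  · rw [Subgroup.mem_centralizer_singleton_iff]
    apply e.injective
    rw [map_mul, map_mul, e.apply_symm_apply]
    funext k
    exact Subgroup.mem_centralizer_singleton_iff.mp (f k).2

/-- Changing one coordinate: equal centraliser orders force equal orders at that coordinate. -/
theorem card_centralizer_update {S : Type} [Group S] [Finite S] {m : ℕ} {N : Subgroup G}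
    (e : N ≃* (Fin m → S)) (f : Fin m → S) (j : Fin m) (y y' : S)
    (h : Nat.card (Subgroup.centralizer ({e.symm (Function.update f j y)} : Set N)) =
      Nat.card (Subgroup.centralizer ({e.symm (Function.update f j y')} : Set N))) :
    Nat.card (Subgroup.centralizer ({y} : Set S)) = Nat.card (Subgroup.centralizer ({y'} : Set S)) := by
  classical
  rw [card_centralizer_pi e, card_centralizer_pi e, e.apply_symm_apply, e.apply_symm_apply,
    ← Finset.mul_prod_erase _ _ (Finset.mem_univ j), ← Finset.mul_prod_erase _ _ (Finset.mem_univ j),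
    Function.update_self, Function.update_self] at h
  have hrest : ∏ k ∈ Finset.univ.erase j, Nat.card (Subgroup.centralizer ({Function.update f j y k} : Set S)) =
      ∏ k ∈ Finset.univ.erase j, Nat.card (Subgroup.centralizer ({Function.update f j y' k} : Set S)) :=
    Finset.prod_congr rfl fun k hk => by
      rw [Function.update_of_ne (Finset.ne_of_mem_erase hk), Function.update_of_ne (Finset.ne_of_mem_erase hk)]
  rw [hrest] at h
  exact Nat.eq_of_mul_eq_mul_right (Finset.prod_pos fun k _ => Nat.card_pos) h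

/-- The centralisers of nontrivial elements of a non-abelian simple group are proper. -/
theorem card_centralizer_lt {S : Type*} [Group S] [Finite S] [IsSimpleGroup S]
    (hS : ¬ ∀ a b : S, a * b = b * a) {y : S} (hy : y ≠ 1) :
    Nat.card (Subgroup.centralizer ({y} : Set S)) < Nat.card (Subgroup.centralizer ({1} : Set S)) := by
  have hlt : Subgroup.centralizer ({y} : Set S) ≠ ⊤ := by
    intro h
    rcases (inferInstance : (Subgroup.center S).Normal).eq_bot_or_eq_top with hc | hc
    · refine hy (Subgroup.mem_bot.mp (hc ▸ Subgroup.mem_center_iff.mpr fun g => ?_))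
      exact Subgroup.mem_centralizer_singleton_iff.mp (show g ∈ Subgroup.centralizer ({y} : Set S) by rw [h]; trivial)
    · exact hS fun a b => (Subgroup.mem_center_iff.mp (hc ▸ Subgroup.mem_top a) b).symm
  have h1 : Subgroup.centralizer ({1} : Set S) = ⊤ :=
    top_le_iff.mp fun g _ => Subgroup.mem_centralizer_singleton_iff.mpr (by simp)
  rw [h1, Subgroup.card_top]
  refine lt_of_le_of_ne (Subgroup.card_le_card_group _) fun h => hlt ?_
  exact (Subgroup.card_eq_iff_eq_top _).mp h

/-- Two non-trivial elements of a non-abelian simple group have distinct centraliser orders. -/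
theorem exists_two_centralizer_orders {S : Type*} [Group S] [Finite S] [IsSimpleGroup S]
    (hS : ¬ ∀ a b : S, a * b = b * a) :
    ∃ y y' : S, y ≠ 1 ∧ y' ≠ 1 ∧
      Nat.card (Subgroup.centralizer ({y} : Set S)) ≠ Nat.card (Subgroup.centralizer ({y'} : Set S)) := by
  classical
  obtain ⟨y0, hy0⟩ := exists_ne (1 : S)
  by_contra hcon
  push Not at hcon
  have hall : ∀ y : S, y ≠ 1 → (Subgroup.centralizer ({y} : Set S)).index =
      (Subgroup.centralizer ({y0} : Set S)).index := fun y hy => by
    refine Nat.eq_of_mul_eq_mul_left (Nat.card_pos (α := Subgroup.centralizer ({y} : Set S))) ?_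
    rw [Subgroup.card_mul_index, hcon y y0 hy hy0, Subgroup.card_mul_index]
  set k := (Subgroup.centralizer ({y0} : Set S)).index with hk
  have hdvd : k ∣ Nat.card S := Subgroup.index_dvd_card _
  have horb : ∀ y : S, y ≠ 1 → Nat.card (MulAction.orbit (ConjAct S) y) = k := fun y hy => by
    rw [← hall y hy, ← Subgroup.index_comap_of_surjective _
      (f := (ConjAct.ofConjAct (G := S)).toMonoidHom) ConjAct.ofConjAct.surjective]
    rw [Nat.card_congr (MulAction.orbitEquivQuotientStabilizer (ConjAct S) y)]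
    show (MulAction.stabilizer (ConjAct S) y).index = _
    congr 1
    ext g
    rw [MulAction.mem_stabilizer_iff, ConjAct.smul_def, Subgroup.mem_comap,
      Subgroup.mem_centralizer_singleton_iff, mul_inv_eq_iff_eq_mul]
    rfl
  haveI : Finite (ConjAct S) := Finite.of_equiv S ConjAct.toConjAct.toEquiv
  have hdvd1 : k ∣ Nat.card S - 1 := by
    have h := H60.dvd_card_sub_one (G := ConjAct S) (Ω := S) 1 k fun y hy => ?_
    · exact h
    have he : MulAction.stabilizer (ConjAct S) (1 : S) = ⊤ := top_le_iff.mp fun g _ => smul_one g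
    rw [← horb y hy]
    refine dvd_of_eq (Nat.card_congr (Equiv.setCongr ?_))
    ext z
    constructor
    · rintro ⟨g, rfl⟩
      exact ⟨⟨g, he ▸ Subgroup.mem_top g⟩, rfl⟩
    · rintro ⟨g, rfl⟩
      exact ⟨g, rfl⟩
  have hk1 : k = 1 := by
    have h2 := Nat.dvd_sub hdvd hdvd1
    have hpos : 0 < Nat.card S := Nat.card_pos
    rw [show Nat.card S - (Nat.card S - 1) = 1 by omega] at h2
    exact Nat.dvd_one.mp h2
  have h1 := card_centralizer_lt hS hy0
  rw [Subgroup.index_eq_one.mp hk1, Subgroup.card_top] at h1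
  exact absurd (Subgroup.card_le_card_group _) (not_le.mpr h1)

/-- Finite group all whose nontrivial elements have one of two orders is solvable. -/
theorem isSolvable_of_two_orders {S : Type*} [Group S] [Finite S] (k l : ℕ)
    (h : ∀ x : S, x ≠ 1 → orderOf x = k ∨ orderOf x = l) : Group.IsSolvable S := by
  classical
  have key : ∀ r : ℕ, r.Prime → r ∣ Nat.card S → r = k ∨ r = l := fun r hr hd => by
    haveI : Fact r.Prime := ⟨hr⟩
    obtain ⟨x, hx⟩ := exists_prime_orderOf_dvd_card' r hd
    exact hx ▸ h x fun h1 => hr.ne_one (by rw [← hx, h1, orderOf_one])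
  refine H33.isSolvable_of_two_primes (p := if k.Prime then k else 2) (q := if l.Prime then l else 2)
    (by split <;> [assumption; exact Nat.prime_two]) (by split <;> [assumption; exact Nat.prime_two])
    fun r hr hd => ?_
  rcases key r hr hd with rfl | rfl <;> simp [hr]

theorem comm_of_two_orders {S : Type*} [Group S] [Finite S] [IsSimpleGroup S] (k l : ℕ)
    (h : ∀ x : S, x ≠ 1 → orderOf x = k ∨ orderOf x = l) : ∀ a b : S, a * b = b * a :=
  IsSimpleGroup.comm_iff_isSolvable.mpr (isSolvable_of_two_orders k l h)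

/-- In an affine group, conjugate translations move a point into one suborbit. -/
theorem exists_stab_map {N : Subgroup G} [hNn : N.Normal] [IsPretransitive N Ω]
    (hab : ∀ a ∈ N, ∀ b ∈ N, a * b = b * a) {x y : G} (hx : x ∈ N) (hxy : IsConj x y) (a : Ω) :
    ∃ h ∈ stabilizer G a, h • x • a = y • a := by
  obtain ⟨g, rfl⟩ := isConj_iff.mp hxy
  obtain ⟨⟨k, hk⟩, hka⟩ := exists_smul_eq N a (g • a)
  change k • a = g • a at hka
  refine ⟨k⁻¹ * g, mem_stabilizer_iff.mpr (by rw [mul_smul, ← hka, inv_smul_smul]), ?_⟩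
  have hh : (k⁻¹ * g) • a = a := by rw [mul_smul, ← hka, inv_smul_smul]
  have h1 : k⁻¹ * (g * x * g⁻¹) * k = g * x * g⁻¹ := by
    rw [mul_assoc, hab (g * x * g⁻¹) (hNn.conj_mem x hx g) k hk, inv_mul_cancel_left]
  calc (k⁻¹ * g) • x • a = ((k⁻¹ * g) * x * (k⁻¹ * g)⁻¹) • (k⁻¹ * g) • a := by
        rw [← mul_smul, ← mul_smul]; congr 1; group
    _ = (g * x * g⁻¹) • a := by rw [hh]; conv_rhs => rw [← h1]
                                congr 1; group

/-- An affine group in which all translations are conjugate is doubly transitive. -/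
theorem two_transitive_of_conj {N : Subgroup G} [N.Normal] [IsPretransitive N Ω]
    (hab : ∀ a ∈ N, ∀ b ∈ N, a * b = b * a)
    (hconj : ∀ x ∈ N, ∀ y ∈ N, x ≠ 1 → y ≠ 1 → IsConj x y) : IsMultiplyPretransitive G Ω 2 := by
  rw [is_two_pretransitive_iff]
  intro a b c d hne hne'
  obtain ⟨⟨k, hk⟩, hka⟩ := exists_smul_eq N a c
  obtain ⟨⟨x, hx⟩, hxb⟩ := exists_smul_eq N a b
  obtain ⟨⟨y, hy⟩, hyd⟩ := exists_smul_eq N a (k⁻¹ • d)
  change k • a = c at hka
  change x • a = b at hxb
  change y • a = k⁻¹ • d at hyd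
  obtain ⟨h, hh, hhe⟩ := exists_stab_map hab hx (hconj x hx y hy
    (fun e => hne (by rw [← hxb, e, one_smul]))
    (fun e => hne' (by rw [e, one_smul, eq_inv_smul_iff, hka] at hyd; exact hyd))) a
  refine ⟨k * h, by rw [mul_smul, mem_stabilizer_iff.mp hh, hka], ?_⟩
  rw [mul_smul, ← hxb, hhe, hyd, smul_inv_smul]

/-- If a regular normal subgroup contains all derangements, nontrivial elements fix at most one point. -/
theorem fix_le_one [Finite G] [Finite Ω] [IsPretransitive G Ω] {N : Subgroup G}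
    (hreg : ∀ n ∈ N, ∀ ω : Ω, n • ω = ω → n = 1) (hD : ∀ g, g ∉ N → ∃ ω : Ω, g • ω = ω)
    {g : G} (hg : g ≠ 1) : Nat.card (fixedBy Ω g) ≤ 1 := by
  by_cases hgN : g ∈ N
  · haveI : IsEmpty (fixedBy Ω g) := ⟨fun w => hg (hreg g hgN w w.2)⟩
    simp
  · exact ((transitive_and_fix_one N hD).2 g hgN).le

/-- A sharply doubly transitive group has one class of derangements. -/
theorem sharp_derangement_classes [Finite G] [Fintype Ω] (hΩ : 2 ≤ Fintype.card Ω)
    (h2 : IsMultiplyPretransitive G Ω 2)
    (hfix : ∀ (g : G) (a b : Ω), a ≠ b → g • a = a → g • b = b → g = 1) :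
    Nat.card {c : ConjClasses G // ∃ g : G, ConjClasses.mk g = c ∧ ∀ ω : Ω, g • ω ≠ ω} = 1 := by
  obtain ⟨N, hNn, hNiff, hab, hcard, -, huniq, -⟩ := H58.sharplyTwo_kernel h2 hfix hΩ
  rw [Nat.card_eq_one_iff_unique]
  constructor
  · refine ⟨fun c d => Subtype.ext ?_⟩
    obtain ⟨c, x, hxc, hx⟩ := c
    obtain ⟨d, y, hyd, hy⟩ := d
    show c = d
    rw [← hxc, ← hyd, ConjClasses.mk_eq_mk_iff_isConj]
    haveI : Nonempty Ω := Fintype.card_pos_iff.mp (by omega)
    obtain ⟨a⟩ := ‹Nonempty Ω›
    have h2' : ∀ {p q r t : Ω}, p ≠ q → r ≠ t → ∃ g : G, g • p = r ∧ g • q = t :=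
      is_two_pretransitive_iff.mp h2
    obtain ⟨g, hga, hgb⟩ := h2' (p := a) (q := x • a) (r := a) (t := y • a) (hx a).symm (hy a).symm
    refine isConj_iff.mpr ⟨g, (huniq a (y • a)).unique ⟨hNn.conj_mem x ((hNiff x).mpr (Or.inr hx)) g, ?_⟩
      ⟨(hNiff y).mpr (Or.inr hy), rfl⟩⟩
    rw [mul_smul, mul_smul, inv_smul_eq_iff.mpr hga.symm, hgb]
  · haveI : Nontrivial N := Finite.one_lt_card_iff_nontrivial.mp (by omega)
    obtain ⟨⟨n, hn⟩, hn1⟩ := exists_ne (1 : N)
    exact ⟨⟨ConjClasses.mk n, n, rfl, ((hNiff n).mp hn).resolve_left fun e => hn1 (Subtype.ext e)⟩⟩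

end H60
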