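import Mathlib
import Cfsg.Agent.H87.StrongEmb

/-!
Transvections in automorphism groups of elementary abelian `p`-groups: a strongly `p`-embedded
subgroup forces the centraliser of a transvection to have a small `p`-part, and two opposite
transvections generate the central involution of an `SL₂(p)`.
-/

set_option autoImplicit false
set_option linter.unusedSectionVars false

open Subgroup

namespace H60.TvEmb

variable {E : Type*} [CommGroup E] {p : ℕ} [hp : Fact p.Prime]

/-- The displacement `x ↦ z x / x` of an automorphism. -/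
def disp (z : MulAut E) : E →* E := MonoidHom.mk' (fun x => z x * x⁻¹) fun x y => by
  rw [map_mul, mul_inv]; exact mul_mul_mul_comm _ _ _ _

theorem disp_apply (z : MulAut E) (x : E) : disp z x = z x * x⁻¹ := rfl

theorem apply_eq (z : MulAut E) (x : E) : z x = disp z x * x := by rw [disp_apply, inv_mul_cancel_right]

theorem fix_of_disp {z : MulAut E} {x : E} (h : disp z x = 1) : z x = x := by
  rw [apply_eq, h, one_mul]

/-- A transvection: the displacement has image of order `p`, inside its kernel. -/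
structure IsTv (p : ℕ) (z : MulAut E) : Prop where
  card : Nat.card (disp z).range = p
  le_ker : (disp z).range ≤ (disp z).ker

namespace IsTv

variable {z : MulAut E}

theorem apply_disp (hz : IsTv p z) (x : E) : z (disp z x) = disp z x :=
  fix_of_disp (MonoidHom.mem_ker.1 (hz.le_ker ⟨x, rfl⟩))

theorem pow_apply (hz : IsTv p z) (k : ℕ) (x : E) : (z ^ k) x = disp z x ^ k * x := by
  induction k with
  | zero => rw [pow_zero, pow_zero, one_mul]; rfl
  | succ k ih => rw [pow_succ', MulAut.mul_apply, ih, map_mul, map_pow, hz.apply_disp, apply_eq z x,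
      pow_succ, mul_assoc]

theorem pow_prime (hz : IsTv p z) (hexp : ∀ x : E, x ^ p = 1) : z ^ p = 1 := by
  refine MulEquiv.ext fun x => ?_
  rw [hz.pow_apply, hexp, one_mul]
  rfl

theorem zpow_apply (hz : IsTv p z) (hexp : ∀ x : E, x ^ p = 1) (k : ℤ) (x : E) :
    (z ^ k) x = disp z x ^ k * x := by
  have hp0 : (p : ℤ) ≠ 0 := by exact_mod_cast hp.out.ne_zero
  obtain ⟨m, hm⟩ : ∃ m : ℕ, (m : ℤ) = k % p := ⟨(k % p).toNat, Int.toNat_of_nonneg (Int.emod_nonneg _ hp0)⟩
  have h1 : z ^ k = z ^ m := by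
    rw [← zpow_natCast z m, hm]
    conv_lhs => rw [← Int.mul_ediv_add_emod k p, zpow_add, zpow_mul, zpow_natCast, hz.pow_prime hexp,
      one_zpow, one_mul]
  have h2 : disp z x ^ k = disp z x ^ m := by
    rw [← zpow_natCast (disp z x) m, hm]
    conv_lhs => rw [← Int.mul_ediv_add_emod k p, zpow_add, zpow_mul, zpow_natCast, hexp, one_zpow,
      one_mul]
  rw [h1, h2, hz.pow_apply]

theorem range_eq (hz : IsTv p z) {v : E} (hv : v ∈ (disp z).range) (hv1 : v ≠ 1) :
    zpowers v = (disp z).range := by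
  haveI : Finite (disp z).range := Nat.finite_of_card_ne_zero (hz.card ▸ hp.out.ne_zero)
  haveI : Fact (Nat.card (disp z).range).Prime := ⟨hz.card.symm ▸ hp.out⟩
  have h1 : (zpowers v).subgroupOf (disp z).range = ⊤ := by
    refine ((zpowers v).subgroupOf (disp z).range).eq_bot_or_eq_top_of_prime_card.resolve_left
      fun h => hv1 ?_
    have := subgroupOf_eq_bot.1 h
    exact Subgroup.mem_bot.1 (this.le_bot ⟨mem_zpowers v, hv⟩)
  exact le_antisymm (zpowers_le.2 hv) (subgroupOf_eq_top.1 h1)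

theorem exists_gen (hz : IsTv p z) : ∃ v ∈ (disp z).range, v ≠ 1 := by
  suffices h : (disp z).range ≠ ⊥ by
    obtain ⟨v, hv⟩ := Subgroup.ne_bot_iff_exists_ne_one.1 h
    exact ⟨v, v.2, fun h1 => hv (OneMemClass.coe_eq_one.1 h1)⟩
  intro h
  have := hz.card
  rw [h, card_bot] at this
  exact hp.out.one_lt.ne this

theorem conj (hz : IsTv p z) (g : MulAut E) : IsTv p (g * z * g⁻¹) ∧
    ∀ x, disp (g * z * g⁻¹) (g x) = g (disp z x) := by
  have hd : ∀ x, disp (g * z * g⁻¹) (g x) = g (disp z x) := fun x => by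
    simp only [disp_apply, MulAut.mul_apply, MulAut.inv_apply_self, map_mul, map_inv]
  have hr : (disp (g * z * g⁻¹)).range = (disp z).range.map g.toMonoidHom := by
    ext y
    constructor
    · rintro ⟨x, rfl⟩
      exact ⟨disp z (g⁻¹ x), ⟨_, rfl⟩, by
        show g _ = _
        rw [← hd, MulAut.apply_inv_self]⟩
    · rintro ⟨_, ⟨x, rfl⟩, rfl⟩
      exact ⟨g x, hd x⟩
  refine ⟨⟨by rw [hr, card_map_of_injective g.injective, hz.card], ?_⟩, hd⟩
  rw [hr]
  rintro _ ⟨_, ⟨x, rfl⟩, rfl⟩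
  show disp (g * z * g⁻¹) (g _) = 1
  rw [hd, MonoidHom.mem_ker.1 (hz.le_ker ⟨x, rfl⟩), map_one]

end IsTv

/-- The stabiliser of a series has exponent `p`. -/
theorem stab_pow (hp2 : p ≠ 2) (hexp : ∀ x : E, x ^ p = 1) {A B : Subgroup E} {α : MulAut E}
    (hA : ∀ a ∈ A, α a = a) (hB : ∀ b ∈ B, disp α b ∈ A) (hE : ∀ x, disp α x ∈ B) : α ^ p = 1 := by
  refine MulEquiv.ext fun x => ?_
  set d1 := disp α x
  set d2 := disp α d1
  have key : ∀ k : ℕ, (α ^ k) x = d1 ^ k * d2 ^ (k.choose 2) * x := by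
    intro k
    induction k with
    | zero => simp
    | succ k ih =>
      rw [pow_succ', MulAut.mul_apply, ih, map_mul, map_mul, map_pow, map_pow, apply_eq α x,
        apply_eq α d1, hA _ (hB _ (hE x)), mul_pow,
        show (k + 1).choose 2 = k + k.choose 2 by rw [Nat.choose_succ_succ, Nat.choose_one_right],
        pow_add, pow_one, pow_add]
      simp only [d2, d1]
      ac_rfl
  rw [key, hexp, one_mul, MulAut.one_apply]
  obtain ⟨c, hc⟩ : p ∣ p.choose 2 := hp.out.dvd_choose_self (by norm_num)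
    (lt_of_le_of_ne hp.out.two_le (Ne.symm hp2))
  rw [hc, pow_mul, hexp, one_pow, one_mul]

/-- Two transvections with the centre of one on the axis of the other generate a `p`-group. -/
theorem pair_pgroup (hp2 : p ≠ 2) (hexp : ∀ x : E, x ^ p = 1) {z z' : MulAut E} (hz : IsTv p z)
    (hz' : IsTv p z') (h : (disp z).range ≤ (disp z').ker) :
    IsPGroup p ↥(closure ({z, z'} : Set (MulAut E))) := by
  set A := (disp z).range
  set B := (disp z').ker
  let K : Submonoid (MulAut E) :=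
    { carrier := {α | (∀ a ∈ A, α a = a) ∧ (∀ b ∈ B, disp α b ∈ A) ∧ ∀ x, disp α x ∈ B}
      one_mem' := ⟨fun _ _ => rfl, fun b _ => by
        rw [show disp (1 : MulAut E) b = 1 from mul_inv_cancel b]; exact one_mem _, fun b => by
        rw [show disp (1 : MulAut E) b = 1 from mul_inv_cancel b]; exact one_mem _⟩
      mul_mem' := fun {α β} ha hb => by
        have hd : ∀ x, disp (α * β) x = disp α (disp β x) * disp β x * disp α x := fun x => by
          rw [disp_apply, MulAut.mul_apply, apply_eq β x, map_mul, apply_eq α x, apply_eq α (disp β x)]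
          simp only [mul_assoc, mul_inv_cancel, mul_one]
        refine ⟨fun a haA => by rw [MulAut.mul_apply, hb.1 a haA, ha.1 a haA], fun b hbB => ?_, fun x => ?_⟩
        · rw [hd]
          refine mul_mem (mul_mem (ha.2.1 _ (h (hb.2.1 b hbB))) (hb.2.1 b hbB)) (ha.2.1 b hbB)
        · rw [hd]
          exact mul_mem (mul_mem (h (ha.2.1 _ (hb.2.2 x))) (hb.2.2 x)) (ha.2.2 x) }
  have hK : ∀ α ∈ K, α ^ p = 1 := fun α ha => stab_pow hp2 hexp ha.1 ha.2.1 ha.2.2
  let H : Subgroup (MulAut E) :=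
    { K with
      inv_mem' := fun {α} ha => by
        rw [show α⁻¹ = α ^ (p - 1) from inv_eq_of_mul_eq_one_right (by
          rw [← pow_succ', Nat.sub_add_cancel hp.out.one_le, hK α ha])]
        exact K.pow_mem ha _ }
  have hHp : IsPGroup p H := fun a => ⟨1, Subtype.ext (by rw [pow_one, Subgroup.coe_pow, hK _ a.2]; rfl)⟩
  refine hHp.to_le ((closure_le _).2 ?_)
  rintro w (rfl | rfl)
  · exact ⟨fun a ha => fix_of_disp (MonoidHom.mem_ker.1 (hz.le_ker ha)), fun b _ => ⟨b, rfl⟩,
      fun x => h ⟨x, rfl⟩⟩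
  · exact ⟨fun a ha => fix_of_disp (MonoidHom.mem_ker.1 (h ha)), fun b hb => by
      rw [MonoidHom.mem_ker.1 hb]; exact one_mem _, fun x => hz'.le_ker ⟨x, rfl⟩⟩

theorem mem_zpowers_of_prime {x y : E} (hexp : ∀ x : E, x ^ p = 1) (hx : x ≠ 1) (hy : y ∈ zpowers x) (hy1 : y ≠ 1) :
    x ∈ zpowers y := by
  have hcard : ∀ w : E, w ≠ 1 → Nat.card (zpowers w) = p := fun w hw => by
    rw [Nat.card_zpowers]; exact orderOf_eq_prime (hexp w) hw
  haveI : Finite (zpowers x) := Nat.finite_of_card_ne_zero (by rw [hcard x hx]; exact hp.out.ne_zero)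
  have := Subgroup.eq_of_le_of_card_ge (zpowers_le.2 hy) (by rw [hcard x hx, hcard y hy1])
  rw [this]; exact mem_zpowers x

/-- A transvection inside a strongly `p`-embedded subgroup: no independent commuting `p`-element. -/
theorem no_commuting_tv (hp2 : p ≠ 2) (hexp : ∀ x : E, x ^ p = 1) {Q : Type*} [Group Q] [Finite Q]
    (f : Q →* MulAut E) (hf : Function.Injective f) {Y : Subgroup Q}
    (hY : Cfsg.IsStronglyPEmbedded p Y) {z J : Q} (hz : IsTv p (f z)) (hcom : Commute z J)
    (hJ : IsPGroup p (zpowers J)) (hJz : J ∉ zpowers z) : False := by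
  classical
  have hzp : ∀ {w : Q}, IsTv p (f w) → IsPGroup p (zpowers w) := fun {w} hw => by
    have h1 : w ^ p = 1 := hf (by rw [map_pow, hw.pow_prime hexp, map_one])
    rintro ⟨_, k, rfl⟩
    exact ⟨1, Subtype.ext (by
      rw [pow_one, Subgroup.coe_pow, Subgroup.coe_one, ← zpow_natCast, ← zpow_mul, mul_comm, zpow_mul,
        zpow_natCast, h1, one_zpow])⟩
  obtain ⟨P, hPY, -, -⟩ := H87.stronglyPEmbedded_exists hY
  have hT : IsPGroup p ↥(zpowers z ⊔ zpowers J : Subgroup Q) := by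
    refine (hzp hz).to_sup_of_normal_right' hJ ?_
    rw [zpowers_le]
    exact centralizer_le_normalizer _ (mem_centralizer_iff.2 fun w hw => by
      obtain ⟨k, rfl⟩ := mem_zpowers_iff.1 hw; exact (hcom.symm.zpow_left k).eq)
  obtain ⟨R, hR⟩ := hT.exists_le_sylow
  obtain ⟨a, ha⟩ := MulAction.exists_smul_eq Q R P
  have hTY : ∀ t ∈ (zpowers z ⊔ zpowers J : Subgroup Q), a * t * a⁻¹ ∈ Y := by
    intro t ht
    apply hPY
    rw [← ha, Sylow.coe_subgroup_smul, Subgroup.mem_pointwise_smul_iff_inv_smul_mem]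
    simpa [MulAut.smul_def, mul_assoc] using hR ht
  -- move into `Y`
  have key : ∀ (z J : Q), IsTv p (f z) → Commute z J → IsPGroup p (zpowers J) → J ∉ zpowers z →
      z ∈ Y → J ∈ Y → False := by
    intro z J hz hcom hJ hJz hzY hJY
    have hne : ∀ {w : Q}, IsTv p (f w) → w ≠ 1 := fun {w} hw h1 => by
      obtain ⟨v, ⟨x, hx⟩, hv⟩ := hw.exists_gen
      apply hv
      rw [← hx, h1, map_one, disp_apply, MulAut.one_apply, mul_inv_cancel]
    -- `p`-subgroups through `z` lie in `Y`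
    have hQY : ∀ U : Subgroup Q, IsPGroup p U → z ∈ U → U ≤ Y := by
      intro U hU hzU
      haveI : Nontrivial U := (Subgroup.nontrivial_iff_exists_ne_one U).2 ⟨z, hzU, hne hz⟩
      obtain ⟨⟨c, hc⟩, hc0⟩ := Subgroup.ne_bot_iff_exists_ne_one.1 hU.bot_lt_center.ne'
      have hc1 : c ≠ 1 := fun h => hc0 (Subtype.ext h)
      have hc' : ∀ u ∈ U, (c : Q) * u = u * c := fun u hu =>
        (congrArg Subtype.val (mem_center_iff.1 hc ⟨u, hu⟩)).symm
      have hcY : (c : Q) ∈ Y := by
        refine H87.stronglyPEmbedded_normalizer_le hY (zpowers_le.2 hzY) (hzp hz)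
          (zpowers_ne_bot.2 (hne hz)) (centralizer_le_normalizer _ (mem_centralizer_iff.2 fun w hw => ?_))
        obtain ⟨k, rfl⟩ := mem_zpowers_iff.1 hw
        exact (hc' _ (zpow_mem hzU k)).symm
      intro u hu
      refine H87.stronglyPEmbedded_normalizer_le hY (zpowers_le.2 hcY)
        (hU.to_le (zpowers_le.2 c.2)) (zpowers_ne_bot.2 fun h => hc1 (Subtype.ext h))
        (centralizer_le_normalizer _ (mem_centralizer_iff.2 fun w hw => ?_))
      obtain ⟨k, rfl⟩ := mem_zpowers_iff.1 hw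
      exact (Commute.zpow_left (hc' u hu) k).eq
    obtain ⟨g, -, hg⟩ := SetLike.exists_of_lt (lt_top_iff_ne_top.2 hY.2.1)
    set z' := g * z * g⁻¹ with hz'def
    have hz' : IsTv p (f z') := by
      rw [hz'def, map_mul, map_mul, map_inv]; exact (hz.conj _).1
    have hz'Y : z' ∉ Y := fun h => hg (H87.stronglyPEmbedded_mem_of_conj hY (hne hz') (hzp hz') h
      (by rw [show g⁻¹ * z' * g = z by rw [hz'def]; group]; exact hzY))
    have hpair : ∀ {w w' : Q}, IsTv p (f w) → IsTv p (f w') →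
        (disp (f w)).range ≤ (disp (f w')).ker → IsPGroup p ↥(closure ({w, w'} : Set Q)) := by
      intro w w' hw hw' hle
      refine ((pair_pgroup hp2 hexp hw hw' hle).comap_of_injective f hf).to_le ((closure_le _).2 ?_)
      rintro u (rfl | rfl) <;> exact subset_closure (by simp)
    obtain ⟨v, hv, hv1⟩ := hz.exists_gen
    obtain ⟨v', hv', hv'1⟩ := hz'.exists_gen
    have hdv : disp (f z) v' ≠ 1 := fun h => hz'Y (hQY _ (hpair hz' hz (by
      rw [← hz'.range_eq hv' hv'1, zpowers_le]; exact h)) (subset_closure (by simp))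
      (subset_closure (by simp)))
    have hdv' : disp (f z') v ≠ 1 := fun h => hz'Y (hQY _ (hpair hz hz' (by
      rw [← hz.range_eq hv hv1, zpowers_le]; exact h)) (subset_closure (by simp))
      (subset_closure (by simp)))
    -- adjust `J` by a power of `z`
    set u := disp (f z) (f J v')
    have hu : u ≠ 1 := by
      intro h
      apply hdv
      have h1 : u = f J (disp (f z) v') := by
        simp only [u, disp_apply, map_mul, map_inv]
        rw [← MulAut.mul_apply, ← map_mul f, hcom.eq, map_mul f, MulAut.mul_apply]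
      rw [h] at h1
      exact (f J).injective (h1.symm.trans (map_one _).symm)
    have hu' : disp (f z') u ≠ 1 := by
      intro h
      have h1 : u ∈ zpowers v := by rw [hz.range_eq hv hv1]; exact ⟨_, rfl⟩
      obtain ⟨k, hk⟩ := mem_zpowers_iff.1 (mem_zpowers_of_prime hexp hv1 h1 hu)
      apply hdv'
      rw [← hk, map_zpow, h, one_zpow]
    have hrr : zpowers (disp (f z') u) = (disp (f z')).range := hz'.range_eq ⟨_, rfl⟩ hu'
    obtain ⟨b, hb⟩ := mem_zpowers_iff.1
      (hrr.symm ▸ inv_mem (show disp (f z') (f J v') ∈ (disp (f z')).range from ⟨_, rfl⟩))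
    set J' := z ^ b * J with hJ'
    have hJ'v : disp (f z') (f J' v') = 1 := by
      show disp (f z') (f (z ^ b * J) v') = 1
      rw [map_mul f (z ^ b), map_zpow f, MulAut.mul_apply, hz.zpow_apply hexp,
        map_mul (disp (f z')), map_zpow (disp (f z')), hb, inv_mul_cancel]
    set z'' := J' * z' * J'⁻¹ with hz''def
    have hz'' : IsTv p (f z'') ∧ (disp (f z'')).range ≤ (disp (f z')).ker := by
      rw [hz''def, map_mul, map_mul, map_inv]
      obtain ⟨h1, h2⟩ := hz'.conj (f J')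
      refine ⟨h1, ?_⟩
      have hvv : f J' v' ∈ (disp (f J' * f z' * (f J')⁻¹)).range := by
        obtain ⟨x, hx⟩ := hv'
        exact ⟨f J' x, by rw [h2, hx]⟩
      rw [← h1.range_eq hvv fun h => hv'1 ((f J').injective (h.trans (map_one _).symm)), zpowers_le]
      exact hJ'v
    set U := closure ({z'', z'} : Set Q)
    have hU : IsPGroup p U := hpair hz''.1 hz' hz''.2
    have hz''Y : g⁻¹ * z'' * g ∈ Y := by
      have h1 := hQY (U.map (MulAut.conj g⁻¹).toMonoidHom) (hU.map _)
        ⟨z', subset_closure (by simp), by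
          show g⁻¹ * z' * (g⁻¹)⁻¹ = z
          rw [hz'def]; group⟩
      exact h1 ⟨z'', subset_closure (by simp), by show g⁻¹ * z'' * (g⁻¹)⁻¹ = _; rw [inv_inv]⟩
    set w := g⁻¹ * J' * g with hw
    have hs : g⁻¹ * z'' * g = w * z * w⁻¹ := by rw [hw, hz''def, hz'def]; group
    rw [hs] at hz''Y
    have hwY : w ∈ Y := by
      have hwz : IsTv p (f (w * z * w⁻¹)) := by
        rw [map_mul, map_mul, map_inv]; exact (hz.conj _).1
      exact H87.stronglyPEmbedded_mem_of_conj hY (hne hwz) (hzp hwz) hz''Y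
        (by rw [show w⁻¹ * (w * z * w⁻¹) * w = z by group]; exact hzY)
    have hJ'Y : J' ∈ Y := Y.mul_mem (Y.zpow_mem hzY b) hJY
    have hJ'p : IsPGroup p (zpowers J') := by
      refine ((hzp hz).to_sup_of_normal_right' hJ ?_).to_le (zpowers_le.2 ?_)
      · rw [zpowers_le]
        exact centralizer_le_normalizer _ (mem_centralizer_iff.2 fun w hw => by
          obtain ⟨k, rfl⟩ := mem_zpowers_iff.1 hw; exact (hcom.symm.zpow_left k).eq)
      · exact mul_mem (mem_sup_left (zpow_mem (mem_zpowers z) b)) (mem_sup_right (mem_zpowers J))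
    have hJ'1 : J' ≠ 1 := fun h => hJz (by
      rw [show J = (z ^ b)⁻¹ from eq_inv_of_mul_eq_one_right h]
      exact inv_mem (zpow_mem (mem_zpowers z) b))
    exact hg (H87.stronglyPEmbedded_mem_of_conj hY hJ'1 hJ'p hJ'Y hwY)
  refine key (a * z * a⁻¹) (a * J * a⁻¹) ?_ ?_ ?_ ?_ (hTY z (mem_sup_left (mem_zpowers z)))
    (hTY J (mem_sup_right (mem_zpowers J)))
  · rw [map_mul, map_mul, map_inv]; exact (hz.conj _).1
  · exact hcom.map (MulAut.conj a).toMonoidHom
  · rw [show zpowers (a * J * a⁻¹) = (zpowers J).map (MulAut.conj a).toMonoidHom from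
      ((MulAut.conj a).toMonoidHom.map_zpowers J).symm]
    exact hJ.map _
  · intro h
    obtain ⟨k, hk⟩ := mem_zpowers_iff.1 h
    rw [conj_zpow, mul_left_inj, mul_right_inj] at hk
    exact hJz ⟨k, hk⟩

/-- Opposite transvections generate the involution inverting both centres and fixing the common axis. -/
theorem exists_flip (hexp : ∀ x : E, x ^ p = 1) {X : Subgroup (MulAut E)} {z z' : MulAut E}
    (hzX : z ∈ X) (hz'X : z' ∈ X) (hz : IsTv p z) (hz' : IsTv p z')
    (h : ¬ (disp z).range ≤ (disp z').ker) (h' : ¬ (disp z').range ≤ (disp z).ker) :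
    ∃ τ ∈ X, Commute τ z ∧ (∀ x ∈ (disp z).range, τ x = x⁻¹) ∧
      (∀ x ∈ (disp z).ker, τ x * x⁻¹ ∈ (disp z).range) ∧ ∀ x, τ x * x ∈ (disp z).ker := by
  obtain ⟨v, hv, hv1⟩ := hz.exists_gen
  obtain ⟨v', hv', hv'1⟩ := hz'.exists_gen
  have hdv : disp z v' ≠ 1 := fun e => h' (by rw [← hz'.range_eq hv' hv'1, zpowers_le]; exact e)
  have hdv' : disp z' v ≠ 1 := fun e => h (by rw [← hz.range_eq hv hv1, zpowers_le]; exact e)
  have hr1 := hz.range_eq (v := disp z v') ⟨_, rfl⟩ hdv
  have hr2 := hz'.range_eq (v := disp z' v) ⟨_, rfl⟩ hdv'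
  obtain ⟨a, ha⟩ := mem_zpowers_iff.1 (hr1.symm ▸ hv)
  obtain ⟨b, hb⟩ := mem_zpowers_iff.1 (hr2.symm ▸ inv_mem hv')
  have dv : disp z v = 1 := MonoidHom.mem_ker.1 (hz.le_ker hv)
  have dv' : disp z' v' = 1 := MonoidHom.mem_ker.1 (hz'.le_ker hv')
  set z1 := z ^ a with hz1
  set z2 := z' ^ b with hz2
  have e1 : z1 v' = v * v' := by rw [hz1, hz.zpow_apply hexp, ha]
  have e1' : z1 v = v := by rw [hz1, hz.zpow_apply hexp, dv, one_zpow, one_mul]
  have e2 : z2 v = v'⁻¹ * v := by rw [hz2, hz'.zpow_apply hexp, hb]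
  have e2' : z2 v' = v' := by rw [hz2, hz'.zpow_apply hexp, dv', one_zpow, one_mul]
  have e1k : ∀ k, disp z k = 1 → z1 k = k := fun k hk => by
    rw [hz1, hz.zpow_apply hexp, hk, one_zpow, one_mul]
  have e2k : ∀ k, disp z' k = 1 → z2 k = k := fun k hk => by
    rw [hz2, hz'.zpow_apply hexp, hk, one_zpow, one_mul]
  set w := z1 * z2 * z1 with hw
  have wv : w v = v'⁻¹ := by
    rw [hw, MulAut.mul_apply, MulAut.mul_apply, e1', e2, map_mul, map_inv, e1, e1', mul_inv,
      mul_comm v⁻¹, inv_mul_cancel_right]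
  have wv' : w v' = v := by
    rw [hw, MulAut.mul_apply, MulAut.mul_apply, e1, map_mul, e2, e2', mul_comm v'⁻¹,
      inv_mul_cancel_right, e1']
  have wk : ∀ k, disp z k = 1 → disp z' k = 1 → w k = k := fun k h1 h2 => by
    rw [hw, MulAut.mul_apply, MulAut.mul_apply, e1k k h1, e2k k h2, e1k k h1]
  obtain ⟨τ, hτ⟩ : ∃ τ, τ = w * w := ⟨_, rfl⟩
  have τv : τ v = v⁻¹ := by rw [hτ, MulAut.mul_apply, wv, map_inv, wv']
  have τv' : τ v' = v'⁻¹ := by rw [hτ, MulAut.mul_apply, wv', wv]
  have τk : ∀ k, disp z k = 1 → disp z' k = 1 → τ k = k := fun k h1 h2 => by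
    rw [hτ, MulAut.mul_apply, wk k h1 h2, wk k h1 h2]
  have τr : ∀ x ∈ (disp z).range, τ x = x⁻¹ := fun x hx => by
    rw [← hz.range_eq hv hv1] at hx
    obtain ⟨k, rfl⟩ := mem_zpowers_iff.1 hx
    rw [map_zpow, τv, inv_zpow]
  have hdec : ∀ x : E, ∃ i j : ℤ, ∃ k, disp z k = 1 ∧ disp z' k = 1 ∧ x = v' ^ i * (v ^ j * k) := by
    intro x
    obtain ⟨i, hi⟩ := mem_zpowers_iff.1 (show disp z x ∈ zpowers (disp z v') by rw [hr1]; exact ⟨x, rfl⟩)
    obtain ⟨j, hj⟩ := mem_zpowers_iff.1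
      (show disp z' (v' ^ (-i) * x) ∈ zpowers (disp z' v) by rw [hr2]; exact ⟨_, rfl⟩)
    refine ⟨i, j, v ^ (-j) * (v' ^ (-i) * x), ?_, ?_, ?_⟩
    · rw [map_mul, map_mul, map_zpow, map_zpow, dv, one_zpow, one_mul, zpow_neg, hi, inv_mul_cancel]
    · rw [map_mul, map_zpow, zpow_neg, hj, inv_mul_cancel]
    · rw [← mul_assoc (v ^ j), ← zpow_add, add_neg_cancel, zpow_zero, one_mul, ← mul_assoc,
        ← zpow_add, add_neg_cancel, zpow_zero, one_mul]
  have hτz : ∀ x, τ (disp z x) = disp z (τ x) := by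
    intro x
    obtain ⟨i, j, k, hk, hk', rfl⟩ := hdec x
    rw [τr _ ⟨_, rfl⟩]
    simp only [map_mul, map_zpow, τv, τv', τk k hk hk', map_inv, hk, dv, one_zpow, inv_one,
      mul_one, inv_zpow]
  refine ⟨τ, ?_, ?_, τr, ?_, ?_⟩
  · rw [hτ]; exact mul_mem (mul_mem (mul_mem (zpow_mem hzX a) (zpow_mem hz'X b)) (zpow_mem hzX a))
      (mul_mem (mul_mem (zpow_mem hzX a) (zpow_mem hz'X b)) (zpow_mem hzX a))
  · refine MulEquiv.ext fun x => ?_
    rw [MulAut.mul_apply, MulAut.mul_apply, apply_eq z x, map_mul, hτz, apply_eq z (τ x)]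
  · intro x hx
    obtain ⟨i, j, k, hk, hk', rfl⟩ := hdec x
    have hvi : disp z (v' ^ i) = 1 := by
      have := MonoidHom.mem_ker.1 hx
      rwa [map_mul, map_mul, map_zpow _ v, dv, one_zpow, one_mul, hk, mul_one] at this
    have h2 : disp z' (v' ^ i) = 1 := by rw [map_zpow, dv', one_zpow]
    have e : τ (v' ^ i * (v ^ j * k)) = v' ^ i * ((v⁻¹) ^ j * k) := by
      rw [map_mul, map_mul, τk _ hvi h2, map_zpow, τv, τk k hk hk']
    rw [e, mul_inv, mul_mul_mul_comm, mul_inv_cancel, one_mul, mul_inv, mul_mul_mul_comm,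
      mul_inv_cancel, mul_one, ← inv_zpow, ← mul_zpow]
    exact zpow_mem (mul_mem (inv_mem hv) (inv_mem hv)) j
  · intro x
    obtain ⟨i, j, k, hk, hk', rfl⟩ := hdec x
    rw [MonoidHom.mem_ker]
    simp only [map_mul, map_zpow, τk k hk hk', τv, τv', map_inv, dv, hk, one_zpow, inv_one, mul_one,
      inv_zpow, inv_mul_cancel]

end H60.TvEmb
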